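import Cfsg.Agent.Lib.Helper7.U62M.TC.PWD
import Cfsg.Agent.Lib.Helper4.TC.Strict

set_option autoImplicit false
set_option maxRecDepth 100000
set_option linter.unusedVariables false
set_option Elab.async false

namespace Cfsg.Agent.Lib.Helper7.U62M.TC.PW

open Cfsg.Agent.Helper4.TC

theorem e4_c0 : edgeRange data 4 16384 0 = true := edgeRange_strict data 4 16384 0 (by decide +kernel)
theorem e4_c1 : edgeRange data 4 16384 16384 = true := edgeRange_strict data 4 16384 16384 (by decide +kernel)
theorem e4_c2 : edgeRange data 4 16384 32768 = true := edgeRange_strict data 4 16384 32768 (by decide +kernel)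
theorem e4_c3 : edgeRange data 4 16384 49152 = true := edgeRange_strict data 4 16384 49152 (by decide +kernel)

end Cfsg.Agent.Lib.Helper7.U62M.TC.PW
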