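import Cfsg.Agent.Lib.Helper7.U62M.TC.PWD
import Cfsg.Agent.Lib.Helper4.TC.Strict

set_option autoImplicit false
set_option maxRecDepth 100000
set_option linter.unusedVariables false
set_option Elab.async false

namespace Cfsg.Agent.Lib.Helper7.U62M.TC.PW

open Cfsg.Agent.Helper4.TC

theorem e6_c4 : edgeRange data 6 10955 65536 = true := edgeRange_strict data 6 10955 65536 (by decide +kernel)
theorem e6_c5 : edgeRange data 6 54581 76491 = true := edgeRange_strict data 6 54581 76491 (by decide +kernel)

end Cfsg.Agent.Lib.Helper7.U62M.TC.PW
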