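import Cfsg.Agent.Lib.Helper7.U62M.TC.PWT0
import Cfsg.Agent.Lib.Helper7.U62M.TC.PWT1
import Cfsg.Agent.Lib.Helper7.U62M.TC.PWT2
import Cfsg.Agent.Lib.Helper7.U62M.TC.PWT3
import Cfsg.Agent.Lib.Helper7.U62M.TC.PWT4
import Cfsg.Agent.Lib.Helper7.U62M.TC.PWT5
import Cfsg.Agent.Lib.Helper7.U62M.TC.PWT6
import Cfsg.Agent.Lib.Helper7.U62M.TC.PWT7
import Cfsg.Agent.Lib.Helper7.U62M.TC.PWT8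
import Cfsg.Agent.Lib.Helper7.U62M.TC.PWT9
import Cfsg.Agent.Lib.Helper7.U62M.TC.PWT10
import Cfsg.Agent.Lib.Helper7.U62M.TC.PWT11
import Cfsg.Agent.Lib.Helper7.U62M.TC.PWT12
import Cfsg.Agent.Lib.Helper7.U62M.TC.PWT13
import Cfsg.Agent.Lib.Helper7.U62M.TC.PWT14
import Cfsg.Agent.Lib.Helper7.U62M.TC.PWT15
import Cfsg.Agent.Lib.Helper7.U62M.TC.PWT16
import Cfsg.Agent.Lib.Helper7.U62M.TC.PWT17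
import Cfsg.Agent.Lib.Helper7.U62M.TC.PWT18
import Cfsg.Agent.Lib.Helper7.U62M.TC.PWT19
import Cfsg.Agent.Lib.Helper7.U62M.TC.PWT20
import Cfsg.Agent.Lib.Helper7.U62M.TC.PWT21
import Cfsg.Agent.Lib.Helper7.U62M.TC.PWT22
import Cfsg.Agent.Lib.Helper7.U62M.TC.PWT23
import Cfsg.Agent.Lib.Helper7.U62M.TC.PWT24
import Cfsg.Agent.Lib.Helper7.U62M.TC.PWT25
import Cfsg.Agent.Lib.Helper7.U62M.TC.PWT26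
import Cfsg.Agent.Lib.Helper7.U62M.TC.PWT27
import Cfsg.Agent.Lib.Helper7.U62M.TC.PWT28

set_option autoImplicit false
set_option maxRecDepth 100000
set_option linter.unusedVariables false

namespace Cfsg.Agent.Lib.Helper7.U62M.TC.PW

open Cfsg.Agent.Helper4.TC

noncomputable def ecol0 (b : ℕ) : ℕ := (Bool.rec (motive := fun _ => ℕ) (Bool.rec (motive := fun _ => ℕ) (Bool.rec (motive := fun _ => ℕ) (Bool.rec (motive := fun _ => ℕ) (Bool.rec (motive := fun _ => ℕ) (Bool.rec (motive := fun _ => ℕ) (e0_0) (e0_1) (Nat.ble 1 b)) (Bool.rec (motive := fun _ => ℕ) (e0_2) (e0_3) (Nat.ble 3 b)) (Nat.ble 2 b)) (Bool.rec (motive := fun _ => ℕ) (Bool.rec (motive := fun _ => ℕ) (e0_4) (e0_5) (Nat.ble 5 b)) (Bool.rec (motive := fun _ => ℕ) (e0_6) (e0_7) (Nat.ble 7 b)) (Nat.ble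 6 b)) (Nat.ble 4 b)) (Bool.rec (motive := fun _ => ℕ) (Bool.rec (motive := fun _ => ℕ) (Bool.rec (motive := fun _ => ℕ) (e0_8) (e0_9) (Nat.ble 9 b)) (Bool.rec (motive := fun _ => ℕ) (e0_10) (e0_11) (Nat.ble 11 b)) (Nat.ble 10 b)) (Bool.rec (motive := fun _ => ℕ) (Bool.rec (motive := fun _ => ℕ) (e0_12) (e0_13) (Nat.ble 13 b)) (Bool.rec (motive := fun _ => ℕ) (e0_14) (e0_15) (Nat.ble 15 b)) (Nat.ble 14 b)) (Nat.ble 12 b)) (Nat.ble 8 b)) (Bool.rec (motive := fun _ => ℕ) (Bool.rec (motive := fun _ => ℕ) (Bool.rec (motive := fun _ => ℕ) (Bool.rec (motive := fun _ => ℕ) (e0_16) (e0_17) (Nat.ble 17 b)) (Bool.rec (motive := fun _ => ℕ) (e0_18) (e0_19) (Nat.ble 19 b)) (Nat.ble 18 b)) (Bool.rec (motive := fun _ => ℕ) (Bool.rec (motive := fun _ => ℕ) (e0_20) (e0_21) (Nat.ble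 21 b)) (Bool.rec (motive := fun _ => ℕ) (e0_22) (e0_23) (Nat.ble 23 b)) (Nat.ble 22 b)) (Nat.ble 20 b)) (Bool.rec (motive := fun _ => ℕ) (Bool.rec (motive := fun _ => ℕ) (Bool.rec (motive := fun _ => ℕ) (e0_24) (e0_25) (Nat.ble 25 b)) (Bool.rec (motive := fun _ => ℕ) (e0_26) (e0_27) (Nat.ble 27 b)) (Nat.ble 26 b)) (Bool.rec (motive := fun _ => ℕ) (Bool.rec (motive := fun _ => ℕ) (e0_28) (e0_29) (Nat.ble 29 b)) (Bool.rec (motive := fun _ => ℕ) (e0_30) (e0_31) (Nat.ble 31 b)) (Nat.ble 30 b)) (Nat.ble 28 b)) (Nat.ble 24 b)) (Nat.ble 16 b)) (Bool.rec (motive := fun _ => ℕ) (Bool.rec (motive := fun _ => ℕ) (Bool.rec (motive := fun _ => ℕ) (Bool.rec (motive := fun _ => ℕ) (Bool.rec (motive := fun _ => ℕ) (e0_32) (e0_33) (Nat.ble 33 b)) (Bool.rec (motive := fun _ => ℕ)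 (e0_34) (e0_35) (Nat.ble 35 b)) (Nat.ble 34 b)) (Bool.rec (motive := fun _ => ℕ) (Bool.rec (motive := fun _ => ℕ) (e0_36) (e0_37) (Nat.ble 37 b)) (0) (Nat.ble 38 b)) (Nat.ble 36 b)) (0) (Nat.ble 40 b)) (0) (Nat.ble 48 b)) (Nat.ble 32 b))
noncomputable def jcol0 (b : ℕ) : ℕ := (Bool.rec (motive := fun _ => ℕ) (Bool.rec (motive := fun _ => ℕ) (Bool.rec (motive := fun _ => ℕ) (Bool.rec (motive := fun _ => ℕ) (Bool.rec (motive := fun _ => ℕ) (Bool.rec (motive := fun _ => ℕ) (j0_0) (j0_1) (Nat.ble 1 b)) (Bool.rec (motive := fun _ => ℕ) (j0_2) (j0_3) (Nat.ble 3 b)) (Nat.ble 2 b)) (Bool.rec (motive := fun _ => ℕ) (Bool.rec (motive := fun _ => ℕ) (j0_4) (j0_5) (Nat.ble 5 b)) (Bool.rec (motive := fun _ => ℕ) (j0_6) (j0_7) (Nat.ble 7 b)) (Nat.ble 6 b)) (Nat.ble 4 b)) (Bool.rec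 (motive := fun _ => ℕ) (Bool.rec (motive := fun _ => ℕ) (Bool.rec (motive := fun _ => ℕ) (j0_8) (j0_9) (Nat.ble 9 b)) (Bool.rec (motive := fun _ => ℕ) (j0_10) (j0_11) (Nat.ble 11 b)) (Nat.ble 10 b)) (Bool.rec (motive := fun _ => ℕ) (Bool.rec (motive := fun _ => ℕ) (j0_12) (j0_13) (Nat.ble 13 b)) (Bool.rec (motive := fun _ => ℕ) (j0_14) (j0_15) (Nat.ble 15 b)) (Nat.ble 14 b)) (Nat.ble 12 b)) (Nat.ble 8 b)) (Bool.rec (motive := fun _ => ℕ) (Bool.rec (motive := fun _ => ℕ) (Bool.rec (motive := fun _ => ℕ) (Bool.rec (motive := fun _ => ℕ) (j0_16) (j0_17) (Nat.ble 17 b)) (Bool.rec (motive := fun _ => ℕ) (j0_18) (j0_19) (Nat.ble 19 b)) (Nat.ble 18 b)) (Bool.rec (motive := fun _ => ℕ) (Bool.rec (motive := fun _ => ℕ) (j0_20) (j0_21) (Nat.ble 21 b)) (Bool.rec (motive :=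 fun _ => ℕ) (j0_22) (j0_23) (Nat.ble 23 b)) (Nat.ble 22 b)) (Nat.ble 20 b)) (Bool.rec (motive := fun _ => ℕ) (Bool.rec (motive := fun _ => ℕ) (Bool.rec (motive := fun _ => ℕ) (j0_24) (j0_25) (Nat.ble 25 b)) (Bool.rec (motive := fun _ => ℕ) (j0_26) (j0_27) (Nat.ble 27 b)) (Nat.ble 26 b)) (Bool.rec (motive := fun _ => ℕ) (Bool.rec (motive := fun _ => ℕ) (j0_28) (j0_29) (Nat.ble 29 b)) (Bool.rec (motive := fun _ => ℕ) (j0_30) (j0_31) (Nat.ble 31 b)) (Nat.ble 30 b)) (Nat.ble 28 b)) (Nat.ble 24 b)) (Nat.ble 16 b)) (Bool.rec (motive := fun _ => ℕ) (Bool.rec (motive := fun _ => ℕ) (Bool.rec (motive := fun _ => ℕ) (Bool.rec (motive := fun _ => ℕ) (Bool.rec (motive := fun _ => ℕ) (j0_32) (j0_33) (Nat.ble 33 b)) (Bool.rec (motive := fun _ => ℕ) (j0_34) (j0_35) (Nat.ble 35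 b)) (Nat.ble 34 b)) (Bool.rec (motive := fun _ => ℕ) (Bool.rec (motive := fun _ => ℕ) (j0_36) (j0_37) (Nat.ble 37 b)) (0) (Nat.ble 38 b)) (Nat.ble 36 b)) (0) (Nat.ble 40 b)) (0) (Nat.ble 48 b)) (Nat.ble 32 b))
noncomputable def ecol1 (b : ℕ) : ℕ := (Bool.rec (motive := fun _ => ℕ) (Bool.rec (motive := fun _ => ℕ) (Bool.rec (motive := fun _ => ℕ) (Bool.rec (motive := fun _ => ℕ) (Bool.rec (motive := fun _ => ℕ) (Bool.rec (motive := fun _ => ℕ) (e1_0) (e1_1) (Nat.ble 1 b)) (Bool.rec (motive := fun _ => ℕ) (e1_2) (e1_3) (Nat.ble 3 b)) (Nat.ble 2 b)) (Bool.rec (motive := fun _ => ℕ) (Bool.rec (motive := fun _ => ℕ) (e1_4) (e1_5) (Nat.ble 5 b)) (Bool.rec (motive := fun _ => ℕ) (e1_6) (e1_7) (Nat.ble 7 b)) (Nat.ble 6 b)) (Nat.ble 4 b)) (Bool.rec (motive := fun _ => ℕ)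 (Bool.rec (motive := fun _ => ℕ) (Bool.rec (motive := fun _ => ℕ) (e1_8) (e1_9) (Nat.ble 9 b)) (Bool.rec (motive := fun _ => ℕ) (e1_10) (e1_11) (Nat.ble 11 b)) (Nat.ble 10 b)) (Bool.rec (motive := fun _ => ℕ) (Bool.rec (motive := fun _ => ℕ) (e1_12) (e1_13) (Nat.ble 13 b)) (Bool.rec (motive := fun _ => ℕ) (e1_14) (e1_15) (Nat.ble 15 b)) (Nat.ble 14 b)) (Nat.ble 12 b)) (Nat.ble 8 b)) (Bool.rec (motive := fun _ => ℕ) (Bool.rec (motive := fun _ => ℕ) (Bool.rec (motive := fun _ => ℕ) (Bool.rec (motive := fun _ => ℕ) (e1_16) (e1_17) (Nat.ble 17 b)) (Bool.rec (motive := fun _ => ℕ) (e1_18) (e1_19) (Nat.ble 19 b)) (Nat.ble 18 b)) (Bool.rec (motive := fun _ => ℕ) (Bool.rec (motive := fun _ => ℕ) (e1_20) (e1_21) (Nat.ble 21 b)) (Bool.rec (motive := fun _ => ℕ) (e1_22) (e1_23)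 (Nat.ble 23 b)) (Nat.ble 22 b)) (Nat.ble 20 b)) (Bool.rec (motive := fun _ => ℕ) (Bool.rec (motive := fun _ => ℕ) (Bool.rec (motive := fun _ => ℕ) (e1_24) (e1_25) (Nat.ble 25 b)) (Bool.rec (motive := fun _ => ℕ) (e1_26) (e1_27) (Nat.ble 27 b)) (Nat.ble 26 b)) (Bool.rec (motive := fun _ => ℕ) (Bool.rec (motive := fun _ => ℕ) (e1_28) (e1_29) (Nat.ble 29 b)) (Bool.rec (motive := fun _ => ℕ) (e1_30) (e1_31) (Nat.ble 31 b)) (Nat.ble 30 b)) (Nat.ble 28 b)) (Nat.ble 24 b)) (Nat.ble 16 b)) (Bool.rec (motive := fun _ => ℕ) (Bool.rec (motive := fun _ => ℕ) (Bool.rec (motive := fun _ => ℕ) (Bool.rec (motive := fun _ => ℕ) (Bool.rec (motive := fun _ => ℕ) (e1_32) (e1_33) (Nat.ble 33 b)) (Bool.rec (motive := fun _ => ℕ) (e1_34) (e1_35) (Nat.ble 35 b)) (Nat.ble 34 b)) (Bool.rec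 (motive := fun _ => ℕ) (Bool.rec (motive := fun _ => ℕ) (e1_36) (e1_37) (Nat.ble 37 b)) (0) (Nat.ble 38 b)) (Nat.ble 36 b)) (0) (Nat.ble 40 b)) (0) (Nat.ble 48 b)) (Nat.ble 32 b))
noncomputable def jcol1 (b : ℕ) : ℕ := (Bool.rec (motive := fun _ => ℕ) (Bool.rec (motive := fun _ => ℕ) (Bool.rec (motive := fun _ => ℕ) (Bool.rec (motive := fun _ => ℕ) (Bool.rec (motive := fun _ => ℕ) (Bool.rec (motive := fun _ => ℕ) (j1_0) (j1_1) (Nat.ble 1 b)) (Bool.rec (motive := fun _ => ℕ) (j1_2) (j1_3) (Nat.ble 3 b)) (Nat.ble 2 b)) (Bool.rec (motive := fun _ => ℕ) (Bool.rec (motive := fun _ => ℕ) (j1_4) (j1_5) (Nat.ble 5 b)) (Bool.rec (motive := fun _ => ℕ) (j1_6) (j1_7) (Nat.ble 7 b)) (Nat.ble 6 b)) (Nat.ble 4 b)) (Bool.rec (motive := fun _ => ℕ) (Bool.rec (motive := fun _ =>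 ℕ) (Bool.rec (motive := fun _ => ℕ) (j1_8) (j1_9) (Nat.ble 9 b)) (Bool.rec (motive := fun _ => ℕ) (j1_10) (j1_11) (Nat.ble 11 b)) (Nat.ble 10 b)) (Bool.rec (motive := fun _ => ℕ) (Bool.rec (motive := fun _ => ℕ) (j1_12) (j1_13) (Nat.ble 13 b)) (Bool.rec (motive := fun _ => ℕ) (j1_14) (j1_15) (Nat.ble 15 b)) (Nat.ble 14 b)) (Nat.ble 12 b)) (Nat.ble 8 b)) (Bool.rec (motive := fun _ => ℕ) (Bool.rec (motive := fun _ => ℕ) (Bool.rec (motive := fun _ => ℕ) (Bool.rec (motive := fun _ => ℕ) (j1_16) (j1_17) (Nat.ble 17 b)) (Bool.rec (motive := fun _ => ℕ) (j1_18) (j1_19) (Nat.ble 19 b)) (Nat.ble 18 b)) (Bool.rec (motive := fun _ => ℕ) (Bool.rec (motive := fun _ => ℕ) (j1_20) (j1_21) (Nat.ble 21 b)) (Bool.rec (motive := fun _ => ℕ) (j1_22) (j1_23) (Nat.ble 23 b)) (Nat.ble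 22 b)) (Nat.ble 20 b)) (Bool.rec (motive := fun _ => ℕ) (Bool.rec (motive := fun _ => ℕ) (Bool.rec (motive := fun _ => ℕ) (j1_24) (j1_25) (Nat.ble 25 b)) (Bool.rec (motive := fun _ => ℕ) (j1_26) (j1_27) (Nat.ble 27 b)) (Nat.ble 26 b)) (Bool.rec (motive := fun _ => ℕ) (Bool.rec (motive := fun _ => ℕ) (j1_28) (j1_29) (Nat.ble 29 b)) (Bool.rec (motive := fun _ => ℕ) (j1_30) (j1_31) (Nat.ble 31 b)) (Nat.ble 30 b)) (Nat.ble 28 b)) (Nat.ble 24 b)) (Nat.ble 16 b)) (Bool.rec (motive := fun _ => ℕ) (Bool.rec (motive := fun _ => ℕ) (Bool.rec (motive := fun _ => ℕ) (Bool.rec (motive := fun _ => ℕ) (Bool.rec (motive := fun _ => ℕ) (j1_32) (j1_33) (Nat.ble 33 b)) (Bool.rec (motive := fun _ => ℕ) (j1_34) (j1_35) (Nat.ble 35 b)) (Nat.ble 34 b)) (Bool.rec (motive := fun _ => ℕ)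 (Bool.rec (motive := fun _ => ℕ) (j1_36) (j1_37) (Nat.ble 37 b)) (0) (Nat.ble 38 b)) (Nat.ble 36 b)) (0) (Nat.ble 40 b)) (0) (Nat.ble 48 b)) (Nat.ble 32 b))
noncomputable def ecol2 (b : ℕ) : ℕ := (Bool.rec (motive := fun _ => ℕ) (Bool.rec (motive := fun _ => ℕ) (Bool.rec (motive := fun _ => ℕ) (Bool.rec (motive := fun _ => ℕ) (Bool.rec (motive := fun _ => ℕ) (Bool.rec (motive := fun _ => ℕ) (e2_0) (e2_1) (Nat.ble 1 b)) (Bool.rec (motive := fun _ => ℕ) (e2_2) (e2_3) (Nat.ble 3 b)) (Nat.ble 2 b)) (Bool.rec (motive := fun _ => ℕ) (Bool.rec (motive := fun _ => ℕ) (e2_4) (e2_5) (Nat.ble 5 b)) (Bool.rec (motive := fun _ => ℕ) (e2_6) (e2_7) (Nat.ble 7 b)) (Nat.ble 6 b)) (Nat.ble 4 b)) (Bool.rec (motive := fun _ => ℕ) (Bool.rec (motive := fun _ => ℕ) (Bool.rec (motive :=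 fun _ => ℕ) (e2_8) (e2_9) (Nat.ble 9 b)) (Bool.rec (motive := fun _ => ℕ) (e2_10) (e2_11) (Nat.ble 11 b)) (Nat.ble 10 b)) (Bool.rec (motive := fun _ => ℕ) (Bool.rec (motive := fun _ => ℕ) (e2_12) (e2_13) (Nat.ble 13 b)) (Bool.rec (motive := fun _ => ℕ) (e2_14) (e2_15) (Nat.ble 15 b)) (Nat.ble 14 b)) (Nat.ble 12 b)) (Nat.ble 8 b)) (Bool.rec (motive := fun _ => ℕ) (Bool.rec (motive := fun _ => ℕ) (Bool.rec (motive := fun _ => ℕ) (Bool.rec (motive := fun _ => ℕ) (e2_16) (e2_17) (Nat.ble 17 b)) (Bool.rec (motive := fun _ => ℕ) (e2_18) (e2_19) (Nat.ble 19 b)) (Nat.ble 18 b)) (Bool.rec (motive := fun _ => ℕ) (Bool.rec (motive := fun _ => ℕ) (e2_20) (e2_21) (Nat.ble 21 b)) (Bool.rec (motive := fun _ => ℕ) (e2_22) (e2_23) (Nat.ble 23 b)) (Nat.ble 22 b)) (Nat.ble 20 b))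 (Bool.rec (motive := fun _ => ℕ) (Bool.rec (motive := fun _ => ℕ) (Bool.rec (motive := fun _ => ℕ) (e2_24) (e2_25) (Nat.ble 25 b)) (Bool.rec (motive := fun _ => ℕ) (e2_26) (e2_27) (Nat.ble 27 b)) (Nat.ble 26 b)) (Bool.rec (motive := fun _ => ℕ) (Bool.rec (motive := fun _ => ℕ) (e2_28) (e2_29) (Nat.ble 29 b)) (Bool.rec (motive := fun _ => ℕ) (e2_30) (e2_31) (Nat.ble 31 b)) (Nat.ble 30 b)) (Nat.ble 28 b)) (Nat.ble 24 b)) (Nat.ble 16 b)) (Bool.rec (motive := fun _ => ℕ) (Bool.rec (motive := fun _ => ℕ) (Bool.rec (motive := fun _ => ℕ) (Bool.rec (motive := fun _ => ℕ) (Bool.rec (motive := fun _ => ℕ) (e2_32) (e2_33) (Nat.ble 33 b)) (Bool.rec (motive := fun _ => ℕ) (e2_34) (e2_35) (Nat.ble 35 b)) (Nat.ble 34 b)) (Bool.rec (motive := fun _ => ℕ) (Bool.rec (motive := fun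 _ => ℕ) (e2_36) (e2_37) (Nat.ble 37 b)) (0) (Nat.ble 38 b)) (Nat.ble 36 b)) (0) (Nat.ble 40 b)) (0) (Nat.ble 48 b)) (Nat.ble 32 b))
noncomputable def jcol2 (b : ℕ) : ℕ := (Bool.rec (motive := fun _ => ℕ) (Bool.rec (motive := fun _ => ℕ) (Bool.rec (motive := fun _ => ℕ) (Bool.rec (motive := fun _ => ℕ) (Bool.rec (motive := fun _ => ℕ) (Bool.rec (motive := fun _ => ℕ) (j2_0) (j2_1) (Nat.ble 1 b)) (Bool.rec (motive := fun _ => ℕ) (j2_2) (j2_3) (Nat.ble 3 b)) (Nat.ble 2 b)) (Bool.rec (motive := fun _ => ℕ) (Bool.rec (motive := fun _ => ℕ) (j2_4) (j2_5) (Nat.ble 5 b)) (Bool.rec (motive := fun _ => ℕ) (j2_6) (j2_7) (Nat.ble 7 b)) (Nat.ble 6 b)) (Nat.ble 4 b)) (Bool.rec (motive := fun _ => ℕ) (Bool.rec (motive := fun _ => ℕ) (Bool.rec (motive := fun _ => ℕ) (j2_8) (j2_9)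 (Nat.ble 9 b)) (Bool.rec (motive := fun _ => ℕ) (j2_10) (j2_11) (Nat.ble 11 b)) (Nat.ble 10 b)) (Bool.rec (motive := fun _ => ℕ) (Bool.rec (motive := fun _ => ℕ) (j2_12) (j2_13) (Nat.ble 13 b)) (Bool.rec (motive := fun _ => ℕ) (j2_14) (j2_15) (Nat.ble 15 b)) (Nat.ble 14 b)) (Nat.ble 12 b)) (Nat.ble 8 b)) (Bool.rec (motive := fun _ => ℕ) (Bool.rec (motive := fun _ => ℕ) (Bool.rec (motive := fun _ => ℕ) (Bool.rec (motive := fun _ => ℕ) (j2_16) (j2_17) (Nat.ble 17 b)) (Bool.rec (motive := fun _ => ℕ) (j2_18) (j2_19) (Nat.ble 19 b)) (Nat.ble 18 b)) (Bool.rec (motive := fun _ => ℕ) (Bool.rec (motive := fun _ => ℕ) (j2_20) (j2_21) (Nat.ble 21 b)) (Bool.rec (motive := fun _ => ℕ) (j2_22) (j2_23) (Nat.ble 23 b)) (Nat.ble 22 b)) (Nat.ble 20 b)) (Bool.rec (motive := fun _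 => ℕ) (Bool.rec (motive := fun _ => ℕ) (Bool.rec (motive := fun _ => ℕ) (j2_24) (j2_25) (Nat.ble 25 b)) (Bool.rec (motive := fun _ => ℕ) (j2_26) (j2_27) (Nat.ble 27 b)) (Nat.ble 26 b)) (Bool.rec (motive := fun _ => ℕ) (Bool.rec (motive := fun _ => ℕ) (j2_28) (j2_29) (Nat.ble 29 b)) (Bool.rec (motive := fun _ => ℕ) (j2_30) (j2_31) (Nat.ble 31 b)) (Nat.ble 30 b)) (Nat.ble 28 b)) (Nat.ble 24 b)) (Nat.ble 16 b)) (Bool.rec (motive := fun _ => ℕ) (Bool.rec (motive := fun _ => ℕ) (Bool.rec (motive := fun _ => ℕ) (Bool.rec (motive := fun _ => ℕ) (Bool.rec (motive := fun _ => ℕ) (j2_32) (j2_33) (Nat.ble 33 b)) (Bool.rec (motive := fun _ => ℕ) (j2_34) (j2_35) (Nat.ble 35 b)) (Nat.ble 34 b)) (Bool.rec (motive := fun _ => ℕ) (Bool.rec (motive := fun _ => ℕ) (j2_36) (j2_37)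 (Nat.ble 37 b)) (0) (Nat.ble 38 b)) (Nat.ble 36 b)) (0) (Nat.ble 40 b)) (0) (Nat.ble 48 b)) (Nat.ble 32 b))
noncomputable def ecol3 (b : ℕ) : ℕ := (Bool.rec (motive := fun _ => ℕ) (Bool.rec (motive := fun _ => ℕ) (Bool.rec (motive := fun _ => ℕ) (Bool.rec (motive := fun _ => ℕ) (Bool.rec (motive := fun _ => ℕ) (Bool.rec (motive := fun _ => ℕ) (e3_0) (e3_1) (Nat.ble 1 b)) (Bool.rec (motive := fun _ => ℕ) (e3_2) (e3_3) (Nat.ble 3 b)) (Nat.ble 2 b)) (Bool.rec (motive := fun _ => ℕ) (Bool.rec (motive := fun _ => ℕ) (e3_4) (e3_5) (Nat.ble 5 b)) (Bool.rec (motive := fun _ => ℕ) (e3_6) (e3_7) (Nat.ble 7 b)) (Nat.ble 6 b)) (Nat.ble 4 b)) (Bool.rec (motive := fun _ => ℕ) (Bool.rec (motive := fun _ => ℕ) (Bool.rec (motive := fun _ => ℕ) (e3_8) (e3_9) (Nat.ble 9 b)) (Bool.rec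 (motive := fun _ => ℕ) (e3_10) (e3_11) (Nat.ble 11 b)) (Nat.ble 10 b)) (Bool.rec (motive := fun _ => ℕ) (Bool.rec (motive := fun _ => ℕ) (e3_12) (e3_13) (Nat.ble 13 b)) (Bool.rec (motive := fun _ => ℕ) (e3_14) (e3_15) (Nat.ble 15 b)) (Nat.ble 14 b)) (Nat.ble 12 b)) (Nat.ble 8 b)) (Bool.rec (motive := fun _ => ℕ) (Bool.rec (motive := fun _ => ℕ) (Bool.rec (motive := fun _ => ℕ) (Bool.rec (motive := fun _ => ℕ) (e3_16) (e3_17) (Nat.ble 17 b)) (Bool.rec (motive := fun _ => ℕ) (e3_18) (e3_19) (Nat.ble 19 b)) (Nat.ble 18 b)) (Bool.rec (motive := fun _ => ℕ) (Bool.rec (motive := fun _ => ℕ) (e3_20) (e3_21) (Nat.ble 21 b)) (Bool.rec (motive := fun _ => ℕ) (e3_22) (e3_23) (Nat.ble 23 b)) (Nat.ble 22 b)) (Nat.ble 20 b)) (Bool.rec (motive := fun _ => ℕ) (Bool.rec (motive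 := fun _ => ℕ) (Bool.rec (motive := fun _ => ℕ) (e3_24) (e3_25) (Nat.ble 25 b)) (Bool.rec (motive := fun _ => ℕ) (e3_26) (e3_27) (Nat.ble 27 b)) (Nat.ble 26 b)) (Bool.rec (motive := fun _ => ℕ) (Bool.rec (motive := fun _ => ℕ) (e3_28) (e3_29) (Nat.ble 29 b)) (Bool.rec (motive := fun _ => ℕ) (e3_30) (e3_31) (Nat.ble 31 b)) (Nat.ble 30 b)) (Nat.ble 28 b)) (Nat.ble 24 b)) (Nat.ble 16 b)) (Bool.rec (motive := fun _ => ℕ) (Bool.rec (motive := fun _ => ℕ) (Bool.rec (motive := fun _ => ℕ) (Bool.rec (motive := fun _ => ℕ) (Bool.rec (motive := fun _ => ℕ) (e3_32) (e3_33) (Nat.ble 33 b)) (Bool.rec (motive := fun _ => ℕ) (e3_34) (e3_35) (Nat.ble 35 b)) (Nat.ble 34 b)) (Bool.rec (motive := fun _ => ℕ) (Bool.rec (motive := fun _ => ℕ) (e3_36) (e3_37) (Nat.ble 37 b)) (0) (Nat.ble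 38 b)) (Nat.ble 36 b)) (0) (Nat.ble 40 b)) (0) (Nat.ble 48 b)) (Nat.ble 32 b))
noncomputable def jcol3 (b : ℕ) : ℕ := (Bool.rec (motive := fun _ => ℕ) (Bool.rec (motive := fun _ => ℕ) (Bool.rec (motive := fun _ => ℕ) (Bool.rec (motive := fun _ => ℕ) (Bool.rec (motive := fun _ => ℕ) (Bool.rec (motive := fun _ => ℕ) (j3_0) (j3_1) (Nat.ble 1 b)) (Bool.rec (motive := fun _ => ℕ) (j3_2) (j3_3) (Nat.ble 3 b)) (Nat.ble 2 b)) (Bool.rec (motive := fun _ => ℕ) (Bool.rec (motive := fun _ => ℕ) (j3_4) (j3_5) (Nat.ble 5 b)) (Bool.rec (motive := fun _ => ℕ) (j3_6) (j3_7) (Nat.ble 7 b)) (Nat.ble 6 b)) (Nat.ble 4 b)) (Bool.rec (motive := fun _ => ℕ) (Bool.rec (motive := fun _ => ℕ) (Bool.rec (motive := fun _ => ℕ) (j3_8) (j3_9) (Nat.ble 9 b)) (Bool.rec (motive := fun _ => ℕ) (j3_10)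 (j3_11) (Nat.ble 11 b)) (Nat.ble 10 b)) (Bool.rec (motive := fun _ => ℕ) (Bool.rec (motive := fun _ => ℕ) (j3_12) (j3_13) (Nat.ble 13 b)) (Bool.rec (motive := fun _ => ℕ) (j3_14) (j3_15) (Nat.ble 15 b)) (Nat.ble 14 b)) (Nat.ble 12 b)) (Nat.ble 8 b)) (Bool.rec (motive := fun _ => ℕ) (Bool.rec (motive := fun _ => ℕ) (Bool.rec (motive := fun _ => ℕ) (Bool.rec (motive := fun _ => ℕ) (j3_16) (j3_17) (Nat.ble 17 b)) (Bool.rec (motive := fun _ => ℕ) (j3_18) (j3_19) (Nat.ble 19 b)) (Nat.ble 18 b)) (Bool.rec (motive := fun _ => ℕ) (Bool.rec (motive := fun _ => ℕ) (j3_20) (j3_21) (Nat.ble 21 b)) (Bool.rec (motive := fun _ => ℕ) (j3_22) (j3_23) (Nat.ble 23 b)) (Nat.ble 22 b)) (Nat.ble 20 b)) (Bool.rec (motive := fun _ => ℕ) (Bool.rec (motive := fun _ => ℕ) (Bool.rec (motive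 := fun _ => ℕ) (j3_24) (j3_25) (Nat.ble 25 b)) (Bool.rec (motive := fun _ => ℕ) (j3_26) (j3_27) (Nat.ble 27 b)) (Nat.ble 26 b)) (Bool.rec (motive := fun _ => ℕ) (Bool.rec (motive := fun _ => ℕ) (j3_28) (j3_29) (Nat.ble 29 b)) (Bool.rec (motive := fun _ => ℕ) (j3_30) (j3_31) (Nat.ble 31 b)) (Nat.ble 30 b)) (Nat.ble 28 b)) (Nat.ble 24 b)) (Nat.ble 16 b)) (Bool.rec (motive := fun _ => ℕ) (Bool.rec (motive := fun _ => ℕ) (Bool.rec (motive := fun _ => ℕ) (Bool.rec (motive := fun _ => ℕ) (Bool.rec (motive := fun _ => ℕ) (j3_32) (j3_33) (Nat.ble 33 b)) (Bool.rec (motive := fun _ => ℕ) (j3_34) (j3_35) (Nat.ble 35 b)) (Nat.ble 34 b)) (Bool.rec (motive := fun _ => ℕ) (Bool.rec (motive := fun _ => ℕ) (j3_36) (j3_37) (Nat.ble 37 b)) (0) (Nat.ble 38 b)) (Nat.ble 36 b)) (0) (Nat.ble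 40 b)) (0) (Nat.ble 48 b)) (Nat.ble 32 b))
noncomputable def ecol4 (b : ℕ) : ℕ := (Bool.rec (motive := fun _ => ℕ) (Bool.rec (motive := fun _ => ℕ) (Bool.rec (motive := fun _ => ℕ) (Bool.rec (motive := fun _ => ℕ) (Bool.rec (motive := fun _ => ℕ) (Bool.rec (motive := fun _ => ℕ) (e4_0) (e4_1) (Nat.ble 1 b)) (Bool.rec (motive := fun _ => ℕ) (e4_2) (e4_3) (Nat.ble 3 b)) (Nat.ble 2 b)) (Bool.rec (motive := fun _ => ℕ) (Bool.rec (motive := fun _ => ℕ) (e4_4) (e4_5) (Nat.ble 5 b)) (Bool.rec (motive := fun _ => ℕ) (e4_6) (e4_7) (Nat.ble 7 b)) (Nat.ble 6 b)) (Nat.ble 4 b)) (Bool.rec (motive := fun _ => ℕ) (Bool.rec (motive := fun _ => ℕ) (Bool.rec (motive := fun _ => ℕ) (e4_8) (e4_9) (Nat.ble 9 b)) (Bool.rec (motive := fun _ => ℕ) (e4_10) (e4_11) (Nat.ble 11 b)) (Nat.ble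 10 b)) (Bool.rec (motive := fun _ => ℕ) (Bool.rec (motive := fun _ => ℕ) (e4_12) (e4_13) (Nat.ble 13 b)) (Bool.rec (motive := fun _ => ℕ) (e4_14) (e4_15) (Nat.ble 15 b)) (Nat.ble 14 b)) (Nat.ble 12 b)) (Nat.ble 8 b)) (Bool.rec (motive := fun _ => ℕ) (Bool.rec (motive := fun _ => ℕ) (Bool.rec (motive := fun _ => ℕ) (Bool.rec (motive := fun _ => ℕ) (e4_16) (e4_17) (Nat.ble 17 b)) (Bool.rec (motive := fun _ => ℕ) (e4_18) (e4_19) (Nat.ble 19 b)) (Nat.ble 18 b)) (Bool.rec (motive := fun _ => ℕ) (Bool.rec (motive := fun _ => ℕ) (e4_20) (e4_21) (Nat.ble 21 b)) (Bool.rec (motive := fun _ => ℕ) (e4_22) (e4_23) (Nat.ble 23 b)) (Nat.ble 22 b)) (Nat.ble 20 b)) (Bool.rec (motive := fun _ => ℕ) (Bool.rec (motive := fun _ => ℕ) (Bool.rec (motive := fun _ => ℕ) (e4_24) (e4_25)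 (Nat.ble 25 b)) (Bool.rec (motive := fun _ => ℕ) (e4_26) (e4_27) (Nat.ble 27 b)) (Nat.ble 26 b)) (Bool.rec (motive := fun _ => ℕ) (Bool.rec (motive := fun _ => ℕ) (e4_28) (e4_29) (Nat.ble 29 b)) (Bool.rec (motive := fun _ => ℕ) (e4_30) (e4_31) (Nat.ble 31 b)) (Nat.ble 30 b)) (Nat.ble 28 b)) (Nat.ble 24 b)) (Nat.ble 16 b)) (Bool.rec (motive := fun _ => ℕ) (Bool.rec (motive := fun _ => ℕ) (Bool.rec (motive := fun _ => ℕ) (Bool.rec (motive := fun _ => ℕ) (Bool.rec (motive := fun _ => ℕ) (e4_32) (e4_33) (Nat.ble 33 b)) (Bool.rec (motive := fun _ => ℕ) (e4_34) (e4_35) (Nat.ble 35 b)) (Nat.ble 34 b)) (Bool.rec (motive := fun _ => ℕ) (Bool.rec (motive := fun _ => ℕ) (e4_36) (e4_37) (Nat.ble 37 b)) (0) (Nat.ble 38 b)) (Nat.ble 36 b)) (0) (Nat.ble 40 b)) (0) (Nat.ble 48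 b)) (Nat.ble 32 b))
noncomputable def jcol4 (b : ℕ) : ℕ := (Bool.rec (motive := fun _ => ℕ) (Bool.rec (motive := fun _ => ℕ) (Bool.rec (motive := fun _ => ℕ) (Bool.rec (motive := fun _ => ℕ) (Bool.rec (motive := fun _ => ℕ) (Bool.rec (motive := fun _ => ℕ) (j4_0) (j4_1) (Nat.ble 1 b)) (Bool.rec (motive := fun _ => ℕ) (j4_2) (j4_3) (Nat.ble 3 b)) (Nat.ble 2 b)) (Bool.rec (motive := fun _ => ℕ) (Bool.rec (motive := fun _ => ℕ) (j4_4) (j4_5) (Nat.ble 5 b)) (Bool.rec (motive := fun _ => ℕ) (j4_6) (j4_7) (Nat.ble 7 b)) (Nat.ble 6 b)) (Nat.ble 4 b)) (Bool.rec (motive := fun _ => ℕ) (Bool.rec (motive := fun _ => ℕ) (Bool.rec (motive := fun _ => ℕ) (j4_8) (j4_9) (Nat.ble 9 b)) (Bool.rec (motive := fun _ => ℕ) (j4_10) (j4_11) (Nat.ble 11 b)) (Nat.ble 10 b)) (Bool.rec (motive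 := fun _ => ℕ) (Bool.rec (motive := fun _ => ℕ) (j4_12) (j4_13) (Nat.ble 13 b)) (Bool.rec (motive := fun _ => ℕ) (j4_14) (j4_15) (Nat.ble 15 b)) (Nat.ble 14 b)) (Nat.ble 12 b)) (Nat.ble 8 b)) (Bool.rec (motive := fun _ => ℕ) (Bool.rec (motive := fun _ => ℕ) (Bool.rec (motive := fun _ => ℕ) (Bool.rec (motive := fun _ => ℕ) (j4_16) (j4_17) (Nat.ble 17 b)) (Bool.rec (motive := fun _ => ℕ) (j4_18) (j4_19) (Nat.ble 19 b)) (Nat.ble 18 b)) (Bool.rec (motive := fun _ => ℕ) (Bool.rec (motive := fun _ => ℕ) (j4_20) (j4_21) (Nat.ble 21 b)) (Bool.rec (motive := fun _ => ℕ) (j4_22) (j4_23) (Nat.ble 23 b)) (Nat.ble 22 b)) (Nat.ble 20 b)) (Bool.rec (motive := fun _ => ℕ) (Bool.rec (motive := fun _ => ℕ) (Bool.rec (motive := fun _ => ℕ) (j4_24) (j4_25) (Nat.ble 25 b)) (Bool.rec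 (motive := fun _ => ℕ) (j4_26) (j4_27) (Nat.ble 27 b)) (Nat.ble 26 b)) (Bool.rec (motive := fun _ => ℕ) (Bool.rec (motive := fun _ => ℕ) (j4_28) (j4_29) (Nat.ble 29 b)) (Bool.rec (motive := fun _ => ℕ) (j4_30) (j4_31) (Nat.ble 31 b)) (Nat.ble 30 b)) (Nat.ble 28 b)) (Nat.ble 24 b)) (Nat.ble 16 b)) (Bool.rec (motive := fun _ => ℕ) (Bool.rec (motive := fun _ => ℕ) (Bool.rec (motive := fun _ => ℕ) (Bool.rec (motive := fun _ => ℕ) (Bool.rec (motive := fun _ => ℕ) (j4_32) (j4_33) (Nat.ble 33 b)) (Bool.rec (motive := fun _ => ℕ) (j4_34) (j4_35) (Nat.ble 35 b)) (Nat.ble 34 b)) (Bool.rec (motive := fun _ => ℕ) (Bool.rec (motive := fun _ => ℕ) (j4_36) (j4_37) (Nat.ble 37 b)) (0) (Nat.ble 38 b)) (Nat.ble 36 b)) (0) (Nat.ble 40 b)) (0) (Nat.ble 48 b)) (Nat.ble 32 b))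
noncomputable def ecol5 (b : ℕ) : ℕ := (Bool.rec (motive := fun _ => ℕ) (Bool.rec (motive := fun _ => ℕ) (Bool.rec (motive := fun _ => ℕ) (Bool.rec (motive := fun _ => ℕ) (Bool.rec (motive := fun _ => ℕ) (Bool.rec (motive := fun _ => ℕ) (e5_0) (e5_1) (Nat.ble 1 b)) (Bool.rec (motive := fun _ => ℕ) (e5_2) (e5_3) (Nat.ble 3 b)) (Nat.ble 2 b)) (Bool.rec (motive := fun _ => ℕ) (Bool.rec (motive := fun _ => ℕ) (e5_4) (e5_5) (Nat.ble 5 b)) (Bool.rec (motive := fun _ => ℕ) (e5_6) (e5_7) (Nat.ble 7 b)) (Nat.ble 6 b)) (Nat.ble 4 b)) (Bool.rec (motive := fun _ => ℕ) (Bool.rec (motive := fun _ => ℕ) (Bool.rec (motive := fun _ => ℕ) (e5_8) (e5_9) (Nat.ble 9 b)) (Bool.rec (motive := fun _ => ℕ) (e5_10) (e5_11) (Nat.ble 11 b)) (Nat.ble 10 b)) (Bool.rec (motive := fun _ => ℕ)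 (Bool.rec (motive := fun _ => ℕ) (e5_12) (e5_13) (Nat.ble 13 b)) (Bool.rec (motive := fun _ => ℕ) (e5_14) (e5_15) (Nat.ble 15 b)) (Nat.ble 14 b)) (Nat.ble 12 b)) (Nat.ble 8 b)) (Bool.rec (motive := fun _ => ℕ) (Bool.rec (motive := fun _ => ℕ) (Bool.rec (motive := fun _ => ℕ) (Bool.rec (motive := fun _ => ℕ) (e5_16) (e5_17) (Nat.ble 17 b)) (Bool.rec (motive := fun _ => ℕ) (e5_18) (e5_19) (Nat.ble 19 b)) (Nat.ble 18 b)) (Bool.rec (motive := fun _ => ℕ) (Bool.rec (motive := fun _ => ℕ) (e5_20) (e5_21) (Nat.ble 21 b)) (Bool.rec (motive := fun _ => ℕ) (e5_22) (e5_23) (Nat.ble 23 b)) (Nat.ble 22 b)) (Nat.ble 20 b)) (Bool.rec (motive := fun _ => ℕ) (Bool.rec (motive := fun _ => ℕ) (Bool.rec (motive := fun _ => ℕ) (e5_24) (e5_25) (Nat.ble 25 b)) (Bool.rec (motive := fun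 _ => ℕ) (e5_26) (e5_27) (Nat.ble 27 b)) (Nat.ble 26 b)) (Bool.rec (motive := fun _ => ℕ) (Bool.rec (motive := fun _ => ℕ) (e5_28) (e5_29) (Nat.ble 29 b)) (Bool.rec (motive := fun _ => ℕ) (e5_30) (e5_31) (Nat.ble 31 b)) (Nat.ble 30 b)) (Nat.ble 28 b)) (Nat.ble 24 b)) (Nat.ble 16 b)) (Bool.rec (motive := fun _ => ℕ) (Bool.rec (motive := fun _ => ℕ) (Bool.rec (motive := fun _ => ℕ) (Bool.rec (motive := fun _ => ℕ) (Bool.rec (motive := fun _ => ℕ) (e5_32) (e5_33) (Nat.ble 33 b)) (Bool.rec (motive := fun _ => ℕ) (e5_34) (e5_35) (Nat.ble 35 b)) (Nat.ble 34 b)) (Bool.rec (motive := fun _ => ℕ) (Bool.rec (motive := fun _ => ℕ) (e5_36) (e5_37) (Nat.ble 37 b)) (0) (Nat.ble 38 b)) (Nat.ble 36 b)) (0) (Nat.ble 40 b)) (0) (Nat.ble 48 b)) (Nat.ble 32 b))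
noncomputable def jcol5 (b : ℕ) : ℕ := (Bool.rec (motive := fun _ => ℕ) (Bool.rec (motive := fun _ => ℕ) (Bool.rec (motive := fun _ => ℕ) (Bool.rec (motive := fun _ => ℕ) (Bool.rec (motive := fun _ => ℕ) (Bool.rec (motive := fun _ => ℕ) (j5_0) (j5_1) (Nat.ble 1 b)) (Bool.rec (motive := fun _ => ℕ) (j5_2) (j5_3) (Nat.ble 3 b)) (Nat.ble 2 b)) (Bool.rec (motive := fun _ => ℕ) (Bool.rec (motive := fun _ => ℕ) (j5_4) (j5_5) (Nat.ble 5 b)) (Bool.rec (motive := fun _ => ℕ) (j5_6) (j5_7) (Nat.ble 7 b)) (Nat.ble 6 b)) (Nat.ble 4 b)) (Bool.rec (motive := fun _ => ℕ) (Bool.rec (motive := fun _ => ℕ) (Bool.rec (motive := fun _ => ℕ) (j5_8) (j5_9) (Nat.ble 9 b)) (Bool.rec (motive := fun _ => ℕ) (j5_10) (j5_11) (Nat.ble 11 b)) (Nat.ble 10 b)) (Bool.rec (motive := fun _ => ℕ)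 (Bool.rec (motive := fun _ => ℕ) (j5_12) (j5_13) (Nat.ble 13 b)) (Bool.rec (motive := fun _ => ℕ) (j5_14) (j5_15) (Nat.ble 15 b)) (Nat.ble 14 b)) (Nat.ble 12 b)) (Nat.ble 8 b)) (Bool.rec (motive := fun _ => ℕ) (Bool.rec (motive := fun _ => ℕ) (Bool.rec (motive := fun _ => ℕ) (Bool.rec (motive := fun _ => ℕ) (j5_16) (j5_17) (Nat.ble 17 b)) (Bool.rec (motive := fun _ => ℕ) (j5_18) (j5_19) (Nat.ble 19 b)) (Nat.ble 18 b)) (Bool.rec (motive := fun _ => ℕ) (Bool.rec (motive := fun _ => ℕ) (j5_20) (j5_21) (Nat.ble 21 b)) (Bool.rec (motive := fun _ => ℕ) (j5_22) (j5_23) (Nat.ble 23 b)) (Nat.ble 22 b)) (Nat.ble 20 b)) (Bool.rec (motive := fun _ => ℕ) (Bool.rec (motive := fun _ => ℕ) (Bool.rec (motive := fun _ => ℕ) (j5_24) (j5_25) (Nat.ble 25 b)) (Bool.rec (motive := fun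 _ => ℕ) (j5_26) (j5_27) (Nat.ble 27 b)) (Nat.ble 26 b)) (Bool.rec (motive := fun _ => ℕ) (Bool.rec (motive := fun _ => ℕ) (j5_28) (j5_29) (Nat.ble 29 b)) (Bool.rec (motive := fun _ => ℕ) (j5_30) (j5_31) (Nat.ble 31 b)) (Nat.ble 30 b)) (Nat.ble 28 b)) (Nat.ble 24 b)) (Nat.ble 16 b)) (Bool.rec (motive := fun _ => ℕ) (Bool.rec (motive := fun _ => ℕ) (Bool.rec (motive := fun _ => ℕ) (Bool.rec (motive := fun _ => ℕ) (Bool.rec (motive := fun _ => ℕ) (j5_32) (j5_33) (Nat.ble 33 b)) (Bool.rec (motive := fun _ => ℕ) (j5_34) (j5_35) (Nat.ble 35 b)) (Nat.ble 34 b)) (Bool.rec (motive := fun _ => ℕ) (Bool.rec (motive := fun _ => ℕ) (j5_36) (j5_37) (Nat.ble 37 b)) (0) (Nat.ble 38 b)) (Nat.ble 36 b)) (0) (Nat.ble 40 b)) (0) (Nat.ble 48 b)) (Nat.ble 32 b))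
noncomputable def ecol6 (b : ℕ) : ℕ := (Bool.rec (motive := fun _ => ℕ) (Bool.rec (motive := fun _ => ℕ) (Bool.rec (motive := fun _ => ℕ) (Bool.rec (motive := fun _ => ℕ) (Bool.rec (motive := fun _ => ℕ) (Bool.rec (motive := fun _ => ℕ) (e6_0) (e6_1) (Nat.ble 1 b)) (Bool.rec (motive := fun _ => ℕ) (e6_2) (e6_3) (Nat.ble 3 b)) (Nat.ble 2 b)) (Bool.rec (motive := fun _ => ℕ) (Bool.rec (motive := fun _ => ℕ) (e6_4) (e6_5) (Nat.ble 5 b)) (Bool.rec (motive := fun _ => ℕ) (e6_6) (e6_7) (Nat.ble 7 b)) (Nat.ble 6 b)) (Nat.ble 4 b)) (Bool.rec (motive := fun _ => ℕ) (Bool.rec (motive := fun _ => ℕ) (Bool.rec (motive := fun _ => ℕ) (e6_8) (e6_9) (Nat.ble 9 b)) (Bool.rec (motive := fun _ => ℕ) (e6_10) (e6_11) (Nat.ble 11 b)) (Nat.ble 10 b)) (Bool.rec (motive := fun _ => ℕ)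 (Bool.rec (motive := fun _ => ℕ) (e6_12) (e6_13) (Nat.ble 13 b)) (Bool.rec (motive := fun _ => ℕ) (e6_14) (e6_15) (Nat.ble 15 b)) (Nat.ble 14 b)) (Nat.ble 12 b)) (Nat.ble 8 b)) (Bool.rec (motive := fun _ => ℕ) (Bool.rec (motive := fun _ => ℕ) (Bool.rec (motive := fun _ => ℕ) (Bool.rec (motive := fun _ => ℕ) (e6_16) (e6_17) (Nat.ble 17 b)) (Bool.rec (motive := fun _ => ℕ) (e6_18) (e6_19) (Nat.ble 19 b)) (Nat.ble 18 b)) (Bool.rec (motive := fun _ => ℕ) (Bool.rec (motive := fun _ => ℕ) (e6_20) (e6_21) (Nat.ble 21 b)) (Bool.rec (motive := fun _ => ℕ) (e6_22) (e6_23) (Nat.ble 23 b)) (Nat.ble 22 b)) (Nat.ble 20 b)) (Bool.rec (motive := fun _ => ℕ) (Bool.rec (motive := fun _ => ℕ) (Bool.rec (motive := fun _ => ℕ) (e6_24) (e6_25) (Nat.ble 25 b)) (Bool.rec (motive := fun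 _ => ℕ) (e6_26) (e6_27) (Nat.ble 27 b)) (Nat.ble 26 b)) (Bool.rec (motive := fun _ => ℕ) (Bool.rec (motive := fun _ => ℕ) (e6_28) (e6_29) (Nat.ble 29 b)) (Bool.rec (motive := fun _ => ℕ) (e6_30) (e6_31) (Nat.ble 31 b)) (Nat.ble 30 b)) (Nat.ble 28 b)) (Nat.ble 24 b)) (Nat.ble 16 b)) (Bool.rec (motive := fun _ => ℕ) (Bool.rec (motive := fun _ => ℕ) (Bool.rec (motive := fun _ => ℕ) (Bool.rec (motive := fun _ => ℕ) (Bool.rec (motive := fun _ => ℕ) (e6_32) (e6_33) (Nat.ble 33 b)) (Bool.rec (motive := fun _ => ℕ) (e6_34) (e6_35) (Nat.ble 35 b)) (Nat.ble 34 b)) (Bool.rec (motive := fun _ => ℕ) (Bool.rec (motive := fun _ => ℕ) (e6_36) (e6_37) (Nat.ble 37 b)) (0) (Nat.ble 38 b)) (Nat.ble 36 b)) (0) (Nat.ble 40 b)) (0) (Nat.ble 48 b)) (Nat.ble 32 b))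
noncomputable def jcol6 (b : ℕ) : ℕ := (Bool.rec (motive := fun _ => ℕ) (Bool.rec (motive := fun _ => ℕ) (Bool.rec (motive := fun _ => ℕ) (Bool.rec (motive := fun _ => ℕ) (Bool.rec (motive := fun _ => ℕ) (Bool.rec (motive := fun _ => ℕ) (j6_0) (j6_1) (Nat.ble 1 b)) (Bool.rec (motive := fun _ => ℕ) (j6_2) (j6_3) (Nat.ble 3 b)) (Nat.ble 2 b)) (Bool.rec (motive := fun _ => ℕ) (Bool.rec (motive := fun _ => ℕ) (j6_4) (j6_5) (Nat.ble 5 b)) (Bool.rec (motive := fun _ => ℕ) (j6_6) (j6_7) (Nat.ble 7 b)) (Nat.ble 6 b)) (Nat.ble 4 b)) (Bool.rec (motive := fun _ => ℕ) (Bool.rec (motive := fun _ => ℕ) (Bool.rec (motive := fun _ => ℕ) (j6_8) (j6_9) (Nat.ble 9 b)) (Bool.rec (motive := fun _ => ℕ) (j6_10) (j6_11) (Nat.ble 11 b)) (Nat.ble 10 b)) (Bool.rec (motive := fun _ => ℕ)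 (Bool.rec (motive := fun _ => ℕ) (j6_12) (j6_13) (Nat.ble 13 b)) (Bool.rec (motive := fun _ => ℕ) (j6_14) (j6_15) (Nat.ble 15 b)) (Nat.ble 14 b)) (Nat.ble 12 b)) (Nat.ble 8 b)) (Bool.rec (motive := fun _ => ℕ) (Bool.rec (motive := fun _ => ℕ) (Bool.rec (motive := fun _ => ℕ) (Bool.rec (motive := fun _ => ℕ) (j6_16) (j6_17) (Nat.ble 17 b)) (Bool.rec (motive := fun _ => ℕ) (j6_18) (j6_19) (Nat.ble 19 b)) (Nat.ble 18 b)) (Bool.rec (motive := fun _ => ℕ) (Bool.rec (motive := fun _ => ℕ) (j6_20) (j6_21) (Nat.ble 21 b)) (Bool.rec (motive := fun _ => ℕ) (j6_22) (j6_23) (Nat.ble 23 b)) (Nat.ble 22 b)) (Nat.ble 20 b)) (Bool.rec (motive := fun _ => ℕ) (Bool.rec (motive := fun _ => ℕ) (Bool.rec (motive := fun _ => ℕ) (j6_24) (j6_25) (Nat.ble 25 b)) (Bool.rec (motive := fun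 _ => ℕ) (j6_26) (j6_27) (Nat.ble 27 b)) (Nat.ble 26 b)) (Bool.rec (motive := fun _ => ℕ) (Bool.rec (motive := fun _ => ℕ) (j6_28) (j6_29) (Nat.ble 29 b)) (Bool.rec (motive := fun _ => ℕ) (j6_30) (j6_31) (Nat.ble 31 b)) (Nat.ble 30 b)) (Nat.ble 28 b)) (Nat.ble 24 b)) (Nat.ble 16 b)) (Bool.rec (motive := fun _ => ℕ) (Bool.rec (motive := fun _ => ℕ) (Bool.rec (motive := fun _ => ℕ) (Bool.rec (motive := fun _ => ℕ) (Bool.rec (motive := fun _ => ℕ) (j6_32) (j6_33) (Nat.ble 33 b)) (Bool.rec (motive := fun _ => ℕ) (j6_34) (j6_35) (Nat.ble 35 b)) (Nat.ble 34 b)) (Bool.rec (motive := fun _ => ℕ) (Bool.rec (motive := fun _ => ℕ) (j6_36) (j6_37) (Nat.ble 37 b)) (0) (Nat.ble 38 b)) (Nat.ble 36 b)) (0) (Nat.ble 40 b)) (0) (Nat.ble 48 b)) (Nat.ble 32 b))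
noncomputable def ecol7 (b : ℕ) : ℕ := (Bool.rec (motive := fun _ => ℕ) (Bool.rec (motive := fun _ => ℕ) (Bool.rec (motive := fun _ => ℕ) (Bool.rec (motive := fun _ => ℕ) (Bool.rec (motive := fun _ => ℕ) (Bool.rec (motive := fun _ => ℕ) (e7_0) (e7_1) (Nat.ble 1 b)) (Bool.rec (motive := fun _ => ℕ) (e7_2) (e7_3) (Nat.ble 3 b)) (Nat.ble 2 b)) (Bool.rec (motive := fun _ => ℕ) (Bool.rec (motive := fun _ => ℕ) (e7_4) (e7_5) (Nat.ble 5 b)) (Bool.rec (motive := fun _ => ℕ) (e7_6) (e7_7) (Nat.ble 7 b)) (Nat.ble 6 b)) (Nat.ble 4 b)) (Bool.rec (motive := fun _ => ℕ) (Bool.rec (motive := fun _ => ℕ) (Bool.rec (motive := fun _ => ℕ) (e7_8) (e7_9) (Nat.ble 9 b)) (Bool.rec (motive := fun _ => ℕ) (e7_10) (e7_11) (Nat.ble 11 b)) (Nat.ble 10 b)) (Bool.rec (motive := fun _ => ℕ)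 (Bool.rec (motive := fun _ => ℕ) (e7_12) (e7_13) (Nat.ble 13 b)) (Bool.rec (motive := fun _ => ℕ) (e7_14) (e7_15) (Nat.ble 15 b)) (Nat.ble 14 b)) (Nat.ble 12 b)) (Nat.ble 8 b)) (Bool.rec (motive := fun _ => ℕ) (Bool.rec (motive := fun _ => ℕ) (Bool.rec (motive := fun _ => ℕ) (Bool.rec (motive := fun _ => ℕ) (e7_16) (e7_17) (Nat.ble 17 b)) (Bool.rec (motive := fun _ => ℕ) (e7_18) (e7_19) (Nat.ble 19 b)) (Nat.ble 18 b)) (Bool.rec (motive := fun _ => ℕ) (Bool.rec (motive := fun _ => ℕ) (e7_20) (e7_21) (Nat.ble 21 b)) (Bool.rec (motive := fun _ => ℕ) (e7_22) (e7_23) (Nat.ble 23 b)) (Nat.ble 22 b)) (Nat.ble 20 b)) (Bool.rec (motive := fun _ => ℕ) (Bool.rec (motive := fun _ => ℕ) (Bool.rec (motive := fun _ => ℕ) (e7_24) (e7_25) (Nat.ble 25 b)) (Bool.rec (motive := fun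 _ => ℕ) (e7_26) (e7_27) (Nat.ble 27 b)) (Nat.ble 26 b)) (Bool.rec (motive := fun _ => ℕ) (Bool.rec (motive := fun _ => ℕ) (e7_28) (e7_29) (Nat.ble 29 b)) (Bool.rec (motive := fun _ => ℕ) (e7_30) (e7_31) (Nat.ble 31 b)) (Nat.ble 30 b)) (Nat.ble 28 b)) (Nat.ble 24 b)) (Nat.ble 16 b)) (Bool.rec (motive := fun _ => ℕ) (Bool.rec (motive := fun _ => ℕ) (Bool.rec (motive := fun _ => ℕ) (Bool.rec (motive := fun _ => ℕ) (Bool.rec (motive := fun _ => ℕ) (e7_32) (e7_33) (Nat.ble 33 b)) (Bool.rec (motive := fun _ => ℕ) (e7_34) (e7_35) (Nat.ble 35 b)) (Nat.ble 34 b)) (Bool.rec (motive := fun _ => ℕ) (Bool.rec (motive := fun _ => ℕ) (e7_36) (e7_37) (Nat.ble 37 b)) (0) (Nat.ble 38 b)) (Nat.ble 36 b)) (0) (Nat.ble 40 b)) (0) (Nat.ble 48 b)) (Nat.ble 32 b))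
noncomputable def jcol7 (b : ℕ) : ℕ := (Bool.rec (motive := fun _ => ℕ) (Bool.rec (motive := fun _ => ℕ) (Bool.rec (motive := fun _ => ℕ) (Bool.rec (motive := fun _ => ℕ) (Bool.rec (motive := fun _ => ℕ) (Bool.rec (motive := fun _ => ℕ) (j7_0) (j7_1) (Nat.ble 1 b)) (Bool.rec (motive := fun _ => ℕ) (j7_2) (j7_3) (Nat.ble 3 b)) (Nat.ble 2 b)) (Bool.rec (motive := fun _ => ℕ) (Bool.rec (motive := fun _ => ℕ) (j7_4) (j7_5) (Nat.ble 5 b)) (Bool.rec (motive := fun _ => ℕ) (j7_6) (j7_7) (Nat.ble 7 b)) (Nat.ble 6 b)) (Nat.ble 4 b)) (Bool.rec (motive := fun _ => ℕ) (Bool.rec (motive := fun _ => ℕ) (Bool.rec (motive := fun _ => ℕ) (j7_8) (j7_9) (Nat.ble 9 b)) (Bool.rec (motive := fun _ => ℕ) (j7_10) (j7_11) (Nat.ble 11 b)) (Nat.ble 10 b)) (Bool.rec (motive := fun _ => ℕ)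 (Bool.rec (motive := fun _ => ℕ) (j7_12) (j7_13) (Nat.ble 13 b)) (Bool.rec (motive := fun _ => ℕ) (j7_14) (j7_15) (Nat.ble 15 b)) (Nat.ble 14 b)) (Nat.ble 12 b)) (Nat.ble 8 b)) (Bool.rec (motive := fun _ => ℕ) (Bool.rec (motive := fun _ => ℕ) (Bool.rec (motive := fun _ => ℕ) (Bool.rec (motive := fun _ => ℕ) (j7_16) (j7_17) (Nat.ble 17 b)) (Bool.rec (motive := fun _ => ℕ) (j7_18) (j7_19) (Nat.ble 19 b)) (Nat.ble 18 b)) (Bool.rec (motive := fun _ => ℕ) (Bool.rec (motive := fun _ => ℕ) (j7_20) (j7_21) (Nat.ble 21 b)) (Bool.rec (motive := fun _ => ℕ) (j7_22) (j7_23) (Nat.ble 23 b)) (Nat.ble 22 b)) (Nat.ble 20 b)) (Bool.rec (motive := fun _ => ℕ) (Bool.rec (motive := fun _ => ℕ) (Bool.rec (motive := fun _ => ℕ) (j7_24) (j7_25) (Nat.ble 25 b)) (Bool.rec (motive := fun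 _ => ℕ) (j7_26) (j7_27) (Nat.ble 27 b)) (Nat.ble 26 b)) (Bool.rec (motive := fun _ => ℕ) (Bool.rec (motive := fun _ => ℕ) (j7_28) (j7_29) (Nat.ble 29 b)) (Bool.rec (motive := fun _ => ℕ) (j7_30) (j7_31) (Nat.ble 31 b)) (Nat.ble 30 b)) (Nat.ble 28 b)) (Nat.ble 24 b)) (Nat.ble 16 b)) (Bool.rec (motive := fun _ => ℕ) (Bool.rec (motive := fun _ => ℕ) (Bool.rec (motive := fun _ => ℕ) (Bool.rec (motive := fun _ => ℕ) (Bool.rec (motive := fun _ => ℕ) (j7_32) (j7_33) (Nat.ble 33 b)) (Bool.rec (motive := fun _ => ℕ) (j7_34) (j7_35) (Nat.ble 35 b)) (Nat.ble 34 b)) (Bool.rec (motive := fun _ => ℕ) (Bool.rec (motive := fun _ => ℕ) (j7_36) (j7_37) (Nat.ble 37 b)) (0) (Nat.ble 38 b)) (Nat.ble 36 b)) (0) (Nat.ble 40 b)) (0) (Nat.ble 48 b)) (Nat.ble 32 b))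
noncomputable def ecol8 (b : ℕ) : ℕ := (Bool.rec (motive := fun _ => ℕ) (Bool.rec (motive := fun _ => ℕ) (Bool.rec (motive := fun _ => ℕ) (Bool.rec (motive := fun _ => ℕ) (Bool.rec (motive := fun _ => ℕ) (Bool.rec (motive := fun _ => ℕ) (e8_0) (e8_1) (Nat.ble 1 b)) (Bool.rec (motive := fun _ => ℕ) (e8_2) (e8_3) (Nat.ble 3 b)) (Nat.ble 2 b)) (Bool.rec (motive := fun _ => ℕ) (Bool.rec (motive := fun _ => ℕ) (e8_4) (e8_5) (Nat.ble 5 b)) (Bool.rec (motive := fun _ => ℕ) (e8_6) (e8_7) (Nat.ble 7 b)) (Nat.ble 6 b)) (Nat.ble 4 b)) (Bool.rec (motive := fun _ => ℕ) (Bool.rec (motive := fun _ => ℕ) (Bool.rec (motive := fun _ => ℕ) (e8_8) (e8_9) (Nat.ble 9 b)) (Bool.rec (motive := fun _ => ℕ) (e8_10) (e8_11) (Nat.ble 11 b)) (Nat.ble 10 b)) (Bool.rec (motive := fun _ => ℕ)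 (Bool.rec (motive := fun _ => ℕ) (e8_12) (e8_13) (Nat.ble 13 b)) (Bool.rec (motive := fun _ => ℕ) (e8_14) (e8_15) (Nat.ble 15 b)) (Nat.ble 14 b)) (Nat.ble 12 b)) (Nat.ble 8 b)) (Bool.rec (motive := fun _ => ℕ) (Bool.rec (motive := fun _ => ℕ) (Bool.rec (motive := fun _ => ℕ) (Bool.rec (motive := fun _ => ℕ) (e8_16) (e8_17) (Nat.ble 17 b)) (Bool.rec (motive := fun _ => ℕ) (e8_18) (e8_19) (Nat.ble 19 b)) (Nat.ble 18 b)) (Bool.rec (motive := fun _ => ℕ) (Bool.rec (motive := fun _ => ℕ) (e8_20) (e8_21) (Nat.ble 21 b)) (Bool.rec (motive := fun _ => ℕ) (e8_22) (e8_23) (Nat.ble 23 b)) (Nat.ble 22 b)) (Nat.ble 20 b)) (Bool.rec (motive := fun _ => ℕ) (Bool.rec (motive := fun _ => ℕ) (Bool.rec (motive := fun _ => ℕ) (e8_24) (e8_25) (Nat.ble 25 b)) (Bool.rec (motive := fun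 _ => ℕ) (e8_26) (e8_27) (Nat.ble 27 b)) (Nat.ble 26 b)) (Bool.rec (motive := fun _ => ℕ) (Bool.rec (motive := fun _ => ℕ) (e8_28) (e8_29) (Nat.ble 29 b)) (Bool.rec (motive := fun _ => ℕ) (e8_30) (e8_31) (Nat.ble 31 b)) (Nat.ble 30 b)) (Nat.ble 28 b)) (Nat.ble 24 b)) (Nat.ble 16 b)) (Bool.rec (motive := fun _ => ℕ) (Bool.rec (motive := fun _ => ℕ) (Bool.rec (motive := fun _ => ℕ) (Bool.rec (motive := fun _ => ℕ) (Bool.rec (motive := fun _ => ℕ) (e8_32) (e8_33) (Nat.ble 33 b)) (Bool.rec (motive := fun _ => ℕ) (e8_34) (e8_35) (Nat.ble 35 b)) (Nat.ble 34 b)) (Bool.rec (motive := fun _ => ℕ) (Bool.rec (motive := fun _ => ℕ) (e8_36) (e8_37) (Nat.ble 37 b)) (0) (Nat.ble 38 b)) (Nat.ble 36 b)) (0) (Nat.ble 40 b)) (0) (Nat.ble 48 b)) (Nat.ble 32 b))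
noncomputable def jcol8 (b : ℕ) : ℕ := (Bool.rec (motive := fun _ => ℕ) (Bool.rec (motive := fun _ => ℕ) (Bool.rec (motive := fun _ => ℕ) (Bool.rec (motive := fun _ => ℕ) (Bool.rec (motive := fun _ => ℕ) (Bool.rec (motive := fun _ => ℕ) (j8_0) (j8_1) (Nat.ble 1 b)) (Bool.rec (motive := fun _ => ℕ) (j8_2) (j8_3) (Nat.ble 3 b)) (Nat.ble 2 b)) (Bool.rec (motive := fun _ => ℕ) (Bool.rec (motive := fun _ => ℕ) (j8_4) (j8_5) (Nat.ble 5 b)) (Bool.rec (motive := fun _ => ℕ) (j8_6) (j8_7) (Nat.ble 7 b)) (Nat.ble 6 b)) (Nat.ble 4 b)) (Bool.rec (motive := fun _ => ℕ) (Bool.rec (motive := fun _ => ℕ) (Bool.rec (motive := fun _ => ℕ) (j8_8) (j8_9) (Nat.ble 9 b)) (Bool.rec (motive := fun _ => ℕ) (j8_10) (j8_11) (Nat.ble 11 b)) (Nat.ble 10 b)) (Bool.rec (motive := fun _ => ℕ)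 (Bool.rec (motive := fun _ => ℕ) (j8_12) (j8_13) (Nat.ble 13 b)) (Bool.rec (motive := fun _ => ℕ) (j8_14) (j8_15) (Nat.ble 15 b)) (Nat.ble 14 b)) (Nat.ble 12 b)) (Nat.ble 8 b)) (Bool.rec (motive := fun _ => ℕ) (Bool.rec (motive := fun _ => ℕ) (Bool.rec (motive := fun _ => ℕ) (Bool.rec (motive := fun _ => ℕ) (j8_16) (j8_17) (Nat.ble 17 b)) (Bool.rec (motive := fun _ => ℕ) (j8_18) (j8_19) (Nat.ble 19 b)) (Nat.ble 18 b)) (Bool.rec (motive := fun _ => ℕ) (Bool.rec (motive := fun _ => ℕ) (j8_20) (j8_21) (Nat.ble 21 b)) (Bool.rec (motive := fun _ => ℕ) (j8_22) (j8_23) (Nat.ble 23 b)) (Nat.ble 22 b)) (Nat.ble 20 b)) (Bool.rec (motive := fun _ => ℕ) (Bool.rec (motive := fun _ => ℕ) (Bool.rec (motive := fun _ => ℕ) (j8_24) (j8_25) (Nat.ble 25 b)) (Bool.rec (motive := fun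 _ => ℕ) (j8_26) (j8_27) (Nat.ble 27 b)) (Nat.ble 26 b)) (Bool.rec (motive := fun _ => ℕ) (Bool.rec (motive := fun _ => ℕ) (j8_28) (j8_29) (Nat.ble 29 b)) (Bool.rec (motive := fun _ => ℕ) (j8_30) (j8_31) (Nat.ble 31 b)) (Nat.ble 30 b)) (Nat.ble 28 b)) (Nat.ble 24 b)) (Nat.ble 16 b)) (Bool.rec (motive := fun _ => ℕ) (Bool.rec (motive := fun _ => ℕ) (Bool.rec (motive := fun _ => ℕ) (Bool.rec (motive := fun _ => ℕ) (Bool.rec (motive := fun _ => ℕ) (j8_32) (j8_33) (Nat.ble 33 b)) (Bool.rec (motive := fun _ => ℕ) (j8_34) (j8_35) (Nat.ble 35 b)) (Nat.ble 34 b)) (Bool.rec (motive := fun _ => ℕ) (Bool.rec (motive := fun _ => ℕ) (j8_36) (j8_37) (Nat.ble 37 b)) (0) (Nat.ble 38 b)) (Nat.ble 36 b)) (0) (Nat.ble 40 b)) (0) (Nat.ble 48 b)) (Nat.ble 32 b))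
noncomputable def ecol9 (b : ℕ) : ℕ := (Bool.rec (motive := fun _ => ℕ) (Bool.rec (motive := fun _ => ℕ) (Bool.rec (motive := fun _ => ℕ) (Bool.rec (motive := fun _ => ℕ) (Bool.rec (motive := fun _ => ℕ) (Bool.rec (motive := fun _ => ℕ) (e9_0) (e9_1) (Nat.ble 1 b)) (Bool.rec (motive := fun _ => ℕ) (e9_2) (e9_3) (Nat.ble 3 b)) (Nat.ble 2 b)) (Bool.rec (motive := fun _ => ℕ) (Bool.rec (motive := fun _ => ℕ) (e9_4) (e9_5) (Nat.ble 5 b)) (Bool.rec (motive := fun _ => ℕ) (e9_6) (e9_7) (Nat.ble 7 b)) (Nat.ble 6 b)) (Nat.ble 4 b)) (Bool.rec (motive := fun _ => ℕ) (Bool.rec (motive := fun _ => ℕ) (Bool.rec (motive := fun _ => ℕ) (e9_8) (e9_9) (Nat.ble 9 b)) (Bool.rec (motive := fun _ => ℕ) (e9_10) (e9_11) (Nat.ble 11 b)) (Nat.ble 10 b)) (Bool.rec (motive := fun _ => ℕ)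 (Bool.rec (motive := fun _ => ℕ) (e9_12) (e9_13) (Nat.ble 13 b)) (Bool.rec (motive := fun _ => ℕ) (e9_14) (e9_15) (Nat.ble 15 b)) (Nat.ble 14 b)) (Nat.ble 12 b)) (Nat.ble 8 b)) (Bool.rec (motive := fun _ => ℕ) (Bool.rec (motive := fun _ => ℕ) (Bool.rec (motive := fun _ => ℕ) (Bool.rec (motive := fun _ => ℕ) (e9_16) (e9_17) (Nat.ble 17 b)) (Bool.rec (motive := fun _ => ℕ) (e9_18) (e9_19) (Nat.ble 19 b)) (Nat.ble 18 b)) (Bool.rec (motive := fun _ => ℕ) (Bool.rec (motive := fun _ => ℕ) (e9_20) (e9_21) (Nat.ble 21 b)) (Bool.rec (motive := fun _ => ℕ) (e9_22) (e9_23) (Nat.ble 23 b)) (Nat.ble 22 b)) (Nat.ble 20 b)) (Bool.rec (motive := fun _ => ℕ) (Bool.rec (motive := fun _ => ℕ) (Bool.rec (motive := fun _ => ℕ) (e9_24) (e9_25) (Nat.ble 25 b)) (Bool.rec (motive := fun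 _ => ℕ) (e9_26) (e9_27) (Nat.ble 27 b)) (Nat.ble 26 b)) (Bool.rec (motive := fun _ => ℕ) (Bool.rec (motive := fun _ => ℕ) (e9_28) (e9_29) (Nat.ble 29 b)) (Bool.rec (motive := fun _ => ℕ) (e9_30) (e9_31) (Nat.ble 31 b)) (Nat.ble 30 b)) (Nat.ble 28 b)) (Nat.ble 24 b)) (Nat.ble 16 b)) (Bool.rec (motive := fun _ => ℕ) (Bool.rec (motive := fun _ => ℕ) (Bool.rec (motive := fun _ => ℕ) (Bool.rec (motive := fun _ => ℕ) (Bool.rec (motive := fun _ => ℕ) (e9_32) (e9_33) (Nat.ble 33 b)) (Bool.rec (motive := fun _ => ℕ) (e9_34) (e9_35) (Nat.ble 35 b)) (Nat.ble 34 b)) (Bool.rec (motive := fun _ => ℕ) (Bool.rec (motive := fun _ => ℕ) (e9_36) (e9_37) (Nat.ble 37 b)) (0) (Nat.ble 38 b)) (Nat.ble 36 b)) (0) (Nat.ble 40 b)) (0) (Nat.ble 48 b)) (Nat.ble 32 b))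
noncomputable def jcol9 (b : ℕ) : ℕ := (Bool.rec (motive := fun _ => ℕ) (Bool.rec (motive := fun _ => ℕ) (Bool.rec (motive := fun _ => ℕ) (Bool.rec (motive := fun _ => ℕ) (Bool.rec (motive := fun _ => ℕ) (Bool.rec (motive := fun _ => ℕ) (j9_0) (j9_1) (Nat.ble 1 b)) (Bool.rec (motive := fun _ => ℕ) (j9_2) (j9_3) (Nat.ble 3 b)) (Nat.ble 2 b)) (Bool.rec (motive := fun _ => ℕ) (Bool.rec (motive := fun _ => ℕ) (j9_4) (j9_5) (Nat.ble 5 b)) (Bool.rec (motive := fun _ => ℕ) (j9_6) (j9_7) (Nat.ble 7 b)) (Nat.ble 6 b)) (Nat.ble 4 b)) (Bool.rec (motive := fun _ => ℕ) (Bool.rec (motive := fun _ => ℕ) (Bool.rec (motive := fun _ => ℕ) (j9_8) (j9_9) (Nat.ble 9 b)) (Bool.rec (motive := fun _ => ℕ) (j9_10) (j9_11) (Nat.ble 11 b)) (Nat.ble 10 b)) (Bool.rec (motive := fun _ => ℕ)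 (Bool.rec (motive := fun _ => ℕ) (j9_12) (j9_13) (Nat.ble 13 b)) (Bool.rec (motive := fun _ => ℕ) (j9_14) (j9_15) (Nat.ble 15 b)) (Nat.ble 14 b)) (Nat.ble 12 b)) (Nat.ble 8 b)) (Bool.rec (motive := fun _ => ℕ) (Bool.rec (motive := fun _ => ℕ) (Bool.rec (motive := fun _ => ℕ) (Bool.rec (motive := fun _ => ℕ) (j9_16) (j9_17) (Nat.ble 17 b)) (Bool.rec (motive := fun _ => ℕ) (j9_18) (j9_19) (Nat.ble 19 b)) (Nat.ble 18 b)) (Bool.rec (motive := fun _ => ℕ) (Bool.rec (motive := fun _ => ℕ) (j9_20) (j9_21) (Nat.ble 21 b)) (Bool.rec (motive := fun _ => ℕ) (j9_22) (j9_23) (Nat.ble 23 b)) (Nat.ble 22 b)) (Nat.ble 20 b)) (Bool.rec (motive := fun _ => ℕ) (Bool.rec (motive := fun _ => ℕ) (Bool.rec (motive := fun _ => ℕ) (j9_24) (j9_25) (Nat.ble 25 b)) (Bool.rec (motive := fun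 _ => ℕ) (j9_26) (j9_27) (Nat.ble 27 b)) (Nat.ble 26 b)) (Bool.rec (motive := fun _ => ℕ) (Bool.rec (motive := fun _ => ℕ) (j9_28) (j9_29) (Nat.ble 29 b)) (Bool.rec (motive := fun _ => ℕ) (j9_30) (j9_31) (Nat.ble 31 b)) (Nat.ble 30 b)) (Nat.ble 28 b)) (Nat.ble 24 b)) (Nat.ble 16 b)) (Bool.rec (motive := fun _ => ℕ) (Bool.rec (motive := fun _ => ℕ) (Bool.rec (motive := fun _ => ℕ) (Bool.rec (motive := fun _ => ℕ) (Bool.rec (motive := fun _ => ℕ) (j9_32) (j9_33) (Nat.ble 33 b)) (Bool.rec (motive := fun _ => ℕ) (j9_34) (j9_35) (Nat.ble 35 b)) (Nat.ble 34 b)) (Bool.rec (motive := fun _ => ℕ) (Bool.rec (motive := fun _ => ℕ) (j9_36) (j9_37) (Nat.ble 37 b)) (0) (Nat.ble 38 b)) (Nat.ble 36 b)) (0) (Nat.ble 40 b)) (0) (Nat.ble 48 b)) (Nat.ble 32 b))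
noncomputable def ecol10 (b : ℕ) : ℕ := (Bool.rec (motive := fun _ => ℕ) (Bool.rec (motive := fun _ => ℕ) (Bool.rec (motive := fun _ => ℕ) (Bool.rec (motive := fun _ => ℕ) (Bool.rec (motive := fun _ => ℕ) (Bool.rec (motive := fun _ => ℕ) (e10_0) (e10_1) (Nat.ble 1 b)) (Bool.rec (motive := fun _ => ℕ) (e10_2) (e10_3) (Nat.ble 3 b)) (Nat.ble 2 b)) (Bool.rec (motive := fun _ => ℕ) (Bool.rec (motive := fun _ => ℕ) (e10_4) (e10_5) (Nat.ble 5 b)) (Bool.rec (motive := fun _ => ℕ) (e10_6) (e10_7) (Nat.ble 7 b)) (Nat.ble 6 b)) (Nat.ble 4 b)) (Bool.rec (motive := fun _ => ℕ) (Bool.rec (motive := fun _ => ℕ) (Bool.rec (motive := fun _ => ℕ) (e10_8) (e10_9) (Nat.ble 9 b)) (Bool.rec (motive := fun _ => ℕ) (e10_10) (e10_11) (Nat.ble 11 b)) (Nat.ble 10 b)) (Bool.rec (motive :=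 fun _ => ℕ) (Bool.rec (motive := fun _ => ℕ) (e10_12) (e10_13) (Nat.ble 13 b)) (Bool.rec (motive := fun _ => ℕ) (e10_14) (e10_15) (Nat.ble 15 b)) (Nat.ble 14 b)) (Nat.ble 12 b)) (Nat.ble 8 b)) (Bool.rec (motive := fun _ => ℕ) (Bool.rec (motive := fun _ => ℕ) (Bool.rec (motive := fun _ => ℕ) (Bool.rec (motive := fun _ => ℕ) (e10_16) (e10_17) (Nat.ble 17 b)) (Bool.rec (motive := fun _ => ℕ) (e10_18) (e10_19) (Nat.ble 19 b)) (Nat.ble 18 b)) (Bool.rec (motive := fun _ => ℕ) (Bool.rec (motive := fun _ => ℕ) (e10_20) (e10_21) (Nat.ble 21 b)) (Bool.rec (motive := fun _ => ℕ) (e10_22) (e10_23) (Nat.ble 23 b)) (Nat.ble 22 b)) (Nat.ble 20 b)) (Bool.rec (motive := fun _ => ℕ) (Bool.rec (motive := fun _ => ℕ) (Bool.rec (motive := fun _ => ℕ) (e10_24) (e10_25) (Nat.ble 25 b))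 (Bool.rec (motive := fun _ => ℕ) (e10_26) (e10_27) (Nat.ble 27 b)) (Nat.ble 26 b)) (Bool.rec (motive := fun _ => ℕ) (Bool.rec (motive := fun _ => ℕ) (e10_28) (e10_29) (Nat.ble 29 b)) (Bool.rec (motive := fun _ => ℕ) (e10_30) (e10_31) (Nat.ble 31 b)) (Nat.ble 30 b)) (Nat.ble 28 b)) (Nat.ble 24 b)) (Nat.ble 16 b)) (Bool.rec (motive := fun _ => ℕ) (Bool.rec (motive := fun _ => ℕ) (Bool.rec (motive := fun _ => ℕ) (Bool.rec (motive := fun _ => ℕ) (Bool.rec (motive := fun _ => ℕ) (e10_32) (e10_33) (Nat.ble 33 b)) (Bool.rec (motive := fun _ => ℕ) (e10_34) (e10_35) (Nat.ble 35 b)) (Nat.ble 34 b)) (Bool.rec (motive := fun _ => ℕ) (Bool.rec (motive := fun _ => ℕ) (e10_36) (e10_37) (Nat.ble 37 b)) (0) (Nat.ble 38 b)) (Nat.ble 36 b)) (0) (Nat.ble 40 b)) (0) (Nat.ble 48 b))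 (Nat.ble 32 b))
noncomputable def jcol10 (b : ℕ) : ℕ := (Bool.rec (motive := fun _ => ℕ) (Bool.rec (motive := fun _ => ℕ) (Bool.rec (motive := fun _ => ℕ) (Bool.rec (motive := fun _ => ℕ) (Bool.rec (motive := fun _ => ℕ) (Bool.rec (motive := fun _ => ℕ) (j10_0) (j10_1) (Nat.ble 1 b)) (Bool.rec (motive := fun _ => ℕ) (j10_2) (j10_3) (Nat.ble 3 b)) (Nat.ble 2 b)) (Bool.rec (motive := fun _ => ℕ) (Bool.rec (motive := fun _ => ℕ) (j10_4) (j10_5) (Nat.ble 5 b)) (Bool.rec (motive := fun _ => ℕ) (j10_6) (j10_7) (Nat.ble 7 b)) (Nat.ble 6 b)) (Nat.ble 4 b)) (Bool.rec (motive := fun _ => ℕ) (Bool.rec (motive := fun _ => ℕ) (Bool.rec (motive := fun _ => ℕ) (j10_8) (j10_9) (Nat.ble 9 b)) (Bool.rec (motive := fun _ => ℕ) (j10_10) (j10_11) (Nat.ble 11 b)) (Nat.ble 10 b)) (Bool.rec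 (motive := fun _ => ℕ) (Bool.rec (motive := fun _ => ℕ) (j10_12) (j10_13) (Nat.ble 13 b)) (Bool.rec (motive := fun _ => ℕ) (j10_14) (j10_15) (Nat.ble 15 b)) (Nat.ble 14 b)) (Nat.ble 12 b)) (Nat.ble 8 b)) (Bool.rec (motive := fun _ => ℕ) (Bool.rec (motive := fun _ => ℕ) (Bool.rec (motive := fun _ => ℕ) (Bool.rec (motive := fun _ => ℕ) (j10_16) (j10_17) (Nat.ble 17 b)) (Bool.rec (motive := fun _ => ℕ) (j10_18) (j10_19) (Nat.ble 19 b)) (Nat.ble 18 b)) (Bool.rec (motive := fun _ => ℕ) (Bool.rec (motive := fun _ => ℕ) (j10_20) (j10_21) (Nat.ble 21 b)) (Bool.rec (motive := fun _ => ℕ) (j10_22) (j10_23) (Nat.ble 23 b)) (Nat.ble 22 b)) (Nat.ble 20 b)) (Bool.rec (motive := fun _ => ℕ) (Bool.rec (motive := fun _ => ℕ) (Bool.rec (motive := fun _ => ℕ) (j10_24) (j10_25) (Nat.ble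 25 b)) (Bool.rec (motive := fun _ => ℕ) (j10_26) (j10_27) (Nat.ble 27 b)) (Nat.ble 26 b)) (Bool.rec (motive := fun _ => ℕ) (Bool.rec (motive := fun _ => ℕ) (j10_28) (j10_29) (Nat.ble 29 b)) (Bool.rec (motive := fun _ => ℕ) (j10_30) (j10_31) (Nat.ble 31 b)) (Nat.ble 30 b)) (Nat.ble 28 b)) (Nat.ble 24 b)) (Nat.ble 16 b)) (Bool.rec (motive := fun _ => ℕ) (Bool.rec (motive := fun _ => ℕ) (Bool.rec (motive := fun _ => ℕ) (Bool.rec (motive := fun _ => ℕ) (Bool.rec (motive := fun _ => ℕ) (j10_32) (j10_33) (Nat.ble 33 b)) (Bool.rec (motive := fun _ => ℕ) (j10_34) (j10_35) (Nat.ble 35 b)) (Nat.ble 34 b)) (Bool.rec (motive := fun _ => ℕ) (Bool.rec (motive := fun _ => ℕ) (j10_36) (j10_37) (Nat.ble 37 b)) (0) (Nat.ble 38 b)) (Nat.ble 36 b)) (0) (Nat.ble 40 b)) (0) (Nat.ble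 48 b)) (Nat.ble 32 b))
noncomputable def ecol11 (b : ℕ) : ℕ := (Bool.rec (motive := fun _ => ℕ) (Bool.rec (motive := fun _ => ℕ) (Bool.rec (motive := fun _ => ℕ) (Bool.rec (motive := fun _ => ℕ) (Bool.rec (motive := fun _ => ℕ) (Bool.rec (motive := fun _ => ℕ) (e11_0) (e11_1) (Nat.ble 1 b)) (Bool.rec (motive := fun _ => ℕ) (e11_2) (e11_3) (Nat.ble 3 b)) (Nat.ble 2 b)) (Bool.rec (motive := fun _ => ℕ) (Bool.rec (motive := fun _ => ℕ) (e11_4) (e11_5) (Nat.ble 5 b)) (Bool.rec (motive := fun _ => ℕ) (e11_6) (e11_7) (Nat.ble 7 b)) (Nat.ble 6 b)) (Nat.ble 4 b)) (Bool.rec (motive := fun _ => ℕ) (Bool.rec (motive := fun _ => ℕ) (Bool.rec (motive := fun _ => ℕ) (e11_8) (e11_9) (Nat.ble 9 b)) (Bool.rec (motive := fun _ => ℕ) (e11_10) (e11_11) (Nat.ble 11 b)) (Nat.ble 10 b))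 (Bool.rec (motive := fun _ => ℕ) (Bool.rec (motive := fun _ => ℕ) (e11_12) (e11_13) (Nat.ble 13 b)) (Bool.rec (motive := fun _ => ℕ) (e11_14) (e11_15) (Nat.ble 15 b)) (Nat.ble 14 b)) (Nat.ble 12 b)) (Nat.ble 8 b)) (Bool.rec (motive := fun _ => ℕ) (Bool.rec (motive := fun _ => ℕ) (Bool.rec (motive := fun _ => ℕ) (Bool.rec (motive := fun _ => ℕ) (e11_16) (e11_17) (Nat.ble 17 b)) (Bool.rec (motive := fun _ => ℕ) (e11_18) (e11_19) (Nat.ble 19 b)) (Nat.ble 18 b)) (Bool.rec (motive := fun _ => ℕ) (Bool.rec (motive := fun _ => ℕ) (e11_20) (e11_21) (Nat.ble 21 b)) (Bool.rec (motive := fun _ => ℕ) (e11_22) (e11_23) (Nat.ble 23 b)) (Nat.ble 22 b)) (Nat.ble 20 b)) (Bool.rec (motive := fun _ => ℕ) (Bool.rec (motive := fun _ => ℕ) (Bool.rec (motive := fun _ => ℕ) (e11_24) (e11_25)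 (Nat.ble 25 b)) (Bool.rec (motive := fun _ => ℕ) (e11_26) (e11_27) (Nat.ble 27 b)) (Nat.ble 26 b)) (Bool.rec (motive := fun _ => ℕ) (Bool.rec (motive := fun _ => ℕ) (e11_28) (e11_29) (Nat.ble 29 b)) (Bool.rec (motive := fun _ => ℕ) (e11_30) (e11_31) (Nat.ble 31 b)) (Nat.ble 30 b)) (Nat.ble 28 b)) (Nat.ble 24 b)) (Nat.ble 16 b)) (Bool.rec (motive := fun _ => ℕ) (Bool.rec (motive := fun _ => ℕ) (Bool.rec (motive := fun _ => ℕ) (Bool.rec (motive := fun _ => ℕ) (Bool.rec (motive := fun _ => ℕ) (e11_32) (e11_33) (Nat.ble 33 b)) (Bool.rec (motive := fun _ => ℕ) (e11_34) (e11_35) (Nat.ble 35 b)) (Nat.ble 34 b)) (Bool.rec (motive := fun _ => ℕ) (Bool.rec (motive := fun _ => ℕ) (e11_36) (e11_37) (Nat.ble 37 b)) (0) (Nat.ble 38 b)) (Nat.ble 36 b)) (0) (Nat.ble 40 b)) (0)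 (Nat.ble 48 b)) (Nat.ble 32 b))
noncomputable def jcol11 (b : ℕ) : ℕ := (Bool.rec (motive := fun _ => ℕ) (Bool.rec (motive := fun _ => ℕ) (Bool.rec (motive := fun _ => ℕ) (Bool.rec (motive := fun _ => ℕ) (Bool.rec (motive := fun _ => ℕ) (Bool.rec (motive := fun _ => ℕ) (j11_0) (j11_1) (Nat.ble 1 b)) (Bool.rec (motive := fun _ => ℕ) (j11_2) (j11_3) (Nat.ble 3 b)) (Nat.ble 2 b)) (Bool.rec (motive := fun _ => ℕ) (Bool.rec (motive := fun _ => ℕ) (j11_4) (j11_5) (Nat.ble 5 b)) (Bool.rec (motive := fun _ => ℕ) (j11_6) (j11_7) (Nat.ble 7 b)) (Nat.ble 6 b)) (Nat.ble 4 b)) (Bool.rec (motive := fun _ => ℕ) (Bool.rec (motive := fun _ => ℕ) (Bool.rec (motive := fun _ => ℕ) (j11_8) (j11_9) (Nat.ble 9 b)) (Bool.rec (motive := fun _ => ℕ) (j11_10) (j11_11) (Nat.ble 11 b)) (Nat.ble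 10 b)) (Bool.rec (motive := fun _ => ℕ) (Bool.rec (motive := fun _ => ℕ) (j11_12) (j11_13) (Nat.ble 13 b)) (Bool.rec (motive := fun _ => ℕ) (j11_14) (j11_15) (Nat.ble 15 b)) (Nat.ble 14 b)) (Nat.ble 12 b)) (Nat.ble 8 b)) (Bool.rec (motive := fun _ => ℕ) (Bool.rec (motive := fun _ => ℕ) (Bool.rec (motive := fun _ => ℕ) (Bool.rec (motive := fun _ => ℕ) (j11_16) (j11_17) (Nat.ble 17 b)) (Bool.rec (motive := fun _ => ℕ) (j11_18) (j11_19) (Nat.ble 19 b)) (Nat.ble 18 b)) (Bool.rec (motive := fun _ => ℕ) (Bool.rec (motive := fun _ => ℕ) (j11_20) (j11_21) (Nat.ble 21 b)) (Bool.rec (motive := fun _ => ℕ) (j11_22) (j11_23) (Nat.ble 23 b)) (Nat.ble 22 b)) (Nat.ble 20 b)) (Bool.rec (motive := fun _ => ℕ) (Bool.rec (motive := fun _ => ℕ) (Bool.rec (motive := fun _ => ℕ) (j11_24)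 (j11_25) (Nat.ble 25 b)) (Bool.rec (motive := fun _ => ℕ) (j11_26) (j11_27) (Nat.ble 27 b)) (Nat.ble 26 b)) (Bool.rec (motive := fun _ => ℕ) (Bool.rec (motive := fun _ => ℕ) (j11_28) (j11_29) (Nat.ble 29 b)) (Bool.rec (motive := fun _ => ℕ) (j11_30) (j11_31) (Nat.ble 31 b)) (Nat.ble 30 b)) (Nat.ble 28 b)) (Nat.ble 24 b)) (Nat.ble 16 b)) (Bool.rec (motive := fun _ => ℕ) (Bool.rec (motive := fun _ => ℕ) (Bool.rec (motive := fun _ => ℕ) (Bool.rec (motive := fun _ => ℕ) (Bool.rec (motive := fun _ => ℕ) (j11_32) (j11_33) (Nat.ble 33 b)) (Bool.rec (motive := fun _ => ℕ) (j11_34) (j11_35) (Nat.ble 35 b)) (Nat.ble 34 b)) (Bool.rec (motive := fun _ => ℕ) (Bool.rec (motive := fun _ => ℕ) (j11_36) (j11_37) (Nat.ble 37 b)) (0) (Nat.ble 38 b)) (Nat.ble 36 b)) (0) (Nat.ble 40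 b)) (0) (Nat.ble 48 b)) (Nat.ble 32 b))
noncomputable def ecol12 (b : ℕ) : ℕ := (Bool.rec (motive := fun _ => ℕ) (Bool.rec (motive := fun _ => ℕ) (Bool.rec (motive := fun _ => ℕ) (Bool.rec (motive := fun _ => ℕ) (Bool.rec (motive := fun _ => ℕ) (Bool.rec (motive := fun _ => ℕ) (e12_0) (e12_1) (Nat.ble 1 b)) (Bool.rec (motive := fun _ => ℕ) (e12_2) (e12_3) (Nat.ble 3 b)) (Nat.ble 2 b)) (Bool.rec (motive := fun _ => ℕ) (Bool.rec (motive := fun _ => ℕ) (e12_4) (e12_5) (Nat.ble 5 b)) (Bool.rec (motive := fun _ => ℕ) (e12_6) (e12_7) (Nat.ble 7 b)) (Nat.ble 6 b)) (Nat.ble 4 b)) (Bool.rec (motive := fun _ => ℕ) (Bool.rec (motive := fun _ => ℕ) (Bool.rec (motive := fun _ => ℕ) (e12_8) (e12_9) (Nat.ble 9 b)) (Bool.rec (motive := fun _ => ℕ) (e12_10) (e12_11) (Nat.ble 11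 b)) (Nat.ble 10 b)) (Bool.rec (motive := fun _ => ℕ) (Bool.rec (motive := fun _ => ℕ) (e12_12) (e12_13) (Nat.ble 13 b)) (Bool.rec (motive := fun _ => ℕ) (e12_14) (e12_15) (Nat.ble 15 b)) (Nat.ble 14 b)) (Nat.ble 12 b)) (Nat.ble 8 b)) (Bool.rec (motive := fun _ => ℕ) (Bool.rec (motive := fun _ => ℕ) (Bool.rec (motive := fun _ => ℕ) (Bool.rec (motive := fun _ => ℕ) (e12_16) (e12_17) (Nat.ble 17 b)) (Bool.rec (motive := fun _ => ℕ) (e12_18) (e12_19) (Nat.ble 19 b)) (Nat.ble 18 b)) (Bool.rec (motive := fun _ => ℕ) (Bool.rec (motive := fun _ => ℕ) (e12_20) (e12_21) (Nat.ble 21 b)) (Bool.rec (motive := fun _ => ℕ) (e12_22) (e12_23) (Nat.ble 23 b)) (Nat.ble 22 b)) (Nat.ble 20 b)) (Bool.rec (motive := fun _ => ℕ) (Bool.rec (motive := fun _ => ℕ) (Bool.rec (motive := fun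 _ => ℕ) (e12_24) (e12_25) (Nat.ble 25 b)) (Bool.rec (motive := fun _ => ℕ) (e12_26) (e12_27) (Nat.ble 27 b)) (Nat.ble 26 b)) (Bool.rec (motive := fun _ => ℕ) (Bool.rec (motive := fun _ => ℕ) (e12_28) (e12_29) (Nat.ble 29 b)) (Bool.rec (motive := fun _ => ℕ) (e12_30) (e12_31) (Nat.ble 31 b)) (Nat.ble 30 b)) (Nat.ble 28 b)) (Nat.ble 24 b)) (Nat.ble 16 b)) (Bool.rec (motive := fun _ => ℕ) (Bool.rec (motive := fun _ => ℕ) (Bool.rec (motive := fun _ => ℕ) (Bool.rec (motive := fun _ => ℕ) (Bool.rec (motive := fun _ => ℕ) (e12_32) (e12_33) (Nat.ble 33 b)) (Bool.rec (motive := fun _ => ℕ) (e12_34) (e12_35) (Nat.ble 35 b)) (Nat.ble 34 b)) (Bool.rec (motive := fun _ => ℕ) (Bool.rec (motive := fun _ => ℕ) (e12_36) (e12_37) (Nat.ble 37 b)) (0) (Nat.ble 38 b)) (Nat.ble 36 b))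 (0) (Nat.ble 40 b)) (0) (Nat.ble 48 b)) (Nat.ble 32 b))
noncomputable def jcol12 (b : ℕ) : ℕ := (Bool.rec (motive := fun _ => ℕ) (Bool.rec (motive := fun _ => ℕ) (Bool.rec (motive := fun _ => ℕ) (Bool.rec (motive := fun _ => ℕ) (Bool.rec (motive := fun _ => ℕ) (Bool.rec (motive := fun _ => ℕ) (j12_0) (j12_1) (Nat.ble 1 b)) (Bool.rec (motive := fun _ => ℕ) (j12_2) (j12_3) (Nat.ble 3 b)) (Nat.ble 2 b)) (Bool.rec (motive := fun _ => ℕ) (Bool.rec (motive := fun _ => ℕ) (j12_4) (j12_5) (Nat.ble 5 b)) (Bool.rec (motive := fun _ => ℕ) (j12_6) (j12_7) (Nat.ble 7 b)) (Nat.ble 6 b)) (Nat.ble 4 b)) (Bool.rec (motive := fun _ => ℕ) (Bool.rec (motive := fun _ => ℕ) (Bool.rec (motive := fun _ => ℕ) (j12_8) (j12_9) (Nat.ble 9 b)) (Bool.rec (motive := fun _ => ℕ) (j12_10) (j12_11)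 (Nat.ble 11 b)) (Nat.ble 10 b)) (Bool.rec (motive := fun _ => ℕ) (Bool.rec (motive := fun _ => ℕ) (j12_12) (j12_13) (Nat.ble 13 b)) (Bool.rec (motive := fun _ => ℕ) (j12_14) (j12_15) (Nat.ble 15 b)) (Nat.ble 14 b)) (Nat.ble 12 b)) (Nat.ble 8 b)) (Bool.rec (motive := fun _ => ℕ) (Bool.rec (motive := fun _ => ℕ) (Bool.rec (motive := fun _ => ℕ) (Bool.rec (motive := fun _ => ℕ) (j12_16) (j12_17) (Nat.ble 17 b)) (Bool.rec (motive := fun _ => ℕ) (j12_18) (j12_19) (Nat.ble 19 b)) (Nat.ble 18 b)) (Bool.rec (motive := fun _ => ℕ) (Bool.rec (motive := fun _ => ℕ) (j12_20) (j12_21) (Nat.ble 21 b)) (Bool.rec (motive := fun _ => ℕ) (j12_22) (j12_23) (Nat.ble 23 b)) (Nat.ble 22 b)) (Nat.ble 20 b)) (Bool.rec (motive := fun _ => ℕ) (Bool.rec (motive := fun _ => ℕ) (Bool.rec (motive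 := fun _ => ℕ) (j12_24) (j12_25) (Nat.ble 25 b)) (Bool.rec (motive := fun _ => ℕ) (j12_26) (j12_27) (Nat.ble 27 b)) (Nat.ble 26 b)) (Bool.rec (motive := fun _ => ℕ) (Bool.rec (motive := fun _ => ℕ) (j12_28) (j12_29) (Nat.ble 29 b)) (Bool.rec (motive := fun _ => ℕ) (j12_30) (j12_31) (Nat.ble 31 b)) (Nat.ble 30 b)) (Nat.ble 28 b)) (Nat.ble 24 b)) (Nat.ble 16 b)) (Bool.rec (motive := fun _ => ℕ) (Bool.rec (motive := fun _ => ℕ) (Bool.rec (motive := fun _ => ℕ) (Bool.rec (motive := fun _ => ℕ) (Bool.rec (motive := fun _ => ℕ) (j12_32) (j12_33) (Nat.ble 33 b)) (Bool.rec (motive := fun _ => ℕ) (j12_34) (j12_35) (Nat.ble 35 b)) (Nat.ble 34 b)) (Bool.rec (motive := fun _ => ℕ) (Bool.rec (motive := fun _ => ℕ) (j12_36) (j12_37) (Nat.ble 37 b)) (0) (Nat.ble 38 b)) (Nat.ble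 36 b)) (0) (Nat.ble 40 b)) (0) (Nat.ble 48 b)) (Nat.ble 32 b))
noncomputable def ecol13 (b : ℕ) : ℕ := (Bool.rec (motive := fun _ => ℕ) (Bool.rec (motive := fun _ => ℕ) (Bool.rec (motive := fun _ => ℕ) (Bool.rec (motive := fun _ => ℕ) (Bool.rec (motive := fun _ => ℕ) (Bool.rec (motive := fun _ => ℕ) (e13_0) (e13_1) (Nat.ble 1 b)) (Bool.rec (motive := fun _ => ℕ) (e13_2) (e13_3) (Nat.ble 3 b)) (Nat.ble 2 b)) (Bool.rec (motive := fun _ => ℕ) (Bool.rec (motive := fun _ => ℕ) (e13_4) (e13_5) (Nat.ble 5 b)) (Bool.rec (motive := fun _ => ℕ) (e13_6) (e13_7) (Nat.ble 7 b)) (Nat.ble 6 b)) (Nat.ble 4 b)) (Bool.rec (motive := fun _ => ℕ) (Bool.rec (motive := fun _ => ℕ) (Bool.rec (motive := fun _ => ℕ) (e13_8) (e13_9) (Nat.ble 9 b)) (Bool.rec (motive := fun _ => ℕ) (e13_10)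 (e13_11) (Nat.ble 11 b)) (Nat.ble 10 b)) (Bool.rec (motive := fun _ => ℕ) (Bool.rec (motive := fun _ => ℕ) (e13_12) (e13_13) (Nat.ble 13 b)) (Bool.rec (motive := fun _ => ℕ) (e13_14) (e13_15) (Nat.ble 15 b)) (Nat.ble 14 b)) (Nat.ble 12 b)) (Nat.ble 8 b)) (Bool.rec (motive := fun _ => ℕ) (Bool.rec (motive := fun _ => ℕ) (Bool.rec (motive := fun _ => ℕ) (Bool.rec (motive := fun _ => ℕ) (e13_16) (e13_17) (Nat.ble 17 b)) (Bool.rec (motive := fun _ => ℕ) (e13_18) (e13_19) (Nat.ble 19 b)) (Nat.ble 18 b)) (Bool.rec (motive := fun _ => ℕ) (Bool.rec (motive := fun _ => ℕ) (e13_20) (e13_21) (Nat.ble 21 b)) (Bool.rec (motive := fun _ => ℕ) (e13_22) (e13_23) (Nat.ble 23 b)) (Nat.ble 22 b)) (Nat.ble 20 b)) (Bool.rec (motive := fun _ => ℕ) (Bool.rec (motive := fun _ => ℕ) (Bool.rec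 (motive := fun _ => ℕ) (e13_24) (e13_25) (Nat.ble 25 b)) (Bool.rec (motive := fun _ => ℕ) (e13_26) (e13_27) (Nat.ble 27 b)) (Nat.ble 26 b)) (Bool.rec (motive := fun _ => ℕ) (Bool.rec (motive := fun _ => ℕ) (e13_28) (e13_29) (Nat.ble 29 b)) (Bool.rec (motive := fun _ => ℕ) (e13_30) (e13_31) (Nat.ble 31 b)) (Nat.ble 30 b)) (Nat.ble 28 b)) (Nat.ble 24 b)) (Nat.ble 16 b)) (Bool.rec (motive := fun _ => ℕ) (Bool.rec (motive := fun _ => ℕ) (Bool.rec (motive := fun _ => ℕ) (Bool.rec (motive := fun _ => ℕ) (Bool.rec (motive := fun _ => ℕ) (e13_32) (e13_33) (Nat.ble 33 b)) (Bool.rec (motive := fun _ => ℕ) (e13_34) (e13_35) (Nat.ble 35 b)) (Nat.ble 34 b)) (Bool.rec (motive := fun _ => ℕ) (Bool.rec (motive := fun _ => ℕ) (e13_36) (e13_37) (Nat.ble 37 b)) (0) (Nat.ble 38 b))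 (Nat.ble 36 b)) (0) (Nat.ble 40 b)) (0) (Nat.ble 48 b)) (Nat.ble 32 b))
noncomputable def jcol13 (b : ℕ) : ℕ := (Bool.rec (motive := fun _ => ℕ) (Bool.rec (motive := fun _ => ℕ) (Bool.rec (motive := fun _ => ℕ) (Bool.rec (motive := fun _ => ℕ) (Bool.rec (motive := fun _ => ℕ) (Bool.rec (motive := fun _ => ℕ) (j13_0) (j13_1) (Nat.ble 1 b)) (Bool.rec (motive := fun _ => ℕ) (j13_2) (j13_3) (Nat.ble 3 b)) (Nat.ble 2 b)) (Bool.rec (motive := fun _ => ℕ) (Bool.rec (motive := fun _ => ℕ) (j13_4) (j13_5) (Nat.ble 5 b)) (Bool.rec (motive := fun _ => ℕ) (j13_6) (j13_7) (Nat.ble 7 b)) (Nat.ble 6 b)) (Nat.ble 4 b)) (Bool.rec (motive := fun _ => ℕ) (Bool.rec (motive := fun _ => ℕ) (Bool.rec (motive := fun _ => ℕ) (j13_8) (j13_9) (Nat.ble 9 b)) (Bool.rec (motive := fun _ => ℕ)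 (j13_10) (j13_11) (Nat.ble 11 b)) (Nat.ble 10 b)) (Bool.rec (motive := fun _ => ℕ) (Bool.rec (motive := fun _ => ℕ) (j13_12) (j13_13) (Nat.ble 13 b)) (Bool.rec (motive := fun _ => ℕ) (j13_14) (j13_15) (Nat.ble 15 b)) (Nat.ble 14 b)) (Nat.ble 12 b)) (Nat.ble 8 b)) (Bool.rec (motive := fun _ => ℕ) (Bool.rec (motive := fun _ => ℕ) (Bool.rec (motive := fun _ => ℕ) (Bool.rec (motive := fun _ => ℕ) (j13_16) (j13_17) (Nat.ble 17 b)) (Bool.rec (motive := fun _ => ℕ) (j13_18) (j13_19) (Nat.ble 19 b)) (Nat.ble 18 b)) (Bool.rec (motive := fun _ => ℕ) (Bool.rec (motive := fun _ => ℕ) (j13_20) (j13_21) (Nat.ble 21 b)) (Bool.rec (motive := fun _ => ℕ) (j13_22) (j13_23) (Nat.ble 23 b)) (Nat.ble 22 b)) (Nat.ble 20 b)) (Bool.rec (motive := fun _ => ℕ) (Bool.rec (motive := fun _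 => ℕ) (Bool.rec (motive := fun _ => ℕ) (j13_24) (j13_25) (Nat.ble 25 b)) (Bool.rec (motive := fun _ => ℕ) (j13_26) (j13_27) (Nat.ble 27 b)) (Nat.ble 26 b)) (Bool.rec (motive := fun _ => ℕ) (Bool.rec (motive := fun _ => ℕ) (j13_28) (j13_29) (Nat.ble 29 b)) (Bool.rec (motive := fun _ => ℕ) (j13_30) (j13_31) (Nat.ble 31 b)) (Nat.ble 30 b)) (Nat.ble 28 b)) (Nat.ble 24 b)) (Nat.ble 16 b)) (Bool.rec (motive := fun _ => ℕ) (Bool.rec (motive := fun _ => ℕ) (Bool.rec (motive := fun _ => ℕ) (Bool.rec (motive := fun _ => ℕ) (Bool.rec (motive := fun _ => ℕ) (j13_32) (j13_33) (Nat.ble 33 b)) (Bool.rec (motive := fun _ => ℕ) (j13_34) (j13_35) (Nat.ble 35 b)) (Nat.ble 34 b)) (Bool.rec (motive := fun _ => ℕ) (Bool.rec (motive := fun _ => ℕ) (j13_36) (j13_37) (Nat.ble 37 b)) (0)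 (Nat.ble 38 b)) (Nat.ble 36 b)) (0) (Nat.ble 40 b)) (0) (Nat.ble 48 b)) (Nat.ble 32 b))
noncomputable def ecol14 (b : ℕ) : ℕ := (Bool.rec (motive := fun _ => ℕ) (Bool.rec (motive := fun _ => ℕ) (Bool.rec (motive := fun _ => ℕ) (Bool.rec (motive := fun _ => ℕ) (Bool.rec (motive := fun _ => ℕ) (Bool.rec (motive := fun _ => ℕ) (e14_0) (e14_1) (Nat.ble 1 b)) (Bool.rec (motive := fun _ => ℕ) (e14_2) (e14_3) (Nat.ble 3 b)) (Nat.ble 2 b)) (Bool.rec (motive := fun _ => ℕ) (Bool.rec (motive := fun _ => ℕ) (e14_4) (e14_5) (Nat.ble 5 b)) (Bool.rec (motive := fun _ => ℕ) (e14_6) (e14_7) (Nat.ble 7 b)) (Nat.ble 6 b)) (Nat.ble 4 b)) (Bool.rec (motive := fun _ => ℕ) (Bool.rec (motive := fun _ => ℕ) (Bool.rec (motive := fun _ => ℕ) (e14_8) (e14_9) (Nat.ble 9 b)) (Bool.rec (motive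 := fun _ => ℕ) (e14_10) (e14_11) (Nat.ble 11 b)) (Nat.ble 10 b)) (Bool.rec (motive := fun _ => ℕ) (Bool.rec (motive := fun _ => ℕ) (e14_12) (e14_13) (Nat.ble 13 b)) (Bool.rec (motive := fun _ => ℕ) (e14_14) (e14_15) (Nat.ble 15 b)) (Nat.ble 14 b)) (Nat.ble 12 b)) (Nat.ble 8 b)) (Bool.rec (motive := fun _ => ℕ) (Bool.rec (motive := fun _ => ℕ) (Bool.rec (motive := fun _ => ℕ) (Bool.rec (motive := fun _ => ℕ) (e14_16) (e14_17) (Nat.ble 17 b)) (Bool.rec (motive := fun _ => ℕ) (e14_18) (e14_19) (Nat.ble 19 b)) (Nat.ble 18 b)) (Bool.rec (motive := fun _ => ℕ) (Bool.rec (motive := fun _ => ℕ) (e14_20) (e14_21) (Nat.ble 21 b)) (Bool.rec (motive := fun _ => ℕ) (e14_22) (e14_23) (Nat.ble 23 b)) (Nat.ble 22 b)) (Nat.ble 20 b)) (Bool.rec (motive := fun _ => ℕ) (Bool.rec (motive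 := fun _ => ℕ) (Bool.rec (motive := fun _ => ℕ) (e14_24) (e14_25) (Nat.ble 25 b)) (Bool.rec (motive := fun _ => ℕ) (e14_26) (e14_27) (Nat.ble 27 b)) (Nat.ble 26 b)) (Bool.rec (motive := fun _ => ℕ) (Bool.rec (motive := fun _ => ℕ) (e14_28) (e14_29) (Nat.ble 29 b)) (Bool.rec (motive := fun _ => ℕ) (e14_30) (e14_31) (Nat.ble 31 b)) (Nat.ble 30 b)) (Nat.ble 28 b)) (Nat.ble 24 b)) (Nat.ble 16 b)) (Bool.rec (motive := fun _ => ℕ) (Bool.rec (motive := fun _ => ℕ) (Bool.rec (motive := fun _ => ℕ) (Bool.rec (motive := fun _ => ℕ) (Bool.rec (motive := fun _ => ℕ) (e14_32) (e14_33) (Nat.ble 33 b)) (Bool.rec (motive := fun _ => ℕ) (e14_34) (e14_35) (Nat.ble 35 b)) (Nat.ble 34 b)) (Bool.rec (motive := fun _ => ℕ) (Bool.rec (motive := fun _ => ℕ) (e14_36) (e14_37) (Nat.ble 37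 b)) (0) (Nat.ble 38 b)) (Nat.ble 36 b)) (0) (Nat.ble 40 b)) (0) (Nat.ble 48 b)) (Nat.ble 32 b))
noncomputable def jcol14 (b : ℕ) : ℕ := (Bool.rec (motive := fun _ => ℕ) (Bool.rec (motive := fun _ => ℕ) (Bool.rec (motive := fun _ => ℕ) (Bool.rec (motive := fun _ => ℕ) (Bool.rec (motive := fun _ => ℕ) (Bool.rec (motive := fun _ => ℕ) (j14_0) (j14_1) (Nat.ble 1 b)) (Bool.rec (motive := fun _ => ℕ) (j14_2) (j14_3) (Nat.ble 3 b)) (Nat.ble 2 b)) (Bool.rec (motive := fun _ => ℕ) (Bool.rec (motive := fun _ => ℕ) (j14_4) (j14_5) (Nat.ble 5 b)) (Bool.rec (motive := fun _ => ℕ) (j14_6) (j14_7) (Nat.ble 7 b)) (Nat.ble 6 b)) (Nat.ble 4 b)) (Bool.rec (motive := fun _ => ℕ) (Bool.rec (motive := fun _ => ℕ) (Bool.rec (motive := fun _ => ℕ) (j14_8) (j14_9) (Nat.ble 9 b)) (Bool.rec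 (motive := fun _ => ℕ) (j14_10) (j14_11) (Nat.ble 11 b)) (Nat.ble 10 b)) (Bool.rec (motive := fun _ => ℕ) (Bool.rec (motive := fun _ => ℕ) (j14_12) (j14_13) (Nat.ble 13 b)) (Bool.rec (motive := fun _ => ℕ) (j14_14) (j14_15) (Nat.ble 15 b)) (Nat.ble 14 b)) (Nat.ble 12 b)) (Nat.ble 8 b)) (Bool.rec (motive := fun _ => ℕ) (Bool.rec (motive := fun _ => ℕ) (Bool.rec (motive := fun _ => ℕ) (Bool.rec (motive := fun _ => ℕ) (j14_16) (j14_17) (Nat.ble 17 b)) (Bool.rec (motive := fun _ => ℕ) (j14_18) (j14_19) (Nat.ble 19 b)) (Nat.ble 18 b)) (Bool.rec (motive := fun _ => ℕ) (Bool.rec (motive := fun _ => ℕ) (j14_20) (j14_21) (Nat.ble 21 b)) (Bool.rec (motive := fun _ => ℕ) (j14_22) (j14_23) (Nat.ble 23 b)) (Nat.ble 22 b)) (Nat.ble 20 b)) (Bool.rec (motive := fun _ => ℕ) (Bool.rec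 (motive := fun _ => ℕ) (Bool.rec (motive := fun _ => ℕ) (j14_24) (j14_25) (Nat.ble 25 b)) (Bool.rec (motive := fun _ => ℕ) (j14_26) (j14_27) (Nat.ble 27 b)) (Nat.ble 26 b)) (Bool.rec (motive := fun _ => ℕ) (Bool.rec (motive := fun _ => ℕ) (j14_28) (j14_29) (Nat.ble 29 b)) (Bool.rec (motive := fun _ => ℕ) (j14_30) (j14_31) (Nat.ble 31 b)) (Nat.ble 30 b)) (Nat.ble 28 b)) (Nat.ble 24 b)) (Nat.ble 16 b)) (Bool.rec (motive := fun _ => ℕ) (Bool.rec (motive := fun _ => ℕ) (Bool.rec (motive := fun _ => ℕ) (Bool.rec (motive := fun _ => ℕ) (Bool.rec (motive := fun _ => ℕ) (j14_32) (j14_33) (Nat.ble 33 b)) (Bool.rec (motive := fun _ => ℕ) (j14_34) (j14_35) (Nat.ble 35 b)) (Nat.ble 34 b)) (Bool.rec (motive := fun _ => ℕ) (Bool.rec (motive := fun _ => ℕ) (j14_36) (j14_37) (Nat.ble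 37 b)) (0) (Nat.ble 38 b)) (Nat.ble 36 b)) (0) (Nat.ble 40 b)) (0) (Nat.ble 48 b)) (Nat.ble 32 b))
noncomputable def ecol15 (b : ℕ) : ℕ := (Bool.rec (motive := fun _ => ℕ) (Bool.rec (motive := fun _ => ℕ) (Bool.rec (motive := fun _ => ℕ) (Bool.rec (motive := fun _ => ℕ) (Bool.rec (motive := fun _ => ℕ) (Bool.rec (motive := fun _ => ℕ) (e15_0) (e15_1) (Nat.ble 1 b)) (Bool.rec (motive := fun _ => ℕ) (e15_2) (e15_3) (Nat.ble 3 b)) (Nat.ble 2 b)) (Bool.rec (motive := fun _ => ℕ) (Bool.rec (motive := fun _ => ℕ) (e15_4) (e15_5) (Nat.ble 5 b)) (Bool.rec (motive := fun _ => ℕ) (e15_6) (e15_7) (Nat.ble 7 b)) (Nat.ble 6 b)) (Nat.ble 4 b)) (Bool.rec (motive := fun _ => ℕ) (Bool.rec (motive := fun _ => ℕ) (Bool.rec (motive := fun _ => ℕ) (e15_8) (e15_9) (Nat.ble 9 b)) (Bool.rec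 (motive := fun _ => ℕ) (e15_10) (e15_11) (Nat.ble 11 b)) (Nat.ble 10 b)) (Bool.rec (motive := fun _ => ℕ) (Bool.rec (motive := fun _ => ℕ) (e15_12) (e15_13) (Nat.ble 13 b)) (Bool.rec (motive := fun _ => ℕ) (e15_14) (e15_15) (Nat.ble 15 b)) (Nat.ble 14 b)) (Nat.ble 12 b)) (Nat.ble 8 b)) (Bool.rec (motive := fun _ => ℕ) (Bool.rec (motive := fun _ => ℕ) (Bool.rec (motive := fun _ => ℕ) (Bool.rec (motive := fun _ => ℕ) (e15_16) (e15_17) (Nat.ble 17 b)) (Bool.rec (motive := fun _ => ℕ) (e15_18) (e15_19) (Nat.ble 19 b)) (Nat.ble 18 b)) (Bool.rec (motive := fun _ => ℕ) (Bool.rec (motive := fun _ => ℕ) (e15_20) (e15_21) (Nat.ble 21 b)) (Bool.rec (motive := fun _ => ℕ) (e15_22) (e15_23) (Nat.ble 23 b)) (Nat.ble 22 b)) (Nat.ble 20 b)) (Bool.rec (motive := fun _ => ℕ) (Bool.rec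 (motive := fun _ => ℕ) (Bool.rec (motive := fun _ => ℕ) (e15_24) (e15_25) (Nat.ble 25 b)) (Bool.rec (motive := fun _ => ℕ) (e15_26) (e15_27) (Nat.ble 27 b)) (Nat.ble 26 b)) (Bool.rec (motive := fun _ => ℕ) (Bool.rec (motive := fun _ => ℕ) (e15_28) (e15_29) (Nat.ble 29 b)) (Bool.rec (motive := fun _ => ℕ) (e15_30) (e15_31) (Nat.ble 31 b)) (Nat.ble 30 b)) (Nat.ble 28 b)) (Nat.ble 24 b)) (Nat.ble 16 b)) (Bool.rec (motive := fun _ => ℕ) (Bool.rec (motive := fun _ => ℕ) (Bool.rec (motive := fun _ => ℕ) (Bool.rec (motive := fun _ => ℕ) (Bool.rec (motive := fun _ => ℕ) (e15_32) (e15_33) (Nat.ble 33 b)) (Bool.rec (motive := fun _ => ℕ) (e15_34) (e15_35) (Nat.ble 35 b)) (Nat.ble 34 b)) (Bool.rec (motive := fun _ => ℕ) (Bool.rec (motive := fun _ => ℕ) (e15_36) (e15_37) (Nat.ble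 37 b)) (0) (Nat.ble 38 b)) (Nat.ble 36 b)) (0) (Nat.ble 40 b)) (0) (Nat.ble 48 b)) (Nat.ble 32 b))
noncomputable def jcol15 (b : ℕ) : ℕ := (Bool.rec (motive := fun _ => ℕ) (Bool.rec (motive := fun _ => ℕ) (Bool.rec (motive := fun _ => ℕ) (Bool.rec (motive := fun _ => ℕ) (Bool.rec (motive := fun _ => ℕ) (Bool.rec (motive := fun _ => ℕ) (j15_0) (j15_1) (Nat.ble 1 b)) (Bool.rec (motive := fun _ => ℕ) (j15_2) (j15_3) (Nat.ble 3 b)) (Nat.ble 2 b)) (Bool.rec (motive := fun _ => ℕ) (Bool.rec (motive := fun _ => ℕ) (j15_4) (j15_5) (Nat.ble 5 b)) (Bool.rec (motive := fun _ => ℕ) (j15_6) (j15_7) (Nat.ble 7 b)) (Nat.ble 6 b)) (Nat.ble 4 b)) (Bool.rec (motive := fun _ => ℕ) (Bool.rec (motive := fun _ => ℕ) (Bool.rec (motive := fun _ => ℕ) (j15_8) (j15_9) (Nat.ble 9 b)) (Bool.rec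 (motive := fun _ => ℕ) (j15_10) (j15_11) (Nat.ble 11 b)) (Nat.ble 10 b)) (Bool.rec (motive := fun _ => ℕ) (Bool.rec (motive := fun _ => ℕ) (j15_12) (j15_13) (Nat.ble 13 b)) (Bool.rec (motive := fun _ => ℕ) (j15_14) (j15_15) (Nat.ble 15 b)) (Nat.ble 14 b)) (Nat.ble 12 b)) (Nat.ble 8 b)) (Bool.rec (motive := fun _ => ℕ) (Bool.rec (motive := fun _ => ℕ) (Bool.rec (motive := fun _ => ℕ) (Bool.rec (motive := fun _ => ℕ) (j15_16) (j15_17) (Nat.ble 17 b)) (Bool.rec (motive := fun _ => ℕ) (j15_18) (j15_19) (Nat.ble 19 b)) (Nat.ble 18 b)) (Bool.rec (motive := fun _ => ℕ) (Bool.rec (motive := fun _ => ℕ) (j15_20) (j15_21) (Nat.ble 21 b)) (Bool.rec (motive := fun _ => ℕ) (j15_22) (j15_23) (Nat.ble 23 b)) (Nat.ble 22 b)) (Nat.ble 20 b)) (Bool.rec (motive := fun _ => ℕ) (Bool.rec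 (motive := fun _ => ℕ) (Bool.rec (motive := fun _ => ℕ) (j15_24) (j15_25) (Nat.ble 25 b)) (Bool.rec (motive := fun _ => ℕ) (j15_26) (j15_27) (Nat.ble 27 b)) (Nat.ble 26 b)) (Bool.rec (motive := fun _ => ℕ) (Bool.rec (motive := fun _ => ℕ) (j15_28) (j15_29) (Nat.ble 29 b)) (Bool.rec (motive := fun _ => ℕ) (j15_30) (j15_31) (Nat.ble 31 b)) (Nat.ble 30 b)) (Nat.ble 28 b)) (Nat.ble 24 b)) (Nat.ble 16 b)) (Bool.rec (motive := fun _ => ℕ) (Bool.rec (motive := fun _ => ℕ) (Bool.rec (motive := fun _ => ℕ) (Bool.rec (motive := fun _ => ℕ) (Bool.rec (motive := fun _ => ℕ) (j15_32) (j15_33) (Nat.ble 33 b)) (Bool.rec (motive := fun _ => ℕ) (j15_34) (j15_35) (Nat.ble 35 b)) (Nat.ble 34 b)) (Bool.rec (motive := fun _ => ℕ) (Bool.rec (motive := fun _ => ℕ) (j15_36) (j15_37) (Nat.ble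 37 b)) (0) (Nat.ble 38 b)) (Nat.ble 36 b)) (0) (Nat.ble 40 b)) (0) (Nat.ble 48 b)) (Nat.ble 32 b))
noncomputable def eT (c b : ℕ) : ℕ := (Bool.rec (motive := fun _ => ℕ) (Bool.rec (motive := fun _ => ℕ) (Bool.rec (motive := fun _ => ℕ) (Bool.rec (motive := fun _ => ℕ) (ecol0 b) (ecol1 b) (Nat.ble 1 c)) (Bool.rec (motive := fun _ => ℕ) (ecol2 b) (ecol3 b) (Nat.ble 3 c)) (Nat.ble 2 c)) (Bool.rec (motive := fun _ => ℕ) (Bool.rec (motive := fun _ => ℕ) (ecol4 b) (ecol5 b) (Nat.ble 5 c)) (Bool.rec (motive := fun _ => ℕ) (ecol6 b) (ecol7 b) (Nat.ble 7 c)) (Nat.ble 6 c)) (Nat.ble 4 c)) (Bool.rec (motive := fun _ => ℕ) (Bool.rec (motive := fun _ => ℕ) (Bool.rec (motive := fun _ => ℕ) (ecol8 b) (ecol9 b) (Nat.ble 9 c)) (Bool.rec (motive := fun _ => ℕ) (ecol10 b) (ecol11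 b) (Nat.ble 11 c)) (Nat.ble 10 c)) (Bool.rec (motive := fun _ => ℕ) (Bool.rec (motive := fun _ => ℕ) (ecol12 b) (ecol13 b) (Nat.ble 13 c)) (Bool.rec (motive := fun _ => ℕ) (ecol14 b) (ecol15 b) (Nat.ble 15 c)) (Nat.ble 14 c)) (Nat.ble 12 c)) (Nat.ble 8 c))
noncomputable def jT (c b : ℕ) : ℕ := (Bool.rec (motive := fun _ => ℕ) (Bool.rec (motive := fun _ => ℕ) (Bool.rec (motive := fun _ => ℕ) (Bool.rec (motive := fun _ => ℕ) (jcol0 b) (jcol1 b) (Nat.ble 1 c)) (Bool.rec (motive := fun _ => ℕ) (jcol2 b) (jcol3 b) (Nat.ble 3 c)) (Nat.ble 2 c)) (Bool.rec (motive := fun _ => ℕ) (Bool.rec (motive := fun _ => ℕ) (jcol4 b) (jcol5 b) (Nat.ble 5 c)) (Bool.rec (motive := fun _ => ℕ) (jcol6 b) (jcol7 b) (Nat.ble 7 c)) (Nat.ble 6 c)) (Nat.ble 4 c)) (Bool.rec (motive := fun _ =>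 ℕ) (Bool.rec (motive := fun _ => ℕ) (Bool.rec (motive := fun _ => ℕ) (jcol8 b) (jcol9 b) (Nat.ble 9 c)) (Bool.rec (motive := fun _ => ℕ) (jcol10 b) (jcol11 b) (Nat.ble 11 c)) (Nat.ble 10 c)) (Bool.rec (motive := fun _ => ℕ) (Bool.rec (motive := fun _ => ℕ) (jcol12 b) (jcol13 b) (Nat.ble 13 c)) (Bool.rec (motive := fun _ => ℕ) (jcol14 b) (jcol15 b) (Nat.ble 15 c)) (Nat.ble 14 c)) (Nat.ble 12 c)) (Nat.ble 8 c))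
noncomputable def mgT (b : ℕ) : ℕ := (Bool.rec (motive := fun _ => ℕ) (Bool.rec (motive := fun _ => ℕ) (Bool.rec (motive := fun _ => ℕ) (Bool.rec (motive := fun _ => ℕ) (Bool.rec (motive := fun _ => ℕ) (Bool.rec (motive := fun _ => ℕ) (m_0) (m_1) (Nat.ble 1 b)) (Bool.rec (motive := fun _ => ℕ) (m_2) (m_3) (Nat.ble 3 b)) (Nat.ble 2 b)) (Bool.rec (motive := fun _ => ℕ) (Bool.rec (motive := fun _ => ℕ) (m_4) (m_5) (Nat.ble 5 b)) (Bool.rec (motive := fun _ => ℕ) (m_6) (m_7) (Nat.ble 7 b)) (Nat.ble 6 b)) (Nat.ble 4 b)) (Bool.rec (motive := fun _ => ℕ) (Bool.rec (motive := fun _ => ℕ) (Bool.rec (motive := fun _ => ℕ) (m_8) (m_9) (Nat.ble 9 b)) (Bool.rec (motive := fun _ => ℕ) (m_10) (m_11) (Nat.ble 11 b)) (Nat.ble 10 b)) (Bool.rec (motive := fun _ => ℕ) (Bool.rec (motive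 := fun _ => ℕ) (m_12) (m_13) (Nat.ble 13 b)) (Bool.rec (motive := fun _ => ℕ) (m_14) (m_15) (Nat.ble 15 b)) (Nat.ble 14 b)) (Nat.ble 12 b)) (Nat.ble 8 b)) (Bool.rec (motive := fun _ => ℕ) (Bool.rec (motive := fun _ => ℕ) (Bool.rec (motive := fun _ => ℕ) (Bool.rec (motive := fun _ => ℕ) (m_16) (m_17) (Nat.ble 17 b)) (Bool.rec (motive := fun _ => ℕ) (m_18) (m_19) (Nat.ble 19 b)) (Nat.ble 18 b)) (Bool.rec (motive := fun _ => ℕ) (Bool.rec (motive := fun _ => ℕ) (m_20) (m_21) (Nat.ble 21 b)) (Bool.rec (motive := fun _ => ℕ) (m_22) (m_23) (Nat.ble 23 b)) (Nat.ble 22 b)) (Nat.ble 20 b)) (Bool.rec (motive := fun _ => ℕ) (Bool.rec (motive := fun _ => ℕ) (Bool.rec (motive := fun _ => ℕ) (m_24) (m_25) (Nat.ble 25 b)) (Bool.rec (motive := fun _ => ℕ) (m_26) (m_27) (Nat.ble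 27 b)) (Nat.ble 26 b)) (Bool.rec (motive := fun _ => ℕ) (Bool.rec (motive := fun _ => ℕ) (m_28) (m_29) (Nat.ble 29 b)) (Bool.rec (motive := fun _ => ℕ) (m_30) (m_31) (Nat.ble 31 b)) (Nat.ble 30 b)) (Nat.ble 28 b)) (Nat.ble 24 b)) (Nat.ble 16 b)) (Bool.rec (motive := fun _ => ℕ) (Bool.rec (motive := fun _ => ℕ) (Bool.rec (motive := fun _ => ℕ) (Bool.rec (motive := fun _ => ℕ) (Bool.rec (motive := fun _ => ℕ) (m_32) (m_33) (Nat.ble 33 b)) (Bool.rec (motive := fun _ => ℕ) (m_34) (m_35) (Nat.ble 35 b)) (Nat.ble 34 b)) (Bool.rec (motive := fun _ => ℕ) (Bool.rec (motive := fun _ => ℕ) (m_36) (m_37) (Nat.ble 37 b)) (0) (Nat.ble 38 b)) (Nat.ble 36 b)) (0) (Nat.ble 40 b)) (0) (Nat.ble 48 b)) (Nat.ble 32 b))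
noncomputable def jmT (b : ℕ) : ℕ := (Bool.rec (motive := fun _ => ℕ) (Bool.rec (motive := fun _ => ℕ) (Bool.rec (motive := fun _ => ℕ) (Bool.rec (motive := fun _ => ℕ) (Bool.rec (motive := fun _ => ℕ) (Bool.rec (motive := fun _ => ℕ) (jm_0) (jm_1) (Nat.ble 1 b)) (Bool.rec (motive := fun _ => ℕ) (jm_2) (jm_3) (Nat.ble 3 b)) (Nat.ble 2 b)) (Bool.rec (motive := fun _ => ℕ) (Bool.rec (motive := fun _ => ℕ) (jm_4) (jm_5) (Nat.ble 5 b)) (Bool.rec (motive := fun _ => ℕ) (jm_6) (jm_7) (Nat.ble 7 b)) (Nat.ble 6 b)) (Nat.ble 4 b)) (Bool.rec (motive := fun _ => ℕ) (Bool.rec (motive := fun _ => ℕ) (Bool.rec (motive := fun _ => ℕ) (jm_8) (jm_9) (Nat.ble 9 b)) (Bool.rec (motive := fun _ => ℕ) (jm_10) (jm_11) (Nat.ble 11 b)) (Nat.ble 10 b)) (Bool.rec (motive := fun _ => ℕ) (Bool.rec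 (motive := fun _ => ℕ) (jm_12) (jm_13) (Nat.ble 13 b)) (Bool.rec (motive := fun _ => ℕ) (jm_14) (jm_15) (Nat.ble 15 b)) (Nat.ble 14 b)) (Nat.ble 12 b)) (Nat.ble 8 b)) (Bool.rec (motive := fun _ => ℕ) (Bool.rec (motive := fun _ => ℕ) (Bool.rec (motive := fun _ => ℕ) (Bool.rec (motive := fun _ => ℕ) (jm_16) (jm_17) (Nat.ble 17 b)) (Bool.rec (motive := fun _ => ℕ) (jm_18) (jm_19) (Nat.ble 19 b)) (Nat.ble 18 b)) (Bool.rec (motive := fun _ => ℕ) (Bool.rec (motive := fun _ => ℕ) (jm_20) (jm_21) (Nat.ble 21 b)) (Bool.rec (motive := fun _ => ℕ) (jm_22) (jm_23) (Nat.ble 23 b)) (Nat.ble 22 b)) (Nat.ble 20 b)) (Bool.rec (motive := fun _ => ℕ) (Bool.rec (motive := fun _ => ℕ) (Bool.rec (motive := fun _ => ℕ) (jm_24) (jm_25) (Nat.ble 25 b)) (Bool.rec (motive := fun _ => ℕ) (jm_26)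 (jm_27) (Nat.ble 27 b)) (Nat.ble 26 b)) (Bool.rec (motive := fun _ => ℕ) (Bool.rec (motive := fun _ => ℕ) (jm_28) (jm_29) (Nat.ble 29 b)) (Bool.rec (motive := fun _ => ℕ) (jm_30) (jm_31) (Nat.ble 31 b)) (Nat.ble 30 b)) (Nat.ble 28 b)) (Nat.ble 24 b)) (Nat.ble 16 b)) (Bool.rec (motive := fun _ => ℕ) (Bool.rec (motive := fun _ => ℕ) (Bool.rec (motive := fun _ => ℕ) (Bool.rec (motive := fun _ => ℕ) (Bool.rec (motive := fun _ => ℕ) (jm_32) (jm_33) (Nat.ble 33 b)) (Bool.rec (motive := fun _ => ℕ) (jm_34) (jm_35) (Nat.ble 35 b)) (Nat.ble 34 b)) (Bool.rec (motive := fun _ => ℕ) (Bool.rec (motive := fun _ => ℕ) (jm_36) (jm_37) (Nat.ble 37 b)) (0) (Nat.ble 38 b)) (Nat.ble 36 b)) (0) (Nat.ble 40 b)) (0) (Nat.ble 48 b)) (Nat.ble 32 b))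
def rw0 : List ℕ := [0, 0]
def rw1 : List ℕ := [0, 8, 0, 8]
def rw2 : List ℕ := [0, 10, 0, 10]
def rw3 : List ℕ := [0, 12, 0, 12]
def rw4 : List ℕ := [0, 4, 0, 4]
def rw5 : List ℕ := [0, 6, 0, 6]
def rw6 : List ℕ := [0, 14, 0, 14]
def rw7 : List ℕ := [0, 2, 10, 12, 14, 4, 0, 2, 10, 12, 14, 4, 0, 2, 10, 12, 14, 4, 0, 2, 10, 12, 14, 4, 0, 2, 10, 12, 14, 3, 15, 13, 11, 3, 1, 5, 15, 13, 11, 3, 1, 5, 15, 13, 11, 3, 1, 5, 15, 13, 11, 3, 1, 5, 15, 13, 11, 3, 1, 5, 2, 4]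
def rw8 : List ℕ := [0, 2, 0, 2, 0, 2]
def rw9 : List ℕ := [0, 2, 0, 2, 0, 2]
def rw10 : List ℕ := [0, 2, 10, 12, 14, 4, 0, 2, 10, 12, 14, 4, 0, 2, 10, 12, 14, 4, 0, 2, 10, 12, 14, 4, 0, 2, 10, 12, 14, 15, 15, 13, 11, 3, 1, 5, 15, 13, 11, 3, 1, 5, 15, 13, 11, 3, 1, 5, 15, 13, 11, 3, 1, 5, 15, 13, 11, 3, 1, 5, 14, 4]
def rw11 : List ℕ := [0, 2, 10, 12, 14, 4, 0, 2, 10, 12, 14, 4, 0, 2, 10, 12, 14, 4, 0, 2, 10, 12, 14, 4, 0, 2, 10, 12, 14, 8, 15, 13, 11, 3, 1, 5, 15, 13, 11, 3, 1, 5, 15, 13, 11, 3, 1, 5, 15, 13, 11, 3, 1, 5, 15, 13, 11, 3, 1, 5, 9, 4]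
def rw12 : List ℕ := [0, 2, 10, 12, 14, 4, 0, 2, 10, 12, 14, 1, 15, 13, 11, 3, 1, 5, 15, 13, 11, 3, 1, 5, 15, 13, 11, 3, 1, 5, 15, 13, 11, 3, 1, 5, 15, 13, 11, 3, 1, 5, 0, 4, 0, 2, 10, 12, 14, 4, 0, 2, 10, 12, 14, 4, 0, 2, 10, 12, 14, 4]
def rw13 : List ℕ := [0, 2, 10, 12, 14, 4, 0, 2, 10, 12, 14, 3, 15, 13, 11, 3, 1, 5, 15, 13, 11, 3, 1, 5, 15, 13, 11, 3, 1, 5, 15, 13, 11, 3, 1, 5, 15, 13, 11, 3, 1, 5, 2, 4, 0, 2, 10, 12, 14, 4, 0, 2, 10, 12, 14, 4, 0, 2, 10, 12, 14, 4]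
def rw14 : List ℕ := [0, 3, 5, 7, 15, 13, 11, 3, 5, 7, 15, 13, 11, 3, 5, 7, 15, 13, 11, 3, 5, 7, 15, 13, 11, 3, 5, 7, 15, 13, 11, 1, 10, 12, 14, 6, 4, 2, 10, 12, 14, 6, 4, 2, 10, 12, 14, 6, 4, 2, 10, 12, 14, 6, 4, 2, 10, 12, 14, 6, 4, 2]
def rw15 : List ℕ := [0, 10, 0, 10]
def rw16 : List ℕ := [0, 6, 0, 6]
def rw17 : List ℕ := [0, 2, 10, 12, 14, 4, 0, 2, 10, 12, 14, 4, 0, 2, 10, 12, 14, 4, 0, 2, 10, 12, 14, 1, 15, 13, 11, 3, 1, 5, 15, 13, 11, 3, 1, 5, 15, 13, 11, 3, 1, 5, 15, 13, 11, 3, 1, 5, 15, 13, 11, 3, 1, 5, 0, 4, 0, 2, 10, 12, 14, 4]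
def rw18 : List ℕ := [0, 5, 7, 9, 15, 13, 11, 5, 7, 9, 15, 13, 11, 5, 7, 9, 15, 13, 11, 5, 7, 9, 15, 13, 11, 5, 7, 9, 15, 13, 11, 1, 10, 12, 14, 8, 6, 4, 10, 12, 14, 8, 6, 4, 10, 12, 14, 8, 6, 4, 10, 12, 14, 8, 6, 4, 10, 12, 14, 8, 6, 4]
def rw19 : List ℕ := [0, 2, 10, 12, 14, 4, 0, 2, 10, 12, 14, 4, 0, 2, 10, 12, 14, 1, 15, 13, 11, 3, 1, 5, 15, 13, 11, 3, 1, 5, 15, 13, 11, 3, 1, 5, 15, 13, 11, 3, 1, 5, 15, 13, 11, 3, 1, 5, 0, 4, 0, 2, 10, 12, 14, 4, 0, 2, 10, 12, 14, 4]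
def rw20 : List ℕ := [0, 14, 0, 14]
def rw21 : List ℕ := [0, 4, 0, 4]
def rw22 : List ℕ := [0, 8, 0, 8]
def rw23 : List ℕ := [0, 12, 0, 12]
def rw24 : List ℕ := [0, 2, 0, 2, 0, 2]
def rw25 : List ℕ := [0, 2, 10, 12, 14, 4, 0, 2, 10, 12, 14, 4, 0, 2, 10, 12, 14, 4, 0, 2, 10, 12, 14, 7, 15, 13, 11, 3, 1, 5, 15, 13, 11, 3, 1, 5, 15, 13, 11, 3, 1, 5, 15, 13, 11, 3, 1, 5, 15, 13, 11, 3, 1, 5, 6, 4, 0, 2, 10, 12, 14, 4]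
def rw26 : List ℕ := [0, 10, 12, 14, 8, 6, 4, 10, 12, 14, 8, 6, 4, 10, 12, 14, 8, 6, 4, 10, 12, 14, 8, 6, 4, 10, 12, 14, 8, 6, 4, 1, 5, 7, 9, 15, 13, 11, 5, 7, 9, 15, 13, 11, 5, 7, 9, 15, 13, 11, 5, 7, 9, 15, 13, 11, 5, 7, 9, 15, 13, 11]
def rw27 : List ℕ := [0, 2, 10, 12, 14, 4, 0, 2, 10, 12, 14, 4, 0, 2, 10, 12, 14, 4, 0, 2, 10, 12, 14, 3, 15, 13, 11, 3, 1, 5, 15, 13, 11, 3, 1, 5, 15, 13, 11, 3, 1, 5, 15, 13, 11, 3, 1, 5, 15, 13, 11, 3, 1, 5, 2, 4, 0, 2, 10, 12, 14, 4]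
def rw28 : List ℕ := [0, 11, 1, 3, 5, 7, 9, 11, 13, 1, 3, 5, 7, 9, 11, 13, 1, 3, 5, 7, 9, 11, 13, 1, 3, 5, 7, 9, 11, 13, 1, 3, 5, 7, 9, 11, 13, 1, 3, 5, 7, 9, 11, 13, 1, 3, 5, 7, 9, 11, 13, 1, 3, 5, 7, 9, 11, 13, 1, 3, 5, 7, 9, 11, 13, 10, 12, 10, 8, 6, 4, 2, 0, 12, 10, 8, 6, 4, 2, 0, 12, 10, 8, 6, 4, 2, 0, 12, 10, 8, 6, 4, 2, 0, 12, 10, 8, 6, 4, 2, 0, 12, 10, 8, 6, 4, 2, 0, 12, 10, 8, 6, 4, 2, 0, 12, 10, 8, 6, 4, 2, 0, 12, 10, 8, 6, 4, 2]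
def rw29 : List ℕ := [0, 2, 10, 12, 14, 4, 0, 2, 10, 12, 14, 4, 0, 2, 10, 12, 14, 3, 15, 13, 11, 3, 1, 5, 15, 13, 11, 3, 1, 5, 15, 13, 11, 3, 1, 5, 15, 13, 11, 3, 1, 5, 15, 13, 11, 3, 1, 5, 2, 4, 0, 2, 10, 12, 14, 4, 0, 2, 10, 12, 14, 4]
def rw30 : List ℕ := [0, 7, 1, 3, 5, 7, 9, 11, 13, 1, 3, 5, 7, 9, 11, 13, 1, 3, 5, 7, 9, 11, 13, 1, 3, 5, 7, 9, 11, 13, 1, 3, 5, 7, 9, 11, 13, 1, 3, 5, 7, 9, 11, 13, 1, 3, 5, 7, 9, 11, 13, 1, 3, 5, 7, 9, 11, 13, 1, 3, 5, 7, 9, 11, 13, 6, 12, 10, 8, 6, 4, 2, 0, 12, 10, 8, 6, 4, 2, 0, 12, 10, 8, 6, 4, 2, 0, 12, 10, 8, 6, 4, 2, 0, 12, 10, 8, 6, 4, 2, 0, 12, 10, 8, 6, 4, 2, 0, 12, 10, 8, 6, 4, 2, 0, 12, 10, 8, 6, 4, 2, 0, 12, 10, 8, 6, 4, 2]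
def rw31 : List ℕ := [0, 9, 1, 3, 5, 7, 9, 11, 13, 1, 3, 5, 7, 9, 11, 13, 1, 3, 5, 7, 9, 11, 13, 1, 3, 5, 7, 9, 11, 13, 1, 3, 5, 7, 9, 11, 13, 1, 3, 5, 7, 9, 11, 13, 1, 3, 5, 7, 9, 11, 13, 1, 3, 5, 7, 9, 11, 13, 1, 3, 5, 7, 9, 11, 13, 8, 12, 10, 8, 6, 4, 2, 0, 12, 10, 8, 6, 4, 2, 0, 12, 10, 8, 6, 4, 2, 0, 12, 10, 8, 6, 4, 2, 0, 12, 10, 8, 6, 4, 2, 0, 12, 10, 8, 6, 4, 2, 0, 12, 10, 8, 6, 4, 2, 0, 12, 10, 8, 6, 4, 2, 0, 12, 10, 8, 6, 4, 2]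
def rw32 : List ℕ := [0, 12, 10, 8, 6, 4, 2, 0, 12, 10, 8, 6, 4, 2, 0, 12, 10, 8, 6, 4, 2, 0, 12, 10, 8, 6, 4, 2, 0, 12, 10, 8, 6, 4, 2, 0, 12, 10, 8, 6, 4, 2, 0, 12, 10, 8, 6, 4, 2, 0, 1, 1, 3, 5, 7, 9, 11, 13, 1, 3, 5, 7, 9, 11, 13, 1, 3, 5, 7, 9, 11, 13, 1, 3, 5, 7, 9, 11, 13, 1, 3, 5, 7, 9, 11, 13, 1, 3, 5, 7, 9, 11, 13, 1, 3, 5, 7, 9, 11, 13, 1, 3, 5, 7, 9, 11, 13, 1, 3, 5, 7, 9, 11, 13, 0, 12, 10, 8, 6, 4, 2, 0, 12, 10, 8, 6, 4, 2]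
def rw33 : List ℕ := [0, 2, 10, 12, 14, 7, 15, 13, 11, 3, 1, 5, 15, 13, 11, 3, 1, 5, 15, 13, 11, 3, 1, 5, 15, 13, 11, 3, 1, 5, 15, 13, 11, 3, 1, 5, 6, 4, 0, 2, 10, 12, 14, 4, 0, 2, 10, 12, 14, 4, 0, 2, 10, 12, 14, 4, 0, 2, 10, 12, 14, 4]
def rw34 : List ℕ := [0, 2, 10, 12, 14, 4, 0, 2, 10, 12, 14, 5, 15, 13, 11, 3, 1, 5, 15, 13, 11, 3, 1, 5, 15, 13, 11, 3, 1, 5, 15, 13, 11, 3, 1, 5, 15, 13, 11, 3, 1, 5, 4, 4, 0, 2, 10, 12, 14, 4, 0, 2, 10, 12, 14, 4, 0, 2, 10, 12, 14, 4]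
def rw35 : List ℕ := [0, 5, 1, 3, 5, 7, 9, 11, 13, 1, 3, 5, 7, 9, 11, 13, 1, 3, 5, 7, 9, 11, 13, 1, 3, 5, 7, 9, 11, 13, 1, 3, 5, 7, 9, 11, 13, 1, 3, 5, 7, 9, 11, 13, 1, 3, 5, 7, 9, 11, 13, 1, 3, 5, 7, 9, 11, 13, 1, 3, 5, 7, 9, 11, 13, 4, 12, 10, 8, 6, 4, 2, 0, 12, 10, 8, 6, 4, 2, 0, 12, 10, 8, 6, 4, 2, 0, 12, 10, 8, 6, 4, 2, 0, 12, 10, 8, 6, 4, 2, 0, 12, 10, 8, 6, 4, 2, 0, 12, 10, 8, 6, 4, 2, 0, 12, 10, 8, 6, 4, 2, 0, 12, 10, 8, 6, 4, 2]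
def rw36 : List ℕ := [0, 2, 10, 12, 14, 3, 15, 13, 11, 3, 1, 5, 15, 13, 11, 3, 1, 5, 15, 13, 11, 3, 1, 5, 15, 13, 11, 3, 1, 5, 15, 13, 11, 3, 1, 5, 2, 4, 0, 2, 10, 12, 14, 4, 0, 2, 10, 12, 14, 4, 0, 2, 10, 12, 14, 4, 0, 2, 10, 12, 14, 4]
def rw37 : List ℕ := [0, 2, 10, 12, 14, 4, 0, 2, 10, 12, 14, 4, 0, 2, 10, 12, 14, 5, 15, 13, 11, 3, 1, 5, 15, 13, 11, 3, 1, 5, 15, 13, 11, 3, 1, 5, 15, 13, 11, 3, 1, 5, 15, 13, 11, 3, 1, 5, 4, 4, 0, 2, 10, 12, 14, 4, 0, 2, 10, 12, 14, 4]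
def rw38 : List ℕ := [0, 12, 10, 8, 6, 4, 2, 0, 12, 10, 8, 6, 4, 2, 0, 12, 10, 8, 6, 4, 2, 0, 12, 10, 8, 6, 4, 2, 0, 1, 1, 3, 5, 7, 9, 11, 13, 1, 3, 5, 7, 9, 11, 13, 1, 3, 5, 7, 9, 11, 13, 1, 3, 5, 7, 9, 11, 13, 1, 3, 5, 7, 9, 11, 13, 1, 3, 5, 7, 9, 11, 13, 1, 3, 5, 7, 9, 11, 13, 1, 3, 5, 7, 9, 11, 13, 1, 3, 5, 7, 9, 11, 13, 0, 12, 10, 8, 6, 4, 2, 0, 12, 10, 8, 6, 4, 2, 0, 12, 10, 8, 6, 4, 2, 0, 12, 10, 8, 6, 4, 2, 0, 12, 10, 8, 6, 4, 2]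
def rw39 : List ℕ := [0, 2, 10, 12, 14, 5, 15, 13, 11, 3, 1, 5, 15, 13, 11, 3, 1, 5, 15, 13, 11, 3, 1, 5, 15, 13, 11, 3, 1, 5, 15, 13, 11, 3, 1, 5, 4, 4, 0, 2, 10, 12, 14, 4, 0, 2, 10, 12, 14, 4, 0, 2, 10, 12, 14, 4, 0, 2, 10, 12, 14, 4]
def rw40 : List ℕ := [0, 2, 10, 12, 14, 4, 0, 2, 10, 12, 14, 4, 0, 2, 10, 12, 14, 4, 0, 2, 10, 12, 14, 4, 0, 2, 10, 12, 14, 13, 15, 13, 11, 3, 1, 5, 15, 13, 11, 3, 1, 5, 15, 13, 11, 3, 1, 5, 15, 13, 11, 3, 1, 5, 15, 13, 11, 3, 1, 5, 12, 4]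
def rw41 : List ℕ := [0, 12, 10, 8, 6, 4, 2, 0, 12, 10, 8, 6, 4, 2, 0, 12, 10, 8, 6, 4, 2, 0, 12, 10, 8, 6, 4, 2, 0, 12, 10, 8, 6, 4, 2, 0, 12, 10, 8, 6, 4, 2, 0, 12, 10, 8, 6, 4, 2, 0, 12, 10, 8, 6, 4, 2, 0, 1, 1, 3, 5, 7, 9, 11, 13, 1, 3, 5, 7, 9, 11, 13, 1, 3, 5, 7, 9, 11, 13, 1, 3, 5, 7, 9, 11, 13, 1, 3, 5, 7, 9, 11, 13, 1, 3, 5, 7, 9, 11, 13, 1, 3, 5, 7, 9, 11, 13, 1, 3, 5, 7, 9, 11, 13, 1, 3, 5, 7, 9, 11, 13, 0, 12, 10, 8, 6, 4, 2]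
def rw42 : List ℕ := [0, 2, 10, 12, 14, 4, 0, 2, 10, 12, 14, 4, 0, 2, 10, 12, 14, 4, 0, 2, 10, 12, 14, 4, 0, 2, 10, 12, 14, 9, 15, 13, 11, 3, 1, 5, 15, 13, 11, 3, 1, 5, 15, 13, 11, 3, 1, 5, 15, 13, 11, 3, 1, 5, 15, 13, 11, 3, 1, 5, 8, 4]
def rw43 : List ℕ := [0, 2, 10, 12, 14, 4, 0, 2, 10, 12, 14, 4, 0, 2, 10, 12, 14, 4, 0, 2, 10, 12, 14, 4, 0, 2, 10, 12, 14, 2, 15, 13, 11, 3, 1, 5, 15, 13, 11, 3, 1, 5, 15, 13, 11, 3, 1, 5, 15, 13, 11, 3, 1, 5, 15, 13, 11, 3, 1, 5, 3, 4]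
def rw44 : List ℕ := [0, 2, 10, 12, 14, 4, 0, 2, 10, 12, 14, 4, 0, 2, 10, 12, 14, 4, 0, 2, 10, 12, 14, 4, 0, 2, 10, 12, 14, 5, 15, 13, 11, 3, 1, 5, 15, 13, 11, 3, 1, 5, 15, 13, 11, 3, 1, 5, 15, 13, 11, 3, 1, 5, 15, 13, 11, 3, 1, 5, 4, 4]
def rw45 : List ℕ := [0, 2, 10, 12, 14, 1, 15, 13, 11, 3, 1, 5, 15, 13, 11, 3, 1, 5, 15, 13, 11, 3, 1, 5, 15, 13, 11, 3, 1, 5, 15, 13, 11, 3, 1, 5, 0, 4, 0, 2, 10, 12, 14, 4, 0, 2, 10, 12, 14, 4, 0, 2, 10, 12, 14, 4, 0, 2, 10, 12, 14, 4]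
def rw46 : List ℕ := [0, 12, 10, 8, 6, 4, 2, 0, 12, 10, 8, 6, 4, 2, 0, 12, 10, 8, 6, 4, 2, 0, 12, 10, 8, 6, 4, 2, 0, 12, 10, 8, 6, 4, 2, 0, 12, 10, 8, 6, 4, 2, 0, 1, 1, 3, 5, 7, 9, 11, 13, 1, 3, 5, 7, 9, 11, 13, 1, 3, 5, 7, 9, 11, 13, 1, 3, 5, 7, 9, 11, 13, 1, 3, 5, 7, 9, 11, 13, 1, 3, 5, 7, 9, 11, 13, 1, 3, 5, 7, 9, 11, 13, 1, 3, 5, 7, 9, 11, 13, 1, 3, 5, 7, 9, 11, 13, 0, 12, 10, 8, 6, 4, 2, 0, 12, 10, 8, 6, 4, 2, 0, 12, 10, 8, 6, 4, 2]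
def rw47 : List ℕ := [0, 2, 10, 12, 14, 4, 0, 2, 10, 12, 14, 4, 0, 2, 10, 12, 14, 4, 0, 2, 10, 12, 14, 4, 0, 2, 10, 12, 14, 1, 15, 13, 11, 3, 1, 5, 15, 13, 11, 3, 1, 5, 15, 13, 11, 3, 1, 5, 15, 13, 11, 3, 1, 5, 15, 13, 11, 3, 1, 5, 0, 4]
def rw48 : List ℕ := [0, 2, 10, 12, 14, 11, 15, 13, 11, 3, 1, 5, 15, 13, 11, 3, 1, 5, 15, 13, 11, 3, 1, 5, 15, 13, 11, 3, 1, 5, 15, 13, 11, 3, 1, 5, 10, 4, 0, 2, 10, 12, 14, 4, 0, 2, 10, 12, 14, 4, 0, 2, 10, 12, 14, 4, 0, 2, 10, 12, 14, 4]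
def rw49 : List ℕ := [0, 2, 10, 12, 14, 15, 15, 13, 11, 3, 1, 5, 15, 13, 11, 3, 1, 5, 15, 13, 11, 3, 1, 5, 15, 13, 11, 3, 1, 5, 15, 13, 11, 3, 1, 5, 14, 4, 0, 2, 10, 12, 14, 4, 0, 2, 10, 12, 14, 4, 0, 2, 10, 12, 14, 4, 0, 2, 10, 12, 14, 4]
def rw50 : List ℕ := [0, 15, 1, 3, 5, 7, 9, 11, 13, 1, 3, 5, 7, 9, 11, 13, 1, 3, 5, 7, 9, 11, 13, 1, 3, 5, 7, 9, 11, 13, 1, 3, 5, 7, 9, 11, 13, 1, 3, 5, 7, 9, 11, 13, 1, 3, 5, 7, 9, 11, 13, 1, 3, 5, 7, 9, 11, 13, 1, 3, 5, 7, 9, 11, 13, 14, 12, 10, 8, 6, 4, 2, 0, 12, 10, 8, 6, 4, 2, 0, 12, 10, 8, 6, 4, 2, 0, 12, 10, 8, 6, 4, 2, 0, 12, 10, 8, 6, 4, 2, 0, 12, 10, 8, 6, 4, 2, 0, 12, 10, 8, 6, 4, 2, 0, 12, 10, 8, 6, 4, 2, 0, 12, 10, 8, 6, 4, 2]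
def rw51 : List ℕ := [0, 12, 10, 8, 6, 4, 2, 0, 12, 10, 8, 6, 4, 2, 0, 12, 10, 8, 6, 4, 2, 0, 12, 10, 8, 6, 4, 2, 0, 12, 10, 8, 6, 4, 2, 0, 12, 10, 8, 6, 4, 2, 0, 12, 10, 8, 6, 4, 2, 0, 5, 1, 3, 5, 7, 9, 11, 13, 1, 3, 5, 7, 9, 11, 13, 1, 3, 5, 7, 9, 11, 13, 1, 3, 5, 7, 9, 11, 13, 1, 3, 5, 7, 9, 11, 13, 1, 3, 5, 7, 9, 11, 13, 1, 3, 5, 7, 9, 11, 13, 1, 3, 5, 7, 9, 11, 13, 1, 3, 5, 7, 9, 11, 13, 4, 12, 10, 8, 6, 4, 2, 0, 12, 10, 8, 6, 4, 2]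
def rw52 : List ℕ := [0, 12, 10, 8, 6, 4, 2, 0, 12, 10, 8, 6, 4, 2, 0, 12, 10, 8, 6, 4, 2, 0, 1, 1, 3, 5, 7, 9, 11, 13, 1, 3, 5, 7, 9, 11, 13, 1, 3, 5, 7, 9, 11, 13, 1, 3, 5, 7, 9, 11, 13, 1, 3, 5, 7, 9, 11, 13, 1, 3, 5, 7, 9, 11, 13, 1, 3, 5, 7, 9, 11, 13, 1, 3, 5, 7, 9, 11, 13, 1, 3, 5, 7, 9, 11, 13, 0, 12, 10, 8, 6, 4, 2, 0, 12, 10, 8, 6, 4, 2, 0, 12, 10, 8, 6, 4, 2, 0, 12, 10, 8, 6, 4, 2, 0, 12, 10, 8, 6, 4, 2, 0, 12, 10, 8, 6, 4, 2]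
def rw53 : List ℕ := [0, 3, 1, 3, 5, 7, 9, 11, 13, 1, 3, 5, 7, 9, 11, 13, 1, 3, 5, 7, 9, 11, 13, 1, 3, 5, 7, 9, 11, 13, 1, 3, 5, 7, 9, 11, 13, 1, 3, 5, 7, 9, 11, 13, 1, 3, 5, 7, 9, 11, 13, 1, 3, 5, 7, 9, 11, 13, 1, 3, 5, 7, 9, 11, 13, 2, 12, 10, 8, 6, 4, 2, 0, 12, 10, 8, 6, 4, 2, 0, 12, 10, 8, 6, 4, 2, 0, 12, 10, 8, 6, 4, 2, 0, 12, 10, 8, 6, 4, 2, 0, 12, 10, 8, 6, 4, 2, 0, 12, 10, 8, 6, 4, 2, 0, 12, 10, 8, 6, 4, 2, 0, 12, 10, 8, 6, 4, 2]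
def rw54 : List ℕ := [0, 2, 10, 12, 14, 4, 0, 2, 10, 12, 14, 4, 0, 2, 10, 12, 14, 4, 0, 2, 10, 12, 14, 4, 0, 2, 10, 12, 14, 7, 15, 13, 11, 3, 1, 5, 15, 13, 11, 3, 1, 5, 15, 13, 11, 3, 1, 5, 15, 13, 11, 3, 1, 5, 15, 13, 11, 3, 1, 5, 6, 4]
def rw55 : List ℕ := [0, 15, 13, 11, 3, 1, 5, 15, 13, 11, 3, 1, 5, 15, 13, 11, 3, 1, 5, 15, 13, 11, 3, 1, 5, 15, 13, 11, 3, 1, 5, 1, 4, 0, 2, 10, 12, 14, 4, 0, 2, 10, 12, 14, 4, 0, 2, 10, 12, 14, 4, 0, 2, 10, 12, 14, 4, 0, 2, 10, 12, 14]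
def rw56 : List ℕ := [0, 2, 10, 12, 14, 4, 0, 2, 10, 12, 14, 4, 0, 2, 10, 12, 14, 4, 0, 2, 10, 12, 14, 5, 15, 13, 11, 3, 1, 5, 15, 13, 11, 3, 1, 5, 15, 13, 11, 3, 1, 5, 15, 13, 11, 3, 1, 5, 15, 13, 11, 3, 1, 5, 4, 4, 0, 2, 10, 12, 14, 4]
def rw57 : List ℕ := [0, 2, 10, 12, 14, 4, 0, 2, 10, 12, 14, 4, 0, 2, 10, 12, 14, 4, 0, 2, 10, 12, 14, 4, 0, 2, 10, 12, 14, 11, 15, 13, 11, 3, 1, 5, 15, 13, 11, 3, 1, 5, 15, 13, 11, 3, 1, 5, 15, 13, 11, 3, 1, 5, 15, 13, 11, 3, 1, 5, 10, 4]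
def rw58 : List ℕ := [0, 12, 10, 8, 6, 4, 2, 0, 12, 10, 8, 6, 4, 2, 0, 12, 10, 8, 6, 4, 2, 0, 12, 10, 8, 6, 4, 2, 0, 12, 10, 8, 6, 4, 2, 0, 1, 1, 3, 5, 7, 9, 11, 13, 1, 3, 5, 7, 9, 11, 13, 1, 3, 5, 7, 9, 11, 13, 1, 3, 5, 7, 9, 11, 13, 1, 3, 5, 7, 9, 11, 13, 1, 3, 5, 7, 9, 11, 13, 1, 3, 5, 7, 9, 11, 13, 1, 3, 5, 7, 9, 11, 13, 1, 3, 5, 7, 9, 11, 13, 0, 12, 10, 8, 6, 4, 2, 0, 12, 10, 8, 6, 4, 2, 0, 12, 10, 8, 6, 4, 2, 0, 12, 10, 8, 6, 4, 2]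
def rw59 : List ℕ := [0, 2, 10, 12, 14, 4, 0, 2, 10, 12, 14, 4, 0, 2, 10, 12, 14, 4, 0, 2, 10, 12, 14, 4, 0, 2, 10, 12, 14, 0, 15, 13, 11, 3, 1, 5, 15, 13, 11, 3, 1, 5, 15, 13, 11, 3, 1, 5, 15, 13, 11, 3, 1, 5, 15, 13, 11, 3, 1, 5, 1, 4]
def rw60 : List ℕ := [1, 15, 1, 15]
def rw61 : List ℕ := [1, 7, 1, 7]
def rw62 : List ℕ := [1, 13, 1, 13]
def rw63 : List ℕ := [1, 5, 1, 5]
def rw64 : List ℕ := [1, 9, 1, 9]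
def rw65 : List ℕ := [1, 11, 1, 11]
def rw66 : List ℕ := [1, 4, 0, 2, 10, 12, 14, 4, 0, 2, 10, 12, 14, 4, 0, 2, 10, 12, 14, 4, 0, 2, 10, 12, 14, 4, 0, 2, 10, 12, 14, 0, 15, 13, 11, 3, 1, 5, 15, 13, 11, 3, 1, 5, 15, 13, 11, 3, 1, 5, 15, 13, 11, 3, 1, 5, 15, 13, 11, 3, 1, 5]
def rw67 : List ℕ := [1, 3, 1, 3, 1, 3]
def rw68 : List ℕ := [1, 15, 13, 11, 3, 1, 5, 15, 13, 11, 3, 1, 5, 15, 13, 11, 3, 1, 5, 15, 13, 11, 3, 1, 5, 15, 13, 11, 3, 1, 5, 0, 4, 0, 2, 10, 12, 14, 4, 0, 2, 10, 12, 14, 4, 0, 2, 10, 12, 14, 4, 0, 2, 10, 12, 14, 4, 0, 2, 10, 12, 14]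
def rw69 : List ℕ := [1, 3, 1, 3, 1, 3]
def rw70 : List ℕ := [1, 3, 5, 7, 15, 13, 11, 3, 5, 7, 15, 13, 11, 3, 5, 7, 15, 13, 11, 3, 5, 7, 15, 13, 11, 3, 5, 7, 15, 13, 11, 0, 10, 12, 14, 6, 4, 2, 10, 12, 14, 6, 4, 2, 10, 12, 14, 6, 4, 2, 10, 12, 14, 6, 4, 2, 10, 12, 14, 6, 4, 2]
def rw71 : List ℕ := [1, 5, 7, 9, 15, 13, 11, 5, 7, 9, 15, 13, 11, 5, 7, 9, 15, 13, 11, 5, 7, 9, 15, 13, 11, 5, 7, 9, 15, 13, 11, 0, 10, 12, 14, 8, 6, 4, 10, 12, 14, 8, 6, 4, 10, 12, 14, 8, 6, 4, 10, 12, 14, 8, 6, 4, 10, 12, 14, 8, 6, 4]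
def rw72 : List ℕ := [1, 5, 15, 13, 11, 3, 1, 5, 15, 13, 11, 3, 1, 5, 15, 13, 11, 3, 1, 5, 10, 4, 0, 2, 10, 12, 14, 4, 0, 2, 10, 12, 14, 4, 0, 2, 10, 12, 14, 4, 0, 2, 10, 12, 14, 4, 0, 2, 10, 12, 14, 11, 15, 13, 11, 3, 1, 5, 15, 13, 11, 3]
def rw73 : List ℕ := [1, 5, 15, 13, 11, 3, 1, 5, 15, 13, 11, 3, 1, 5, 15, 13, 11, 3, 1, 5, 15, 13, 11, 3, 1, 5, 14, 4, 0, 2, 10, 12, 14, 4, 0, 2, 10, 12, 14, 4, 0, 2, 10, 12, 14, 4, 0, 2, 10, 12, 14, 4, 0, 2, 10, 12, 14, 15, 15, 13, 11, 3]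
def rw74 : List ℕ := [1, 10, 12, 14, 6, 4, 2, 10, 12, 14, 6, 4, 2, 10, 12, 14, 6, 4, 2, 10, 12, 14, 6, 4, 2, 10, 12, 14, 6, 4, 2, 0, 3, 5, 7, 15, 13, 11, 3, 5, 7, 15, 13, 11, 3, 5, 7, 15, 13, 11, 3, 5, 7, 15, 13, 11, 3, 5, 7, 15, 13, 11]
def rw75 : List ℕ := [1, 5, 0, 4, 0, 2, 10, 12, 14, 4, 0, 2, 10, 12, 14, 4, 0, 2, 10, 12, 14, 4, 0, 2, 10, 12, 14, 4, 0, 2, 10, 12, 14, 1, 15, 13, 11, 3, 1, 5, 15, 13, 11, 3, 1, 5, 15, 13, 11, 3, 1, 5, 15, 13, 11, 3, 1, 5, 15, 13, 11, 3]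
def rw76 : List ℕ := [1, 5, 10, 4, 0, 2, 10, 12, 14, 4, 0, 2, 10, 12, 14, 4, 0, 2, 10, 12, 14, 4, 0, 2, 10, 12, 14, 4, 0, 2, 10, 12, 14, 11, 15, 13, 11, 3, 1, 5, 15, 13, 11, 3, 1, 5, 15, 13, 11, 3, 1, 5, 15, 13, 11, 3, 1, 5, 15, 13, 11, 3]
def rw77 : List ℕ := [1, 5, 15, 13, 11, 3, 1, 5, 15, 13, 11, 3, 1, 5, 15, 13, 11, 3, 1, 5, 15, 13, 11, 3, 1, 5, 10, 4, 0, 2, 10, 12, 14, 4, 0, 2, 10, 12, 14, 4, 0, 2, 10, 12, 14, 4, 0, 2, 10, 12, 14, 4, 0, 2, 10, 12, 14, 11, 15, 13, 11, 3]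
def rw78 : List ℕ := [1, 15, 1, 15]
def rw79 : List ℕ := [1, 11, 1, 11]
def rw80 : List ℕ := [1, 10, 12, 14, 8, 6, 4, 10, 12, 14, 8, 6, 4, 10, 12, 14, 8, 6, 4, 10, 12, 14, 8, 6, 4, 10, 12, 14, 8, 6, 4, 0, 5, 7, 9, 15, 13, 11, 5, 7, 9, 15, 13, 11, 5, 7, 9, 15, 13, 11, 5, 7, 9, 15, 13, 11, 5, 7, 9, 15, 13, 11]
def rw81 : List ℕ := [1, 9, 1, 9]
def rw82 : List ℕ := [1, 3, 5, 7, 9, 11, 13, 10, 12, 10, 8, 6, 4, 2, 0, 12, 10, 8, 6, 4, 2, 0, 12, 10, 8, 6, 4, 2, 0, 12, 10, 8, 6, 4, 2, 0, 12, 10, 8, 6, 4, 2, 0, 12, 10, 8, 6, 4, 2, 0, 12, 10, 8, 6, 4, 2, 0, 12, 10, 8, 6, 4, 2, 0, 12, 10, 8, 6, 4, 2, 0, 11, 1, 3, 5, 7, 9, 11, 13, 1, 3, 5, 7, 9, 11, 13, 1, 3, 5, 7, 9, 11, 13, 1, 3, 5, 7, 9, 11, 13, 1, 3, 5, 7, 9, 11, 13, 1, 3, 5, 7, 9, 11, 13, 1, 3, 5, 7, 9, 11, 13, 1, 3, 5,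 7, 9, 11, 13]
def rw83 : List ℕ := [1, 3, 1, 3, 1, 3]
def rw84 : List ℕ := [1, 3, 5, 7, 9, 11, 13, 1, 3, 5, 7, 9, 11, 13, 1, 3, 5, 7, 9, 11, 13, 1, 3, 5, 7, 9, 11, 13, 1, 3, 5, 7, 9, 11, 13, 1, 3, 5, 7, 9, 11, 13, 1, 3, 5, 7, 9, 11, 13, 1, 3, 5, 7, 9, 11, 13, 1, 3, 5, 7, 9, 11, 13, 0, 12, 10, 8, 6, 4, 2, 0, 12, 10, 8, 6, 4, 2, 0, 12, 10, 8, 6, 4, 2, 0, 12, 10, 8, 6, 4, 2, 0, 12, 10, 8, 6, 4, 2, 0, 12, 10, 8, 6, 4, 2, 0, 12, 10, 8, 6, 4, 2, 0, 12, 10, 8, 6, 4, 2, 0, 12, 10, 8, 6, 4, 2, 0, 1]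
def rw85 : List ℕ := [1, 13, 1, 13]
def rw86 : List ℕ := [1, 5, 1, 5]
def rw87 : List ℕ := [1, 5, 14, 4, 0, 2, 10, 12, 14, 4, 0, 2, 10, 12, 14, 4, 0, 2, 10, 12, 14, 4, 0, 2, 10, 12, 14, 4, 0, 2, 10, 12, 14, 15, 15, 13, 11, 3, 1, 5, 15, 13, 11, 3, 1, 5, 15, 13, 11, 3, 1, 5, 15, 13, 11, 3, 1, 5, 15, 13, 11, 3]
def rw88 : List ℕ := [1, 1]
def rw89 : List ℕ := [1, 5, 15, 13, 11, 3, 1, 5, 15, 13, 11, 3, 1, 5, 2, 4, 0, 2, 10, 12, 14, 4, 0, 2, 10, 12, 14, 4, 0, 2, 10, 12, 14, 4, 0, 2, 10, 12, 14, 4, 0, 2, 10, 12, 14, 3, 15, 13, 11, 3, 1, 5, 15, 13, 11, 3, 1, 5, 15, 13, 11, 3]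
def rw90 : List ℕ := [1, 5, 15, 13, 11, 3, 1, 5, 15, 13, 11, 3, 1, 5, 15, 13, 11, 3, 1, 5, 15, 13, 11, 3, 1, 5, 0, 4, 0, 2, 10, 12, 14, 4, 0, 2, 10, 12, 14, 4, 0, 2, 10, 12, 14, 4, 0, 2, 10, 12, 14, 4, 0, 2, 10, 12, 14, 1, 15, 13, 11, 3]
def rw91 : List ℕ := [1, 5, 15, 13, 11, 3, 1, 5, 15, 13, 11, 3, 1, 5, 15, 13, 11, 3, 1, 5, 13, 4, 0, 2, 10, 12, 14, 4, 0, 2, 10, 12, 14, 4, 0, 2, 10, 12, 14, 4, 0, 2, 10, 12, 14, 4, 0, 2, 10, 12, 14, 12, 15, 13, 11, 3, 1, 5, 15, 13, 11, 3]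
def rw92 : List ℕ := [1, 3, 5, 7, 9, 11, 13, 1, 3, 5, 7, 9, 11, 13, 1, 3, 5, 7, 9, 11, 13, 1, 3, 5, 7, 9, 11, 13, 1, 3, 5, 7, 9, 11, 13, 1, 3, 5, 7, 9, 11, 13, 0, 12, 10, 8, 6, 4, 2, 0, 12, 10, 8, 6, 4, 2, 0, 12, 10, 8, 6, 4, 2, 0, 12, 10, 8, 6, 4, 2, 0, 12, 10, 8, 6, 4, 2, 0, 12, 10, 8, 6, 4, 2, 0, 12, 10, 8, 6, 4, 2, 0, 12, 10, 8, 6, 4, 2, 0, 12, 10, 8, 6, 4, 2, 0, 1, 1, 3, 5, 7, 9, 11, 13, 1, 3, 5, 7, 9, 11, 13, 1, 3, 5, 7, 9, 11, 13]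
def rw93 : List ℕ := [1, 3, 5, 7, 9, 11, 13, 1, 3, 5, 7, 9, 11, 13, 1, 3, 5, 7, 9, 11, 13, 1, 3, 5, 7, 9, 11, 13, 1, 3, 5, 7, 9, 11, 13, 1, 3, 5, 7, 9, 11, 13, 4, 12, 10, 8, 6, 4, 2, 0, 12, 10, 8, 6, 4, 2, 0, 12, 10, 8, 6, 4, 2, 0, 12, 10, 8, 6, 4, 2, 0, 12, 10, 8, 6, 4, 2, 0, 12, 10, 8, 6, 4, 2, 0, 12, 10, 8, 6, 4, 2, 0, 12, 10, 8, 6, 4, 2, 0, 12, 10, 8, 6, 4, 2, 0, 5, 1, 3, 5, 7, 9, 11, 13, 1, 3, 5, 7, 9, 11, 13, 1, 3, 5, 7, 9, 11, 13]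
def rw94 : List ℕ := [1, 5, 15, 13, 11, 3, 1, 5, 15, 13, 11, 3, 1, 5, 15, 13, 11, 3, 1, 5, 12, 4, 0, 2, 10, 12, 14, 4, 0, 2, 10, 12, 14, 4, 0, 2, 10, 12, 14, 4, 0, 2, 10, 12, 14, 4, 0, 2, 10, 12, 14, 13, 15, 13, 11, 3, 1, 5, 15, 13, 11, 3]
def rw95 : List ℕ := [1, 3, 5, 7, 9, 11, 13, 0, 12, 10, 8, 6, 4, 2, 0, 12, 10, 8, 6, 4, 2, 0, 12, 10, 8, 6, 4, 2, 0, 12, 10, 8, 6, 4, 2, 0, 12, 10, 8, 6, 4, 2, 0, 12, 10, 8, 6, 4, 2, 0, 12, 10, 8, 6, 4, 2, 0, 12, 10, 8, 6, 4, 2, 0, 12, 10, 8, 6, 4, 2, 0, 1, 1, 3, 5, 7, 9, 11, 13, 1, 3, 5, 7, 9, 11, 13, 1, 3, 5, 7, 9, 11, 13, 1, 3, 5, 7, 9, 11, 13, 1, 3, 5, 7, 9, 11, 13, 1, 3, 5, 7, 9, 11, 13, 1, 3, 5, 7, 9, 11, 13, 1, 3, 5, 7, 9, 11, 13]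
def rw96 : List ℕ := [1, 3, 5, 7, 9, 11, 13, 1, 3, 5, 7, 9, 11, 13, 1, 3, 5, 7, 9, 11, 13, 1, 3, 5, 7, 9, 11, 13, 1, 3, 5, 7, 9, 11, 13, 1, 3, 5, 7, 9, 11, 13, 1, 3, 5, 7, 9, 11, 13, 1, 3, 5, 7, 9, 11, 13, 4, 12, 10, 8, 6, 4, 2, 0, 12, 10, 8, 6, 4, 2, 0, 12, 10, 8, 6, 4, 2, 0, 12, 10, 8, 6, 4, 2, 0, 12, 10, 8, 6, 4, 2, 0, 12, 10, 8, 6, 4, 2, 0, 12, 10, 8, 6, 4, 2, 0, 12, 10, 8, 6, 4, 2, 0, 12, 10, 8, 6, 4, 2, 0, 5, 1, 3, 5, 7, 9, 11, 13]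
def rw97 : List ℕ := [1, 3, 5, 7, 9, 11, 13, 1, 3, 5, 7, 9, 11, 13, 1, 3, 5, 7, 9, 11, 13, 1, 3, 5, 7, 9, 11, 13, 1, 3, 5, 7, 9, 11, 13, 4, 12, 10, 8, 6, 4, 2, 0, 12, 10, 8, 6, 4, 2, 0, 12, 10, 8, 6, 4, 2, 0, 12, 10, 8, 6, 4, 2, 0, 12, 10, 8, 6, 4, 2, 0, 12, 10, 8, 6, 4, 2, 0, 12, 10, 8, 6, 4, 2, 0, 12, 10, 8, 6, 4, 2, 0, 12, 10, 8, 6, 4, 2, 0, 5, 1, 3, 5, 7, 9, 11, 13, 1, 3, 5, 7, 9, 11, 13, 1, 3, 5, 7, 9, 11, 13, 1, 3, 5, 7, 9, 11, 13]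
def rw98 : List ℕ := [1, 5, 12, 4, 0, 2, 10, 12, 14, 4, 0, 2, 10, 12, 14, 4, 0, 2, 10, 12, 14, 4, 0, 2, 10, 12, 14, 4, 0, 2, 10, 12, 14, 13, 15, 13, 11, 3, 1, 5, 15, 13, 11, 3, 1, 5, 15, 13, 11, 3, 1, 5, 15, 13, 11, 3, 1, 5, 15, 13, 11, 3]
def rw99 : List ℕ := [1, 3, 5, 7, 9, 11, 13, 1, 3, 5, 7, 9, 11, 13, 1, 3, 5, 7, 9, 11, 13, 1, 3, 5, 7, 9, 11, 13, 4, 12, 10, 8, 6, 4, 2, 0, 12, 10, 8, 6, 4, 2, 0, 12, 10, 8, 6, 4, 2, 0, 12, 10, 8, 6, 4, 2, 0, 12, 10, 8, 6, 4, 2, 0, 12, 10, 8, 6, 4, 2, 0, 12, 10, 8, 6, 4, 2, 0, 12, 10, 8, 6, 4, 2, 0, 12, 10, 8, 6, 4, 2, 0, 5, 1, 3, 5, 7, 9, 11, 13, 1, 3, 5, 7, 9, 11, 13, 1, 3, 5, 7, 9, 11, 13, 1, 3, 5, 7, 9, 11, 13, 1, 3, 5, 7, 9, 11, 13]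
def rw100 : List ℕ := [1, 5, 15, 13, 11, 3, 1, 5, 8, 4, 0, 2, 10, 12, 14, 4, 0, 2, 10, 12, 14, 4, 0, 2, 10, 12, 14, 4, 0, 2, 10, 12, 14, 4, 0, 2, 10, 12, 14, 9, 15, 13, 11, 3, 1, 5, 15, 13, 11, 3, 1, 5, 15, 13, 11, 3, 1, 5, 15, 13, 11, 3]
def rw101 : List ℕ := [1, 5, 15, 13, 11, 3, 1, 5, 15, 13, 11, 3, 1, 5, 15, 13, 11, 3, 1, 5, 15, 13, 11, 3, 1, 5, 2, 4, 0, 2, 10, 12, 14, 4, 0, 2, 10, 12, 14, 4, 0, 2, 10, 12, 14, 4, 0, 2, 10, 12, 14, 4, 0, 2, 10, 12, 14, 3, 15, 13, 11, 3]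
def rw102 : List ℕ := [1, 3, 5, 7, 9, 11, 13, 1, 3, 5, 7, 9, 11, 13, 0, 12, 10, 8, 6, 4, 2, 0, 12, 10, 8, 6, 4, 2, 0, 12, 10, 8, 6, 4, 2, 0, 12, 10, 8, 6, 4, 2, 0, 12, 10, 8, 6, 4, 2, 0, 12, 10, 8, 6, 4, 2, 0, 12, 10, 8, 6, 4, 2, 0, 12, 10, 8, 6, 4, 2, 0, 12, 10, 8, 6, 4, 2, 0, 1, 1, 3, 5, 7, 9, 11, 13, 1, 3, 5, 7, 9, 11, 13, 1, 3, 5, 7, 9, 11, 13, 1, 3, 5, 7, 9, 11, 13, 1, 3, 5, 7, 9, 11, 13, 1, 3, 5, 7, 9, 11, 13, 1, 3, 5, 7, 9, 11, 13]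
def rw103 : List ℕ := [2, 2]
def rw104 : List ℕ := [2, 0, 2, 0, 2, 0]
def rw105 : List ℕ := [2, 8, 2, 8]
def rw106 : List ℕ := [2, 12, 2, 12]
def rw107 : List ℕ := [2, 6, 2, 6]
def rw108 : List ℕ := [2, 14, 2, 14]
def rw109 : List ℕ := [2, 0, 2, 0, 2, 0]
def rw110 : List ℕ := [2, 4, 2, 4, 2, 4]
def rw111 : List ℕ := [2, 0, 2, 0, 2, 0]
def rw112 : List ℕ := [2, 10, 2, 10, 2, 10]
def rw113 : List ℕ := [2, 4, 2, 4, 2, 4]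
def rw114 : List ℕ := [2, 10, 12, 14, 7, 15, 13, 11, 3, 1, 5, 15, 13, 11, 3, 1, 5, 15, 13, 11, 3, 1, 5, 15, 13, 11, 3, 1, 5, 15, 13, 11, 3, 1, 5, 6, 4, 0, 2, 10, 12, 14, 4, 0, 2, 10, 12, 14, 4, 0, 2, 10, 12, 14, 4, 0, 2, 10, 12, 14, 4, 0]
def rw115 : List ℕ := [2, 10, 12, 14, 3, 15, 13, 11, 3, 1, 5, 15, 13, 11, 3, 1, 5, 15, 13, 11, 3, 1, 5, 15, 13, 11, 3, 1, 5, 15, 13, 11, 3, 1, 5, 2, 4, 0, 2, 10, 12, 14, 4, 0, 2, 10, 12, 14, 4, 0, 2, 10, 12, 14, 4, 0, 2, 10, 12, 14, 4, 0]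
def rw116 : List ℕ := [2, 10, 2, 10, 2, 10]
def rw117 : List ℕ := [2, 4, 6, 14, 12, 10, 12, 14, 6, 4, 2, 4, 6, 14, 12, 10, 12, 14, 6, 4, 2, 15, 3, 5, 7, 15, 13, 11, 13, 15, 7, 5, 3, 5, 7, 15, 13, 11, 13, 15, 7, 5, 3, 5, 7, 15, 13, 11, 13, 15, 7, 5, 14, 4, 6, 14, 12, 10, 12, 14, 6, 4]
def rw118 : List ℕ := [2, 4, 6, 14, 12, 10, 12, 14, 6, 4, 2, 5, 3, 5, 7, 15, 13, 11, 13, 15, 7, 5, 3, 5, 7, 15, 13, 11, 13, 15, 7, 5, 3, 5, 7, 15, 13, 11, 13, 15, 7, 5, 4, 4, 6, 14, 12, 10, 12, 14, 6, 4, 2, 4, 6, 14, 12, 10, 12, 14, 6, 4]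
def rw119 : List ℕ := [2, 8, 2, 8]
def rw120 : List ℕ := [2, 11, 3, 5, 7, 15, 13, 11, 13, 15, 7, 5, 3, 5, 7, 15, 13, 11, 13, 15, 7, 5, 3, 5, 7, 15, 13, 11, 13, 15, 7, 5, 10, 4, 6, 14, 12, 10, 12, 14, 6, 4, 2, 4, 6, 14, 12, 10, 12, 14, 6, 4, 2, 4, 6, 14, 12, 10, 12, 14, 6, 4]
def rw121 : List ℕ := [2, 4, 2, 4, 2, 4]
def rw122 : List ℕ := [2, 12, 2, 12]
def rw123 : List ℕ := [2, 10, 2, 10, 2, 10]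
def rw124 : List ℕ := [2, 10, 12, 14, 6, 4, 2, 10, 12, 14, 6, 4, 2, 10, 12, 14, 6, 4, 2, 1, 3, 5, 7, 15, 13, 11, 3, 5, 7, 15, 13, 11, 3, 5, 7, 15, 13, 11, 3, 5, 7, 15, 13, 11, 3, 5, 7, 15, 13, 11, 0, 10, 12, 14, 6, 4, 2, 10, 12, 14, 6, 4]
def rw125 : List ℕ := [2, 15, 3, 5, 7, 15, 13, 11, 13, 15, 7, 5, 3, 5, 7, 15, 13, 11, 13, 15, 7, 5, 3, 5, 7, 15, 13, 11, 13, 15, 7, 5, 14, 4, 6, 14, 12, 10, 12, 14, 6, 4, 2, 4, 6, 14, 12, 10, 12, 14, 6, 4, 2, 4, 6, 14, 12, 10, 12, 14, 6, 4]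
def rw126 : List ℕ := [2, 6, 2, 6]
def rw127 : List ℕ := [2, 10, 12, 14, 4, 0, 2, 10, 12, 14, 3, 15, 13, 11, 3, 1, 5, 15, 13, 11, 3, 1, 5, 15, 13, 11, 3, 1, 5, 15, 13, 11, 3, 1, 5, 15, 13, 11, 3, 1, 5, 2, 4, 0, 2, 10, 12, 14, 4, 0, 2, 10, 12, 14, 4, 0, 2, 10, 12, 14, 4, 0]
def rw128 : List ℕ := [2, 4, 6, 14, 12, 10, 12, 14, 6, 4, 2, 1, 3, 5, 7, 15, 13, 11, 13, 15, 7, 5, 3, 5, 7, 15, 13, 11, 13, 15, 7, 5, 3, 5, 7, 15, 13, 11, 13, 15, 7, 5, 0, 4, 6, 14, 12, 10, 12, 14, 6, 4, 2, 4, 6, 14, 12, 10, 12, 14, 6, 4]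
def rw129 : List ℕ := [2, 14, 2, 14]
def rw130 : List ℕ := [2, 10, 12, 14, 4, 0, 2, 10, 12, 14, 4, 0, 2, 10, 12, 14, 7, 15, 13, 11, 3, 1, 5, 15, 13, 11, 3, 1, 5, 15, 13, 11, 3, 1, 5, 15, 13, 11, 3, 1, 5, 15, 13, 11, 3, 1, 5, 6, 4, 0, 2, 10, 12, 14, 4, 0, 2, 10, 12, 14, 4, 0]
def rw131 : List ℕ := [2, 7, 3, 5, 7, 15, 13, 11, 13, 15, 7, 5, 3, 5, 7, 15, 13, 11, 13, 15, 7, 5, 3, 5, 7, 15, 13, 11, 13, 15, 7, 5, 6, 4, 6, 14, 12, 10, 12, 14, 6, 4, 2, 4, 6, 14, 12, 10, 12, 14, 6, 4, 2, 4, 6, 14, 12, 10, 12, 14, 6, 4]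
def rw132 : List ℕ := [2, 4, 6, 14, 12, 10, 12, 14, 6, 4, 2, 4, 6, 14, 12, 10, 12, 14, 6, 4, 2, 7, 3, 5, 7, 15, 13, 11, 13, 15, 7, 5, 3, 5, 7, 15, 13, 11, 13, 15, 7, 5, 3, 5, 7, 15, 13, 11, 13, 15, 7, 5, 6, 4, 6, 14, 12, 10, 12, 14, 6, 4]
def rw133 : List ℕ := [2, 10, 12, 14, 5, 15, 13, 11, 3, 1, 5, 15, 13, 11, 3, 1, 5, 15, 13, 11, 3, 1, 5, 15, 13, 11, 3, 1, 5, 15, 13, 11, 3, 1, 5, 4, 4, 0, 2, 10, 12, 14, 4, 0, 2, 10, 12, 14, 4, 0, 2, 10, 12, 14, 4, 0, 2, 10, 12, 14, 4, 0]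
def rw134 : List ℕ := [2, 4, 6, 14, 12, 10, 12, 14, 6, 4, 2, 4, 6, 14, 12, 10, 12, 14, 6, 4, 2, 13, 3, 5, 7, 15, 13, 11, 13, 15, 7, 5, 3, 5, 7, 15, 13, 11, 13, 15, 7, 5, 3, 5, 7, 15, 13, 11, 13, 15, 7, 5, 12, 4, 6, 14, 12, 10, 12, 14, 6, 4]
def rw135 : List ℕ := [2, 4, 6, 14, 12, 10, 12, 14, 6, 4, 2, 4, 6, 14, 12, 10, 12, 14, 6, 4, 2, 11, 3, 5, 7, 15, 13, 11, 13, 15, 7, 5, 3, 5, 7, 15, 13, 11, 13, 15, 7, 5, 3, 5, 7, 15, 13, 11, 13, 15, 7, 5, 10, 4, 6, 14, 12, 10, 12, 14, 6, 4]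
def rw136 : List ℕ := [2, 4, 6, 14, 12, 10, 12, 14, 6, 4, 2, 4, 6, 14, 12, 10, 12, 14, 6, 4, 2, 9, 3, 5, 7, 15, 13, 11, 13, 15, 7, 5, 3, 5, 7, 15, 13, 11, 13, 15, 7, 5, 3, 5, 7, 15, 13, 11, 13, 15, 7, 5, 8, 4, 6, 14, 12, 10, 12, 14, 6, 4]
def rw137 : List ℕ := [2, 4, 6, 14, 12, 10, 12, 14, 6, 4, 2, 11, 3, 5, 7, 15, 13, 11, 13, 15, 7, 5, 3, 5, 7, 15, 13, 11, 13, 15, 7, 5, 3, 5, 7, 15, 13, 11, 13, 15, 7, 5, 10, 4, 6, 14, 12, 10, 12, 14, 6, 4, 2, 4, 6, 14, 12, 10, 12, 14, 6, 4]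
def rw138 : List ℕ := [2, 4, 6, 14, 12, 10, 12, 14, 6, 4, 2, 4, 6, 14, 12, 10, 12, 14, 6, 4, 2, 3, 3, 5, 7, 15, 13, 11, 13, 15, 7, 5, 3, 5, 7, 15, 13, 11, 13, 15, 7, 5, 3, 5, 7, 15, 13, 11, 13, 15, 7, 5, 2, 4, 6, 14, 12, 10, 12, 14, 6, 4]
def rw139 : List ℕ := [2, 4, 6, 14, 12, 10, 12, 14, 6, 4, 2, 13, 3, 5, 7, 15, 13, 11, 13, 15, 7, 5, 3, 5, 7, 15, 13, 11, 13, 15, 7, 5, 3, 5, 7, 15, 13, 11, 13, 15, 7, 5, 12, 4, 6, 14, 12, 10, 12, 14, 6, 4, 2, 4, 6, 14, 12, 10, 12, 14, 6, 4]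
def rw140 : List ℕ := [2, 5, 3, 5, 7, 15, 13, 11, 3, 5, 7, 15, 13, 11, 3, 5, 7, 15, 13, 11, 3, 5, 7, 15, 13, 11, 3, 5, 7, 15, 13, 11, 4, 10, 12, 14, 6, 4, 2, 10, 12, 14, 6, 4, 2, 10, 12, 14, 6, 4, 2, 10, 12, 14, 6, 4, 2, 10, 12, 14, 6, 4]
def rw141 : List ℕ := [2, 2, 3, 5, 7, 15, 13, 11, 3, 5, 7, 15, 13, 11, 3, 5, 7, 15, 13, 11, 3, 5, 7, 15, 13, 11, 3, 5, 7, 15, 13, 11, 3, 10, 12, 14, 6, 4, 2, 10, 12, 14, 6, 4, 2, 10, 12, 14, 6, 4, 2, 10, 12, 14, 6, 4, 2, 10, 12, 14, 6, 4]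
def rw142 : List ℕ := [2, 13, 3, 5, 7, 15, 13, 11, 13, 15, 7, 5, 3, 5, 7, 15, 13, 11, 13, 15, 7, 5, 3, 5, 7, 15, 13, 11, 13, 15, 7, 5, 12, 4, 6, 14, 12, 10, 12, 14, 6, 4, 2, 4, 6, 14, 12, 10, 12, 14, 6, 4, 2, 4, 6, 14, 12, 10, 12, 14, 6, 4]
def rw143 : List ℕ := [2, 4, 6, 14, 12, 10, 12, 14, 6, 4, 2, 4, 6, 14, 12, 10, 12, 14, 6, 4, 2, 5, 3, 5, 7, 15, 13, 11, 13, 15, 7, 5, 3, 5, 7, 15, 13, 11, 13, 15, 7, 5, 3, 5, 7, 15, 13, 11, 13, 15, 7, 5, 4, 4, 6, 14, 12, 10, 12, 14, 6, 4]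
def rw144 : List ℕ := [2, 4, 6, 14, 12, 10, 12, 14, 6, 4, 2, 4, 6, 14, 12, 10, 12, 14, 6, 4, 2, 1, 3, 5, 7, 15, 13, 11, 13, 15, 7, 5, 3, 5, 7, 15, 13, 11, 13, 15, 7, 5, 3, 5, 7, 15, 13, 11, 13, 15, 7, 5, 0, 4, 6, 14, 12, 10, 12, 14, 6, 4]
def rw145 : List ℕ := [2, 8, 3, 5, 7, 15, 13, 11, 13, 15, 7, 5, 3, 5, 7, 15, 13, 11, 13, 15, 7, 5, 3, 5, 7, 15, 13, 11, 13, 15, 7, 5, 9, 4, 6, 14, 12, 10, 12, 14, 6, 4, 2, 4, 6, 14, 12, 10, 12, 14, 6, 4, 2, 4, 6, 14, 12, 10, 12, 14, 6, 4]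
def rw146 : List ℕ := [2, 0, 12, 10, 8, 6, 4, 2, 0, 12, 10, 8, 6, 4, 2, 0, 12, 10, 8, 6, 4, 2, 0, 12, 10, 8, 6, 4, 2, 0, 12, 10, 8, 6, 4, 2, 0, 12, 10, 8, 6, 4, 2, 0, 12, 10, 8, 6, 4, 2, 0, 1, 1, 3, 5, 7, 9, 11, 13, 1, 3, 5, 7, 9, 11, 13, 1, 3, 5, 7, 9, 11, 13, 1, 3, 5, 7, 9, 11, 13, 1, 3, 5, 7, 9, 11, 13, 1, 3, 5, 7, 9, 11, 13, 1, 3, 5, 7, 9, 11, 13, 1, 3, 5, 7, 9, 11, 13, 1, 3, 5, 7, 9, 11, 13, 0, 12, 10, 8, 6, 4, 2, 0, 12, 10, 8, 6, 4]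
def rw147 : List ℕ := [2, 6, 3, 5, 7, 15, 13, 11, 3, 5, 7, 15, 13, 11, 3, 5, 7, 15, 13, 11, 3, 5, 7, 15, 13, 11, 3, 5, 7, 15, 13, 11, 7, 10, 12, 14, 6, 4, 2, 10, 12, 14, 6, 4, 2, 10, 12, 14, 6, 4, 2, 10, 12, 14, 6, 4, 2, 10, 12, 14, 6, 4]
def rw148 : List ℕ := [2, 4, 6, 14, 12, 10, 12, 14, 6, 4, 2, 15, 3, 5, 7, 15, 13, 11, 13, 15, 7, 5, 3, 5, 7, 15, 13, 11, 13, 15, 7, 5, 3, 5, 7, 15, 13, 11, 13, 15, 7, 5, 14, 4, 6, 14, 12, 10, 12, 14, 6, 4, 2, 4, 6, 14, 12, 10, 12, 14, 6, 4]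
def rw149 : List ℕ := [2, 10, 12, 14, 6, 4, 2, 3, 3, 5, 7, 15, 13, 11, 3, 5, 7, 15, 13, 11, 3, 5, 7, 15, 13, 11, 3, 5, 7, 15, 13, 11, 3, 5, 7, 15, 13, 11, 2, 10, 12, 14, 6, 4, 2, 10, 12, 14, 6, 4, 2, 10, 12, 14, 6, 4, 2, 10, 12, 14, 6, 4]
def rw150 : List ℕ := [2, 5, 3, 5, 7, 15, 13, 11, 13, 15, 7, 5, 3, 5, 7, 15, 13, 11, 13, 15, 7, 5, 3, 5, 7, 15, 13, 11, 13, 15, 7, 5, 4, 4, 6, 14, 12, 10, 12, 14, 6, 4, 2, 4, 6, 14, 12, 10, 12, 14, 6, 4, 2, 4, 6, 14, 12, 10, 12, 14, 6, 4]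
def rw151 : List ℕ := [2, 10, 12, 14, 4, 0, 2, 10, 12, 14, 4, 0, 2, 10, 12, 14, 4, 0, 2, 10, 12, 14, 4, 0, 2, 10, 12, 14, 15, 15, 13, 11, 3, 1, 5, 15, 13, 11, 3, 1, 5, 15, 13, 11, 3, 1, 5, 15, 13, 11, 3, 1, 5, 15, 13, 11, 3, 1, 5, 14, 4, 0]
def rw152 : List ℕ := [2, 10, 12, 14, 6, 4, 2, 10, 12, 14, 6, 4, 2, 10, 12, 14, 6, 4, 2, 10, 12, 14, 6, 4, 2, 3, 3, 5, 7, 15, 13, 11, 3, 5, 7, 15, 13, 11, 3, 5, 7, 15, 13, 11, 3, 5, 7, 15, 13, 11, 3, 5, 7, 15, 13, 11, 2, 10, 12, 14, 6, 4]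
def rw153 : List ℕ := [2, 7, 3, 5, 7, 15, 13, 11, 3, 5, 7, 15, 13, 11, 3, 5, 7, 15, 13, 11, 3, 5, 7, 15, 13, 11, 3, 5, 7, 15, 13, 11, 6, 10, 12, 14, 6, 4, 2, 10, 12, 14, 6, 4, 2, 10, 12, 14, 6, 4, 2, 10, 12, 14, 6, 4, 2, 10, 12, 14, 6, 4]
def rw154 : List ℕ := [2, 1, 3, 5, 7, 15, 13, 11, 3, 5, 7, 15, 13, 11, 3, 5, 7, 15, 13, 11, 3, 5, 7, 15, 13, 11, 3, 5, 7, 15, 13, 11, 0, 10, 12, 14, 6, 4, 2, 10, 12, 14, 6, 4, 2, 10, 12, 14, 6, 4, 2, 10, 12, 14, 6, 4, 2, 10, 12, 14, 6, 4]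
def rw155 : List ℕ := [2, 10, 12, 14, 4, 0, 2, 10, 12, 14, 4, 0, 2, 10, 12, 14, 4, 0, 2, 10, 12, 14, 3, 15, 13, 11, 3, 1, 5, 15, 13, 11, 3, 1, 5, 15, 13, 11, 3, 1, 5, 15, 13, 11, 3, 1, 5, 15, 13, 11, 3, 1, 5, 2, 4, 0, 2, 10, 12, 14, 4, 0]
def rw156 : List ℕ := [2, 5, 7, 9, 15, 13, 11, 5, 7, 9, 15, 13, 11, 5, 7, 9, 15, 13, 11, 5, 7, 9, 15, 13, 11, 5, 7, 9, 15, 13, 11, 3, 10, 12, 14, 8, 6, 4, 10, 12, 14, 8, 6, 4, 10, 12, 14, 8, 6, 4, 10, 12, 14, 8, 6, 4, 10, 12, 14, 8, 6, 4]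
def rw157 : List ℕ := [2, 10, 12, 14, 6, 4, 2, 10, 12, 14, 6, 4, 2, 10, 12, 14, 6, 4, 2, 10, 12, 14, 6, 4, 2, 15, 3, 5, 7, 15, 13, 11, 3, 5, 7, 15, 13, 11, 3, 5, 7, 15, 13, 11, 3, 5, 7, 15, 13, 11, 3, 5, 7, 15, 13, 11, 14, 10, 12, 14, 6, 4]
def rw158 : List ℕ := [2, 0, 12, 10, 8, 6, 4, 2, 0, 12, 10, 8, 6, 4, 2, 0, 12, 10, 8, 6, 4, 2, 0, 12, 10, 8, 6, 4, 2, 0, 1, 1, 3, 5, 7, 9, 11, 13, 1, 3, 5, 7, 9, 11, 13, 1, 3, 5, 7, 9, 11, 13, 1, 3, 5, 7, 9, 11, 13, 1, 3, 5, 7, 9, 11, 13, 1, 3, 5, 7, 9, 11, 13, 1, 3, 5, 7, 9, 11, 13, 1, 3, 5, 7, 9, 11, 13, 1, 3, 5, 7, 9, 11, 13, 0, 12, 10, 8, 6, 4, 2, 0, 12, 10, 8, 6, 4, 2, 0, 12, 10, 8, 6, 4, 2, 0, 12, 10, 8, 6, 4, 2, 0, 12, 10, 8, 6, 4]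
def rw159 : List ℕ := [2, 15, 13, 11, 3, 1, 5, 15, 13, 11, 3, 1, 5, 15, 13, 11, 3, 1, 5, 15, 13, 11, 3, 1, 5, 15, 13, 11, 3, 1, 5, 3, 4, 0, 2, 10, 12, 14, 4, 0, 2, 10, 12, 14, 4, 0, 2, 10, 12, 14, 4, 0, 2, 10, 12, 14, 4, 0, 2, 10, 12, 14]
def rw160 : List ℕ := [2, 9, 3, 5, 7, 15, 13, 11, 13, 15, 7, 5, 3, 5, 7, 15, 13, 11, 13, 15, 7, 5, 3, 5, 7, 15, 13, 11, 13, 15, 7, 5, 8, 4, 6, 14, 12, 10, 12, 14, 6, 4, 2, 4, 6, 14, 12, 10, 12, 14, 6, 4, 2, 4, 6, 14, 12, 10, 12, 14, 6, 4]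
def rw161 : List ℕ := [2, 10, 12, 14, 6, 4, 2, 10, 12, 14, 6, 4, 2, 1, 3, 5, 7, 15, 13, 11, 3, 5, 7, 15, 13, 11, 3, 5, 7, 15, 13, 11, 3, 5, 7, 15, 13, 11, 3, 5, 7, 15, 13, 11, 0, 10, 12, 14, 6, 4, 2, 10, 12, 14, 6, 4, 2, 10, 12, 14, 6, 4]
def rw162 : List ℕ := [2, 10, 12, 14, 6, 4, 2, 10, 12, 14, 6, 4, 2, 3, 3, 5, 7, 15, 13, 11, 3, 5, 7, 15, 13, 11, 3, 5, 7, 15, 13, 11, 3, 5, 7, 15, 13, 11, 3, 5, 7, 15, 13, 11, 2, 10, 12, 14, 6, 4, 2, 10, 12, 14, 6, 4, 2, 10, 12, 14, 6, 4]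
def rw163 : List ℕ := [2, 4, 6, 14, 12, 10, 12, 14, 6, 4, 2, 9, 3, 5, 7, 15, 13, 11, 13, 15, 7, 5, 3, 5, 7, 15, 13, 11, 13, 15, 7, 5, 3, 5, 7, 15, 13, 11, 13, 15, 7, 5, 8, 4, 6, 14, 12, 10, 12, 14, 6, 4, 2, 4, 6, 14, 12, 10, 12, 14, 6, 4]
def rw164 : List ℕ := [2, 10, 12, 14, 4, 0, 2, 10, 12, 14, 1, 15, 13, 11, 3, 1, 5, 15, 13, 11, 3, 1, 5, 15, 13, 11, 3, 1, 5, 15, 13, 11, 3, 1, 5, 15, 13, 11, 3, 1, 5, 0, 4, 0, 2, 10, 12, 14, 4, 0, 2, 10, 12, 14, 4, 0, 2, 10, 12, 14, 4, 0]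
def rw165 : List ℕ := [2, 10, 3, 5, 7, 15, 13, 11, 13, 15, 7, 5, 3, 5, 7, 15, 13, 11, 13, 15, 7, 5, 3, 5, 7, 15, 13, 11, 13, 15, 7, 5, 11, 4, 6, 14, 12, 10, 12, 14, 6, 4, 2, 4, 6, 14, 12, 10, 12, 14, 6, 4, 2, 4, 6, 14, 12, 10, 12, 14, 6, 4]
def rw166 : List ℕ := [2, 0, 12, 10, 8, 6, 4, 2, 0, 12, 10, 8, 6, 4, 2, 0, 12, 10, 8, 6, 4, 2, 0, 12, 10, 8, 6, 4, 2, 0, 12, 10, 8, 6, 4, 2, 0, 5, 1, 3, 5, 7, 9, 11, 13, 1, 3, 5, 7, 9, 11, 13, 1, 3, 5, 7, 9, 11, 13, 1, 3, 5, 7, 9, 11, 13, 1, 3, 5, 7, 9, 11, 13, 1, 3, 5, 7, 9, 11, 13, 1, 3, 5, 7, 9, 11, 13, 1, 3, 5, 7, 9, 11, 13, 1, 3, 5, 7, 9, 11, 13, 4, 12, 10, 8, 6, 4, 2, 0, 12, 10, 8, 6, 4, 2, 0, 12, 10, 8, 6, 4, 2, 0, 12, 10, 8, 6, 4]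
def rw167 : List ℕ := [2, 10, 12, 14, 4, 0, 2, 10, 12, 14, 5, 15, 13, 11, 3, 1, 5, 15, 13, 11, 3, 1, 5, 15, 13, 11, 3, 1, 5, 15, 13, 11, 3, 1, 5, 15, 13, 11, 3, 1, 5, 4, 4, 0, 2, 10, 12, 14, 4, 0, 2, 10, 12, 14, 4, 0, 2, 10, 12, 14, 4, 0]
def rw168 : List ℕ := [2, 0, 12, 10, 8, 6, 4, 2, 0, 1, 1, 3, 5, 7, 9, 11, 13, 1, 3, 5, 7, 9, 11, 13, 1, 3, 5, 7, 9, 11, 13, 1, 3, 5, 7, 9, 11, 13, 1, 3, 5, 7, 9, 11, 13, 1, 3, 5, 7, 9, 11, 13, 1, 3, 5, 7, 9, 11, 13, 1, 3, 5, 7, 9, 11, 13, 1, 3, 5, 7, 9, 11, 13, 0, 12, 10, 8, 6, 4, 2, 0, 12, 10, 8, 6, 4, 2, 0, 12, 10, 8, 6, 4, 2, 0, 12, 10, 8, 6, 4, 2, 0, 12, 10, 8, 6, 4, 2, 0, 12, 10, 8, 6, 4, 2, 0, 12, 10, 8, 6, 4, 2, 0, 12, 10, 8, 6, 4]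
def rw169 : List ℕ := [2, 4, 6, 14, 12, 10, 12, 14, 6, 4, 2, 7, 3, 5, 7, 15, 13, 11, 13, 15, 7, 5, 3, 5, 7, 15, 13, 11, 13, 15, 7, 5, 3, 5, 7, 15, 13, 11, 13, 15, 7, 5, 6, 4, 6, 14, 12, 10, 12, 14, 6, 4, 2, 4, 6, 14, 12, 10, 12, 14, 6, 4]
def rw170 : List ℕ := [2, 10, 12, 14, 6, 4, 2, 10, 12, 14, 6, 4, 2, 10, 12, 14, 6, 4, 2, 10, 12, 14, 6, 4, 2, 11, 3, 5, 7, 15, 13, 11, 3, 5, 7, 15, 13, 11, 3, 5, 7, 15, 13, 11, 3, 5, 7, 15, 13, 11, 3, 5, 7, 15, 13, 11, 10, 10, 12, 14, 6, 4]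
def rw171 : List ℕ := [2, 10, 12, 14, 6, 4, 2, 10, 12, 14, 6, 4, 2, 10, 12, 14, 6, 4, 2, 10, 12, 14, 6, 4, 2, 9, 3, 5, 7, 15, 13, 11, 3, 5, 7, 15, 13, 11, 3, 5, 7, 15, 13, 11, 3, 5, 7, 15, 13, 11, 3, 5, 7, 15, 13, 11, 8, 10, 12, 14, 6, 4]
def rw172 : List ℕ := [2, 10, 12, 14, 4, 0, 2, 10, 12, 14, 4, 0, 2, 10, 12, 14, 4, 0, 2, 10, 12, 14, 5, 15, 13, 11, 3, 1, 5, 15, 13, 11, 3, 1, 5, 15, 13, 11, 3, 1, 5, 15, 13, 11, 3, 1, 5, 15, 13, 11, 3, 1, 5, 4, 4, 0, 2, 10, 12, 14, 4, 0]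
def rw173 : List ℕ := [2, 10, 12, 14, 6, 4, 2, 10, 12, 14, 6, 4, 2, 5, 3, 5, 7, 15, 13, 11, 3, 5, 7, 15, 13, 11, 3, 5, 7, 15, 13, 11, 3, 5, 7, 15, 13, 11, 3, 5, 7, 15, 13, 11, 4, 10, 12, 14, 6, 4, 2, 10, 12, 14, 6, 4, 2, 10, 12, 14, 6, 4]
def rw174 : List ℕ := [2, 0, 3, 5, 7, 15, 13, 11, 3, 5, 7, 15, 13, 11, 3, 5, 7, 15, 13, 11, 3, 5, 7, 15, 13, 11, 3, 5, 7, 15, 13, 11, 1, 10, 12, 14, 6, 4, 2, 10, 12, 14, 6, 4, 2, 10, 12, 14, 6, 4, 2, 10, 12, 14, 6, 4, 2, 10, 12, 14, 6, 4]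
def rw175 : List ℕ := [2, 0, 12, 10, 8, 6, 4, 2, 0, 12, 10, 8, 6, 4, 2, 0, 12, 10, 8, 6, 4, 2, 0, 12, 10, 8, 6, 4, 2, 0, 5, 1, 3, 5, 7, 9, 11, 13, 1, 3, 5, 7, 9, 11, 13, 1, 3, 5, 7, 9, 11, 13, 1, 3, 5, 7, 9, 11, 13, 1, 3, 5, 7, 9, 11, 13, 1, 3, 5, 7, 9, 11, 13, 1, 3, 5, 7, 9, 11, 13, 1, 3, 5, 7, 9, 11, 13, 1, 3, 5, 7, 9, 11, 13, 4, 12, 10, 8, 6, 4, 2, 0, 12, 10, 8, 6, 4, 2, 0, 12, 10, 8, 6, 4, 2, 0, 12, 10, 8, 6, 4, 2, 0, 12, 10, 8, 6, 4]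
def rw176 : List ℕ := [2, 10, 12, 14, 6, 4, 2, 9, 3, 5, 7, 15, 13, 11, 3, 5, 7, 15, 13, 11, 3, 5, 7, 15, 13, 11, 3, 5, 7, 15, 13, 11, 3, 5, 7, 15, 13, 11, 8, 10, 12, 14, 6, 4, 2, 10, 12, 14, 6, 4, 2, 10, 12, 14, 6, 4, 2, 10, 12, 14, 6, 4]
def rw177 : List ℕ := [2, 0, 3, 5, 7, 15, 13, 11, 13, 15, 7, 5, 3, 5, 7, 15, 13, 11, 13, 15, 7, 5, 3, 5, 7, 15, 13, 11, 13, 15, 7, 5, 1, 4, 6, 14, 12, 10, 12, 14, 6, 4, 2, 4, 6, 14, 12, 10, 12, 14, 6, 4, 2, 4, 6, 14, 12, 10, 12, 14, 6, 4]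
def rw178 : List ℕ := [2, 10, 12, 14, 6, 4, 2, 7, 3, 5, 7, 15, 13, 11, 3, 5, 7, 15, 13, 11, 3, 5, 7, 15, 13, 11, 3, 5, 7, 15, 13, 11, 3, 5, 7, 15, 13, 11, 6, 10, 12, 14, 6, 4, 2, 10, 12, 14, 6, 4, 2, 10, 12, 14, 6, 4, 2, 10, 12, 14, 6, 4]
def rw179 : List ℕ := [2, 1, 3, 5, 7, 15, 13, 11, 13, 15, 7, 5, 3, 5, 7, 15, 13, 11, 13, 15, 7, 5, 3, 5, 7, 15, 13, 11, 13, 15, 7, 5, 0, 4, 6, 14, 12, 10, 12, 14, 6, 4, 2, 4, 6, 14, 12, 10, 12, 14, 6, 4, 2, 4, 6, 14, 12, 10, 12, 14, 6, 4]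
def rw180 : List ℕ := [2, 10, 12, 14, 4, 0, 2, 10, 12, 14, 4, 0, 2, 10, 12, 14, 1, 15, 13, 11, 3, 1, 5, 15, 13, 11, 3, 1, 5, 15, 13, 11, 3, 1, 5, 15, 13, 11, 3, 1, 5, 15, 13, 11, 3, 1, 5, 0, 4, 0, 2, 10, 12, 14, 4, 0, 2, 10, 12, 14, 4, 0]
def rw181 : List ℕ := [2, 10, 12, 14, 4, 0, 2, 10, 12, 14, 4, 0, 2, 10, 12, 14, 3, 15, 13, 11, 3, 1, 5, 15, 13, 11, 3, 1, 5, 15, 13, 11, 3, 1, 5, 15, 13, 11, 3, 1, 5, 15, 13, 11, 3, 1, 5, 2, 4, 0, 2, 10, 12, 14, 4, 0, 2, 10, 12, 14, 4, 0]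
def rw182 : List ℕ := [2, 0, 11, 1, 3, 5, 7, 9, 11, 13, 1, 3, 5, 7, 9, 11, 13, 1, 3, 5, 7, 9, 11, 13, 1, 3, 5, 7, 9, 11, 13, 1, 3, 5, 7, 9, 11, 13, 1, 3, 5, 7, 9, 11, 13, 1, 3, 5, 7, 9, 11, 13, 1, 3, 5, 7, 9, 11, 13, 1, 3, 5, 7, 9, 11, 13, 10, 12, 10, 8, 6, 4, 2, 0, 12, 10, 8, 6, 4, 2, 0, 12, 10, 8, 6, 4, 2, 0, 12, 10, 8, 6, 4, 2, 0, 12, 10, 8, 6, 4, 2, 0, 12, 10, 8, 6, 4, 2, 0, 12, 10, 8, 6, 4, 2, 0, 12, 10, 8, 6, 4, 2, 0, 12, 10, 8, 6, 4]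
def rw183 : List ℕ := [2, 4, 0, 2, 10, 12, 14, 4, 0, 2, 10, 12, 14, 4, 0, 2, 10, 12, 14, 4, 0, 2, 10, 12, 14, 4, 0, 2, 10, 12, 14, 3, 15, 13, 11, 3, 1, 5, 15, 13, 11, 3, 1, 5, 15, 13, 11, 3, 1, 5, 15, 13, 11, 3, 1, 5, 15, 13, 11, 3, 1, 5]
def rw184 : List ℕ := [2, 0, 5, 1, 3, 5, 7, 9, 11, 13, 1, 3, 5, 7, 9, 11, 13, 1, 3, 5, 7, 9, 11, 13, 1, 3, 5, 7, 9, 11, 13, 1, 3, 5, 7, 9, 11, 13, 1, 3, 5, 7, 9, 11, 13, 1, 3, 5, 7, 9, 11, 13, 1, 3, 5, 7, 9, 11, 13, 1, 3, 5, 7, 9, 11, 13, 4, 12, 10, 8, 6, 4, 2, 0, 12, 10, 8, 6, 4, 2, 0, 12, 10, 8, 6, 4, 2, 0, 12, 10, 8, 6, 4, 2, 0, 12, 10, 8, 6, 4, 2, 0, 12, 10, 8, 6, 4, 2, 0, 12, 10, 8, 6, 4, 2, 0, 12, 10, 8, 6, 4, 2, 0, 12, 10, 8, 6, 4]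
def rw185 : List ℕ := [2, 10, 12, 14, 6, 4, 2, 10, 12, 14, 6, 4, 2, 10, 12, 14, 6, 4, 2, 10, 12, 14, 6, 4, 2, 7, 3, 5, 7, 15, 13, 11, 3, 5, 7, 15, 13, 11, 3, 5, 7, 15, 13, 11, 3, 5, 7, 15, 13, 11, 3, 5, 7, 15, 13, 11, 6, 10, 12, 14, 6, 4]
def rw186 : List ℕ := [2, 0, 12, 10, 8, 6, 4, 2, 0, 12, 10, 8, 6, 4, 2, 0, 12, 10, 8, 6, 4, 2, 0, 12, 10, 8, 6, 4, 2, 0, 12, 10, 8, 6, 4, 2, 0, 1, 1, 3, 5, 7, 9, 11, 13, 1, 3, 5, 7, 9, 11, 13, 1, 3, 5, 7, 9, 11, 13, 1, 3, 5, 7, 9, 11, 13, 1, 3, 5, 7, 9, 11, 13, 1, 3, 5, 7, 9, 11, 13, 1, 3, 5, 7, 9, 11, 13, 1, 3, 5, 7, 9, 11, 13, 1, 3, 5, 7, 9, 11, 13, 0, 12, 10, 8, 6, 4, 2, 0, 12, 10, 8, 6, 4, 2, 0, 12, 10, 8, 6, 4, 2, 0, 12, 10, 8, 6, 4]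
def rw187 : List ℕ := [2, 10, 12, 14, 4, 0, 2, 10, 12, 14, 7, 15, 13, 11, 3, 1, 5, 15, 13, 11, 3, 1, 5, 15, 13, 11, 3, 1, 5, 15, 13, 11, 3, 1, 5, 15, 13, 11, 3, 1, 5, 6, 4, 0, 2, 10, 12, 14, 4, 0, 2, 10, 12, 14, 4, 0, 2, 10, 12, 14, 4, 0]
def rw188 : List ℕ := [2, 10, 12, 14, 4, 0, 2, 10, 12, 14, 4, 0, 2, 10, 12, 14, 4, 0, 2, 10, 12, 14, 1, 15, 13, 11, 3, 1, 5, 15, 13, 11, 3, 1, 5, 15, 13, 11, 3, 1, 5, 15, 13, 11, 3, 1, 5, 15, 13, 11, 3, 1, 5, 0, 4, 0, 2, 10, 12, 14, 4, 0]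
def rw189 : List ℕ := [2, 0, 12, 10, 8, 6, 4, 2, 0, 11, 1, 3, 5, 7, 9, 11, 13, 1, 3, 5, 7, 9, 11, 13, 1, 3, 5, 7, 9, 11, 13, 1, 3, 5, 7, 9, 11, 13, 1, 3, 5, 7, 9, 11, 13, 1, 3, 5, 7, 9, 11, 13, 1, 3, 5, 7, 9, 11, 13, 1, 3, 5, 7, 9, 11, 13, 1, 3, 5, 7, 9, 11, 13, 10, 12, 10, 8, 6, 4, 2, 0, 12, 10, 8, 6, 4, 2, 0, 12, 10, 8, 6, 4, 2, 0, 12, 10, 8, 6, 4, 2, 0, 12, 10, 8, 6, 4, 2, 0, 12, 10, 8, 6, 4, 2, 0, 12, 10, 8, 6, 4, 2, 0, 12, 10, 8, 6, 4]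
def rw190 : List ℕ := [2, 10, 12, 14, 4, 0, 2, 10, 12, 14, 4, 0, 2, 10, 12, 14, 4, 0, 2, 10, 12, 14, 4, 0, 2, 10, 12, 14, 13, 15, 13, 11, 3, 1, 5, 15, 13, 11, 3, 1, 5, 15, 13, 11, 3, 1, 5, 15, 13, 11, 3, 1, 5, 15, 13, 11, 3, 1, 5, 12, 4, 0]
def rw191 : List ℕ := [2, 10, 12, 14, 6, 4, 2, 10, 12, 14, 6, 4, 2, 10, 12, 14, 6, 4, 2, 3, 3, 5, 7, 15, 13, 11, 3, 5, 7, 15, 13, 11, 3, 5, 7, 15, 13, 11, 3, 5, 7, 15, 13, 11, 3, 5, 7, 15, 13, 11, 2, 10, 12, 14, 6, 4, 2, 10, 12, 14, 6, 4]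
def rw192 : List ℕ := [2, 10, 12, 14, 6, 4, 2, 1, 3, 5, 7, 15, 13, 11, 3, 5, 7, 15, 13, 11, 3, 5, 7, 15, 13, 11, 3, 5, 7, 15, 13, 11, 3, 5, 7, 15, 13, 11, 0, 10, 12, 14, 6, 4, 2, 10, 12, 14, 6, 4, 2, 10, 12, 14, 6, 4, 2, 10, 12, 14, 6, 4]
def rw193 : List ℕ := [2, 10, 12, 14, 4, 0, 2, 10, 12, 14, 4, 0, 2, 10, 12, 14, 4, 0, 2, 10, 12, 14, 4, 0, 2, 10, 12, 14, 3, 15, 13, 11, 3, 1, 5, 15, 13, 11, 3, 1, 5, 15, 13, 11, 3, 1, 5, 15, 13, 11, 3, 1, 5, 15, 13, 11, 3, 1, 5, 2, 4, 0]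
def rw194 : List ℕ := [2, 0, 12, 10, 8, 6, 4, 2, 0, 12, 10, 8, 6, 4, 2, 0, 12, 10, 8, 6, 4, 2, 0, 12, 10, 8, 6, 4, 2, 0, 12, 10, 8, 6, 4, 2, 0, 12, 10, 8, 6, 4, 2, 0, 1, 1, 3, 5, 7, 9, 11, 13, 1, 3, 5, 7, 9, 11, 13, 1, 3, 5, 7, 9, 11, 13, 1, 3, 5, 7, 9, 11, 13, 1, 3, 5, 7, 9, 11, 13, 1, 3, 5, 7, 9, 11, 13, 1, 3, 5, 7, 9, 11, 13, 1, 3, 5, 7, 9, 11, 13, 1, 3, 5, 7, 9, 11, 13, 0, 12, 10, 8, 6, 4, 2, 0, 12, 10, 8, 6, 4, 2, 0, 12, 10, 8, 6, 4]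
def rw195 : List ℕ := [2, 10, 12, 14, 6, 4, 2, 10, 12, 14, 6, 4, 2, 10, 12, 14, 6, 4, 2, 10, 12, 14, 6, 4, 2, 1, 3, 5, 7, 15, 13, 11, 3, 5, 7, 15, 13, 11, 3, 5, 7, 15, 13, 11, 3, 5, 7, 15, 13, 11, 3, 5, 7, 15, 13, 11, 0, 10, 12, 14, 6, 4]
def rw196 : List ℕ := [2, 0, 7, 1, 3, 5, 7, 9, 11, 13, 1, 3, 5, 7, 9, 11, 13, 1, 3, 5, 7, 9, 11, 13, 1, 3, 5, 7, 9, 11, 13, 1, 3, 5, 7, 9, 11, 13, 1, 3, 5, 7, 9, 11, 13, 1, 3, 5, 7, 9, 11, 13, 1, 3, 5, 7, 9, 11, 13, 1, 3, 5, 7, 9, 11, 13, 6, 12, 10, 8, 6, 4, 2, 0, 12, 10, 8, 6, 4, 2, 0, 12, 10, 8, 6, 4, 2, 0, 12, 10, 8, 6, 4, 2, 0, 12, 10, 8, 6, 4, 2, 0, 12, 10, 8, 6, 4, 2, 0, 12, 10, 8, 6, 4, 2, 0, 12, 10, 8, 6, 4, 2, 0, 12, 10, 8, 6, 4]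
def rw197 : List ℕ := [2, 10, 12, 14, 6, 4, 2, 5, 3, 5, 7, 15, 13, 11, 3, 5, 7, 15, 13, 11, 3, 5, 7, 15, 13, 11, 3, 5, 7, 15, 13, 11, 3, 5, 7, 15, 13, 11, 4, 10, 12, 14, 6, 4, 2, 10, 12, 14, 6, 4, 2, 10, 12, 14, 6, 4, 2, 10, 12, 14, 6, 4]
def rw198 : List ℕ := [2, 0, 12, 10, 8, 6, 4, 2, 0, 5, 1, 3, 5, 7, 9, 11, 13, 1, 3, 5, 7, 9, 11, 13, 1, 3, 5, 7, 9, 11, 13, 1, 3, 5, 7, 9, 11, 13, 1, 3, 5, 7, 9, 11, 13, 1, 3, 5, 7, 9, 11, 13, 1, 3, 5, 7, 9, 11, 13, 1, 3, 5, 7, 9, 11, 13, 1, 3, 5, 7, 9, 11, 13, 4, 12, 10, 8, 6, 4, 2, 0, 12, 10, 8, 6, 4, 2, 0, 12, 10, 8, 6, 4, 2, 0, 12, 10, 8, 6, 4, 2, 0, 12, 10, 8, 6, 4, 2, 0, 12, 10, 8, 6, 4, 2, 0, 12, 10, 8, 6, 4, 2, 0, 12, 10, 8, 6, 4]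
def rw199 : List ℕ := [2, 0, 9, 1, 3, 5, 7, 9, 11, 13, 1, 3, 5, 7, 9, 11, 13, 1, 3, 5, 7, 9, 11, 13, 1, 3, 5, 7, 9, 11, 13, 1, 3, 5, 7, 9, 11, 13, 1, 3, 5, 7, 9, 11, 13, 1, 3, 5, 7, 9, 11, 13, 1, 3, 5, 7, 9, 11, 13, 1, 3, 5, 7, 9, 11, 13, 8, 12, 10, 8, 6, 4, 2, 0, 12, 10, 8, 6, 4, 2, 0, 12, 10, 8, 6, 4, 2, 0, 12, 10, 8, 6, 4, 2, 0, 12, 10, 8, 6, 4, 2, 0, 12, 10, 8, 6, 4, 2, 0, 12, 10, 8, 6, 4, 2, 0, 12, 10, 8, 6, 4, 2, 0, 12, 10, 8, 6, 4]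
def rw200 : List ℕ := [2, 0, 12, 10, 8, 6, 4, 2, 0, 12, 10, 8, 6, 4, 2, 0, 12, 10, 8, 6, 4, 2, 0, 12, 10, 8, 6, 4, 2, 0, 12, 10, 8, 6, 4, 2, 0, 12, 10, 8, 6, 4, 2, 0, 12, 10, 8, 6, 4, 2, 0, 12, 10, 8, 6, 4, 2, 0, 11, 1, 3, 5, 7, 9, 11, 13, 1, 3, 5, 7, 9, 11, 13, 1, 3, 5, 7, 9, 11, 13, 1, 3, 5, 7, 9, 11, 13, 1, 3, 5, 7, 9, 11, 13, 1, 3, 5, 7, 9, 11, 13, 1, 3, 5, 7, 9, 11, 13, 1, 3, 5, 7, 9, 11, 13, 1, 3, 5, 7, 9, 11, 13, 10, 12, 10, 8, 6, 4]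
def rw201 : List ℕ := [2, 0, 12, 10, 8, 6, 4, 2, 0, 12, 10, 8, 6, 4, 2, 0, 12, 10, 8, 6, 4, 2, 0, 12, 10, 8, 6, 4, 2, 0, 12, 10, 8, 6, 4, 2, 0, 12, 10, 8, 6, 4, 2, 0, 5, 1, 3, 5, 7, 9, 11, 13, 1, 3, 5, 7, 9, 11, 13, 1, 3, 5, 7, 9, 11, 13, 1, 3, 5, 7, 9, 11, 13, 1, 3, 5, 7, 9, 11, 13, 1, 3, 5, 7, 9, 11, 13, 1, 3, 5, 7, 9, 11, 13, 1, 3, 5, 7, 9, 11, 13, 1, 3, 5, 7, 9, 11, 13, 4, 12, 10, 8, 6, 4, 2, 0, 12, 10, 8, 6, 4, 2, 0, 12, 10, 8, 6, 4]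
def rw202 : List ℕ := [2, 0, 12, 10, 8, 6, 4, 2, 0, 12, 10, 8, 6, 4, 2, 0, 12, 10, 8, 6, 4, 2, 0, 12, 10, 8, 6, 4, 2, 0, 12, 10, 8, 6, 4, 2, 0, 11, 1, 3, 5, 7, 9, 11, 13, 1, 3, 5, 7, 9, 11, 13, 1, 3, 5, 7, 9, 11, 13, 1, 3, 5, 7, 9, 11, 13, 1, 3, 5, 7, 9, 11, 13, 1, 3, 5, 7, 9, 11, 13, 1, 3, 5, 7, 9, 11, 13, 1, 3, 5, 7, 9, 11, 13, 1, 3, 5, 7, 9, 11, 13, 10, 12, 10, 8, 6, 4, 2, 0, 12, 10, 8, 6, 4, 2, 0, 12, 10, 8, 6, 4, 2, 0, 12, 10, 8, 6, 4]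
def rw203 : List ℕ := [2, 11, 3, 5, 7, 15, 13, 11, 3, 5, 7, 15, 13, 11, 3, 5, 7, 15, 13, 11, 3, 5, 7, 15, 13, 11, 3, 5, 7, 15, 13, 11, 10, 10, 12, 14, 6, 4, 2, 10, 12, 14, 6, 4, 2, 10, 12, 14, 6, 4, 2, 10, 12, 14, 6, 4, 2, 10, 12, 14, 6, 4]
def rw204 : List ℕ := [2, 15, 3, 5, 7, 15, 13, 11, 3, 5, 7, 15, 13, 11, 3, 5, 7, 15, 13, 11, 3, 5, 7, 15, 13, 11, 3, 5, 7, 15, 13, 11, 14, 10, 12, 14, 6, 4, 2, 10, 12, 14, 6, 4, 2, 10, 12, 14, 6, 4, 2, 10, 12, 14, 6, 4, 2, 10, 12, 14, 6, 4]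
def rw205 : List ℕ := [2, 0, 1, 1, 3, 5, 7, 9, 11, 13, 1, 3, 5, 7, 9, 11, 13, 1, 3, 5, 7, 9, 11, 13, 1, 3, 5, 7, 9, 11, 13, 1, 3, 5, 7, 9, 11, 13, 1, 3, 5, 7, 9, 11, 13, 1, 3, 5, 7, 9, 11, 13, 1, 3, 5, 7, 9, 11, 13, 1, 3, 5, 7, 9, 11, 13, 0, 12, 10, 8, 6, 4, 2, 0, 12, 10, 8, 6, 4, 2, 0, 12, 10, 8, 6, 4, 2, 0, 12, 10, 8, 6, 4, 2, 0, 12, 10, 8, 6, 4, 2, 0, 12, 10, 8, 6, 4, 2, 0, 12, 10, 8, 6, 4, 2, 0, 12, 10, 8, 6, 4, 2, 0, 12, 10, 8, 6, 4]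
def rw206 : List ℕ := [2, 0, 12, 10, 8, 6, 4, 2, 0, 12, 10, 8, 6, 4, 2, 0, 5, 1, 3, 5, 7, 9, 11, 13, 1, 3, 5, 7, 9, 11, 13, 1, 3, 5, 7, 9, 11, 13, 1, 3, 5, 7, 9, 11, 13, 1, 3, 5, 7, 9, 11, 13, 1, 3, 5, 7, 9, 11, 13, 1, 3, 5, 7, 9, 11, 13, 1, 3, 5, 7, 9, 11, 13, 1, 3, 5, 7, 9, 11, 13, 4, 12, 10, 8, 6, 4, 2, 0, 12, 10, 8, 6, 4, 2, 0, 12, 10, 8, 6, 4, 2, 0, 12, 10, 8, 6, 4, 2, 0, 12, 10, 8, 6, 4, 2, 0, 12, 10, 8, 6, 4, 2, 0, 12, 10, 8, 6, 4]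
def rw207 : List ℕ := [2, 0, 12, 10, 8, 6, 4, 2, 0, 12, 10, 8, 6, 4, 2, 0, 12, 10, 8, 6, 4, 2, 0, 1, 1, 3, 5, 7, 9, 11, 13, 1, 3, 5, 7, 9, 11, 13, 1, 3, 5, 7, 9, 11, 13, 1, 3, 5, 7, 9, 11, 13, 1, 3, 5, 7, 9, 11, 13, 1, 3, 5, 7, 9, 11, 13, 1, 3, 5, 7, 9, 11, 13, 1, 3, 5, 7, 9, 11, 13, 1, 3, 5, 7, 9, 11, 13, 0, 12, 10, 8, 6, 4, 2, 0, 12, 10, 8, 6, 4, 2, 0, 12, 10, 8, 6, 4, 2, 0, 12, 10, 8, 6, 4, 2, 0, 12, 10, 8, 6, 4, 2, 0, 12, 10, 8, 6, 4]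
def rw208 : List ℕ := [2, 9, 3, 5, 7, 15, 13, 11, 3, 5, 7, 15, 13, 11, 3, 5, 7, 15, 13, 11, 3, 5, 7, 15, 13, 11, 3, 5, 7, 15, 13, 11, 8, 10, 12, 14, 6, 4, 2, 10, 12, 14, 6, 4, 2, 10, 12, 14, 6, 4, 2, 10, 12, 14, 6, 4, 2, 10, 12, 14, 6, 4]
def rw209 : List ℕ := [2, 10, 12, 14, 6, 4, 2, 10, 12, 14, 6, 4, 2, 10, 12, 14, 6, 4, 2, 5, 3, 5, 7, 15, 13, 11, 3, 5, 7, 15, 13, 11, 3, 5, 7, 15, 13, 11, 3, 5, 7, 15, 13, 11, 3, 5, 7, 15, 13, 11, 4, 10, 12, 14, 6, 4, 2, 10, 12, 14, 6, 4]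
def rw210 : List ℕ := [3, 15, 3, 15]
def rw211 : List ℕ := [3, 7, 3, 7]
def rw212 : List ℕ := [3, 13, 3, 13]
def rw213 : List ℕ := [3, 9, 3, 9]
def rw214 : List ℕ := [3, 11, 3, 11, 3, 11]
def rw215 : List ℕ := [3, 5, 3, 5, 3, 5]
def rw216 : List ℕ := [3, 15, 13, 11, 3, 1, 5, 15, 13, 11, 3, 1, 5, 15, 13, 11, 3, 1, 5, 15, 13, 11, 3, 1, 5, 15, 13, 11, 3, 1, 5, 2, 4, 0, 2, 10, 12, 14, 4, 0, 2, 10, 12, 14, 4, 0, 2, 10, 12, 14, 4, 0, 2, 10, 12, 14, 4, 0, 2, 10, 12, 14]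
def rw217 : List ℕ := [3, 5, 3, 5, 3, 5]
def rw218 : List ℕ := [3, 5, 7, 15, 13, 11, 2, 10, 12, 14, 6, 4, 2, 10, 12, 14, 6, 4, 2, 10, 12, 14, 6, 4, 2, 10, 12, 14, 6, 4, 2, 10, 12, 14, 6, 4, 2, 3, 3, 5, 7, 15, 13, 11, 3, 5, 7, 15, 13, 11, 3, 5, 7, 15, 13, 11, 3, 5, 7, 15, 13, 11]
def rw219 : List ℕ := [3, 1, 3, 1, 3, 1]
def rw220 : List ℕ := [3, 1, 3, 1, 3, 1]
def rw221 : List ℕ := [3, 5, 7, 15, 13, 11, 3, 5, 7, 15, 13, 11, 3, 5, 7, 15, 13, 11, 3, 5, 7, 15, 13, 11, 3, 5, 7, 15, 13, 11, 13, 10, 12, 14, 6, 4, 2, 10, 12, 14, 6, 4, 2, 10, 12, 14, 6, 4, 2, 10, 12, 14, 6, 4, 2, 10, 12, 14, 6, 4, 2, 12]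
def rw222 : List ℕ := [3, 5, 7, 15, 13, 11, 3, 5, 7, 15, 13, 11, 3, 5, 7, 15, 13, 11, 3, 5, 7, 15, 13, 11, 3, 5, 7, 15, 13, 11, 15, 10, 12, 14, 6, 4, 2, 10, 12, 14, 6, 4, 2, 10, 12, 14, 6, 4, 2, 10, 12, 14, 6, 4, 2, 10, 12, 14, 6, 4, 2, 14]
def rw223 : List ℕ := [3, 1, 5, 15, 13, 11, 3, 1, 5, 15, 13, 11, 3, 1, 5, 15, 13, 11, 3, 1, 5, 15, 13, 11, 3, 1, 5, 8, 4, 0, 2, 10, 12, 14, 4, 0, 2, 10, 12, 14, 4, 0, 2, 10, 12, 14, 4, 0, 2, 10, 12, 14, 4, 0, 2, 10, 12, 14, 9, 15, 13, 11]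
def rw224 : List ℕ := [3, 5, 7, 15, 13, 11, 3, 5, 7, 15, 13, 11, 3, 5, 7, 15, 13, 11, 3, 5, 7, 15, 13, 11, 3, 5, 7, 15, 13, 11, 2, 10, 12, 14, 6, 4, 2, 10, 12, 14, 6, 4, 2, 10, 12, 14, 6, 4, 2, 10, 12, 14, 6, 4, 2, 10, 12, 14, 6, 4, 2, 3]
def rw225 : List ℕ := [3, 5, 7, 15, 13, 11, 3, 5, 7, 15, 13, 11, 3, 5, 7, 15, 13, 11, 3, 5, 7, 15, 13, 11, 3, 5, 7, 15, 13, 11, 5, 10, 12, 14, 6, 4, 2, 10, 12, 14, 6, 4, 2, 10, 12, 14, 6, 4, 2, 10, 12, 14, 6, 4, 2, 10, 12, 14, 6, 4, 2, 4]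
def rw226 : List ℕ := [3, 5, 7, 15, 13, 11, 3, 5, 7, 15, 13, 11, 3, 5, 7, 15, 13, 11, 3, 5, 7, 15, 13, 11, 3, 5, 7, 15, 13, 11, 7, 10, 12, 14, 6, 4, 2, 10, 12, 14, 6, 4, 2, 10, 12, 14, 6, 4, 2, 10, 12, 14, 6, 4, 2, 10, 12, 14, 6, 4, 2, 6]
def rw227 : List ℕ := [3, 5, 7, 9, 15, 13, 11, 5, 7, 9, 15, 13, 11, 5, 7, 9, 15, 13, 11, 5, 7, 9, 15, 13, 11, 5, 7, 9, 15, 13, 11, 2, 10, 12, 14, 8, 6, 4, 10, 12, 14, 8, 6, 4, 10, 12, 14, 8, 6, 4, 10, 12, 14, 8, 6, 4, 10, 12, 14, 8, 6, 4]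
def rw228 : List ℕ := [3, 5, 7, 15, 13, 11, 3, 5, 7, 15, 13, 11, 3, 5, 7, 15, 13, 11, 14, 10, 12, 14, 6, 4, 2, 10, 12, 14, 6, 4, 2, 10, 12, 14, 6, 4, 2, 10, 12, 14, 6, 4, 2, 10, 12, 14, 6, 4, 2, 15, 3, 5, 7, 15, 13, 11, 3, 5, 7, 15, 13, 11]
def rw229 : List ℕ := [3, 11, 3, 11, 3, 11]
def rw230 : List ℕ := [3, 11, 3, 11, 3, 11]
def rw231 : List ℕ := [3, 7, 3, 7]
def rw232 : List ℕ := [3, 1, 5, 0, 4, 0, 2, 10, 12, 14, 4, 0, 2, 10, 12, 14, 4, 0, 2, 10, 12, 14, 4, 0, 2, 10, 12, 14, 4, 0, 2, 10, 12, 14, 1, 15, 13, 11, 3, 1, 5, 15, 13, 11, 3, 1, 5, 15, 13, 11, 3, 1, 5, 15, 13, 11, 3, 1, 5, 15, 13, 11]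
def rw233 : List ℕ := [3, 9, 3, 9]
def rw234 : List ℕ := [3, 1, 5, 15, 13, 11, 3, 1, 5, 15, 13, 11, 3, 1, 5, 15, 13, 11, 3, 1, 5, 15, 13, 11, 3, 1, 5, 0, 4, 0, 2, 10, 12, 14, 4, 0, 2, 10, 12, 14, 4, 0, 2, 10, 12, 14, 4, 0, 2, 10, 12, 14, 4, 0, 2, 10, 12, 14, 1, 15, 13, 11]
def rw235 : List ℕ := [3, 5, 7, 15, 13, 11, 13, 15, 7, 5, 3, 5, 7, 15, 13, 11, 13, 15, 7, 5, 2, 4, 6, 14, 12, 10, 12, 14, 6, 4, 2, 4, 6, 14, 12, 10, 12, 14, 6, 4, 2, 4, 6, 14, 12, 10, 12, 14, 6, 4, 2, 3, 3, 5, 7, 15, 13, 11, 13, 15, 7, 5]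
def rw236 : List ℕ := [3, 5, 7, 15, 13, 11, 3, 5, 7, 15, 13, 11, 3, 5, 7, 15, 13, 11, 3, 5, 7, 15, 13, 11, 3, 5, 7, 15, 13, 11, 11, 10, 12, 14, 6, 4, 2, 10, 12, 14, 6, 4, 2, 10, 12, 14, 6, 4, 2, 10, 12, 14, 6, 4, 2, 10, 12, 14, 6, 4, 2, 10]
def rw237 : List ℕ := [3, 5, 7, 15, 13, 11, 3, 5, 7, 15, 13, 11, 3, 5, 7, 15, 13, 11, 3, 5, 7, 15, 13, 11, 3, 5, 7, 15, 13, 11, 9, 10, 12, 14, 6, 4, 2, 10, 12, 14, 6, 4, 2, 10, 12, 14, 6, 4, 2, 10, 12, 14, 6, 4, 2, 10, 12, 14, 6, 4, 2, 8]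
def rw238 : List ℕ := [3, 5, 7, 15, 13, 11, 13, 15, 7, 5, 3, 5, 7, 15, 13, 11, 13, 15, 7, 5, 3, 5, 7, 15, 13, 11, 13, 15, 7, 5, 2, 4, 6, 14, 12, 10, 12, 14, 6, 4, 2, 4, 6, 14, 12, 10, 12, 14, 6, 4, 2, 4, 6, 14, 12, 10, 12, 14, 6, 4, 2, 3]
def rw239 : List ℕ := [3, 5, 7, 15, 13, 11, 13, 15, 7, 5, 3, 5, 7, 15, 13, 11, 13, 15, 7, 5, 4, 4, 6, 14, 12, 10, 12, 14, 6, 4, 2, 4, 6, 14, 12, 10, 12, 14, 6, 4, 2, 4, 6, 14, 12, 10, 12, 14, 6, 4, 2, 5, 3, 5, 7, 15, 13, 11, 13, 15, 7, 5]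
def rw240 : List ℕ := [3, 5, 7, 15, 13, 11, 3, 5, 7, 15, 13, 11, 3, 5, 7, 15, 13, 11, 3, 5, 7, 15, 13, 11, 3, 5, 7, 15, 13, 11, 1, 10, 12, 14, 6, 4, 2, 10, 12, 14, 6, 4, 2, 10, 12, 14, 6, 4, 2, 10, 12, 14, 6, 4, 2, 10, 12, 14, 6, 4, 2, 0]
def rw241 : List ℕ := [3, 13, 3, 13]
def rw242 : List ℕ := [3, 5, 7, 15, 13, 11, 13, 15, 7, 5, 4, 4, 6, 14, 12, 10, 12, 14, 6, 4, 2, 4, 6, 14, 12, 10, 12, 14, 6, 4, 2, 4, 6, 14, 12, 10, 12, 14, 6, 4, 2, 5, 3, 5, 7, 15, 13, 11, 13, 15, 7, 5, 3, 5, 7, 15, 13, 11, 13, 15, 7, 5]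
def rw243 : List ℕ := [3, 5, 7, 15, 13, 11, 3, 5, 7, 15, 13, 11, 12, 10, 12, 14, 6, 4, 2, 10, 12, 14, 6, 4, 2, 10, 12, 14, 6, 4, 2, 10, 12, 14, 6, 4, 2, 10, 12, 14, 6, 4, 2, 13, 3, 5, 7, 15, 13, 11, 3, 5, 7, 15, 13, 11, 3, 5, 7, 15, 13, 11]
def rw244 : List ℕ := [3, 5, 7, 15, 13, 11, 13, 15, 7, 5, 3, 5, 7, 15, 13, 11, 13, 15, 7, 5, 3, 5, 7, 15, 13, 11, 13, 15, 7, 5, 4, 4, 6, 14, 12, 10, 12, 14, 6, 4, 2, 4, 6, 14, 12, 10, 12, 14, 6, 4, 2, 4, 6, 14, 12, 10, 12, 14, 6, 4, 2, 5]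
def rw245 : List ℕ := [3, 5, 3, 5, 3, 5]
def rw246 : List ℕ := [3, 15, 3, 15]
def rw247 : List ℕ := [3, 3]
def rw248 : List ℕ := [3, 5, 7, 15, 13, 11, 3, 5, 7, 15, 13, 11, 3, 5, 7, 15, 13, 11, 3, 5, 7, 15, 13, 11, 3, 5, 7, 15, 13, 11, 4, 10, 12, 14, 6, 4, 2, 10, 12, 14, 6, 4, 2, 10, 12, 14, 6, 4, 2, 10, 12, 14, 6, 4, 2, 10, 12, 14, 6, 4, 2, 5]
def rw249 : List ℕ := [3, 5, 7, 15, 13, 11, 3, 5, 7, 15, 13, 11, 3, 5, 7, 15, 13, 11, 3, 5, 7, 15, 13, 11, 6, 10, 12, 14, 6, 4, 2, 10, 12, 14, 6, 4, 2, 10, 12, 14, 6, 4, 2, 10, 12, 14, 6, 4, 2, 10, 12, 14, 6, 4, 2, 7, 3, 5, 7, 15, 13, 11]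
def rw250 : List ℕ := [3, 1, 5, 15, 13, 11, 3, 1, 5, 15, 13, 11, 3, 1, 5, 15, 13, 11, 3, 1, 5, 15, 13, 11, 3, 1, 5, 4, 4, 0, 2, 10, 12, 14, 4, 0, 2, 10, 12, 14, 4, 0, 2, 10, 12, 14, 4, 0, 2, 10, 12, 14, 4, 0, 2, 10, 12, 14, 5, 15, 13, 11]
def rw251 : List ℕ := [3, 5, 7, 9, 11, 13, 1, 3, 5, 7, 9, 11, 13, 1, 3, 5, 7, 9, 11, 13, 1, 3, 5, 7, 9, 11, 13, 1, 3, 5, 7, 9, 11, 13, 1, 3, 5, 7, 9, 11, 13, 1, 3, 5, 7, 9, 11, 13, 1, 3, 5, 7, 9, 11, 13, 1, 3, 5, 7, 9, 11, 13, 0, 12, 10, 8, 6, 4, 2, 0, 12, 10, 8, 6, 4, 2, 0, 12, 10, 8, 6, 4, 2, 0, 12, 10, 8, 6, 4, 2, 0, 12, 10, 8, 6, 4, 2, 0, 12, 10, 8, 6, 4, 2, 0, 12, 10, 8, 6, 4, 2, 0, 12, 10, 8, 6, 4, 2, 0, 12, 10, 8, 6, 4, 2, 0, 1, 1]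
def rw252 : List ℕ := [3, 5, 7, 15, 13, 11, 3, 5, 7, 15, 13, 11, 3, 5, 7, 15, 13, 11, 4, 10, 12, 14, 6, 4, 2, 10, 12, 14, 6, 4, 2, 10, 12, 14, 6, 4, 2, 10, 12, 14, 6, 4, 2, 10, 12, 14, 6, 4, 2, 5, 3, 5, 7, 15, 13, 11, 3, 5, 7, 15, 13, 11]
def rw253 : List ℕ := [3, 1, 5, 15, 13, 11, 3, 1, 5, 15, 13, 11, 3, 1, 5, 15, 13, 11, 3, 1, 5, 15, 13, 11, 3, 1, 5, 10, 4, 0, 2, 10, 12, 14, 4, 0, 2, 10, 12, 14, 4, 0, 2, 10, 12, 14, 4, 0, 2, 10, 12, 14, 4, 0, 2, 10, 12, 14, 11, 15, 13, 11]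
def rw254 : List ℕ := [3, 5, 7, 15, 13, 11, 14, 10, 12, 14, 6, 4, 2, 10, 12, 14, 6, 4, 2, 10, 12, 14, 6, 4, 2, 10, 12, 14, 6, 4, 2, 10, 12, 14, 6, 4, 2, 15, 3, 5, 7, 15, 13, 11, 3, 5, 7, 15, 13, 11, 3, 5, 7, 15, 13, 11, 3, 5, 7, 15, 13, 11]
def rw255 : List ℕ := [3, 4, 0, 2, 10, 12, 14, 4, 0, 2, 10, 12, 14, 4, 0, 2, 10, 12, 14, 4, 0, 2, 10, 12, 14, 4, 0, 2, 10, 12, 14, 2, 15, 13, 11, 3, 1, 5, 15, 13, 11, 3, 1, 5, 15, 13, 11, 3, 1, 5, 15, 13, 11, 3, 1, 5, 15, 13, 11, 3, 1, 5]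
def rw256 : List ℕ := [3, 10, 12, 14, 8, 6, 4, 10, 12, 14, 8, 6, 4, 10, 12, 14, 8, 6, 4, 10, 12, 14, 8, 6, 4, 10, 12, 14, 8, 6, 4, 2, 5, 7, 9, 15, 13, 11, 5, 7, 9, 15, 13, 11, 5, 7, 9, 15, 13, 11, 5, 7, 9, 15, 13, 11, 5, 7, 9, 15, 13, 11]
def rw257 : List ℕ := [3, 1, 5, 15, 13, 11, 3, 1, 5, 15, 13, 11, 3, 1, 5, 15, 13, 11, 3, 1, 5, 13, 4, 0, 2, 10, 12, 14, 4, 0, 2, 10, 12, 14, 4, 0, 2, 10, 12, 14, 4, 0, 2, 10, 12, 14, 4, 0, 2, 10, 12, 14, 12, 15, 13, 11, 3, 1, 5, 15, 13, 11]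
def rw258 : List ℕ := [3, 5, 7, 15, 13, 11, 13, 15, 7, 5, 3, 5, 7, 15, 13, 11, 13, 15, 7, 5, 3, 5, 7, 15, 13, 11, 13, 15, 7, 5, 0, 4, 6, 14, 12, 10, 12, 14, 6, 4, 2, 4, 6, 14, 12, 10, 12, 14, 6, 4, 2, 4, 6, 14, 12, 10, 12, 14, 6, 4, 2, 1]
def rw259 : List ℕ := [3, 5, 7, 9, 11, 13, 0, 12, 10, 8, 6, 4, 2, 0, 12, 10, 8, 6, 4, 2, 0, 12, 10, 8, 6, 4, 2, 0, 12, 10, 8, 6, 4, 2, 0, 12, 10, 8, 6, 4, 2, 0, 12, 10, 8, 6, 4, 2, 0, 12, 10, 8, 6, 4, 2, 0, 12, 10, 8, 6, 4, 2, 0, 12, 10, 8, 6, 4, 2, 0, 1, 1, 3, 5, 7, 9, 11, 13, 1, 3, 5, 7, 9, 11, 13, 1, 3, 5, 7, 9, 11, 13, 1, 3, 5, 7, 9, 11, 13, 1, 3, 5, 7, 9, 11, 13, 1, 3, 5, 7, 9, 11, 13, 1, 3, 5, 7, 9, 11, 13, 1, 3, 5, 7, 9, 11, 13, 1]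
def rw260 : List ℕ := [3, 1, 5, 15, 13, 11, 3, 1, 5, 15, 13, 11, 3, 1, 5, 15, 13, 11, 3, 1, 5, 15, 13, 11, 3, 1, 5, 14, 4, 0, 2, 10, 12, 14, 4, 0, 2, 10, 12, 14, 4, 0, 2, 10, 12, 14, 4, 0, 2, 10, 12, 14, 4, 0, 2, 10, 12, 14, 15, 15, 13, 11]
def rw261 : List ℕ := [3, 1, 5, 15, 13, 11, 3, 1, 5, 15, 13, 11, 3, 1, 5, 15, 13, 11, 3, 1, 5, 2, 4, 0, 2, 10, 12, 14, 4, 0, 2, 10, 12, 14, 4, 0, 2, 10, 12, 14, 4, 0, 2, 10, 12, 14, 4, 0, 2, 10, 12, 14, 3, 15, 13, 11, 3, 1, 5, 15, 13, 11]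
def rw262 : List ℕ := [3, 1, 5, 15, 13, 11, 3, 1, 5, 10, 4, 0, 2, 10, 12, 14, 4, 0, 2, 10, 12, 14, 4, 0, 2, 10, 12, 14, 4, 0, 2, 10, 12, 14, 4, 0, 2, 10, 12, 14, 11, 15, 13, 11, 3, 1, 5, 15, 13, 11, 3, 1, 5, 15, 13, 11, 3, 1, 5, 15, 13, 11]
def rw263 : List ℕ := [3, 5, 7, 15, 13, 11, 13, 15, 7, 5, 3, 5, 7, 15, 13, 11, 13, 15, 7, 5, 3, 5, 7, 15, 13, 11, 13, 15, 7, 5, 5, 4, 6, 14, 12, 10, 12, 14, 6, 4, 2, 4, 6, 14, 12, 10, 12, 14, 6, 4, 2, 4, 6, 14, 12, 10, 12, 14, 6, 4, 2, 4]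
def rw264 : List ℕ := [3, 5, 7, 15, 13, 11, 13, 15, 7, 5, 3, 5, 7, 15, 13, 11, 13, 15, 7, 5, 3, 5, 7, 15, 13, 11, 13, 15, 7, 5, 7, 4, 6, 14, 12, 10, 12, 14, 6, 4, 2, 4, 6, 14, 12, 10, 12, 14, 6, 4, 2, 4, 6, 14, 12, 10, 12, 14, 6, 4, 2, 6]
def rw265 : List ℕ := [3, 5, 7, 9, 11, 13, 1, 3, 5, 7, 9, 11, 13, 1, 3, 5, 7, 9, 11, 13, 1, 3, 5, 7, 9, 11, 13, 1, 3, 5, 7, 9, 11, 13, 1, 3, 5, 7, 9, 11, 13, 10, 12, 10, 8, 6, 4, 2, 0, 12, 10, 8, 6, 4, 2, 0, 12, 10, 8, 6, 4, 2, 0, 12, 10, 8, 6, 4, 2, 0, 12, 10, 8, 6, 4, 2, 0, 12, 10, 8, 6, 4, 2, 0, 12, 10, 8, 6, 4, 2, 0, 12, 10, 8, 6, 4, 2, 0, 12, 10, 8, 6, 4, 2, 0, 11, 1, 3, 5, 7, 9, 11, 13, 1, 3, 5, 7, 9, 11, 13, 1, 3, 5, 7, 9, 11, 13, 1]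
def rw266 : List ℕ := [3, 1, 5, 15, 13, 11, 3, 1, 5, 15, 13, 11, 3, 1, 5, 15, 13, 11, 3, 1, 5, 15, 13, 11, 3, 1, 5, 2, 4, 0, 2, 10, 12, 14, 4, 0, 2, 10, 12, 14, 4, 0, 2, 10, 12, 14, 4, 0, 2, 10, 12, 14, 4, 0, 2, 10, 12, 14, 3, 15, 13, 11]
def rw267 : List ℕ := [3, 10, 12, 14, 6, 4, 2, 10, 12, 14, 6, 4, 2, 10, 12, 14, 6, 4, 2, 10, 12, 14, 6, 4, 2, 10, 12, 14, 6, 4, 2, 2, 3, 5, 7, 15, 13, 11, 3, 5, 7, 15, 13, 11, 3, 5, 7, 15, 13, 11, 3, 5, 7, 15, 13, 11, 3, 5, 7, 15, 13, 11]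
def rw268 : List ℕ := [3, 5, 7, 9, 11, 13, 1, 3, 5, 7, 9, 11, 13, 4, 12, 10, 8, 6, 4, 2, 0, 12, 10, 8, 6, 4, 2, 0, 12, 10, 8, 6, 4, 2, 0, 12, 10, 8, 6, 4, 2, 0, 12, 10, 8, 6, 4, 2, 0, 12, 10, 8, 6, 4, 2, 0, 12, 10, 8, 6, 4, 2, 0, 12, 10, 8, 6, 4, 2, 0, 12, 10, 8, 6, 4, 2, 0, 5, 1, 3, 5, 7, 9, 11, 13, 1, 3, 5, 7, 9, 11, 13, 1, 3, 5, 7, 9, 11, 13, 1, 3, 5, 7, 9, 11, 13, 1, 3, 5, 7, 9, 11, 13, 1, 3, 5, 7, 9, 11, 13, 1, 3, 5, 7, 9, 11, 13, 1]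
def rw269 : List ℕ := [3, 5, 7, 9, 11, 13, 1, 3, 5, 7, 9, 11, 13, 1, 3, 5, 7, 9, 11, 13, 1, 3, 5, 7, 9, 11, 13, 1, 3, 5, 7, 9, 11, 13, 1, 3, 5, 7, 9, 11, 13, 4, 12, 10, 8, 6, 4, 2, 0, 12, 10, 8, 6, 4, 2, 0, 12, 10, 8, 6, 4, 2, 0, 12, 10, 8, 6, 4, 2, 0, 12, 10, 8, 6, 4, 2, 0, 12, 10, 8, 6, 4, 2, 0, 12, 10, 8, 6, 4, 2, 0, 12, 10, 8, 6, 4, 2, 0, 12, 10, 8, 6, 4, 2, 0, 5, 1, 3, 5, 7, 9, 11, 13, 1, 3, 5, 7, 9, 11, 13, 1, 3, 5, 7, 9, 11, 13, 1]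
def rw270 : List ℕ := [3, 5, 7, 15, 13, 11, 3, 5, 7, 15, 13, 11, 3, 5, 7, 15, 13, 11, 3, 5, 7, 15, 13, 11, 3, 5, 7, 15, 13, 11, 8, 10, 12, 14, 6, 4, 2, 10, 12, 14, 6, 4, 2, 10, 12, 14, 6, 4, 2, 10, 12, 14, 6, 4, 2, 10, 12, 14, 6, 4, 2, 9]
def rw271 : List ℕ := [3, 5, 7, 9, 11, 13, 1, 3, 5, 7, 9, 11, 13, 1, 3, 5, 7, 9, 11, 13, 1, 3, 5, 7, 9, 11, 13, 1, 3, 5, 7, 9, 11, 13, 1, 3, 5, 7, 9, 11, 13, 1, 3, 5, 7, 9, 11, 13, 1, 3, 5, 7, 9, 11, 13, 1, 3, 5, 7, 9, 11, 13, 4, 12, 10, 8, 6, 4, 2, 0, 12, 10, 8, 6, 4, 2, 0, 12, 10, 8, 6, 4, 2, 0, 12, 10, 8, 6, 4, 2, 0, 12, 10, 8, 6, 4, 2, 0, 12, 10, 8, 6, 4, 2, 0, 12, 10, 8, 6, 4, 2, 0, 12, 10, 8, 6, 4, 2, 0, 12, 10, 8, 6, 4, 2, 0, 5, 1]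
def rw272 : List ℕ := [3, 1, 5, 15, 13, 11, 3, 1, 5, 0, 4, 0, 2, 10, 12, 14, 4, 0, 2, 10, 12, 14, 4, 0, 2, 10, 12, 14, 4, 0, 2, 10, 12, 14, 4, 0, 2, 10, 12, 14, 1, 15, 13, 11, 3, 1, 5, 15, 13, 11, 3, 1, 5, 15, 13, 11, 3, 1, 5, 15, 13, 11]
def rw273 : List ℕ := [4, 4]
def rw274 : List ℕ := [4, 0, 4, 0]
def rw275 : List ℕ := [4, 2, 4, 2, 4, 2]
def rw276 : List ℕ := [4, 8, 4, 8]
def rw277 : List ℕ := [4, 12, 4, 12]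
def rw278 : List ℕ := [4, 10, 4, 10]
def rw279 : List ℕ := [4, 14, 4, 14]
def rw280 : List ℕ := [4, 2, 4, 2, 4, 2]
def rw281 : List ℕ := [4, 2, 4, 2, 4, 2]
def rw282 : List ℕ := [4, 0, 4, 0]
def rw283 : List ℕ := [4, 6, 4, 6, 4, 6]
def rw284 : List ℕ := [4, 2, 15, 3, 5, 7, 15, 13, 11, 13, 15, 7, 5, 3, 5, 7, 15, 13, 11, 13, 15, 7, 5, 3, 5, 7, 15, 13, 11, 13, 15, 7, 5, 14, 4, 6, 14, 12, 10, 12, 14, 6, 4, 2, 4, 6, 14, 12, 10, 12, 14, 6, 4, 2, 4, 6, 14, 12, 10, 12, 14, 6]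
def rw285 : List ℕ := [4, 7, 5, 7, 9, 15, 13, 11, 5, 7, 9, 15, 13, 11, 5, 7, 9, 15, 13, 11, 5, 7, 9, 15, 13, 11, 5, 7, 9, 15, 13, 11, 6, 10, 12, 14, 8, 6, 4, 10, 12, 14, 8, 6, 4, 10, 12, 14, 8, 6, 4, 10, 12, 14, 8, 6, 4, 10, 12, 14, 8, 6]
def rw286 : List ℕ := [4, 2, 13, 3, 5, 7, 15, 13, 11, 13, 15, 7, 5, 3, 5, 7, 15, 13, 11, 13, 15, 7, 5, 3, 5, 7, 15, 13, 11, 13, 15, 7, 5, 12, 4, 6, 14, 12, 10, 12, 14, 6, 4, 2, 4, 6, 14, 12, 10, 12, 14, 6, 4, 2, 4, 6, 14, 12, 10, 12, 14, 6]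
def rw287 : List ℕ := [4, 0, 2, 10, 12, 14, 4, 0, 2, 10, 12, 14, 1, 15, 13, 11, 3, 1, 5, 15, 13, 11, 3, 1, 5, 15, 13, 11, 3, 1, 5, 15, 13, 11, 3, 1, 5, 15, 13, 11, 3, 1, 5, 0, 4, 0, 2, 10, 12, 14, 4, 0, 2, 10, 12, 14, 4, 0, 2, 10, 12, 14]
def rw288 : List ℕ := [4, 0, 2, 10, 12, 14, 11, 15, 13, 11, 3, 1, 5, 15, 13, 11, 3, 1, 5, 15, 13, 11, 3, 1, 5, 15, 13, 11, 3, 1, 5, 15, 13, 11, 3, 1, 5, 10, 4, 0, 2, 10, 12, 14, 4, 0, 2, 10, 12, 14, 4, 0, 2, 10, 12, 14, 4, 0, 2, 10, 12, 14]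
def rw289 : List ℕ := [4, 0, 2, 10, 12, 14, 4, 0, 2, 10, 12, 14, 4, 0, 2, 10, 12, 14, 7, 15, 13, 11, 3, 1, 5, 15, 13, 11, 3, 1, 5, 15, 13, 11, 3, 1, 5, 15, 13, 11, 3, 1, 5, 15, 13, 11, 3, 1, 5, 6, 4, 0, 2, 10, 12, 14, 4, 0, 2, 10, 12, 14]
def rw290 : List ℕ := [4, 2, 10, 12, 14, 6, 4, 2, 5, 3, 5, 7, 15, 13, 11, 3, 5, 7, 15, 13, 11, 3, 5, 7, 15, 13, 11, 3, 5, 7, 15, 13, 11, 3, 5, 7, 15, 13, 11, 4, 10, 12, 14, 6, 4, 2, 10, 12, 14, 6, 4, 2, 10, 12, 14, 6, 4, 2, 10, 12, 14, 6]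
def rw291 : List ℕ := [4, 2, 7, 3, 5, 7, 15, 13, 11, 13, 15, 7, 5, 3, 5, 7, 15, 13, 11, 13, 15, 7, 5, 3, 5, 7, 15, 13, 11, 13, 15, 7, 5, 6, 4, 6, 14, 12, 10, 12, 14, 6, 4, 2, 4, 6, 14, 12, 10, 12, 14, 6, 4, 2, 4, 6, 14, 12, 10, 12, 14, 6]
def rw292 : List ℕ := [4, 6, 4, 6, 4, 6]
def rw293 : List ℕ := [4, 10, 5, 7, 9, 15, 13, 11, 5, 7, 9, 15, 13, 11, 5, 7, 9, 15, 13, 11, 5, 7, 9, 15, 13, 11, 5, 7, 9, 15, 13, 11, 11, 10, 12, 14, 8, 6, 4, 10, 12, 14, 8, 6, 4, 10, 12, 14, 8, 6, 4, 10, 12, 14, 8, 6, 4, 10, 12, 14, 8, 6]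
def rw294 : List ℕ := [4, 10, 4, 10]
def rw295 : List ℕ := [4, 6, 14, 12, 10, 12, 14, 6, 4, 2, 4, 6, 14, 12, 10, 12, 14, 6, 4, 2, 1, 3, 5, 7, 15, 13, 11, 13, 15, 7, 5, 3, 5, 7, 15, 13, 11, 13, 15, 7, 5, 3, 5, 7, 15, 13, 11, 13, 15, 7, 5, 0, 4, 6, 14, 12, 10, 12, 14, 6, 4, 2]
def rw296 : List ℕ := [4, 14, 4, 14]
def rw297 : List ℕ := [4, 2, 10, 12, 14, 6, 4, 2, 3, 3, 5, 7, 15, 13, 11, 3, 5, 7, 15, 13, 11, 3, 5, 7, 15, 13, 11, 3, 5, 7, 15, 13, 11, 3, 5, 7, 15, 13, 11, 2, 10, 12, 14, 6, 4, 2, 10, 12, 14, 6, 4, 2, 10, 12, 14, 6, 4, 2, 10, 12, 14, 6]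
def rw298 : List ℕ := [4, 8, 4, 8]
def rw299 : List ℕ := [4, 2, 10, 12, 14, 6, 4, 2, 10, 12, 14, 6, 4, 2, 10, 12, 14, 6, 4, 2, 10, 12, 14, 6, 4, 2, 13, 3, 5, 7, 15, 13, 11, 3, 5, 7, 15, 13, 11, 3, 5, 7, 15, 13, 11, 3, 5, 7, 15, 13, 11, 3, 5, 7, 15, 13, 11, 12, 10, 12, 14, 6]
def rw300 : List ℕ := [4, 2, 15, 3, 5, 7, 15, 13, 11, 3, 5, 7, 15, 13, 11, 3, 5, 7, 15, 13, 11, 3, 5, 7, 15, 13, 11, 3, 5, 7, 15, 13, 11, 14, 10, 12, 14, 6, 4, 2, 10, 12, 14, 6, 4, 2, 10, 12, 14, 6, 4, 2, 10, 12, 14, 6, 4, 2, 10, 12, 14, 6]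
def rw301 : List ℕ := [4, 10, 12, 14, 8, 6, 4, 10, 12, 14, 8, 6, 4, 10, 12, 14, 8, 6, 4, 10, 12, 14, 8, 6, 4, 5, 5, 7, 9, 15, 13, 11, 5, 7, 9, 15, 13, 11, 5, 7, 9, 15, 13, 11, 5, 7, 9, 15, 13, 11, 5, 7, 9, 15, 13, 11, 4, 10, 12, 14, 8, 6]
def rw302 : List ℕ := [4, 2, 4, 6, 14, 12, 10, 12, 14, 6, 4, 2, 13, 3, 5, 7, 15, 13, 11, 13, 15, 7, 5, 3, 5, 7, 15, 13, 11, 13, 15, 7, 5, 3, 5, 7, 15, 13, 11, 13, 15, 7, 5, 12, 4, 6, 14, 12, 10, 12, 14, 6, 4, 2, 4, 6, 14, 12, 10, 12, 14, 6]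
def rw303 : List ℕ := [4, 2, 1, 3, 5, 7, 15, 13, 11, 3, 5, 7, 15, 13, 11, 3, 5, 7, 15, 13, 11, 3, 5, 7, 15, 13, 11, 3, 5, 7, 15, 13, 11, 0, 10, 12, 14, 6, 4, 2, 10, 12, 14, 6, 4, 2, 10, 12, 14, 6, 4, 2, 10, 12, 14, 6, 4, 2, 10, 12, 14, 6]
def rw304 : List ℕ := [4, 0, 2, 10, 12, 14, 4, 0, 2, 10, 12, 14, 4, 0, 2, 10, 12, 14, 4, 0, 2, 10, 12, 14, 1, 15, 13, 11, 3, 1, 5, 15, 13, 11, 3, 1, 5, 15, 13, 11, 3, 1, 5, 15, 13, 11, 3, 1, 5, 15, 13, 11, 3, 1, 5, 0, 4, 0, 2, 10, 12, 14]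
def rw305 : List ℕ := [4, 6, 4, 6, 4, 6]
def rw306 : List ℕ := [4, 10, 12, 14, 8, 6, 4, 10, 12, 14, 8, 6, 4, 10, 12, 14, 8, 6, 4, 10, 12, 14, 8, 6, 4, 3, 5, 7, 9, 15, 13, 11, 5, 7, 9, 15, 13, 11, 5, 7, 9, 15, 13, 11, 5, 7, 9, 15, 13, 11, 5, 7, 9, 15, 13, 11, 2, 10, 12, 14, 8, 6]
def rw307 : List ℕ := [4, 6, 14, 12, 10, 12, 14, 6, 4, 2, 7, 3, 5, 7, 15, 13, 11, 13, 15, 7, 5, 3, 5, 7, 15, 13, 11, 13, 15, 7, 5, 3, 5, 7, 15, 13, 11, 13, 15, 7, 5, 6, 4, 6, 14, 12, 10, 12, 14, 6, 4, 2, 4, 6, 14, 12, 10, 12, 14, 6, 4, 2]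
def rw308 : List ℕ := [4, 0, 2, 10, 12, 14, 4, 0, 2, 10, 12, 14, 4, 0, 2, 10, 12, 14, 1, 15, 13, 11, 3, 1, 5, 15, 13, 11, 3, 1, 5, 15, 13, 11, 3, 1, 5, 15, 13, 11, 3, 1, 5, 15, 13, 11, 3, 1, 5, 0, 4, 0, 2, 10, 12, 14, 4, 0, 2, 10, 12, 14]
def rw309 : List ℕ := [4, 12, 4, 12]
def rw310 : List ℕ := [4, 2, 4, 6, 14, 12, 10, 12, 14, 6, 4, 2, 5, 3, 5, 7, 15, 13, 11, 13, 15, 7, 5, 3, 5, 7, 15, 13, 11, 13, 15, 7, 5, 3, 5, 7, 15, 13, 11, 13, 15, 7, 5, 4, 4, 6, 14, 12, 10, 12, 14, 6, 4, 2, 4, 6, 14, 12, 10, 12, 14, 6]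
def rw311 : List ℕ := [4, 10, 12, 14, 8, 6, 4, 10, 12, 14, 8, 6, 4, 10, 12, 14, 8, 6, 4, 10, 12, 14, 8, 6, 4, 1, 5, 7, 9, 15, 13, 11, 5, 7, 9, 15, 13, 11, 5, 7, 9, 15, 13, 11, 5, 7, 9, 15, 13, 11, 5, 7, 9, 15, 13, 11, 0, 10, 12, 14, 8, 6]
def rw312 : List ℕ := [4, 0, 2, 10, 12, 14, 4, 0, 2, 10, 12, 14, 0, 15, 13, 11, 3, 1, 5, 15, 13, 11, 3, 1, 5, 15, 13, 11, 3, 1, 5, 15, 13, 11, 3, 1, 5, 15, 13, 11, 3, 1, 5, 1, 4, 0, 2, 10, 12, 14, 4, 0, 2, 10, 12, 14, 4, 0, 2, 10, 12, 14]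
def rw313 : List ℕ := [4, 2, 10, 12, 14, 6, 4, 2, 10, 12, 14, 6, 4, 2, 10, 12, 14, 6, 4, 2, 9, 3, 5, 7, 15, 13, 11, 3, 5, 7, 15, 13, 11, 3, 5, 7, 15, 13, 11, 3, 5, 7, 15, 13, 11, 3, 5, 7, 15, 13, 11, 8, 10, 12, 14, 6, 4, 2, 10, 12, 14, 6]
def rw314 : List ℕ := [4, 0, 2, 10, 12, 14, 4, 0, 2, 10, 12, 14, 4, 0, 2, 10, 12, 14, 4, 0, 2, 10, 12, 14, 4, 0, 2, 10, 12, 14, 3, 15, 13, 11, 3, 1, 5, 15, 13, 11, 3, 1, 5, 15, 13, 11, 3, 1, 5, 15, 13, 11, 3, 1, 5, 15, 13, 11, 3, 1, 5, 2]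
def rw315 : List ℕ := [4, 10, 12, 14, 8, 6, 4, 5, 5, 7, 9, 15, 13, 11, 5, 7, 9, 15, 13, 11, 5, 7, 9, 15, 13, 11, 5, 7, 9, 15, 13, 11, 5, 7, 9, 15, 13, 11, 4, 10, 12, 14, 8, 6, 4, 10, 12, 14, 8, 6, 4, 10, 12, 14, 8, 6, 4, 10, 12, 14, 8, 6]
def rw316 : List ℕ := [4, 6, 14, 12, 10, 12, 14, 6, 4, 2, 5, 3, 5, 7, 15, 13, 11, 13, 15, 7, 5, 3, 5, 7, 15, 13, 11, 13, 15, 7, 5, 3, 5, 7, 15, 13, 11, 13, 15, 7, 5, 4, 4, 6, 14, 12, 10, 12, 14, 6, 4, 2, 4, 6, 14, 12, 10, 12, 14, 6, 4, 2]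
def rw317 : List ℕ := [4, 6, 14, 12, 10, 12, 14, 6, 4, 2, 4, 6, 14, 12, 10, 12, 14, 6, 4, 2, 5, 3, 5, 7, 15, 13, 11, 13, 15, 7, 5, 3, 5, 7, 15, 13, 11, 13, 15, 7, 5, 3, 5, 7, 15, 13, 11, 13, 15, 7, 5, 4, 4, 6, 14, 12, 10, 12, 14, 6, 4, 2]
def rw318 : List ℕ := [4, 2, 9, 3, 5, 7, 15, 13, 11, 13, 15, 7, 5, 3, 5, 7, 15, 13, 11, 13, 15, 7, 5, 3, 5, 7, 15, 13, 11, 13, 15, 7, 5, 8, 4, 6, 14, 12, 10, 12, 14, 6, 4, 2, 4, 6, 14, 12, 10, 12, 14, 6, 4, 2, 4, 6, 14, 12, 10, 12, 14, 6]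
def rw319 : List ℕ := [4, 6, 14, 12, 10, 12, 14, 6, 4, 2, 4, 6, 14, 12, 10, 12, 14, 6, 4, 2, 7, 3, 5, 7, 15, 13, 11, 13, 15, 7, 5, 3, 5, 7, 15, 13, 11, 13, 15, 7, 5, 3, 5, 7, 15, 13, 11, 13, 15, 7, 5, 6, 4, 6, 14, 12, 10, 12, 14, 6, 4, 2]
def rw320 : List ℕ := [4, 2, 10, 12, 14, 6, 4, 2, 10, 12, 14, 6, 4, 2, 10, 12, 14, 6, 4, 2, 1, 3, 5, 7, 15, 13, 11, 3, 5, 7, 15, 13, 11, 3, 5, 7, 15, 13, 11, 3, 5, 7, 15, 13, 11, 3, 5, 7, 15, 13, 11, 0, 10, 12, 14, 6, 4, 2, 10, 12, 14, 6]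
def rw321 : List ℕ := [4, 2, 4, 6, 14, 12, 10, 12, 14, 6, 4, 2, 9, 3, 5, 7, 15, 13, 11, 13, 15, 7, 5, 3, 5, 7, 15, 13, 11, 13, 15, 7, 5, 3, 5, 7, 15, 13, 11, 13, 15, 7, 5, 8, 4, 6, 14, 12, 10, 12, 14, 6, 4, 2, 4, 6, 14, 12, 10, 12, 14, 6]
def rw322 : List ℕ := [4, 2, 4, 6, 14, 12, 10, 12, 14, 6, 4, 2, 7, 3, 5, 7, 15, 13, 11, 13, 15, 7, 5, 3, 5, 7, 15, 13, 11, 13, 15, 7, 5, 3, 5, 7, 15, 13, 11, 13, 15, 7, 5, 6, 4, 6, 14, 12, 10, 12, 14, 6, 4, 2, 4, 6, 14, 12, 10, 12, 14, 6]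
def rw323 : List ℕ := [4, 2, 10, 12, 14, 6, 4, 2, 10, 12, 14, 6, 4, 2, 10, 12, 14, 6, 4, 2, 10, 12, 14, 6, 4, 2, 3, 3, 5, 7, 15, 13, 11, 3, 5, 7, 15, 13, 11, 3, 5, 7, 15, 13, 11, 3, 5, 7, 15, 13, 11, 3, 5, 7, 15, 13, 11, 2, 10, 12, 14, 6]
def rw324 : List ℕ := [4, 2, 4, 6, 14, 12, 10, 12, 14, 6, 4, 2, 1, 3, 5, 7, 15, 13, 11, 13, 15, 7, 5, 3, 5, 7, 15, 13, 11, 13, 15, 7, 5, 3, 5, 7, 15, 13, 11, 13, 15, 7, 5, 0, 4, 6, 14, 12, 10, 12, 14, 6, 4, 2, 4, 6, 14, 12, 10, 12, 14, 6]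
def rw325 : List ℕ := [4, 2, 10, 12, 14, 6, 4, 2, 10, 12, 14, 6, 4, 2, 7, 3, 5, 7, 15, 13, 11, 3, 5, 7, 15, 13, 11, 3, 5, 7, 15, 13, 11, 3, 5, 7, 15, 13, 11, 3, 5, 7, 15, 13, 11, 6, 10, 12, 14, 6, 4, 2, 10, 12, 14, 6, 4, 2, 10, 12, 14, 6]
def rw326 : List ℕ := [4, 0, 5, 7, 9, 15, 13, 11, 5, 7, 9, 15, 13, 11, 5, 7, 9, 15, 13, 11, 5, 7, 9, 15, 13, 11, 5, 7, 9, 15, 13, 11, 1, 10, 12, 14, 8, 6, 4, 10, 12, 14, 8, 6, 4, 10, 12, 14, 8, 6, 4, 10, 12, 14, 8, 6, 4, 10, 12, 14, 8, 6]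
def rw327 : List ℕ := [4, 2, 11, 3, 5, 7, 15, 13, 11, 13, 15, 7, 5, 3, 5, 7, 15, 13, 11, 13, 15, 7, 5, 3, 5, 7, 15, 13, 11, 13, 15, 7, 5, 10, 4, 6, 14, 12, 10, 12, 14, 6, 4, 2, 4, 6, 14, 12, 10, 12, 14, 6, 4, 2, 4, 6, 14, 12, 10, 12, 14, 6]
def rw328 : List ℕ := [4, 10, 12, 14, 8, 6, 4, 1, 5, 7, 9, 15, 13, 11, 5, 7, 9, 15, 13, 11, 5, 7, 9, 15, 13, 11, 5, 7, 9, 15, 13, 11, 5, 7, 9, 15, 13, 11, 0, 10, 12, 14, 8, 6, 4, 10, 12, 14, 8, 6, 4, 10, 12, 14, 8, 6, 4, 10, 12, 14, 8, 6]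
def rw329 : List ℕ := [4, 6, 14, 12, 10, 12, 14, 6, 4, 2, 1, 3, 5, 7, 15, 13, 11, 13, 15, 7, 5, 3, 5, 7, 15, 13, 11, 13, 15, 7, 5, 3, 5, 7, 15, 13, 11, 13, 15, 7, 5, 0, 4, 6, 14, 12, 10, 12, 14, 6, 4, 2, 4, 6, 14, 12, 10, 12, 14, 6, 4, 2]
def rw330 : List ℕ := [4, 2, 7, 3, 5, 7, 15, 13, 11, 3, 5, 7, 15, 13, 11, 3, 5, 7, 15, 13, 11, 3, 5, 7, 15, 13, 11, 3, 5, 7, 15, 13, 11, 6, 10, 12, 14, 6, 4, 2, 10, 12, 14, 6, 4, 2, 10, 12, 14, 6, 4, 2, 10, 12, 14, 6, 4, 2, 10, 12, 14, 6]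
def rw331 : List ℕ := [4, 0, 2, 10, 12, 14, 4, 0, 2, 10, 12, 14, 4, 0, 2, 10, 12, 14, 4, 0, 2, 10, 12, 14, 0, 15, 13, 11, 3, 1, 5, 15, 13, 11, 3, 1, 5, 15, 13, 11, 3, 1, 5, 15, 13, 11, 3, 1, 5, 15, 13, 11, 3, 1, 5, 1, 4, 0, 2, 10, 12, 14]
def rw332 : List ℕ := [4, 10, 12, 14, 8, 6, 4, 15, 5, 7, 9, 15, 13, 11, 5, 7, 9, 15, 13, 11, 5, 7, 9, 15, 13, 11, 5, 7, 9, 15, 13, 11, 5, 7, 9, 15, 13, 11, 14, 10, 12, 14, 8, 6, 4, 10, 12, 14, 8, 6, 4, 10, 12, 14, 8, 6, 4, 10, 12, 14, 8, 6]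
def rw333 : List ℕ := [4, 2, 11, 3, 5, 7, 15, 13, 11, 3, 5, 7, 15, 13, 11, 3, 5, 7, 15, 13, 11, 3, 5, 7, 15, 13, 11, 3, 5, 7, 15, 13, 11, 10, 10, 12, 14, 6, 4, 2, 10, 12, 14, 6, 4, 2, 10, 12, 14, 6, 4, 2, 10, 12, 14, 6, 4, 2, 10, 12, 14, 6]
def rw334 : List ℕ := [4, 2, 13, 3, 5, 7, 15, 13, 11, 3, 5, 7, 15, 13, 11, 3, 5, 7, 15, 13, 11, 3, 5, 7, 15, 13, 11, 3, 5, 7, 15, 13, 11, 12, 10, 12, 14, 6, 4, 2, 10, 12, 14, 6, 4, 2, 10, 12, 14, 6, 4, 2, 10, 12, 14, 6, 4, 2, 10, 12, 14, 6]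
def rw335 : List ℕ := [4, 6, 14, 12, 10, 12, 14, 6, 4, 2, 4, 6, 14, 12, 10, 12, 14, 6, 4, 2, 4, 6, 14, 12, 10, 12, 14, 6, 4, 2, 3, 3, 5, 7, 15, 13, 11, 13, 15, 7, 5, 3, 5, 7, 15, 13, 11, 13, 15, 7, 5, 3, 5, 7, 15, 13, 11, 13, 15, 7, 5, 2]
def rw336 : List ℕ := [4, 10, 12, 14, 8, 6, 4, 10, 12, 14, 8, 6, 4, 10, 12, 14, 8, 6, 4, 10, 12, 14, 8, 6, 4, 11, 5, 7, 9, 15, 13, 11, 5, 7, 9, 15, 13, 11, 5, 7, 9, 15, 13, 11, 5, 7, 9, 15, 13, 11, 5, 7, 9, 15, 13, 11, 10, 10, 12, 14, 8, 6]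
def rw337 : List ℕ := [4, 10, 12, 14, 8, 6, 4, 10, 12, 14, 8, 6, 4, 10, 12, 14, 8, 6, 4, 10, 12, 14, 8, 6, 4, 15, 5, 7, 9, 15, 13, 11, 5, 7, 9, 15, 13, 11, 5, 7, 9, 15, 13, 11, 5, 7, 9, 15, 13, 11, 5, 7, 9, 15, 13, 11, 14, 10, 12, 14, 8, 6]
def rw338 : List ℕ := [4, 2, 10, 12, 14, 6, 4, 2, 10, 12, 14, 6, 4, 2, 13, 3, 5, 7, 15, 13, 11, 3, 5, 7, 15, 13, 11, 3, 5, 7, 15, 13, 11, 3, 5, 7, 15, 13, 11, 3, 5, 7, 15, 13, 11, 12, 10, 12, 14, 6, 4, 2, 10, 12, 14, 6, 4, 2, 10, 12, 14, 6]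
def rw339 : List ℕ := [4, 14, 5, 7, 9, 15, 13, 11, 5, 7, 9, 15, 13, 11, 5, 7, 9, 15, 13, 11, 5, 7, 9, 15, 13, 11, 5, 7, 9, 15, 13, 11, 15, 10, 12, 14, 8, 6, 4, 10, 12, 14, 8, 6, 4, 10, 12, 14, 8, 6, 4, 10, 12, 14, 8, 6, 4, 10, 12, 14, 8, 6]
def rw340 : List ℕ := [4, 2, 4, 6, 14, 12, 10, 12, 14, 6, 4, 2, 4, 6, 14, 12, 10, 12, 14, 6, 4, 2, 5, 3, 5, 7, 15, 13, 11, 13, 15, 7, 5, 3, 5, 7, 15, 13, 11, 13, 15, 7, 5, 3, 5, 7, 15, 13, 11, 13, 15, 7, 5, 4, 4, 6, 14, 12, 10, 12, 14, 6]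
def rw341 : List ℕ := [4, 6, 14, 12, 10, 12, 14, 6, 4, 2, 4, 6, 14, 12, 10, 12, 14, 6, 4, 2, 4, 6, 14, 12, 10, 12, 14, 6, 4, 2, 7, 3, 5, 7, 15, 13, 11, 13, 15, 7, 5, 3, 5, 7, 15, 13, 11, 13, 15, 7, 5, 3, 5, 7, 15, 13, 11, 13, 15, 7, 5, 6]
def rw342 : List ℕ := [4, 10, 12, 14, 8, 6, 4, 10, 12, 14, 8, 6, 4, 10, 12, 14, 8, 6, 4, 10, 12, 14, 8, 6, 4, 10, 12, 14, 8, 6, 4, 5, 5, 7, 9, 15, 13, 11, 5, 7, 9, 15, 13, 11, 5, 7, 9, 15, 13, 11, 5, 7, 9, 15, 13, 11, 5, 7, 9, 15, 13, 11]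
def rw343 : List ℕ := [4, 2, 3, 3, 5, 7, 15, 13, 11, 13, 15, 7, 5, 3, 5, 7, 15, 13, 11, 13, 15, 7, 5, 3, 5, 7, 15, 13, 11, 13, 15, 7, 5, 2, 4, 6, 14, 12, 10, 12, 14, 6, 4, 2, 4, 6, 14, 12, 10, 12, 14, 6, 4, 2, 4, 6, 14, 12, 10, 12, 14, 6]
def rw344 : List ℕ := [4, 2, 1, 3, 5, 7, 15, 13, 11, 13, 15, 7, 5, 3, 5, 7, 15, 13, 11, 13, 15, 7, 5, 3, 5, 7, 15, 13, 11, 13, 15, 7, 5, 0, 4, 6, 14, 12, 10, 12, 14, 6, 4, 2, 4, 6, 14, 12, 10, 12, 14, 6, 4, 2, 4, 6, 14, 12, 10, 12, 14, 6]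
def rw345 : List ℕ := [4, 0, 2, 10, 12, 14, 4, 0, 2, 10, 12, 14, 4, 0, 2, 10, 12, 14, 3, 15, 13, 11, 3, 1, 5, 15, 13, 11, 3, 1, 5, 15, 13, 11, 3, 1, 5, 15, 13, 11, 3, 1, 5, 15, 13, 11, 3, 1, 5, 2, 4, 0, 2, 10, 12, 14, 4, 0, 2, 10, 12, 14]
def rw346 : List ℕ := [4, 2, 10, 12, 14, 6, 4, 2, 13, 3, 5, 7, 15, 13, 11, 3, 5, 7, 15, 13, 11, 3, 5, 7, 15, 13, 11, 3, 5, 7, 15, 13, 11, 3, 5, 7, 15, 13, 11, 12, 10, 12, 14, 6, 4, 2, 10, 12, 14, 6, 4, 2, 10, 12, 14, 6, 4, 2, 10, 12, 14, 6]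
def rw347 : List ℕ := [4, 2, 10, 12, 14, 6, 4, 2, 10, 12, 14, 6, 4, 2, 10, 12, 14, 6, 4, 2, 10, 12, 14, 6, 4, 2, 11, 3, 5, 7, 15, 13, 11, 3, 5, 7, 15, 13, 11, 3, 5, 7, 15, 13, 11, 3, 5, 7, 15, 13, 11, 3, 5, 7, 15, 13, 11, 10, 10, 12, 14, 6]
def rw348 : List ℕ := [4, 2, 10, 12, 14, 6, 4, 2, 11, 3, 5, 7, 15, 13, 11, 3, 5, 7, 15, 13, 11, 3, 5, 7, 15, 13, 11, 3, 5, 7, 15, 13, 11, 3, 5, 7, 15, 13, 11, 10, 10, 12, 14, 6, 4, 2, 10, 12, 14, 6, 4, 2, 10, 12, 14, 6, 4, 2, 10, 12, 14, 6]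
def rw349 : List ℕ := [4, 0, 2, 10, 12, 14, 4, 0, 2, 10, 12, 14, 4, 0, 2, 10, 12, 14, 4, 0, 2, 10, 12, 14, 3, 15, 13, 11, 3, 1, 5, 15, 13, 11, 3, 1, 5, 15, 13, 11, 3, 1, 5, 15, 13, 11, 3, 1, 5, 15, 13, 11, 3, 1, 5, 2, 4, 0, 2, 10, 12, 14]
def rw350 : List ℕ := [4, 0, 2, 10, 12, 14, 4, 0, 2, 10, 12, 14, 3, 15, 13, 11, 3, 1, 5, 15, 13, 11, 3, 1, 5, 15, 13, 11, 3, 1, 5, 15, 13, 11, 3, 1, 5, 15, 13, 11, 3, 1, 5, 2, 4, 0, 2, 10, 12, 14, 4, 0, 2, 10, 12, 14, 4, 0, 2, 10, 12, 14]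
def rw351 : List ℕ := [4, 2, 4, 6, 14, 12, 10, 12, 14, 6, 4, 2, 4, 6, 14, 12, 10, 12, 14, 6, 4, 2, 13, 3, 5, 7, 15, 13, 11, 13, 15, 7, 5, 3, 5, 7, 15, 13, 11, 13, 15, 7, 5, 3, 5, 7, 15, 13, 11, 13, 15, 7, 5, 12, 4, 6, 14, 12, 10, 12, 14, 6]
def rw352 : List ℕ := [4, 2, 9, 3, 5, 7, 15, 13, 11, 3, 5, 7, 15, 13, 11, 3, 5, 7, 15, 13, 11, 3, 5, 7, 15, 13, 11, 3, 5, 7, 15, 13, 11, 8, 10, 12, 14, 6, 4, 2, 10, 12, 14, 6, 4, 2, 10, 12, 14, 6, 4, 2, 10, 12, 14, 6, 4, 2, 10, 12, 14, 6]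
def rw353 : List ℕ := [4, 10, 12, 14, 8, 6, 4, 9, 5, 7, 9, 15, 13, 11, 5, 7, 9, 15, 13, 11, 5, 7, 9, 15, 13, 11, 5, 7, 9, 15, 13, 11, 5, 7, 9, 15, 13, 11, 8, 10, 12, 14, 8, 6, 4, 10, 12, 14, 8, 6, 4, 10, 12, 14, 8, 6, 4, 10, 12, 14, 8, 6]
def rw354 : List ℕ := [4, 2, 5, 3, 5, 7, 15, 13, 11, 3, 5, 7, 15, 13, 11, 3, 5, 7, 15, 13, 11, 3, 5, 7, 15, 13, 11, 3, 5, 7, 15, 13, 11, 4, 10, 12, 14, 6, 4, 2, 10, 12, 14, 6, 4, 2, 10, 12, 14, 6, 4, 2, 10, 12, 14, 6, 4, 2, 10, 12, 14, 6]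
def rw355 : List ℕ := [4, 10, 12, 14, 8, 6, 4, 10, 12, 14, 8, 6, 4, 1, 5, 7, 9, 15, 13, 11, 5, 7, 9, 15, 13, 11, 5, 7, 9, 15, 13, 11, 5, 7, 9, 15, 13, 11, 5, 7, 9, 15, 13, 11, 0, 10, 12, 14, 8, 6, 4, 10, 12, 14, 8, 6, 4, 10, 12, 14, 8, 6]
def rw356 : List ℕ := [4, 10, 12, 14, 8, 6, 4, 10, 12, 14, 8, 6, 4, 10, 12, 14, 8, 6, 4, 3, 5, 7, 9, 15, 13, 11, 5, 7, 9, 15, 13, 11, 5, 7, 9, 15, 13, 11, 5, 7, 9, 15, 13, 11, 5, 7, 9, 15, 13, 11, 2, 10, 12, 14, 8, 6, 4, 10, 12, 14, 8, 6]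
def rw357 : List ℕ := [4, 2, 10, 12, 14, 6, 4, 2, 10, 12, 14, 6, 4, 2, 9, 3, 5, 7, 15, 13, 11, 3, 5, 7, 15, 13, 11, 3, 5, 7, 15, 13, 11, 3, 5, 7, 15, 13, 11, 3, 5, 7, 15, 13, 11, 8, 10, 12, 14, 6, 4, 2, 10, 12, 14, 6, 4, 2, 10, 12, 14, 6]
def rw358 : List ℕ := [4, 2, 10, 12, 14, 6, 4, 2, 10, 12, 14, 6, 4, 2, 3, 3, 5, 7, 15, 13, 11, 3, 5, 7, 15, 13, 11, 3, 5, 7, 15, 13, 11, 3, 5, 7, 15, 13, 11, 3, 5, 7, 15, 13, 11, 2, 10, 12, 14, 6, 4, 2, 10, 12, 14, 6, 4, 2, 10, 12, 14, 6]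
def rw359 : List ℕ := [4, 6, 14, 12, 10, 12, 14, 6, 4, 2, 9, 3, 5, 7, 15, 13, 11, 13, 15, 7, 5, 3, 5, 7, 15, 13, 11, 13, 15, 7, 5, 3, 5, 7, 15, 13, 11, 13, 15, 7, 5, 8, 4, 6, 14, 12, 10, 12, 14, 6, 4, 2, 4, 6, 14, 12, 10, 12, 14, 6, 4, 2]
def rw360 : List ℕ := [4, 2, 5, 3, 5, 7, 15, 13, 11, 13, 15, 7, 5, 3, 5, 7, 15, 13, 11, 13, 15, 7, 5, 3, 5, 7, 15, 13, 11, 13, 15, 7, 5, 4, 4, 6, 14, 12, 10, 12, 14, 6, 4, 2, 4, 6, 14, 12, 10, 12, 14, 6, 4, 2, 4, 6, 14, 12, 10, 12, 14, 6]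
def rw361 : List ℕ := [4, 10, 12, 14, 8, 6, 4, 3, 5, 7, 9, 15, 13, 11, 5, 7, 9, 15, 13, 11, 5, 7, 9, 15, 13, 11, 5, 7, 9, 15, 13, 11, 5, 7, 9, 15, 13, 11, 2, 10, 12, 14, 8, 6, 4, 10, 12, 14, 8, 6, 4, 10, 12, 14, 8, 6, 4, 10, 12, 14, 8, 6]
def rw362 : List ℕ := [4, 0, 2, 10, 12, 14, 4, 0, 2, 10, 12, 14, 5, 15, 13, 11, 3, 1, 5, 15, 13, 11, 3, 1, 5, 15, 13, 11, 3, 1, 5, 15, 13, 11, 3, 1, 5, 15, 13, 11, 3, 1, 5, 4, 4, 0, 2, 10, 12, 14, 4, 0, 2, 10, 12, 14, 4, 0, 2, 10, 12, 14]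
def rw363 : List ℕ := [4, 0, 2, 10, 12, 14, 7, 15, 13, 11, 3, 1, 5, 15, 13, 11, 3, 1, 5, 15, 13, 11, 3, 1, 5, 15, 13, 11, 3, 1, 5, 15, 13, 11, 3, 1, 5, 6, 4, 0, 2, 10, 12, 14, 4, 0, 2, 10, 12, 14, 4, 0, 2, 10, 12, 14, 4, 0, 2, 10, 12, 14]
def rw364 : List ℕ := [4, 0, 2, 10, 12, 14, 4, 0, 2, 10, 12, 14, 4, 0, 2, 10, 12, 14, 4, 0, 2, 10, 12, 14, 7, 15, 13, 11, 3, 1, 5, 15, 13, 11, 3, 1, 5, 15, 13, 11, 3, 1, 5, 15, 13, 11, 3, 1, 5, 15, 13, 11, 3, 1, 5, 6, 4, 0, 2, 10, 12, 14]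
def rw365 : List ℕ := [4, 6, 14, 12, 10, 12, 14, 6, 4, 2, 4, 6, 14, 12, 10, 12, 14, 6, 4, 2, 4, 6, 14, 12, 10, 12, 14, 6, 4, 2, 1, 3, 5, 7, 15, 13, 11, 13, 15, 7, 5, 3, 5, 7, 15, 13, 11, 13, 15, 7, 5, 3, 5, 7, 15, 13, 11, 13, 15, 7, 5, 0]
def rw366 : List ℕ := [4, 10, 12, 14, 8, 6, 4, 10, 12, 14, 8, 6, 4, 10, 12, 14, 8, 6, 4, 10, 12, 14, 8, 6, 4, 9, 5, 7, 9, 15, 13, 11, 5, 7, 9, 15, 13, 11, 5, 7, 9, 15, 13, 11, 5, 7, 9, 15, 13, 11, 5, 7, 9, 15, 13, 11, 8, 10, 12, 14, 8, 6]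
def rw367 : List ℕ := [4, 2, 5, 7, 9, 15, 13, 11, 5, 7, 9, 15, 13, 11, 5, 7, 9, 15, 13, 11, 5, 7, 9, 15, 13, 11, 5, 7, 9, 15, 13, 11, 3, 10, 12, 14, 8, 6, 4, 10, 12, 14, 8, 6, 4, 10, 12, 14, 8, 6, 4, 10, 12, 14, 8, 6, 4, 10, 12, 14, 8, 6]
def rw368 : List ℕ := [4, 0, 2, 10, 12, 14, 4, 0, 2, 10, 12, 14, 4, 0, 2, 10, 12, 14, 4, 0, 2, 10, 12, 14, 4, 0, 2, 10, 12, 14, 13, 15, 13, 11, 3, 1, 5, 15, 13, 11, 3, 1, 5, 15, 13, 11, 3, 1, 5, 15, 13, 11, 3, 1, 5, 15, 13, 11, 3, 1, 5, 12]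
def rw369 : List ℕ := [4, 2, 10, 12, 14, 6, 4, 2, 10, 12, 14, 6, 4, 2, 1, 3, 5, 7, 15, 13, 11, 3, 5, 7, 15, 13, 11, 3, 5, 7, 15, 13, 11, 3, 5, 7, 15, 13, 11, 3, 5, 7, 15, 13, 11, 0, 10, 12, 14, 6, 4, 2, 10, 12, 14, 6, 4, 2, 10, 12, 14, 6]
def rw370 : List ℕ := [4, 2, 10, 12, 14, 6, 4, 2, 10, 12, 14, 6, 4, 2, 10, 12, 14, 6, 4, 2, 3, 3, 5, 7, 15, 13, 11, 3, 5, 7, 15, 13, 11, 3, 5, 7, 15, 13, 11, 3, 5, 7, 15, 13, 11, 3, 5, 7, 15, 13, 11, 2, 10, 12, 14, 6, 4, 2, 10, 12, 14, 6]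
def rw371 : List ℕ := [4, 10, 12, 14, 8, 6, 4, 10, 12, 14, 8, 6, 4, 13, 5, 7, 9, 15, 13, 11, 5, 7, 9, 15, 13, 11, 5, 7, 9, 15, 13, 11, 5, 7, 9, 15, 13, 11, 5, 7, 9, 15, 13, 11, 12, 10, 12, 14, 8, 6, 4, 10, 12, 14, 8, 6, 4, 10, 12, 14, 8, 6]
def rw372 : List ℕ := [4, 0, 2, 10, 12, 14, 4, 0, 2, 10, 12, 14, 4, 0, 2, 10, 12, 14, 4, 0, 2, 10, 12, 14, 4, 0, 2, 10, 12, 14, 11, 15, 13, 11, 3, 1, 5, 15, 13, 11, 3, 1, 5, 15, 13, 11, 3, 1, 5, 15, 13, 11, 3, 1, 5, 15, 13, 11, 3, 1, 5, 10]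
def rw373 : List ℕ := [4, 0, 2, 10, 12, 14, 3, 15, 13, 11, 3, 1, 5, 15, 13, 11, 3, 1, 5, 15, 13, 11, 3, 1, 5, 15, 13, 11, 3, 1, 5, 15, 13, 11, 3, 1, 5, 2, 4, 0, 2, 10, 12, 14, 4, 0, 2, 10, 12, 14, 4, 0, 2, 10, 12, 14, 4, 0, 2, 10, 12, 14]
def rw374 : List ℕ := [4, 0, 2, 10, 12, 14, 5, 15, 13, 11, 3, 1, 5, 15, 13, 11, 3, 1, 5, 15, 13, 11, 3, 1, 5, 15, 13, 11, 3, 1, 5, 15, 13, 11, 3, 1, 5, 4, 4, 0, 2, 10, 12, 14, 4, 0, 2, 10, 12, 14, 4, 0, 2, 10, 12, 14, 4, 0, 2, 10, 12, 14]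
def rw375 : List ℕ := [4, 2, 10, 12, 14, 6, 4, 2, 10, 12, 14, 6, 4, 2, 10, 12, 14, 6, 4, 2, 7, 3, 5, 7, 15, 13, 11, 3, 5, 7, 15, 13, 11, 3, 5, 7, 15, 13, 11, 3, 5, 7, 15, 13, 11, 3, 5, 7, 15, 13, 11, 6, 10, 12, 14, 6, 4, 2, 10, 12, 14, 6]
def rw376 : List ℕ := [4, 2, 0, 12, 10, 8, 6, 4, 2, 0, 12, 10, 8, 6, 4, 2, 0, 12, 10, 8, 6, 4, 2, 0, 12, 10, 8, 6, 4, 2, 0, 12, 10, 8, 6, 4, 2, 0, 12, 10, 8, 6, 4, 2, 0, 12, 10, 8, 6, 4, 2, 0, 5, 1, 3, 5, 7, 9, 11, 13, 1, 3, 5, 7, 9, 11, 13, 1, 3, 5, 7, 9, 11, 13, 1, 3, 5, 7, 9, 11, 13, 1, 3, 5, 7, 9, 11, 13, 1, 3, 5, 7, 9, 11, 13, 1, 3, 5, 7, 9, 11, 13, 1, 3, 5, 7, 9, 11, 13, 1, 3, 5, 7, 9, 11, 13, 4, 12, 10, 8, 6, 4, 2, 0, 12, 10, 8, 6]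
def rw377 : List ℕ := [4, 3, 5, 7, 15, 13, 11, 3, 5, 7, 15, 13, 11, 3, 5, 7, 15, 13, 11, 3, 5, 7, 15, 13, 11, 3, 5, 7, 15, 13, 11, 5, 10, 12, 14, 6, 4, 2, 10, 12, 14, 6, 4, 2, 10, 12, 14, 6, 4, 2, 10, 12, 14, 6, 4, 2, 10, 12, 14, 6, 4, 2]
def rw378 : List ℕ := [4, 2, 10, 12, 14, 6, 4, 2, 10, 12, 14, 6, 4, 2, 10, 12, 14, 6, 4, 2, 5, 3, 5, 7, 15, 13, 11, 3, 5, 7, 15, 13, 11, 3, 5, 7, 15, 13, 11, 3, 5, 7, 15, 13, 11, 3, 5, 7, 15, 13, 11, 4, 10, 12, 14, 6, 4, 2, 10, 12, 14, 6]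
def rw379 : List ℕ := [4, 10, 12, 14, 8, 6, 4, 10, 12, 14, 8, 6, 4, 10, 12, 14, 8, 6, 4, 5, 5, 7, 9, 15, 13, 11, 5, 7, 9, 15, 13, 11, 5, 7, 9, 15, 13, 11, 5, 7, 9, 15, 13, 11, 5, 7, 9, 15, 13, 11, 4, 10, 12, 14, 8, 6, 4, 10, 12, 14, 8, 6]
def rw380 : List ℕ := [4, 2, 0, 12, 10, 8, 6, 4, 2, 0, 12, 10, 8, 6, 4, 2, 0, 12, 10, 8, 6, 4, 2, 0, 12, 10, 8, 6, 4, 2, 0, 12, 10, 8, 6, 4, 2, 0, 12, 10, 8, 6, 4, 2, 0, 12, 10, 8, 6, 4, 2, 0, 12, 10, 8, 6, 4, 2, 0, 5, 1, 3, 5, 7, 9, 11, 13, 1, 3, 5, 7, 9, 11, 13, 1, 3, 5, 7, 9, 11, 13, 1, 3, 5, 7, 9, 11, 13, 1, 3, 5, 7, 9, 11, 13, 1, 3, 5, 7, 9, 11, 13, 1, 3, 5, 7, 9, 11, 13, 1, 3, 5, 7, 9, 11, 13, 1, 3, 5, 7, 9, 11, 13, 4, 12, 10, 8, 6]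
def rw381 : List ℕ := [4, 2, 4, 6, 14, 12, 10, 12, 14, 6, 4, 2, 15, 3, 5, 7, 15, 13, 11, 13, 15, 7, 5, 3, 5, 7, 15, 13, 11, 13, 15, 7, 5, 3, 5, 7, 15, 13, 11, 13, 15, 7, 5, 14, 4, 6, 14, 12, 10, 12, 14, 6, 4, 2, 4, 6, 14, 12, 10, 12, 14, 6]
def rw382 : List ℕ := [4, 0, 2, 10, 12, 14, 1, 15, 13, 11, 3, 1, 5, 15, 13, 11, 3, 1, 5, 15, 13, 11, 3, 1, 5, 15, 13, 11, 3, 1, 5, 15, 13, 11, 3, 1, 5, 0, 4, 0, 2, 10, 12, 14, 4, 0, 2, 10, 12, 14, 4, 0, 2, 10, 12, 14, 4, 0, 2, 10, 12, 14]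
def rw383 : List ℕ := [4, 2, 0, 12, 10, 8, 6, 4, 2, 0, 12, 10, 8, 6, 4, 2, 0, 12, 10, 8, 6, 4, 2, 0, 12, 10, 8, 6, 4, 2, 0, 1, 1, 3, 5, 7, 9, 11, 13, 1, 3, 5, 7, 9, 11, 13, 1, 3, 5, 7, 9, 11, 13, 1, 3, 5, 7, 9, 11, 13, 1, 3, 5, 7, 9, 11, 13, 1, 3, 5, 7, 9, 11, 13, 1, 3, 5, 7, 9, 11, 13, 1, 3, 5, 7, 9, 11, 13, 1, 3, 5, 7, 9, 11, 13, 0, 12, 10, 8, 6, 4, 2, 0, 12, 10, 8, 6, 4, 2, 0, 12, 10, 8, 6, 4, 2, 0, 12, 10, 8, 6, 4, 2, 0, 12, 10, 8, 6]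
def rw384 : List ℕ := [4, 1, 5, 7, 9, 15, 13, 11, 5, 7, 9, 15, 13, 11, 5, 7, 9, 15, 13, 11, 5, 7, 9, 15, 13, 11, 5, 7, 9, 15, 13, 11, 0, 10, 12, 14, 8, 6, 4, 10, 12, 14, 8, 6, 4, 10, 12, 14, 8, 6, 4, 10, 12, 14, 8, 6, 4, 10, 12, 14, 8, 6]
def rw385 : List ℕ := [4, 2, 0, 12, 10, 8, 6, 4, 2, 0, 12, 10, 8, 6, 4, 2, 0, 12, 10, 8, 6, 4, 2, 0, 12, 10, 8, 6, 4, 2, 0, 12, 10, 8, 6, 4, 2, 0, 5, 1, 3, 5, 7, 9, 11, 13, 1, 3, 5, 7, 9, 11, 13, 1, 3, 5, 7, 9, 11, 13, 1, 3, 5, 7, 9, 11, 13, 1, 3, 5, 7, 9, 11, 13, 1, 3, 5, 7, 9, 11, 13, 1, 3, 5, 7, 9, 11, 13, 1, 3, 5, 7, 9, 11, 13, 1, 3, 5, 7, 9, 11, 13, 4, 12, 10, 8, 6, 4, 2, 0, 12, 10, 8, 6, 4, 2, 0, 12, 10, 8, 6, 4, 2, 0, 12, 10, 8, 6]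
def rw386 : List ℕ := [4, 2, 10, 12, 14, 6, 4, 2, 1, 3, 5, 7, 15, 13, 11, 3, 5, 7, 15, 13, 11, 3, 5, 7, 15, 13, 11, 3, 5, 7, 15, 13, 11, 3, 5, 7, 15, 13, 11, 0, 10, 12, 14, 6, 4, 2, 10, 12, 14, 6, 4, 2, 10, 12, 14, 6, 4, 2, 10, 12, 14, 6]
def rw387 : List ℕ := [4, 6, 14, 12, 10, 12, 14, 6, 4, 2, 13, 3, 5, 7, 15, 13, 11, 13, 15, 7, 5, 3, 5, 7, 15, 13, 11, 13, 15, 7, 5, 3, 5, 7, 15, 13, 11, 13, 15, 7, 5, 12, 4, 6, 14, 12, 10, 12, 14, 6, 4, 2, 4, 6, 14, 12, 10, 12, 14, 6, 4, 2]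
def rw388 : List ℕ := [4, 6, 14, 12, 10, 12, 14, 6, 4, 2, 4, 6, 14, 12, 10, 12, 14, 6, 4, 2, 4, 6, 14, 12, 10, 12, 14, 6, 4, 2, 15, 3, 5, 7, 15, 13, 11, 13, 15, 7, 5, 3, 5, 7, 15, 13, 11, 13, 15, 7, 5, 3, 5, 7, 15, 13, 11, 13, 15, 7, 5, 14]
def rw389 : List ℕ := [4, 10, 12, 14, 6, 4, 2, 10, 12, 14, 6, 4, 2, 10, 12, 14, 6, 4, 2, 10, 12, 14, 6, 4, 2, 10, 12, 14, 6, 4, 2, 5, 3, 5, 7, 15, 13, 11, 3, 5, 7, 15, 13, 11, 3, 5, 7, 15, 13, 11, 3, 5, 7, 15, 13, 11, 3, 5, 7, 15, 13, 11]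
def rw390 : List ℕ := [4, 0, 2, 10, 12, 14, 4, 0, 2, 10, 12, 14, 9, 15, 13, 11, 3, 1, 5, 15, 13, 11, 3, 1, 5, 15, 13, 11, 3, 1, 5, 15, 13, 11, 3, 1, 5, 15, 13, 11, 3, 1, 5, 8, 4, 0, 2, 10, 12, 14, 4, 0, 2, 10, 12, 14, 4, 0, 2, 10, 12, 14]
def rw391 : List ℕ := [4, 2, 0, 12, 10, 8, 6, 4, 2, 0, 12, 10, 8, 6, 4, 2, 0, 12, 10, 8, 6, 4, 2, 0, 12, 10, 8, 6, 4, 2, 0, 12, 10, 8, 6, 4, 2, 0, 15, 1, 3, 5, 7, 9, 11, 13, 1, 3, 5, 7, 9, 11, 13, 1, 3, 5, 7, 9, 11, 13, 1, 3, 5, 7, 9, 11, 13, 1, 3, 5, 7, 9, 11, 13, 1, 3, 5, 7, 9, 11, 13, 1, 3, 5, 7, 9, 11, 13, 1, 3, 5, 7, 9, 11, 13, 1, 3, 5, 7, 9, 11, 13, 14, 12, 10, 8, 6, 4, 2, 0, 12, 10, 8, 6, 4, 2, 0, 12, 10, 8, 6, 4, 2, 0, 12, 10, 8, 6]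
def rw392 : List ℕ := [4, 0, 2, 10, 12, 14, 4, 0, 2, 10, 12, 14, 4, 0, 2, 10, 12, 14, 4, 0, 2, 10, 12, 14, 4, 0, 2, 10, 12, 14, 9, 15, 13, 11, 3, 1, 5, 15, 13, 11, 3, 1, 5, 15, 13, 11, 3, 1, 5, 15, 13, 11, 3, 1, 5, 15, 13, 11, 3, 1, 5, 8]
def rw393 : List ℕ := [4, 2, 4, 6, 14, 12, 10, 12, 14, 6, 4, 2, 4, 6, 14, 12, 10, 12, 14, 6, 4, 2, 9, 3, 5, 7, 15, 13, 11, 13, 15, 7, 5, 3, 5, 7, 15, 13, 11, 13, 15, 7, 5, 3, 5, 7, 15, 13, 11, 13, 15, 7, 5, 8, 4, 6, 14, 12, 10, 12, 14, 6]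
def rw394 : List ℕ := [4, 2, 10, 12, 14, 6, 4, 2, 10, 12, 14, 6, 4, 2, 5, 3, 5, 7, 15, 13, 11, 3, 5, 7, 15, 13, 11, 3, 5, 7, 15, 13, 11, 3, 5, 7, 15, 13, 11, 3, 5, 7, 15, 13, 11, 4, 10, 12, 14, 6, 4, 2, 10, 12, 14, 6, 4, 2, 10, 12, 14, 6]
def rw395 : List ℕ := [4, 2, 10, 12, 14, 6, 4, 2, 10, 12, 14, 6, 4, 2, 10, 12, 14, 6, 4, 2, 10, 12, 14, 6, 4, 2, 1, 3, 5, 7, 15, 13, 11, 3, 5, 7, 15, 13, 11, 3, 5, 7, 15, 13, 11, 3, 5, 7, 15, 13, 11, 3, 5, 7, 15, 13, 11, 0, 10, 12, 14, 6]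
def rw396 : List ℕ := [4, 3, 5, 7, 9, 15, 13, 11, 5, 7, 9, 15, 13, 11, 5, 7, 9, 15, 13, 11, 5, 7, 9, 15, 13, 11, 5, 7, 9, 15, 13, 11, 2, 10, 12, 14, 8, 6, 4, 10, 12, 14, 8, 6, 4, 10, 12, 14, 8, 6, 4, 10, 12, 14, 8, 6, 4, 10, 12, 14, 8, 6]
def rw397 : List ℕ := [4, 0, 2, 10, 12, 14, 4, 0, 2, 10, 12, 14, 4, 0, 2, 10, 12, 14, 4, 0, 2, 10, 12, 14, 5, 15, 13, 11, 3, 1, 5, 15, 13, 11, 3, 1, 5, 15, 13, 11, 3, 1, 5, 15, 13, 11, 3, 1, 5, 15, 13, 11, 3, 1, 5, 4, 4, 0, 2, 10, 12, 14]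
def rw398 : List ℕ := [4, 2, 0, 1, 1, 3, 5, 7, 9, 11, 13, 1, 3, 5, 7, 9, 11, 13, 1, 3, 5, 7, 9, 11, 13, 1, 3, 5, 7, 9, 11, 13, 1, 3, 5, 7, 9, 11, 13, 1, 3, 5, 7, 9, 11, 13, 1, 3, 5, 7, 9, 11, 13, 1, 3, 5, 7, 9, 11, 13, 1, 3, 5, 7, 9, 11, 13, 0, 12, 10, 8, 6, 4, 2, 0, 12, 10, 8, 6, 4, 2, 0, 12, 10, 8, 6, 4, 2, 0, 12, 10, 8, 6, 4, 2, 0, 12, 10, 8, 6, 4, 2, 0, 12, 10, 8, 6, 4, 2, 0, 12, 10, 8, 6, 4, 2, 0, 12, 10, 8, 6, 4, 2, 0, 12, 10, 8, 6]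
def rw399 : List ℕ := [4, 10, 12, 14, 8, 6, 4, 10, 12, 14, 8, 6, 4, 10, 12, 14, 8, 6, 4, 7, 5, 7, 9, 15, 13, 11, 5, 7, 9, 15, 13, 11, 5, 7, 9, 15, 13, 11, 5, 7, 9, 15, 13, 11, 5, 7, 9, 15, 13, 11, 6, 10, 12, 14, 8, 6, 4, 10, 12, 14, 8, 6]
def rw400 : List ℕ := [4, 2, 4, 6, 14, 12, 10, 12, 14, 6, 4, 2, 4, 6, 14, 12, 10, 12, 14, 6, 4, 2, 1, 3, 5, 7, 15, 13, 11, 13, 15, 7, 5, 3, 5, 7, 15, 13, 11, 13, 15, 7, 5, 3, 5, 7, 15, 13, 11, 13, 15, 7, 5, 0, 4, 6, 14, 12, 10, 12, 14, 6]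
def rw401 : List ℕ := [4, 0, 2, 10, 12, 14, 4, 0, 2, 10, 12, 14, 2, 15, 13, 11, 3, 1, 5, 15, 13, 11, 3, 1, 5, 15, 13, 11, 3, 1, 5, 15, 13, 11, 3, 1, 5, 15, 13, 11, 3, 1, 5, 3, 4, 0, 2, 10, 12, 14, 4, 0, 2, 10, 12, 14, 4, 0, 2, 10, 12, 14]
def rw402 : List ℕ := [4, 15, 5, 7, 9, 15, 13, 11, 5, 7, 9, 15, 13, 11, 5, 7, 9, 15, 13, 11, 5, 7, 9, 15, 13, 11, 5, 7, 9, 15, 13, 11, 14, 10, 12, 14, 8, 6, 4, 10, 12, 14, 8, 6, 4, 10, 12, 14, 8, 6, 4, 10, 12, 14, 8, 6, 4, 10, 12, 14, 8, 6]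
def rw403 : List ℕ := [4, 9, 5, 7, 9, 15, 13, 11, 5, 7, 9, 15, 13, 11, 5, 7, 9, 15, 13, 11, 5, 7, 9, 15, 13, 11, 5, 7, 9, 15, 13, 11, 8, 10, 12, 14, 8, 6, 4, 10, 12, 14, 8, 6, 4, 10, 12, 14, 8, 6, 4, 10, 12, 14, 8, 6, 4, 10, 12, 14, 8, 6]
def rw404 : List ℕ := [4, 10, 12, 14, 8, 6, 4, 10, 12, 14, 8, 6, 4, 3, 5, 7, 9, 15, 13, 11, 5, 7, 9, 15, 13, 11, 5, 7, 9, 15, 13, 11, 5, 7, 9, 15, 13, 11, 5, 7, 9, 15, 13, 11, 2, 10, 12, 14, 8, 6, 4, 10, 12, 14, 8, 6, 4, 10, 12, 14, 8, 6]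
def rw405 : List ℕ := [4, 2, 0, 12, 10, 8, 6, 4, 2, 0, 12, 10, 8, 6, 4, 2, 0, 12, 10, 8, 6, 4, 2, 0, 1, 1, 3, 5, 7, 9, 11, 13, 1, 3, 5, 7, 9, 11, 13, 1, 3, 5, 7, 9, 11, 13, 1, 3, 5, 7, 9, 11, 13, 1, 3, 5, 7, 9, 11, 13, 1, 3, 5, 7, 9, 11, 13, 1, 3, 5, 7, 9, 11, 13, 1, 3, 5, 7, 9, 11, 13, 1, 3, 5, 7, 9, 11, 13, 0, 12, 10, 8, 6, 4, 2, 0, 12, 10, 8, 6, 4, 2, 0, 12, 10, 8, 6, 4, 2, 0, 12, 10, 8, 6, 4, 2, 0, 12, 10, 8, 6, 4, 2, 0, 12, 10, 8, 6]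
def rw406 : List ℕ := [4, 0, 2, 10, 12, 14, 4, 0, 2, 10, 12, 14, 4, 0, 2, 10, 12, 14, 4, 0, 2, 10, 12, 14, 4, 0, 2, 10, 12, 14, 7, 15, 13, 11, 3, 1, 5, 15, 13, 11, 3, 1, 5, 15, 13, 11, 3, 1, 5, 15, 13, 11, 3, 1, 5, 15, 13, 11, 3, 1, 5, 6]
def rw407 : List ℕ := [4, 0, 2, 10, 12, 14, 4, 0, 2, 10, 12, 14, 4, 0, 2, 10, 12, 14, 4, 0, 2, 10, 12, 14, 4, 0, 2, 10, 12, 14, 15, 15, 13, 11, 3, 1, 5, 15, 13, 11, 3, 1, 5, 15, 13, 11, 3, 1, 5, 15, 13, 11, 3, 1, 5, 15, 13, 11, 3, 1, 5, 14]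
def rw408 : List ℕ := [4, 4, 5, 7, 9, 15, 13, 11, 5, 7, 9, 15, 13, 11, 5, 7, 9, 15, 13, 11, 5, 7, 9, 15, 13, 11, 5, 7, 9, 15, 13, 11, 5, 10, 12, 14, 8, 6, 4, 10, 12, 14, 8, 6, 4, 10, 12, 14, 8, 6, 4, 10, 12, 14, 8, 6, 4, 10, 12, 14, 8, 6]
def rw409 : List ℕ := [4, 2, 0, 12, 10, 8, 6, 4, 2, 0, 12, 10, 8, 6, 4, 2, 0, 12, 10, 8, 6, 4, 2, 0, 12, 10, 8, 6, 4, 2, 0, 11, 1, 3, 5, 7, 9, 11, 13, 1, 3, 5, 7, 9, 11, 13, 1, 3, 5, 7, 9, 11, 13, 1, 3, 5, 7, 9, 11, 13, 1, 3, 5, 7, 9, 11, 13, 1, 3, 5, 7, 9, 11, 13, 1, 3, 5, 7, 9, 11, 13, 1, 3, 5, 7, 9, 11, 13, 1, 3, 5, 7, 9, 11, 13, 10, 12, 10, 8, 6, 4, 2, 0, 12, 10, 8, 6, 4, 2, 0, 12, 10, 8, 6, 4, 2, 0, 12, 10, 8, 6, 4, 2, 0, 12, 10, 8, 6]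
def rw410 : List ℕ := [4, 2, 0, 12, 10, 8, 6, 4, 2, 0, 12, 10, 8, 6, 4, 2, 0, 12, 10, 8, 6, 4, 2, 0, 12, 10, 8, 6, 4, 2, 0, 15, 1, 3, 5, 7, 9, 11, 13, 1, 3, 5, 7, 9, 11, 13, 1, 3, 5, 7, 9, 11, 13, 1, 3, 5, 7, 9, 11, 13, 1, 3, 5, 7, 9, 11, 13, 1, 3, 5, 7, 9, 11, 13, 1, 3, 5, 7, 9, 11, 13, 1, 3, 5, 7, 9, 11, 13, 1, 3, 5, 7, 9, 11, 13, 14, 12, 10, 8, 6, 4, 2, 0, 12, 10, 8, 6, 4, 2, 0, 12, 10, 8, 6, 4, 2, 0, 12, 10, 8, 6, 4, 2, 0, 12, 10, 8, 6]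
def rw411 : List ℕ := [4, 2, 4, 6, 14, 12, 10, 12, 14, 6, 4, 2, 4, 6, 14, 12, 10, 12, 14, 6, 4, 2, 0, 3, 5, 7, 15, 13, 11, 13, 15, 7, 5, 3, 5, 7, 15, 13, 11, 13, 15, 7, 5, 3, 5, 7, 15, 13, 11, 13, 15, 7, 5, 1, 4, 6, 14, 12, 10, 12, 14, 6]
def rw412 : List ℕ := [4, 2, 0, 12, 10, 8, 6, 4, 2, 0, 12, 10, 8, 6, 4, 2, 0, 5, 1, 3, 5, 7, 9, 11, 13, 1, 3, 5, 7, 9, 11, 13, 1, 3, 5, 7, 9, 11, 13, 1, 3, 5, 7, 9, 11, 13, 1, 3, 5, 7, 9, 11, 13, 1, 3, 5, 7, 9, 11, 13, 1, 3, 5, 7, 9, 11, 13, 1, 3, 5, 7, 9, 11, 13, 1, 3, 5, 7, 9, 11, 13, 4, 12, 10, 8, 6, 4, 2, 0, 12, 10, 8, 6, 4, 2, 0, 12, 10, 8, 6, 4, 2, 0, 12, 10, 8, 6, 4, 2, 0, 12, 10, 8, 6, 4, 2, 0, 12, 10, 8, 6, 4, 2, 0, 12, 10, 8, 6]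
def rw413 : List ℕ := [4, 2, 10, 12, 14, 6, 4, 2, 10, 12, 14, 6, 4, 2, 10, 12, 14, 6, 4, 2, 10, 12, 14, 6, 4, 2, 5, 3, 5, 7, 15, 13, 11, 3, 5, 7, 15, 13, 11, 3, 5, 7, 15, 13, 11, 3, 5, 7, 15, 13, 11, 3, 5, 7, 15, 13, 11, 4, 10, 12, 14, 6]
def rw414 : List ℕ := [4, 2, 4, 6, 14, 12, 10, 12, 14, 6, 4, 2, 4, 6, 14, 12, 10, 12, 14, 6, 4, 2, 7, 3, 5, 7, 15, 13, 11, 13, 15, 7, 5, 3, 5, 7, 15, 13, 11, 13, 15, 7, 5, 3, 5, 7, 15, 13, 11, 13, 15, 7, 5, 6, 4, 6, 14, 12, 10, 12, 14, 6]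
def rw415 : List ℕ := [4, 10, 12, 14, 8, 6, 4, 10, 12, 14, 8, 6, 4, 10, 12, 14, 8, 6, 4, 1, 5, 7, 9, 15, 13, 11, 5, 7, 9, 15, 13, 11, 5, 7, 9, 15, 13, 11, 5, 7, 9, 15, 13, 11, 5, 7, 9, 15, 13, 11, 0, 10, 12, 14, 8, 6, 4, 10, 12, 14, 8, 6]
def rw416 : List ℕ := [4, 0, 2, 10, 12, 14, 4, 0, 2, 10, 12, 14, 4, 0, 2, 10, 12, 14, 0, 15, 13, 11, 3, 1, 5, 15, 13, 11, 3, 1, 5, 15, 13, 11, 3, 1, 5, 15, 13, 11, 3, 1, 5, 15, 13, 11, 3, 1, 5, 1, 4, 0, 2, 10, 12, 14, 4, 0, 2, 10, 12, 14]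
def rw417 : List ℕ := [4, 2, 10, 12, 14, 6, 4, 2, 10, 12, 14, 6, 4, 2, 15, 3, 5, 7, 15, 13, 11, 3, 5, 7, 15, 13, 11, 3, 5, 7, 15, 13, 11, 3, 5, 7, 15, 13, 11, 3, 5, 7, 15, 13, 11, 14, 10, 12, 14, 6, 4, 2, 10, 12, 14, 6, 4, 2, 10, 12, 14, 6]
def rw418 : List ℕ := [4, 10, 12, 14, 8, 6, 4, 10, 12, 14, 8, 6, 4, 9, 5, 7, 9, 15, 13, 11, 5, 7, 9, 15, 13, 11, 5, 7, 9, 15, 13, 11, 5, 7, 9, 15, 13, 11, 5, 7, 9, 15, 13, 11, 8, 10, 12, 14, 8, 6, 4, 10, 12, 14, 8, 6, 4, 10, 12, 14, 8, 6]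
def rw419 : List ℕ := [4, 6, 14, 12, 10, 12, 14, 6, 4, 2, 4, 6, 14, 12, 10, 12, 14, 6, 4, 2, 9, 3, 5, 7, 15, 13, 11, 13, 15, 7, 5, 3, 5, 7, 15, 13, 11, 13, 15, 7, 5, 3, 5, 7, 15, 13, 11, 13, 15, 7, 5, 8, 4, 6, 14, 12, 10, 12, 14, 6, 4, 2]
def rw420 : List ℕ := [4, 2, 0, 12, 10, 8, 6, 4, 2, 0, 1, 1, 3, 5, 7, 9, 11, 13, 1, 3, 5, 7, 9, 11, 13, 1, 3, 5, 7, 9, 11, 13, 1, 3, 5, 7, 9, 11, 13, 1, 3, 5, 7, 9, 11, 13, 1, 3, 5, 7, 9, 11, 13, 1, 3, 5, 7, 9, 11, 13, 1, 3, 5, 7, 9, 11, 13, 1, 3, 5, 7, 9, 11, 13, 0, 12, 10, 8, 6, 4, 2, 0, 12, 10, 8, 6, 4, 2, 0, 12, 10, 8, 6, 4, 2, 0, 12, 10, 8, 6, 4, 2, 0, 12, 10, 8, 6, 4, 2, 0, 12, 10, 8, 6, 4, 2, 0, 12, 10, 8, 6, 4, 2, 0, 12, 10, 8, 6]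
def rw421 : List ℕ := [4, 2, 4, 6, 14, 12, 10, 12, 14, 6, 4, 2, 4, 6, 14, 12, 10, 12, 14, 6, 4, 2, 11, 3, 5, 7, 15, 13, 11, 13, 15, 7, 5, 3, 5, 7, 15, 13, 11, 13, 15, 7, 5, 3, 5, 7, 15, 13, 11, 13, 15, 7, 5, 10, 4, 6, 14, 12, 10, 12, 14, 6]
def rw422 : List ℕ := [4, 2, 10, 12, 14, 6, 4, 2, 10, 12, 14, 6, 4, 2, 10, 12, 14, 6, 4, 2, 10, 12, 14, 6, 4, 2, 7, 3, 5, 7, 15, 13, 11, 3, 5, 7, 15, 13, 11, 3, 5, 7, 15, 13, 11, 3, 5, 7, 15, 13, 11, 3, 5, 7, 15, 13, 11, 6, 10, 12, 14, 6]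
def rw423 : List ℕ := [4, 0, 2, 10, 12, 14, 4, 0, 2, 10, 12, 14, 7, 15, 13, 11, 3, 1, 5, 15, 13, 11, 3, 1, 5, 15, 13, 11, 3, 1, 5, 15, 13, 11, 3, 1, 5, 15, 13, 11, 3, 1, 5, 6, 4, 0, 2, 10, 12, 14, 4, 0, 2, 10, 12, 14, 4, 0, 2, 10, 12, 14]
def rw424 : List ℕ := [4, 2, 4, 6, 14, 12, 10, 12, 14, 6, 4, 2, 11, 3, 5, 7, 15, 13, 11, 13, 15, 7, 5, 3, 5, 7, 15, 13, 11, 13, 15, 7, 5, 3, 5, 7, 15, 13, 11, 13, 15, 7, 5, 10, 4, 6, 14, 12, 10, 12, 14, 6, 4, 2, 4, 6, 14, 12, 10, 12, 14, 6]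
def rw425 : List ℕ := [4, 2, 10, 12, 14, 6, 4, 2, 10, 12, 14, 6, 4, 2, 10, 12, 14, 6, 4, 2, 10, 12, 14, 6, 4, 2, 15, 3, 5, 7, 15, 13, 11, 3, 5, 7, 15, 13, 11, 3, 5, 7, 15, 13, 11, 3, 5, 7, 15, 13, 11, 3, 5, 7, 15, 13, 11, 14, 10, 12, 14, 6]
def rw426 : List ℕ := [4, 10, 12, 14, 8, 6, 4, 10, 12, 14, 8, 6, 4, 10, 12, 14, 8, 6, 4, 9, 5, 7, 9, 15, 13, 11, 5, 7, 9, 15, 13, 11, 5, 7, 9, 15, 13, 11, 5, 7, 9, 15, 13, 11, 5, 7, 9, 15, 13, 11, 8, 10, 12, 14, 8, 6, 4, 10, 12, 14, 8, 6]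
def rw427 : List ℕ := [4, 0, 2, 10, 12, 14, 4, 0, 2, 10, 12, 14, 4, 0, 2, 10, 12, 14, 5, 15, 13, 11, 3, 1, 5, 15, 13, 11, 3, 1, 5, 15, 13, 11, 3, 1, 5, 15, 13, 11, 3, 1, 5, 15, 13, 11, 3, 1, 5, 4, 4, 0, 2, 10, 12, 14, 4, 0, 2, 10, 12, 14]
def rw428 : List ℕ := [4, 0, 2, 10, 12, 14, 9, 15, 13, 11, 3, 1, 5, 15, 13, 11, 3, 1, 5, 15, 13, 11, 3, 1, 5, 15, 13, 11, 3, 1, 5, 15, 13, 11, 3, 1, 5, 8, 4, 0, 2, 10, 12, 14, 4, 0, 2, 10, 12, 14, 4, 0, 2, 10, 12, 14, 4, 0, 2, 10, 12, 14]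
def rw429 : List ℕ := [4, 10, 12, 14, 8, 6, 4, 10, 12, 14, 8, 6, 4, 2, 5, 7, 9, 15, 13, 11, 5, 7, 9, 15, 13, 11, 5, 7, 9, 15, 13, 11, 5, 7, 9, 15, 13, 11, 5, 7, 9, 15, 13, 11, 3, 10, 12, 14, 8, 6, 4, 10, 12, 14, 8, 6, 4, 10, 12, 14, 8, 6]
def rw430 : List ℕ := [4, 2, 4, 6, 14, 12, 10, 12, 14, 6, 4, 2, 4, 6, 14, 12, 10, 12, 14, 6, 4, 2, 15, 3, 5, 7, 15, 13, 11, 13, 15, 7, 5, 3, 5, 7, 15, 13, 11, 13, 15, 7, 5, 3, 5, 7, 15, 13, 11, 13, 15, 7, 5, 14, 4, 6, 14, 12, 10, 12, 14, 6]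
def rw431 : List ℕ := [4, 2, 10, 12, 14, 6, 4, 2, 10, 12, 14, 6, 4, 2, 10, 12, 14, 6, 4, 2, 10, 12, 14, 6, 4, 2, 9, 3, 5, 7, 15, 13, 11, 3, 5, 7, 15, 13, 11, 3, 5, 7, 15, 13, 11, 3, 5, 7, 15, 13, 11, 3, 5, 7, 15, 13, 11, 8, 10, 12, 14, 6]
def rw432 : List ℕ := [4, 2, 0, 12, 10, 8, 6, 4, 2, 0, 12, 10, 8, 6, 4, 2, 0, 12, 10, 8, 6, 4, 2, 0, 12, 10, 8, 6, 4, 2, 0, 12, 10, 8, 6, 4, 2, 0, 12, 10, 8, 6, 4, 2, 0, 12, 10, 8, 6, 4, 2, 0, 1, 1, 3, 5, 7, 9, 11, 13, 1, 3, 5, 7, 9, 11, 13, 1, 3, 5, 7, 9, 11, 13, 1, 3, 5, 7, 9, 11, 13, 1, 3, 5, 7, 9, 11, 13, 1, 3, 5, 7, 9, 11, 13, 1, 3, 5, 7, 9, 11, 13, 1, 3, 5, 7, 9, 11, 13, 1, 3, 5, 7, 9, 11, 13, 0, 12, 10, 8, 6, 4, 2, 0, 12, 10, 8, 6]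
def rw433 : List ℕ := [4, 0, 2, 10, 12, 14, 15, 15, 13, 11, 3, 1, 5, 15, 13, 11, 3, 1, 5, 15, 13, 11, 3, 1, 5, 15, 13, 11, 3, 1, 5, 15, 13, 11, 3, 1, 5, 14, 4, 0, 2, 10, 12, 14, 4, 0, 2, 10, 12, 14, 4, 0, 2, 10, 12, 14, 4, 0, 2, 10, 12, 14]
def rw434 : List ℕ := [4, 2, 0, 12, 10, 8, 6, 4, 2, 0, 12, 10, 8, 6, 4, 2, 0, 12, 10, 8, 6, 4, 2, 0, 12, 10, 8, 6, 4, 2, 0, 12, 10, 8, 6, 4, 2, 0, 12, 10, 8, 6, 4, 2, 0, 1, 1, 3, 5, 7, 9, 11, 13, 1, 3, 5, 7, 9, 11, 13, 1, 3, 5, 7, 9, 11, 13, 1, 3, 5, 7, 9, 11, 13, 1, 3, 5, 7, 9, 11, 13, 1, 3, 5, 7, 9, 11, 13, 1, 3, 5, 7, 9, 11, 13, 1, 3, 5, 7, 9, 11, 13, 1, 3, 5, 7, 9, 11, 13, 0, 12, 10, 8, 6, 4, 2, 0, 12, 10, 8, 6, 4, 2, 0, 12, 10, 8, 6]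
def rw435 : List ℕ := [4, 0, 2, 10, 12, 14, 4, 0, 2, 10, 12, 14, 4, 0, 2, 10, 12, 14, 4, 0, 2, 10, 12, 14, 9, 15, 13, 11, 3, 1, 5, 15, 13, 11, 3, 1, 5, 15, 13, 11, 3, 1, 5, 15, 13, 11, 3, 1, 5, 15, 13, 11, 3, 1, 5, 8, 4, 0, 2, 10, 12, 14]
def rw436 : List ℕ := [4, 6, 14, 12, 10, 12, 14, 6, 4, 2, 4, 6, 14, 12, 10, 12, 14, 6, 4, 2, 4, 6, 14, 12, 10, 12, 14, 6, 4, 2, 0, 3, 5, 7, 15, 13, 11, 13, 15, 7, 5, 3, 5, 7, 15, 13, 11, 13, 15, 7, 5, 3, 5, 7, 15, 13, 11, 13, 15, 7, 5, 1]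
def rw437 : List ℕ := [4, 11, 5, 7, 9, 15, 13, 11, 5, 7, 9, 15, 13, 11, 5, 7, 9, 15, 13, 11, 5, 7, 9, 15, 13, 11, 5, 7, 9, 15, 13, 11, 10, 10, 12, 14, 8, 6, 4, 10, 12, 14, 8, 6, 4, 10, 12, 14, 8, 6, 4, 10, 12, 14, 8, 6, 4, 10, 12, 14, 8, 6]
def rw438 : List ℕ := [4, 6, 14, 12, 10, 12, 14, 6, 4, 2, 4, 6, 14, 12, 10, 12, 14, 6, 4, 2, 13, 3, 5, 7, 15, 13, 11, 13, 15, 7, 5, 3, 5, 7, 15, 13, 11, 13, 15, 7, 5, 3, 5, 7, 15, 13, 11, 13, 15, 7, 5, 12, 4, 6, 14, 12, 10, 12, 14, 6, 4, 2]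
def rw439 : List ℕ := [4, 2, 0, 12, 10, 8, 6, 4, 2, 0, 12, 10, 8, 6, 4, 2, 0, 12, 10, 8, 6, 4, 2, 0, 5, 1, 3, 5, 7, 9, 11, 13, 1, 3, 5, 7, 9, 11, 13, 1, 3, 5, 7, 9, 11, 13, 1, 3, 5, 7, 9, 11, 13, 1, 3, 5, 7, 9, 11, 13, 1, 3, 5, 7, 9, 11, 13, 1, 3, 5, 7, 9, 11, 13, 1, 3, 5, 7, 9, 11, 13, 1, 3, 5, 7, 9, 11, 13, 4, 12, 10, 8, 6, 4, 2, 0, 12, 10, 8, 6, 4, 2, 0, 12, 10, 8, 6, 4, 2, 0, 12, 10, 8, 6, 4, 2, 0, 12, 10, 8, 6, 4, 2, 0, 12, 10, 8, 6]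
def rw440 : List ℕ := [4, 2, 4, 6, 14, 12, 10, 12, 14, 6, 4, 2, 4, 6, 14, 12, 10, 12, 14, 6, 4, 2, 3, 3, 5, 7, 15, 13, 11, 13, 15, 7, 5, 3, 5, 7, 15, 13, 11, 13, 15, 7, 5, 3, 5, 7, 15, 13, 11, 13, 15, 7, 5, 2, 4, 6, 14, 12, 10, 12, 14, 6]
def rw441 : List ℕ := [4, 2, 10, 12, 14, 6, 4, 2, 10, 12, 14, 6, 4, 2, 10, 12, 14, 6, 4, 2, 15, 3, 5, 7, 15, 13, 11, 3, 5, 7, 15, 13, 11, 3, 5, 7, 15, 13, 11, 3, 5, 7, 15, 13, 11, 3, 5, 7, 15, 13, 11, 14, 10, 12, 14, 6, 4, 2, 10, 12, 14, 6]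
def rw442 : List ℕ := [4, 2, 0, 12, 10, 8, 6, 4, 2, 0, 12, 10, 8, 6, 4, 2, 0, 12, 10, 8, 6, 4, 2, 0, 12, 10, 8, 6, 4, 2, 0, 12, 10, 8, 6, 4, 2, 0, 12, 10, 8, 6, 4, 2, 0, 5, 1, 3, 5, 7, 9, 11, 13, 1, 3, 5, 7, 9, 11, 13, 1, 3, 5, 7, 9, 11, 13, 1, 3, 5, 7, 9, 11, 13, 1, 3, 5, 7, 9, 11, 13, 1, 3, 5, 7, 9, 11, 13, 1, 3, 5, 7, 9, 11, 13, 1, 3, 5, 7, 9, 11, 13, 1, 3, 5, 7, 9, 11, 13, 4, 12, 10, 8, 6, 4, 2, 0, 12, 10, 8, 6, 4, 2, 0, 12, 10, 8, 6]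
def rw443 : List ℕ := [4, 2, 0, 12, 10, 8, 6, 4, 2, 0, 12, 10, 8, 6, 4, 2, 0, 12, 10, 8, 6, 4, 2, 0, 12, 10, 8, 6, 4, 2, 0, 12, 10, 8, 6, 4, 2, 0, 1, 1, 3, 5, 7, 9, 11, 13, 1, 3, 5, 7, 9, 11, 13, 1, 3, 5, 7, 9, 11, 13, 1, 3, 5, 7, 9, 11, 13, 1, 3, 5, 7, 9, 11, 13, 1, 3, 5, 7, 9, 11, 13, 1, 3, 5, 7, 9, 11, 13, 1, 3, 5, 7, 9, 11, 13, 1, 3, 5, 7, 9, 11, 13, 0, 12, 10, 8, 6, 4, 2, 0, 12, 10, 8, 6, 4, 2, 0, 12, 10, 8, 6, 4, 2, 0, 12, 10, 8, 6]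
def rw444 : List ℕ := [4, 2, 0, 12, 10, 8, 6, 4, 2, 0, 12, 10, 8, 6, 4, 2, 0, 11, 1, 3, 5, 7, 9, 11, 13, 1, 3, 5, 7, 9, 11, 13, 1, 3, 5, 7, 9, 11, 13, 1, 3, 5, 7, 9, 11, 13, 1, 3, 5, 7, 9, 11, 13, 1, 3, 5, 7, 9, 11, 13, 1, 3, 5, 7, 9, 11, 13, 1, 3, 5, 7, 9, 11, 13, 1, 3, 5, 7, 9, 11, 13, 10, 12, 10, 8, 6, 4, 2, 0, 12, 10, 8, 6, 4, 2, 0, 12, 10, 8, 6, 4, 2, 0, 12, 10, 8, 6, 4, 2, 0, 12, 10, 8, 6, 4, 2, 0, 12, 10, 8, 6, 4, 2, 0, 12, 10, 8, 6]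
def rw445 : List ℕ := [4, 2, 6, 3, 5, 7, 15, 13, 11, 3, 5, 7, 15, 13, 11, 3, 5, 7, 15, 13, 11, 3, 5, 7, 15, 13, 11, 3, 5, 7, 15, 13, 11, 7, 10, 12, 14, 6, 4, 2, 10, 12, 14, 6, 4, 2, 10, 12, 14, 6, 4, 2, 10, 12, 14, 6, 4, 2, 10, 12, 14, 6]
def rw446 : List ℕ := [4, 0, 2, 10, 12, 14, 4, 0, 2, 10, 12, 14, 4, 0, 2, 10, 12, 14, 11, 15, 13, 11, 3, 1, 5, 15, 13, 11, 3, 1, 5, 15, 13, 11, 3, 1, 5, 15, 13, 11, 3, 1, 5, 15, 13, 11, 3, 1, 5, 10, 4, 0, 2, 10, 12, 14, 4, 0, 2, 10, 12, 14]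
def rw447 : List ℕ := [4, 2, 3, 3, 5, 7, 15, 13, 11, 3, 5, 7, 15, 13, 11, 3, 5, 7, 15, 13, 11, 3, 5, 7, 15, 13, 11, 3, 5, 7, 15, 13, 11, 2, 10, 12, 14, 6, 4, 2, 10, 12, 14, 6, 4, 2, 10, 12, 14, 6, 4, 2, 10, 12, 14, 6, 4, 2, 10, 12, 14, 6]
def rw448 : List ℕ := [4, 2, 10, 12, 14, 6, 4, 2, 9, 3, 5, 7, 15, 13, 11, 3, 5, 7, 15, 13, 11, 3, 5, 7, 15, 13, 11, 3, 5, 7, 15, 13, 11, 3, 5, 7, 15, 13, 11, 8, 10, 12, 14, 6, 4, 2, 10, 12, 14, 6, 4, 2, 10, 12, 14, 6, 4, 2, 10, 12, 14, 6]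
def rw449 : List ℕ := [4, 0, 2, 10, 12, 14, 4, 0, 2, 10, 12, 14, 4, 0, 2, 10, 12, 14, 9, 15, 13, 11, 3, 1, 5, 15, 13, 11, 3, 1, 5, 15, 13, 11, 3, 1, 5, 15, 13, 11, 3, 1, 5, 15, 13, 11, 3, 1, 5, 8, 4, 0, 2, 10, 12, 14, 4, 0, 2, 10, 12, 14]
def rw450 : List ℕ := [4, 2, 0, 3, 5, 7, 15, 13, 11, 3, 5, 7, 15, 13, 11, 3, 5, 7, 15, 13, 11, 3, 5, 7, 15, 13, 11, 3, 5, 7, 15, 13, 11, 1, 10, 12, 14, 6, 4, 2, 10, 12, 14, 6, 4, 2, 10, 12, 14, 6, 4, 2, 10, 12, 14, 6, 4, 2, 10, 12, 14, 6]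
def rw451 : List ℕ := [4, 2, 0, 12, 10, 8, 6, 4, 2, 0, 12, 10, 8, 6, 4, 2, 0, 1, 1, 3, 5, 7, 9, 11, 13, 1, 3, 5, 7, 9, 11, 13, 1, 3, 5, 7, 9, 11, 13, 1, 3, 5, 7, 9, 11, 13, 1, 3, 5, 7, 9, 11, 13, 1, 3, 5, 7, 9, 11, 13, 1, 3, 5, 7, 9, 11, 13, 1, 3, 5, 7, 9, 11, 13, 1, 3, 5, 7, 9, 11, 13, 0, 12, 10, 8, 6, 4, 2, 0, 12, 10, 8, 6, 4, 2, 0, 12, 10, 8, 6, 4, 2, 0, 12, 10, 8, 6, 4, 2, 0, 12, 10, 8, 6, 4, 2, 0, 12, 10, 8, 6, 4, 2, 0, 12, 10, 8, 6]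
def rw452 : List ℕ := [4, 2, 10, 12, 14, 6, 4, 2, 7, 3, 5, 7, 15, 13, 11, 3, 5, 7, 15, 13, 11, 3, 5, 7, 15, 13, 11, 3, 5, 7, 15, 13, 11, 3, 5, 7, 15, 13, 11, 6, 10, 12, 14, 6, 4, 2, 10, 12, 14, 6, 4, 2, 10, 12, 14, 6, 4, 2, 10, 12, 14, 6]
def rw453 : List ℕ := [4, 12, 5, 7, 9, 15, 13, 11, 5, 7, 9, 15, 13, 11, 5, 7, 9, 15, 13, 11, 5, 7, 9, 15, 13, 11, 5, 7, 9, 15, 13, 11, 13, 10, 12, 14, 8, 6, 4, 10, 12, 14, 8, 6, 4, 10, 12, 14, 8, 6, 4, 10, 12, 14, 8, 6, 4, 10, 12, 14, 8, 6]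
def rw454 : List ℕ := [4, 6, 14, 12, 10, 12, 14, 6, 4, 2, 4, 6, 14, 12, 10, 12, 14, 6, 4, 2, 15, 3, 5, 7, 15, 13, 11, 13, 15, 7, 5, 3, 5, 7, 15, 13, 11, 13, 15, 7, 5, 3, 5, 7, 15, 13, 11, 13, 15, 7, 5, 14, 4, 6, 14, 12, 10, 12, 14, 6, 4, 2]
def rw455 : List ℕ := [4, 0, 2, 10, 12, 14, 4, 0, 2, 10, 12, 14, 4, 0, 2, 10, 12, 14, 4, 0, 2, 10, 12, 14, 4, 0, 2, 10, 12, 14, 1, 15, 13, 11, 3, 1, 5, 15, 13, 11, 3, 1, 5, 15, 13, 11, 3, 1, 5, 15, 13, 11, 3, 1, 5, 15, 13, 11, 3, 1, 5, 0]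
def rw456 : List ℕ := [5, 15, 5, 15]
def rw457 : List ℕ := [5, 13, 5, 13]
def rw458 : List ℕ := [5, 11, 5, 11]
def rw459 : List ℕ := [5, 9, 5, 9]
def rw460 : List ℕ := [5, 7, 5, 7, 5, 7]
def rw461 : List ℕ := [5, 15, 13, 11, 3, 1, 5, 15, 13, 11, 3, 1, 5, 15, 13, 11, 3, 1, 5, 15, 13, 11, 3, 1, 5, 15, 13, 11, 3, 1, 5, 4, 4, 0, 2, 10, 12, 14, 4, 0, 2, 10, 12, 14, 4, 0, 2, 10, 12, 14, 4, 0, 2, 10, 12, 14, 4, 0, 2, 10, 12, 14]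
def rw462 : List ℕ := [5, 3, 5, 3, 5, 3]
def rw463 : List ℕ := [5, 1, 5, 1]
def rw464 : List ℕ := [5, 7, 9, 15, 13, 11, 12, 10, 12, 14, 8, 6, 4, 10, 12, 14, 8, 6, 4, 10, 12, 14, 8, 6, 4, 10, 12, 14, 8, 6, 4, 10, 12, 14, 8, 6, 4, 13, 5, 7, 9, 15, 13, 11, 5, 7, 9, 15, 13, 11, 5, 7, 9, 15, 13, 11, 5, 7, 9, 15, 13, 11]
def rw465 : List ℕ := [5, 3, 5, 7, 15, 13, 11, 3, 5, 7, 15, 13, 11, 3, 5, 7, 15, 13, 11, 3, 5, 7, 15, 13, 11, 3, 5, 7, 15, 13, 11, 4, 10, 12, 14, 6, 4, 2, 10, 12, 14, 6, 4, 2, 10, 12, 14, 6, 4, 2, 10, 12, 14, 6, 4, 2, 10, 12, 14, 6, 4, 2]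
def rw466 : List ℕ := [5, 3, 5, 7, 15, 13, 11, 13, 15, 7, 5, 3, 5, 7, 15, 13, 11, 13, 15, 7, 5, 0, 4, 6, 14, 12, 10, 12, 14, 6, 4, 2, 4, 6, 14, 12, 10, 12, 14, 6, 4, 2, 4, 6, 14, 12, 10, 12, 14, 6, 4, 2, 1, 3, 5, 7, 15, 13, 11, 13, 15, 7]
def rw467 : List ℕ := [5, 3, 5, 7, 15, 13, 11, 13, 15, 7, 5, 4, 4, 6, 14, 12, 10, 12, 14, 6, 4, 2, 4, 6, 14, 12, 10, 12, 14, 6, 4, 2, 4, 6, 14, 12, 10, 12, 14, 6, 4, 2, 5, 3, 5, 7, 15, 13, 11, 13, 15, 7, 5, 3, 5, 7, 15, 13, 11, 13, 15, 7]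
def rw468 : List ℕ := [5, 7, 9, 15, 13, 11, 5, 7, 9, 15, 13, 11, 5, 7, 9, 15, 13, 11, 5, 7, 9, 15, 13, 11, 5, 7, 9, 15, 13, 11, 11, 10, 12, 14, 8, 6, 4, 10, 12, 14, 8, 6, 4, 10, 12, 14, 8, 6, 4, 10, 12, 14, 8, 6, 4, 10, 12, 14, 8, 6, 4, 10]
def rw469 : List ℕ := [5, 7, 9, 15, 13, 11, 5, 7, 9, 15, 13, 11, 5, 7, 9, 15, 13, 11, 5, 7, 9, 15, 13, 11, 5, 7, 9, 15, 13, 11, 15, 10, 12, 14, 8, 6, 4, 10, 12, 14, 8, 6, 4, 10, 12, 14, 8, 6, 4, 10, 12, 14, 8, 6, 4, 10, 12, 14, 8, 6, 4, 14]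
def rw470 : List ℕ := [5, 7, 9, 15, 13, 11, 5, 7, 9, 15, 13, 11, 5, 7, 9, 15, 13, 11, 5, 7, 9, 15, 13, 11, 5, 7, 9, 15, 13, 11, 13, 10, 12, 14, 8, 6, 4, 10, 12, 14, 8, 6, 4, 10, 12, 14, 8, 6, 4, 10, 12, 14, 8, 6, 4, 10, 12, 14, 8, 6, 4, 12]
def rw471 : List ℕ := [5, 7, 9, 15, 13, 11, 5, 7, 9, 15, 13, 11, 5, 7, 9, 15, 13, 11, 5, 7, 9, 15, 13, 11, 5, 7, 9, 15, 13, 11, 7, 10, 12, 14, 8, 6, 4, 10, 12, 14, 8, 6, 4, 10, 12, 14, 8, 6, 4, 10, 12, 14, 8, 6, 4, 10, 12, 14, 8, 6, 4, 6]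
def rw472 : List ℕ := [5, 3, 5, 3, 5, 3]
def rw473 : List ℕ := [5, 12, 4, 6, 14, 12, 10, 12, 14, 6, 4, 2, 4, 6, 14, 12, 10, 12, 14, 6, 4, 2, 4, 6, 14, 12, 10, 12, 14, 6, 4, 2, 13, 3, 5, 7, 15, 13, 11, 13, 15, 7, 5, 3, 5, 7, 15, 13, 11, 13, 15, 7, 5, 3, 5, 7, 15, 13, 11, 13, 15, 7]
def rw474 : List ℕ := [5, 7, 9, 15, 13, 11, 5, 7, 9, 15, 13, 11, 5, 7, 9, 15, 13, 11, 5, 7, 9, 15, 13, 11, 5, 7, 9, 15, 13, 11, 4, 10, 12, 14, 8, 6, 4, 10, 12, 14, 8, 6, 4, 10, 12, 14, 8, 6, 4, 10, 12, 14, 8, 6, 4, 10, 12, 14, 8, 6, 4, 5]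
def rw475 : List ℕ := [5, 13, 5, 13]
def rw476 : List ℕ := [5, 15, 5, 15]
def rw477 : List ℕ := [5, 9, 5, 9]
def rw478 : List ℕ := [5, 7, 5, 7, 5, 7]
def rw479 : List ℕ := [5, 10, 12, 14, 8, 6, 4, 10, 12, 14, 8, 6, 4, 10, 12, 14, 8, 6, 4, 10, 12, 14, 8, 6, 4, 10, 12, 14, 8, 6, 4, 4, 5, 7, 9, 15, 13, 11, 5, 7, 9, 15, 13, 11, 5, 7, 9, 15, 13, 11, 5, 7, 9, 15, 13, 11, 5, 7, 9, 15, 13, 11]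
def rw480 : List ℕ := [5, 7, 5, 7, 5, 7]
def rw481 : List ℕ := [5, 7, 9, 15, 13, 11, 5, 7, 9, 15, 13, 11, 5, 7, 9, 15, 13, 11, 5, 7, 9, 15, 13, 11, 6, 10, 12, 14, 8, 6, 4, 10, 12, 14, 8, 6, 4, 10, 12, 14, 8, 6, 4, 10, 12, 14, 8, 6, 4, 10, 12, 14, 8, 6, 4, 7, 5, 7, 9, 15, 13, 11]
def rw482 : List ℕ := [5, 10, 12, 14, 6, 4, 2, 10, 12, 14, 6, 4, 2, 10, 12, 14, 6, 4, 2, 10, 12, 14, 6, 4, 2, 10, 12, 14, 6, 4, 2, 4, 3, 5, 7, 15, 13, 11, 3, 5, 7, 15, 13, 11, 3, 5, 7, 15, 13, 11, 3, 5, 7, 15, 13, 11, 3, 5, 7, 15, 13, 11]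
def rw483 : List ℕ := [5, 7, 15, 13, 11, 13, 15, 7, 5, 6, 4, 6, 14, 12, 10, 12, 14, 6, 4, 2, 4, 6, 14, 12, 10, 12, 14, 6, 4, 2, 4, 6, 14, 12, 10, 12, 14, 6, 4, 2, 7, 3, 5, 7, 15, 13, 11, 13, 15, 7, 5, 3, 5, 7, 15, 13, 11, 13, 15, 7, 5, 3]
def rw484 : List ℕ := [5, 7, 9, 15, 13, 11, 5, 7, 9, 15, 13, 11, 5, 7, 9, 15, 13, 11, 5, 7, 9, 15, 13, 11, 5, 7, 9, 15, 13, 11, 9, 10, 12, 14, 8, 6, 4, 10, 12, 14, 8, 6, 4, 10, 12, 14, 8, 6, 4, 10, 12, 14, 8, 6, 4, 10, 12, 14, 8, 6, 4, 8]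
def rw485 : List ℕ := [5, 3, 5, 7, 15, 13, 11, 13, 15, 7, 5, 14, 4, 6, 14, 12, 10, 12, 14, 6, 4, 2, 4, 6, 14, 12, 10, 12, 14, 6, 4, 2, 4, 6, 14, 12, 10, 12, 14, 6, 4, 2, 15, 3, 5, 7, 15, 13, 11, 13, 15, 7, 5, 3, 5, 7, 15, 13, 11, 13, 15, 7]
def rw486 : List ℕ := [5, 14, 4, 6, 14, 12, 10, 12, 14, 6, 4, 2, 4, 6, 14, 12, 10, 12, 14, 6, 4, 2, 4, 6, 14, 12, 10, 12, 14, 6, 4, 2, 15, 3, 5, 7, 15, 13, 11, 13, 15, 7, 5, 3, 5, 7, 15, 13, 11, 13, 15, 7, 5, 3, 5, 7, 15, 13, 11, 13, 15, 7]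
def rw487 : List ℕ := [5, 3, 5, 7, 15, 13, 11, 13, 15, 7, 5, 3, 5, 7, 15, 13, 11, 13, 15, 7, 5, 2, 4, 6, 14, 12, 10, 12, 14, 6, 4, 2, 4, 6, 14, 12, 10, 12, 14, 6, 4, 2, 4, 6, 14, 12, 10, 12, 14, 6, 4, 2, 3, 3, 5, 7, 15, 13, 11, 13, 15, 7]
def rw488 : List ℕ := [5, 10, 4, 6, 14, 12, 10, 12, 14, 6, 4, 2, 4, 6, 14, 12, 10, 12, 14, 6, 4, 2, 4, 6, 14, 12, 10, 12, 14, 6, 4, 2, 11, 3, 5, 7, 15, 13, 11, 13, 15, 7, 5, 3, 5, 7, 15, 13, 11, 13, 15, 7, 5, 3, 5, 7, 15, 13, 11, 13, 15, 7]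
def rw489 : List ℕ := [5, 3, 5, 7, 15, 13, 11, 13, 15, 7, 5, 3, 5, 7, 15, 13, 11, 13, 15, 7, 5, 10, 4, 6, 14, 12, 10, 12, 14, 6, 4, 2, 4, 6, 14, 12, 10, 12, 14, 6, 4, 2, 4, 6, 14, 12, 10, 12, 14, 6, 4, 2, 11, 3, 5, 7, 15, 13, 11, 13, 15, 7]
def rw490 : List ℕ := [5, 7, 15, 13, 11, 13, 15, 7, 5, 3, 5, 7, 15, 13, 11, 13, 15, 7, 5, 3, 5, 7, 15, 13, 11, 13, 15, 7, 5, 2, 4, 6, 14, 12, 10, 12, 14, 6, 4, 2, 4, 6, 14, 12, 10, 12, 14, 6, 4, 2, 4, 6, 14, 12, 10, 12, 14, 6, 4, 2, 3, 3]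
def rw491 : List ℕ := [5, 10, 4, 0, 2, 10, 12, 14, 4, 0, 2, 10, 12, 14, 4, 0, 2, 10, 12, 14, 4, 0, 2, 10, 12, 14, 4, 0, 2, 10, 12, 14, 11, 15, 13, 11, 3, 1, 5, 15, 13, 11, 3, 1, 5, 15, 13, 11, 3, 1, 5, 15, 13, 11, 3, 1, 5, 15, 13, 11, 3, 1]
def rw492 : List ℕ := [5, 7, 9, 15, 13, 11, 5, 7, 9, 15, 13, 11, 5, 7, 9, 15, 13, 11, 5, 7, 9, 15, 13, 11, 5, 7, 9, 15, 13, 11, 3, 10, 12, 14, 8, 6, 4, 10, 12, 14, 8, 6, 4, 10, 12, 14, 8, 6, 4, 10, 12, 14, 8, 6, 4, 10, 12, 14, 8, 6, 4, 2]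
def rw493 : List ℕ := [5, 7, 15, 13, 11, 3, 5, 7, 15, 13, 11, 3, 5, 7, 15, 13, 11, 3, 5, 7, 15, 13, 11, 14, 10, 12, 14, 6, 4, 2, 10, 12, 14, 6, 4, 2, 10, 12, 14, 6, 4, 2, 10, 12, 14, 6, 4, 2, 10, 12, 14, 6, 4, 2, 15, 3, 5, 7, 15, 13, 11, 3]
def rw494 : List ℕ := [5, 7, 15, 13, 11, 3, 5, 7, 15, 13, 11, 3, 5, 7, 15, 13, 11, 3, 5, 7, 15, 13, 11, 3, 5, 7, 15, 13, 11, 2, 10, 12, 14, 6, 4, 2, 10, 12, 14, 6, 4, 2, 10, 12, 14, 6, 4, 2, 10, 12, 14, 6, 4, 2, 10, 12, 14, 6, 4, 2, 3, 3]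
def rw495 : List ℕ := [5, 7, 9, 15, 13, 11, 5, 7, 9, 15, 13, 11, 5, 7, 9, 15, 13, 11, 5, 7, 9, 15, 13, 11, 5, 7, 9, 15, 13, 11, 1, 10, 12, 14, 8, 6, 4, 10, 12, 14, 8, 6, 4, 10, 12, 14, 8, 6, 4, 10, 12, 14, 8, 6, 4, 10, 12, 14, 8, 6, 4, 0]
def rw496 : List ℕ := [5, 11, 5, 11]
def rw497 : List ℕ := [5, 7, 15, 13, 11, 4, 10, 12, 14, 6, 4, 2, 10, 12, 14, 6, 4, 2, 10, 12, 14, 6, 4, 2, 10, 12, 14, 6, 4, 2, 10, 12, 14, 6, 4, 2, 5, 3, 5, 7, 15, 13, 11, 3, 5, 7, 15, 13, 11, 3, 5, 7, 15, 13, 11, 3, 5, 7, 15, 13, 11, 3]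
def rw498 : List ℕ := [5, 1, 5, 1]
def rw499 : List ℕ := [5, 0, 4, 0, 2, 10, 12, 14, 4, 0, 2, 10, 12, 14, 4, 0, 2, 10, 12, 14, 4, 0, 2, 10, 12, 14, 4, 0, 2, 10, 12, 14, 1, 15, 13, 11, 3, 1, 5, 15, 13, 11, 3, 1, 5, 15, 13, 11, 3, 1, 5, 15, 13, 11, 3, 1, 5, 15, 13, 11, 3, 1]
def rw500 : List ℕ := [5, 6, 4, 6, 14, 12, 10, 12, 14, 6, 4, 2, 4, 6, 14, 12, 10, 12, 14, 6, 4, 2, 4, 6, 14, 12, 10, 12, 14, 6, 4, 2, 7, 3, 5, 7, 15, 13, 11, 13, 15, 7, 5, 3, 5, 7, 15, 13, 11, 13, 15, 7, 5, 3, 5, 7, 15, 13, 11, 13, 15, 7]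
def rw501 : List ℕ := [5, 3, 5, 7, 15, 13, 11, 13, 15, 7, 5, 3, 5, 7, 15, 13, 11, 13, 15, 7, 5, 4, 4, 6, 14, 12, 10, 12, 14, 6, 4, 2, 4, 6, 14, 12, 10, 12, 14, 6, 4, 2, 4, 6, 14, 12, 10, 12, 14, 6, 4, 2, 5, 3, 5, 7, 15, 13, 11, 13, 15, 7]
def rw502 : List ℕ := [5, 2, 4, 0, 2, 10, 12, 14, 4, 0, 2, 10, 12, 14, 4, 0, 2, 10, 12, 14, 4, 0, 2, 10, 12, 14, 4, 0, 2, 10, 12, 14, 3, 15, 13, 11, 3, 1, 5, 15, 13, 11, 3, 1, 5, 15, 13, 11, 3, 1, 5, 15, 13, 11, 3, 1, 5, 15, 13, 11, 3, 1]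
def rw503 : List ℕ := [5, 12, 4, 0, 2, 10, 12, 14, 4, 0, 2, 10, 12, 14, 4, 0, 2, 10, 12, 14, 4, 0, 2, 10, 12, 14, 4, 0, 2, 10, 12, 14, 13, 15, 13, 11, 3, 1, 5, 15, 13, 11, 3, 1, 5, 15, 13, 11, 3, 1, 5, 15, 13, 11, 3, 1, 5, 15, 13, 11, 3, 1]
def rw504 : List ℕ := [5, 7, 9, 15, 13, 11, 4, 10, 12, 14, 8, 6, 4, 10, 12, 14, 8, 6, 4, 10, 12, 14, 8, 6, 4, 10, 12, 14, 8, 6, 4, 10, 12, 14, 8, 6, 4, 5, 5, 7, 9, 15, 13, 11, 5, 7, 9, 15, 13, 11, 5, 7, 9, 15, 13, 11, 5, 7, 9, 15, 13, 11]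
def rw505 : List ℕ := [5, 5]
def rw506 : List ℕ := [5, 0, 4, 6, 14, 12, 10, 12, 14, 6, 4, 2, 4, 6, 14, 12, 10, 12, 14, 6, 4, 2, 4, 6, 14, 12, 10, 12, 14, 6, 4, 2, 1, 3, 5, 7, 15, 13, 11, 13, 15, 7, 5, 3, 5, 7, 15, 13, 11, 13, 15, 7, 5, 3, 5, 7, 15, 13, 11, 13, 15, 7]
def rw507 : List ℕ := [5, 7, 9, 15, 13, 11, 14, 10, 12, 14, 8, 6, 4, 10, 12, 14, 8, 6, 4, 10, 12, 14, 8, 6, 4, 10, 12, 14, 8, 6, 4, 10, 12, 14, 8, 6, 4, 15, 5, 7, 9, 15, 13, 11, 5, 7, 9, 15, 13, 11, 5, 7, 9, 15, 13, 11, 5, 7, 9, 15, 13, 11]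
def rw508 : List ℕ := [5, 7, 9, 15, 13, 11, 5, 7, 9, 15, 13, 11, 14, 10, 12, 14, 8, 6, 4, 10, 12, 14, 8, 6, 4, 10, 12, 14, 8, 6, 4, 10, 12, 14, 8, 6, 4, 10, 12, 14, 8, 6, 4, 15, 5, 7, 9, 15, 13, 11, 5, 7, 9, 15, 13, 11, 5, 7, 9, 15, 13, 11]
def rw509 : List ℕ := [5, 7, 9, 15, 13, 11, 5, 7, 9, 15, 13, 11, 5, 7, 9, 15, 13, 11, 5, 7, 9, 15, 13, 11, 14, 10, 12, 14, 8, 6, 4, 10, 12, 14, 8, 6, 4, 10, 12, 14, 8, 6, 4, 10, 12, 14, 8, 6, 4, 10, 12, 14, 8, 6, 4, 15, 5, 7, 9, 15, 13, 11]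
def rw510 : List ℕ := [5, 3, 5, 7, 15, 13, 11, 13, 15, 7, 5, 0, 4, 6, 14, 12, 10, 12, 14, 6, 4, 2, 4, 6, 14, 12, 10, 12, 14, 6, 4, 2, 4, 6, 14, 12, 10, 12, 14, 6, 4, 2, 1, 3, 5, 7, 15, 13, 11, 13, 15, 7, 5, 3, 5, 7, 15, 13, 11, 13, 15, 7]
def rw511 : List ℕ := [5, 7, 9, 15, 13, 11, 5, 7, 9, 15, 13, 11, 4, 10, 12, 14, 8, 6, 4, 10, 12, 14, 8, 6, 4, 10, 12, 14, 8, 6, 4, 10, 12, 14, 8, 6, 4, 10, 12, 14, 8, 6, 4, 5, 5, 7, 9, 15, 13, 11, 5, 7, 9, 15, 13, 11, 5, 7, 9, 15, 13, 11]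
def rw512 : List ℕ := [5, 7, 15, 13, 11, 3, 5, 7, 15, 13, 11, 3, 5, 7, 15, 13, 11, 12, 10, 12, 14, 6, 4, 2, 10, 12, 14, 6, 4, 2, 10, 12, 14, 6, 4, 2, 10, 12, 14, 6, 4, 2, 10, 12, 14, 6, 4, 2, 13, 3, 5, 7, 15, 13, 11, 3, 5, 7, 15, 13, 11, 3]
def rw513 : List ℕ := [5, 7, 15, 13, 11, 3, 5, 7, 15, 13, 11, 3, 5, 7, 15, 13, 11, 10, 10, 12, 14, 6, 4, 2, 10, 12, 14, 6, 4, 2, 10, 12, 14, 6, 4, 2, 10, 12, 14, 6, 4, 2, 10, 12, 14, 6, 4, 2, 11, 3, 5, 7, 15, 13, 11, 3, 5, 7, 15, 13, 11, 3]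
def rw514 : List ℕ := [5, 8, 4, 0, 2, 10, 12, 14, 4, 0, 2, 10, 12, 14, 4, 0, 2, 10, 12, 14, 4, 0, 2, 10, 12, 14, 4, 0, 2, 10, 12, 14, 9, 15, 13, 11, 3, 1, 5, 15, 13, 11, 3, 1, 5, 15, 13, 11, 3, 1, 5, 15, 13, 11, 3, 1, 5, 15, 13, 11, 3, 1]
def rw515 : List ℕ := [5, 2, 4, 6, 14, 12, 10, 12, 14, 6, 4, 2, 4, 6, 14, 12, 10, 12, 14, 6, 4, 2, 4, 6, 14, 12, 10, 12, 14, 6, 4, 2, 3, 3, 5, 7, 15, 13, 11, 13, 15, 7, 5, 3, 5, 7, 15, 13, 11, 13, 15, 7, 5, 3, 5, 7, 15, 13, 11, 13, 15, 7]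
def rw516 : List ℕ := [5, 15, 13, 11, 3, 1, 5, 15, 13, 11, 3, 1, 5, 2, 4, 0, 2, 10, 12, 14, 4, 0, 2, 10, 12, 14, 4, 0, 2, 10, 12, 14, 4, 0, 2, 10, 12, 14, 4, 0, 2, 10, 12, 14, 3, 15, 13, 11, 3, 1, 5, 15, 13, 11, 3, 1, 5, 15, 13, 11, 3, 1]
def rw517 : List ℕ := [5, 3, 5, 7, 15, 13, 11, 13, 15, 7, 5, 3, 5, 7, 15, 13, 11, 13, 15, 7, 5, 8, 4, 6, 14, 12, 10, 12, 14, 6, 4, 2, 4, 6, 14, 12, 10, 12, 14, 6, 4, 2, 4, 6, 14, 12, 10, 12, 14, 6, 4, 2, 9, 3, 5, 7, 15, 13, 11, 13, 15, 7]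
def rw518 : List ℕ := [5, 15, 13, 11, 3, 1, 5, 15, 13, 11, 3, 1, 5, 15, 13, 11, 3, 1, 5, 15, 13, 11, 3, 1, 5, 12, 4, 0, 2, 10, 12, 14, 4, 0, 2, 10, 12, 14, 4, 0, 2, 10, 12, 14, 4, 0, 2, 10, 12, 14, 4, 0, 2, 10, 12, 14, 13, 15, 13, 11, 3, 1]
def rw519 : List ℕ := [5, 7, 9, 15, 13, 11, 5, 7, 9, 15, 13, 11, 5, 7, 9, 15, 13, 11, 5, 7, 9, 15, 13, 11, 5, 7, 9, 15, 13, 11, 6, 10, 12, 14, 8, 6, 4, 10, 12, 14, 8, 6, 4, 10, 12, 14, 8, 6, 4, 10, 12, 14, 8, 6, 4, 10, 12, 14, 8, 6, 4, 7]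
def rw520 : List ℕ := [5, 5, 4, 0, 2, 10, 12, 14, 4, 0, 2, 10, 12, 14, 4, 0, 2, 10, 12, 14, 4, 0, 2, 10, 12, 14, 4, 0, 2, 10, 12, 14, 4, 15, 13, 11, 3, 1, 5, 15, 13, 11, 3, 1, 5, 15, 13, 11, 3, 1, 5, 15, 13, 11, 3, 1, 5, 15, 13, 11, 3, 1]
def rw521 : List ℕ := [5, 7, 9, 15, 13, 11, 5, 7, 9, 15, 13, 11, 10, 10, 12, 14, 8, 6, 4, 10, 12, 14, 8, 6, 4, 10, 12, 14, 8, 6, 4, 10, 12, 14, 8, 6, 4, 10, 12, 14, 8, 6, 4, 11, 5, 7, 9, 15, 13, 11, 5, 7, 9, 15, 13, 11, 5, 7, 9, 15, 13, 11]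
def rw522 : List ℕ := [5, 7, 9, 15, 13, 11, 5, 7, 9, 15, 13, 11, 5, 7, 9, 15, 13, 11, 5, 7, 9, 15, 13, 11, 10, 10, 12, 14, 8, 6, 4, 10, 12, 14, 8, 6, 4, 10, 12, 14, 8, 6, 4, 10, 12, 14, 8, 6, 4, 10, 12, 14, 8, 6, 4, 11, 5, 7, 9, 15, 13, 11]
def rw523 : List ℕ := [5, 7, 15, 13, 11, 3, 5, 7, 15, 13, 11, 3, 5, 7, 15, 13, 11, 3, 5, 7, 15, 13, 11, 3, 5, 7, 15, 13, 11, 6, 10, 12, 14, 6, 4, 2, 10, 12, 14, 6, 4, 2, 10, 12, 14, 6, 4, 2, 10, 12, 14, 6, 4, 2, 10, 12, 14, 6, 4, 2, 7, 3]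
def rw524 : List ℕ := [5, 15, 13, 11, 3, 1, 5, 0, 4, 0, 2, 10, 12, 14, 4, 0, 2, 10, 12, 14, 4, 0, 2, 10, 12, 14, 4, 0, 2, 10, 12, 14, 4, 0, 2, 10, 12, 14, 1, 15, 13, 11, 3, 1, 5, 15, 13, 11, 3, 1, 5, 15, 13, 11, 3, 1, 5, 15, 13, 11, 3, 1]
def rw525 : List ℕ := [5, 7, 15, 13, 11, 3, 5, 7, 15, 13, 11, 3, 5, 7, 15, 13, 11, 3, 5, 7, 15, 13, 11, 4, 10, 12, 14, 6, 4, 2, 10, 12, 14, 6, 4, 2, 10, 12, 14, 6, 4, 2, 10, 12, 14, 6, 4, 2, 10, 12, 14, 6, 4, 2, 5, 3, 5, 7, 15, 13, 11, 3]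
def rw526 : List ℕ := [5, 7, 9, 15, 13, 11, 5, 7, 9, 15, 13, 11, 5, 7, 9, 15, 13, 11, 5, 7, 9, 15, 13, 11, 5, 7, 9, 15, 13, 11, 8, 10, 12, 14, 8, 6, 4, 10, 12, 14, 8, 6, 4, 10, 12, 14, 8, 6, 4, 10, 12, 14, 8, 6, 4, 10, 12, 14, 8, 6, 4, 9]
def rw527 : List ℕ := [5, 15, 13, 11, 3, 1, 5, 15, 13, 11, 3, 1, 5, 0, 4, 0, 2, 10, 12, 14, 4, 0, 2, 10, 12, 14, 4, 0, 2, 10, 12, 14, 4, 0, 2, 10, 12, 14, 4, 0, 2, 10, 12, 14, 1, 15, 13, 11, 3, 1, 5, 15, 13, 11, 3, 1, 5, 15, 13, 11, 3, 1]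
def rw528 : List ℕ := [5, 7, 15, 13, 11, 3, 5, 7, 15, 13, 11, 3, 5, 7, 15, 13, 11, 3, 5, 7, 15, 13, 11, 3, 5, 7, 15, 13, 11, 1, 10, 12, 14, 6, 4, 2, 10, 12, 14, 6, 4, 2, 10, 12, 14, 6, 4, 2, 10, 12, 14, 6, 4, 2, 10, 12, 14, 6, 4, 2, 0, 3]
def rw529 : List ℕ := [5, 3, 5, 7, 15, 13, 11, 13, 15, 7, 5, 8, 4, 6, 14, 12, 10, 12, 14, 6, 4, 2, 4, 6, 14, 12, 10, 12, 14, 6, 4, 2, 4, 6, 14, 12, 10, 12, 14, 6, 4, 2, 9, 3, 5, 7, 15, 13, 11, 13, 15, 7, 5, 3, 5, 7, 15, 13, 11, 13, 15, 7]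
def rw530 : List ℕ := [5, 7, 15, 13, 11, 3, 5, 7, 15, 13, 11, 3, 5, 7, 15, 13, 11, 3, 5, 7, 15, 13, 11, 7, 10, 12, 14, 6, 4, 2, 10, 12, 14, 6, 4, 2, 10, 12, 14, 6, 4, 2, 10, 12, 14, 6, 4, 2, 10, 12, 14, 6, 4, 2, 6, 3, 5, 7, 15, 13, 11, 3]
def rw531 : List ℕ := [5, 7, 9, 15, 13, 11, 5, 7, 9, 15, 13, 11, 5, 7, 9, 15, 13, 11, 2, 10, 12, 14, 8, 6, 4, 10, 12, 14, 8, 6, 4, 10, 12, 14, 8, 6, 4, 10, 12, 14, 8, 6, 4, 10, 12, 14, 8, 6, 4, 3, 5, 7, 9, 15, 13, 11, 5, 7, 9, 15, 13, 11]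
def rw532 : List ℕ := [5, 7, 9, 11, 13, 4, 12, 10, 8, 6, 4, 2, 0, 12, 10, 8, 6, 4, 2, 0, 12, 10, 8, 6, 4, 2, 0, 12, 10, 8, 6, 4, 2, 0, 12, 10, 8, 6, 4, 2, 0, 12, 10, 8, 6, 4, 2, 0, 12, 10, 8, 6, 4, 2, 0, 12, 10, 8, 6, 4, 2, 0, 12, 10, 8, 6, 4, 2, 0, 5, 1, 3, 5, 7, 9, 11, 13, 1, 3, 5, 7, 9, 11, 13, 1, 3, 5, 7, 9, 11, 13, 1, 3, 5, 7, 9, 11, 13, 1, 3, 5, 7, 9, 11, 13, 1, 3, 5, 7, 9, 11, 13, 1, 3, 5, 7, 9, 11, 13, 1, 3, 5, 7, 9, 11, 13, 1, 3]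
def rw533 : List ℕ := [5, 15, 13, 11, 3, 1, 5, 15, 13, 11, 3, 1, 5, 15, 13, 11, 3, 1, 5, 4, 4, 0, 2, 10, 12, 14, 4, 0, 2, 10, 12, 14, 4, 0, 2, 10, 12, 14, 4, 0, 2, 10, 12, 14, 4, 0, 2, 10, 12, 14, 5, 15, 13, 11, 3, 1, 5, 15, 13, 11, 3, 1]
def rw534 : List ℕ := [5, 7, 9, 11, 13, 1, 3, 5, 7, 9, 11, 13, 1, 3, 5, 7, 9, 11, 13, 1, 3, 5, 7, 9, 11, 13, 1, 3, 5, 7, 9, 11, 13, 1, 3, 5, 7, 9, 11, 13, 1, 3, 5, 7, 9, 11, 13, 1, 3, 5, 7, 9, 11, 13, 10, 12, 10, 8, 6, 4, 2, 0, 12, 10, 8, 6, 4, 2, 0, 12, 10, 8, 6, 4, 2, 0, 12, 10, 8, 6, 4, 2, 0, 12, 10, 8, 6, 4, 2, 0, 12, 10, 8, 6, 4, 2, 0, 12, 10, 8, 6, 4, 2, 0, 12, 10, 8, 6, 4, 2, 0, 12, 10, 8, 6, 4, 2, 0, 11, 1, 3, 5, 7, 9, 11, 13, 1, 3]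
def rw535 : List ℕ := [5, 7, 9, 15, 13, 11, 5, 7, 9, 15, 13, 11, 5, 7, 9, 15, 13, 11, 4, 10, 12, 14, 8, 6, 4, 10, 12, 14, 8, 6, 4, 10, 12, 14, 8, 6, 4, 10, 12, 14, 8, 6, 4, 10, 12, 14, 8, 6, 4, 5, 5, 7, 9, 15, 13, 11, 5, 7, 9, 15, 13, 11]
def rw536 : List ℕ := [5, 7, 9, 11, 13, 1, 3, 5, 7, 9, 11, 13, 1, 3, 5, 7, 9, 11, 13, 1, 3, 5, 7, 9, 11, 13, 1, 3, 5, 7, 9, 11, 13, 1, 3, 5, 7, 9, 11, 13, 1, 3, 5, 7, 9, 11, 13, 1, 3, 5, 7, 9, 11, 13, 1, 3, 5, 7, 9, 11, 13, 2, 12, 10, 8, 6, 4, 2, 0, 12, 10, 8, 6, 4, 2, 0, 12, 10, 8, 6, 4, 2, 0, 12, 10, 8, 6, 4, 2, 0, 12, 10, 8, 6, 4, 2, 0, 12, 10, 8, 6, 4, 2, 0, 12, 10, 8, 6, 4, 2, 0, 12, 10, 8, 6, 4, 2, 0, 12, 10, 8, 6, 4, 2, 0, 3, 1, 3]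
def rw537 : List ℕ := [5, 14, 4, 0, 2, 10, 12, 14, 4, 0, 2, 10, 12, 14, 4, 0, 2, 10, 12, 14, 4, 0, 2, 10, 12, 14, 4, 0, 2, 10, 12, 14, 15, 15, 13, 11, 3, 1, 5, 15, 13, 11, 3, 1, 5, 15, 13, 11, 3, 1, 5, 15, 13, 11, 3, 1, 5, 15, 13, 11, 3, 1]
def rw538 : List ℕ := [5, 7, 15, 13, 11, 10, 10, 12, 14, 6, 4, 2, 10, 12, 14, 6, 4, 2, 10, 12, 14, 6, 4, 2, 10, 12, 14, 6, 4, 2, 10, 12, 14, 6, 4, 2, 11, 3, 5, 7, 15, 13, 11, 3, 5, 7, 15, 13, 11, 3, 5, 7, 15, 13, 11, 3, 5, 7, 15, 13, 11, 3]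
def rw539 : List ℕ := [5, 15, 13, 11, 3, 1, 5, 15, 13, 11, 3, 1, 5, 15, 13, 11, 3, 1, 5, 2, 4, 0, 2, 10, 12, 14, 4, 0, 2, 10, 12, 14, 4, 0, 2, 10, 12, 14, 4, 0, 2, 10, 12, 14, 4, 0, 2, 10, 12, 14, 3, 15, 13, 11, 3, 1, 5, 15, 13, 11, 3, 1]
def rw540 : List ℕ := [5, 7, 9, 11, 13, 1, 3, 5, 7, 9, 11, 13, 1, 3, 5, 7, 9, 11, 13, 1, 3, 5, 7, 9, 11, 13, 1, 3, 5, 7, 9, 11, 13, 1, 3, 5, 7, 9, 11, 13, 0, 12, 10, 8, 6, 4, 2, 0, 12, 10, 8, 6, 4, 2, 0, 12, 10, 8, 6, 4, 2, 0, 12, 10, 8, 6, 4, 2, 0, 12, 10, 8, 6, 4, 2, 0, 12, 10, 8, 6, 4, 2, 0, 12, 10, 8, 6, 4, 2, 0, 12, 10, 8, 6, 4, 2, 0, 12, 10, 8, 6, 4, 2, 0, 1, 1, 3, 5, 7, 9, 11, 13, 1, 3, 5, 7, 9, 11, 13, 1, 3, 5, 7, 9, 11, 13, 1, 3]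
def rw541 : List ℕ := [5, 7, 9, 11, 13, 1, 3, 5, 7, 9, 11, 13, 1, 3, 5, 7, 9, 11, 13, 1, 3, 5, 7, 9, 11, 13, 1, 3, 5, 7, 9, 11, 13, 1, 3, 5, 7, 9, 11, 13, 1, 3, 5, 7, 9, 11, 13, 0, 12, 10, 8, 6, 4, 2, 0, 12, 10, 8, 6, 4, 2, 0, 12, 10, 8, 6, 4, 2, 0, 12, 10, 8, 6, 4, 2, 0, 12, 10, 8, 6, 4, 2, 0, 12, 10, 8, 6, 4, 2, 0, 12, 10, 8, 6, 4, 2, 0, 12, 10, 8, 6, 4, 2, 0, 12, 10, 8, 6, 4, 2, 0, 1, 1, 3, 5, 7, 9, 11, 13, 1, 3, 5, 7, 9, 11, 13, 1, 3]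
def rw542 : List ℕ := [5, 7, 9, 11, 13, 1, 3, 5, 7, 9, 11, 13, 1, 3, 5, 7, 9, 11, 13, 1, 3, 5, 7, 9, 11, 13, 1, 3, 5, 7, 9, 11, 13, 1, 3, 5, 7, 9, 11, 13, 14, 12, 10, 8, 6, 4, 2, 0, 12, 10, 8, 6, 4, 2, 0, 12, 10, 8, 6, 4, 2, 0, 12, 10, 8, 6, 4, 2, 0, 12, 10, 8, 6, 4, 2, 0, 12, 10, 8, 6, 4, 2, 0, 12, 10, 8, 6, 4, 2, 0, 12, 10, 8, 6, 4, 2, 0, 12, 10, 8, 6, 4, 2, 0, 15, 1, 3, 5, 7, 9, 11, 13, 1, 3, 5, 7, 9, 11, 13, 1, 3, 5, 7, 9, 11, 13, 1, 3]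
def rw543 : List ℕ := [5, 7, 15, 13, 11, 3, 5, 7, 15, 13, 11, 10, 10, 12, 14, 6, 4, 2, 10, 12, 14, 6, 4, 2, 10, 12, 14, 6, 4, 2, 10, 12, 14, 6, 4, 2, 10, 12, 14, 6, 4, 2, 11, 3, 5, 7, 15, 13, 11, 3, 5, 7, 15, 13, 11, 3, 5, 7, 15, 13, 11, 3]
def rw544 : List ℕ := [6, 6]
def rw545 : List ℕ := [6, 0, 6, 0]
def rw546 : List ℕ := [6, 4, 6, 4, 6, 4]
def rw547 : List ℕ := [6, 12, 6, 12]
def rw548 : List ℕ := [6, 2, 6, 2]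
def rw549 : List ℕ := [6, 10, 6, 10]
def rw550 : List ℕ := [6, 2, 6, 2]
def rw551 : List ℕ := [6, 0, 6, 0]
def rw552 : List ℕ := [6, 4, 6, 4, 6, 4]
def rw553 : List ℕ := [6, 8, 6, 8, 6, 8]
def rw554 : List ℕ := [6, 4, 6, 4, 6, 4]
def rw555 : List ℕ := [6, 14, 6, 14, 6, 14]
def rw556 : List ℕ := [6, 4, 13, 5, 7, 9, 15, 13, 11, 5, 7, 9, 15, 13, 11, 5, 7, 9, 15, 13, 11, 5, 7, 9, 15, 13, 11, 5, 7, 9, 15, 13, 11, 12, 10, 12, 14, 8, 6, 4, 10, 12, 14, 8, 6, 4, 10, 12, 14, 8, 6, 4, 10, 12, 14, 8, 6, 4, 10, 12, 14, 8]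
def rw557 : List ℕ := [6, 14, 6, 14, 6, 14]
def rw558 : List ℕ := [6, 14, 12, 10, 12, 14, 6, 4, 2, 4, 6, 14, 12, 10, 12, 14, 6, 4, 2, 1, 3, 5, 7, 15, 13, 11, 13, 15, 7, 5, 3, 5, 7, 15, 13, 11, 13, 15, 7, 5, 3, 5, 7, 15, 13, 11, 13, 15, 7, 5, 0, 4, 6, 14, 12, 10, 12, 14, 6, 4, 2, 4]
def rw559 : List ℕ := [6, 4, 2, 7, 3, 5, 7, 15, 13, 11, 3, 5, 7, 15, 13, 11, 3, 5, 7, 15, 13, 11, 3, 5, 7, 15, 13, 11, 3, 5, 7, 15, 13, 11, 6, 10, 12, 14, 6, 4, 2, 10, 12, 14, 6, 4, 2, 10, 12, 14, 6, 4, 2, 10, 12, 14, 6, 4, 2, 10, 12, 14]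
def rw560 : List ℕ := [6, 4, 2, 15, 3, 5, 7, 15, 13, 11, 13, 15, 7, 5, 3, 5, 7, 15, 13, 11, 13, 15, 7, 5, 3, 5, 7, 15, 13, 11, 13, 15, 7, 5, 14, 4, 6, 14, 12, 10, 12, 14, 6, 4, 2, 4, 6, 14, 12, 10, 12, 14, 6, 4, 2, 4, 6, 14, 12, 10, 12, 14]
def rw561 : List ℕ := [6, 8, 6, 8, 6, 8]
def rw562 : List ℕ := [6, 4, 10, 12, 14, 8, 6, 4, 3, 5, 7, 9, 15, 13, 11, 5, 7, 9, 15, 13, 11, 5, 7, 9, 15, 13, 11, 5, 7, 9, 15, 13, 11, 5, 7, 9, 15, 13, 11, 2, 10, 12, 14, 8, 6, 4, 10, 12, 14, 8, 6, 4, 10, 12, 14, 8, 6, 4, 10, 12, 14, 8]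
def rw563 : List ℕ := [6, 4, 2, 4, 6, 14, 12, 10, 12, 14, 6, 4, 2, 5, 3, 5, 7, 15, 13, 11, 13, 15, 7, 5, 3, 5, 7, 15, 13, 11, 13, 15, 7, 5, 3, 5, 7, 15, 13, 11, 13, 15, 7, 5, 4, 4, 6, 14, 12, 10, 12, 14, 6, 4, 2, 4, 6, 14, 12, 10, 12, 14]
def rw564 : List ℕ := [6, 14, 12, 10, 12, 14, 6, 4, 2, 1, 3, 5, 7, 15, 13, 11, 13, 15, 7, 5, 3, 5, 7, 15, 13, 11, 13, 15, 7, 5, 3, 5, 7, 15, 13, 11, 13, 15, 7, 5, 0, 4, 6, 14, 12, 10, 12, 14, 6, 4, 2, 4, 6, 14, 12, 10, 12, 14, 6, 4, 2, 4]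
def rw565 : List ℕ := [6, 4, 2, 1, 3, 5, 7, 15, 13, 11, 3, 5, 7, 15, 13, 11, 3, 5, 7, 15, 13, 11, 3, 5, 7, 15, 13, 11, 3, 5, 7, 15, 13, 11, 0, 10, 12, 14, 6, 4, 2, 10, 12, 14, 6, 4, 2, 10, 12, 14, 6, 4, 2, 10, 12, 14, 6, 4, 2, 10, 12, 14]
def rw566 : List ℕ := [6, 4, 2, 10, 12, 14, 6, 4, 2, 5, 3, 5, 7, 15, 13, 11, 3, 5, 7, 15, 13, 11, 3, 5, 7, 15, 13, 11, 3, 5, 7, 15, 13, 11, 3, 5, 7, 15, 13, 11, 4, 10, 12, 14, 6, 4, 2, 10, 12, 14, 6, 4, 2, 10, 12, 14, 6, 4, 2, 10, 12, 14]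
def rw567 : List ℕ := [6, 4, 2, 13, 3, 5, 7, 15, 13, 11, 13, 15, 7, 5, 3, 5, 7, 15, 13, 11, 13, 15, 7, 5, 3, 5, 7, 15, 13, 11, 13, 15, 7, 5, 12, 4, 6, 14, 12, 10, 12, 14, 6, 4, 2, 4, 6, 14, 12, 10, 12, 14, 6, 4, 2, 4, 6, 14, 12, 10, 12, 14]
def rw568 : List ℕ := [6, 14, 12, 10, 12, 14, 6, 4, 2, 4, 6, 14, 12, 10, 12, 14, 6, 4, 2, 5, 3, 5, 7, 15, 13, 11, 13, 15, 7, 5, 3, 5, 7, 15, 13, 11, 13, 15, 7, 5, 3, 5, 7, 15, 13, 11, 13, 15, 7, 5, 4, 4, 6, 14, 12, 10, 12, 14, 6, 4, 2, 4]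
def rw569 : List ℕ := [6, 4, 2, 10, 12, 14, 6, 4, 2, 3, 3, 5, 7, 15, 13, 11, 3, 5, 7, 15, 13, 11, 3, 5, 7, 15, 13, 11, 3, 5, 7, 15, 13, 11, 3, 5, 7, 15, 13, 11, 2, 10, 12, 14, 6, 4, 2, 10, 12, 14, 6, 4, 2, 10, 12, 14, 6, 4, 2, 10, 12, 14]
def rw570 : List ℕ := [6, 8, 6, 8, 6, 8]
def rw571 : List ℕ := [6, 10, 6, 10]
def rw572 : List ℕ := [6, 4, 2, 10, 12, 14, 6, 4, 2, 10, 12, 14, 6, 4, 2, 10, 12, 14, 6, 4, 2, 1, 3, 5, 7, 15, 13, 11, 3, 5, 7, 15, 13, 11, 3, 5, 7, 15, 13, 11, 3, 5, 7, 15, 13, 11, 3, 5, 7, 15, 13, 11, 0, 10, 12, 14, 6, 4, 2, 10, 12, 14]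
def rw573 : List ℕ := [6, 4, 2, 10, 12, 14, 6, 4, 2, 10, 12, 14, 6, 4, 2, 1, 3, 5, 7, 15, 13, 11, 3, 5, 7, 15, 13, 11, 3, 5, 7, 15, 13, 11, 3, 5, 7, 15, 13, 11, 3, 5, 7, 15, 13, 11, 0, 10, 12, 14, 6, 4, 2, 10, 12, 14, 6, 4, 2, 10, 12, 14]
def rw574 : List ℕ := [6, 4, 11, 5, 7, 9, 15, 13, 11, 5, 7, 9, 15, 13, 11, 5, 7, 9, 15, 13, 11, 5, 7, 9, 15, 13, 11, 5, 7, 9, 15, 13, 11, 10, 10, 12, 14, 8, 6, 4, 10, 12, 14, 8, 6, 4, 10, 12, 14, 8, 6, 4, 10, 12, 14, 8, 6, 4, 10, 12, 14, 8]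
def rw575 : List ℕ := [6, 14, 6, 14, 6, 14]
def rw576 : List ℕ := [6, 14, 12, 10, 12, 14, 6, 4, 2, 15, 3, 5, 7, 15, 13, 11, 13, 15, 7, 5, 3, 5, 7, 15, 13, 11, 13, 15, 7, 5, 3, 5, 7, 15, 13, 11, 13, 15, 7, 5, 14, 4, 6, 14, 12, 10, 12, 14, 6, 4, 2, 4, 6, 14, 12, 10, 12, 14, 6, 4, 2, 4]
def rw577 : List ℕ := [6, 4, 10, 12, 14, 8, 6, 4, 10, 12, 14, 8, 6, 4, 10, 12, 14, 8, 6, 4, 10, 12, 14, 8, 6, 4, 5, 5, 7, 9, 15, 13, 11, 5, 7, 9, 15, 13, 11, 5, 7, 9, 15, 13, 11, 5, 7, 9, 15, 13, 11, 5, 7, 9, 15, 13, 11, 4, 10, 12, 14, 8]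
def rw578 : List ℕ := [6, 4, 2, 4, 6, 14, 12, 10, 12, 14, 6, 4, 2, 1, 3, 5, 7, 15, 13, 11, 13, 15, 7, 5, 3, 5, 7, 15, 13, 11, 13, 15, 7, 5, 3, 5, 7, 15, 13, 11, 13, 15, 7, 5, 0, 4, 6, 14, 12, 10, 12, 14, 6, 4, 2, 4, 6, 14, 12, 10, 12, 14]
def rw579 : List ℕ := [6, 14, 12, 10, 12, 14, 6, 4, 2, 4, 6, 14, 12, 10, 12, 14, 6, 4, 2, 4, 6, 14, 12, 10, 12, 14, 6, 4, 2, 3, 3, 5, 7, 15, 13, 11, 13, 15, 7, 5, 3, 5, 7, 15, 13, 11, 13, 15, 7, 5, 3, 5, 7, 15, 13, 11, 13, 15, 7, 5, 2, 4]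
def rw580 : List ℕ := [6, 4, 2, 10, 12, 14, 6, 4, 2, 10, 12, 14, 6, 4, 2, 9, 3, 5, 7, 15, 13, 11, 3, 5, 7, 15, 13, 11, 3, 5, 7, 15, 13, 11, 3, 5, 7, 15, 13, 11, 3, 5, 7, 15, 13, 11, 8, 10, 12, 14, 6, 4, 2, 10, 12, 14, 6, 4, 2, 10, 12, 14]
def rw581 : List ℕ := [6, 4, 2, 10, 12, 14, 6, 4, 2, 7, 3, 5, 7, 15, 13, 11, 3, 5, 7, 15, 13, 11, 3, 5, 7, 15, 13, 11, 3, 5, 7, 15, 13, 11, 3, 5, 7, 15, 13, 11, 6, 10, 12, 14, 6, 4, 2, 10, 12, 14, 6, 4, 2, 10, 12, 14, 6, 4, 2, 10, 12, 14]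
def rw582 : List ℕ := [6, 4, 2, 10, 12, 14, 6, 4, 2, 10, 12, 14, 6, 4, 2, 3, 3, 5, 7, 15, 13, 11, 3, 5, 7, 15, 13, 11, 3, 5, 7, 15, 13, 11, 3, 5, 7, 15, 13, 11, 3, 5, 7, 15, 13, 11, 2, 10, 12, 14, 6, 4, 2, 10, 12, 14, 6, 4, 2, 10, 12, 14]
def rw583 : List ℕ := [6, 4, 2, 10, 12, 14, 6, 4, 2, 10, 12, 14, 6, 4, 2, 10, 12, 14, 6, 4, 2, 5, 3, 5, 7, 15, 13, 11, 3, 5, 7, 15, 13, 11, 3, 5, 7, 15, 13, 11, 3, 5, 7, 15, 13, 11, 3, 5, 7, 15, 13, 11, 4, 10, 12, 14, 6, 4, 2, 10, 12, 14]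
def rw584 : List ℕ := [6, 14, 12, 10, 12, 14, 6, 4, 2, 5, 3, 5, 7, 15, 13, 11, 13, 15, 7, 5, 3, 5, 7, 15, 13, 11, 13, 15, 7, 5, 3, 5, 7, 15, 13, 11, 13, 15, 7, 5, 4, 4, 6, 14, 12, 10, 12, 14, 6, 4, 2, 4, 6, 14, 12, 10, 12, 14, 6, 4, 2, 4]
def rw585 : List ℕ := [6, 14, 12, 10, 12, 14, 6, 4, 2, 4, 6, 14, 12, 10, 12, 14, 6, 4, 2, 11, 3, 5, 7, 15, 13, 11, 13, 15, 7, 5, 3, 5, 7, 15, 13, 11, 13, 15, 7, 5, 3, 5, 7, 15, 13, 11, 13, 15, 7, 5, 10, 4, 6, 14, 12, 10, 12, 14, 6, 4, 2, 4]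
def rw586 : List ℕ := [6, 12, 6, 12]
def rw587 : List ℕ := [6, 4, 2, 4, 6, 14, 12, 10, 12, 14, 6, 4, 2, 4, 6, 14, 12, 10, 12, 14, 6, 4, 2, 7, 3, 5, 7, 15, 13, 11, 13, 15, 7, 5, 3, 5, 7, 15, 13, 11, 13, 15, 7, 5, 3, 5, 7, 15, 13, 11, 13, 15, 7, 5, 6, 4, 6, 14, 12, 10, 12, 14]
def rw588 : List ℕ := [6, 4, 2, 4, 6, 14, 12, 10, 12, 14, 6, 4, 2, 9, 3, 5, 7, 15, 13, 11, 13, 15, 7, 5, 3, 5, 7, 15, 13, 11, 13, 15, 7, 5, 3, 5, 7, 15, 13, 11, 13, 15, 7, 5, 8, 4, 6, 14, 12, 10, 12, 14, 6, 4, 2, 4, 6, 14, 12, 10, 12, 14]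
def rw589 : List ℕ := [6, 4, 10, 12, 14, 8, 6, 4, 10, 12, 14, 8, 6, 4, 10, 12, 14, 8, 6, 4, 5, 5, 7, 9, 15, 13, 11, 5, 7, 9, 15, 13, 11, 5, 7, 9, 15, 13, 11, 5, 7, 9, 15, 13, 11, 5, 7, 9, 15, 13, 11, 4, 10, 12, 14, 8, 6, 4, 10, 12, 14, 8]
def rw590 : List ℕ := [6, 4, 2, 10, 12, 14, 6, 4, 2, 10, 12, 14, 6, 4, 2, 10, 12, 14, 6, 4, 2, 10, 12, 14, 6, 4, 2, 7, 3, 5, 7, 15, 13, 11, 3, 5, 7, 15, 13, 11, 3, 5, 7, 15, 13, 11, 3, 5, 7, 15, 13, 11, 3, 5, 7, 15, 13, 11, 6, 10, 12, 14]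
def rw591 : List ℕ := [6, 4, 2, 4, 6, 14, 12, 10, 12, 14, 6, 4, 2, 7, 3, 5, 7, 15, 13, 11, 13, 15, 7, 5, 3, 5, 7, 15, 13, 11, 13, 15, 7, 5, 3, 5, 7, 15, 13, 11, 13, 15, 7, 5, 6, 4, 6, 14, 12, 10, 12, 14, 6, 4, 2, 4, 6, 14, 12, 10, 12, 14]
def rw592 : List ℕ := [6, 4, 2, 3, 3, 5, 7, 15, 13, 11, 13, 15, 7, 5, 3, 5, 7, 15, 13, 11, 13, 15, 7, 5, 3, 5, 7, 15, 13, 11, 13, 15, 7, 5, 2, 4, 6, 14, 12, 10, 12, 14, 6, 4, 2, 4, 6, 14, 12, 10, 12, 14, 6, 4, 2, 4, 6, 14, 12, 10, 12, 14]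
def rw593 : List ℕ := [6, 14, 12, 10, 12, 14, 6, 4, 2, 4, 6, 14, 12, 10, 12, 14, 6, 4, 2, 4, 6, 14, 12, 10, 12, 14, 6, 4, 2, 9, 3, 5, 7, 15, 13, 11, 13, 15, 7, 5, 3, 5, 7, 15, 13, 11, 13, 15, 7, 5, 3, 5, 7, 15, 13, 11, 13, 15, 7, 5, 8, 4]
def rw594 : List ℕ := [6, 4, 2, 4, 6, 14, 12, 10, 12, 14, 6, 4, 2, 4, 6, 14, 12, 10, 12, 14, 6, 4, 2, 11, 3, 5, 7, 15, 13, 11, 13, 15, 7, 5, 3, 5, 7, 15, 13, 11, 13, 15, 7, 5, 3, 5, 7, 15, 13, 11, 13, 15, 7, 5, 10, 4, 6, 14, 12, 10, 12, 14]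
def rw595 : List ℕ := [6, 4, 2, 4, 6, 14, 12, 10, 12, 14, 6, 4, 2, 4, 6, 14, 12, 10, 12, 14, 6, 4, 2, 3, 3, 5, 7, 15, 13, 11, 13, 15, 7, 5, 3, 5, 7, 15, 13, 11, 13, 15, 7, 5, 3, 5, 7, 15, 13, 11, 13, 15, 7, 5, 2, 4, 6, 14, 12, 10, 12, 14]
def rw596 : List ℕ := [6, 4, 2, 10, 12, 14, 6, 4, 2, 10, 12, 14, 6, 4, 2, 5, 3, 5, 7, 15, 13, 11, 3, 5, 7, 15, 13, 11, 3, 5, 7, 15, 13, 11, 3, 5, 7, 15, 13, 11, 3, 5, 7, 15, 13, 11, 4, 10, 12, 14, 6, 4, 2, 10, 12, 14, 6, 4, 2, 10, 12, 14]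
def rw597 : List ℕ := [6, 3, 5, 7, 15, 13, 11, 3, 5, 7, 15, 13, 11, 3, 5, 7, 15, 13, 11, 3, 5, 7, 15, 13, 11, 3, 5, 7, 15, 13, 11, 7, 10, 12, 14, 6, 4, 2, 10, 12, 14, 6, 4, 2, 10, 12, 14, 6, 4, 2, 10, 12, 14, 6, 4, 2, 10, 12, 14, 6, 4, 2]
def rw598 : List ℕ := [6, 14, 12, 10, 12, 14, 6, 4, 2, 4, 6, 14, 12, 10, 12, 14, 6, 4, 2, 15, 3, 5, 7, 15, 13, 11, 13, 15, 7, 5, 3, 5, 7, 15, 13, 11, 13, 15, 7, 5, 3, 5, 7, 15, 13, 11, 13, 15, 7, 5, 14, 4, 6, 14, 12, 10, 12, 14, 6, 4, 2, 4]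
def rw599 : List ℕ := [6, 4, 2, 10, 12, 14, 6, 4, 2, 10, 12, 14, 6, 4, 2, 15, 3, 5, 7, 15, 13, 11, 3, 5, 7, 15, 13, 11, 3, 5, 7, 15, 13, 11, 3, 5, 7, 15, 13, 11, 3, 5, 7, 15, 13, 11, 14, 10, 12, 14, 6, 4, 2, 10, 12, 14, 6, 4, 2, 10, 12, 14]
def rw600 : List ℕ := [6, 4, 2, 10, 12, 14, 6, 4, 2, 10, 12, 14, 6, 4, 2, 7, 3, 5, 7, 15, 13, 11, 3, 5, 7, 15, 13, 11, 3, 5, 7, 15, 13, 11, 3, 5, 7, 15, 13, 11, 3, 5, 7, 15, 13, 11, 6, 10, 12, 14, 6, 4, 2, 10, 12, 14, 6, 4, 2, 10, 12, 14]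
def rw601 : List ℕ := [6, 4, 15, 5, 7, 9, 15, 13, 11, 5, 7, 9, 15, 13, 11, 5, 7, 9, 15, 13, 11, 5, 7, 9, 15, 13, 11, 5, 7, 9, 15, 13, 11, 14, 10, 12, 14, 8, 6, 4, 10, 12, 14, 8, 6, 4, 10, 12, 14, 8, 6, 4, 10, 12, 14, 8, 6, 4, 10, 12, 14, 8]
def rw602 : List ℕ := [6, 14, 12, 10, 12, 14, 6, 4, 2, 4, 6, 14, 12, 10, 12, 14, 6, 4, 2, 4, 6, 14, 12, 10, 12, 14, 6, 4, 2, 7, 3, 5, 7, 15, 13, 11, 13, 15, 7, 5, 3, 5, 7, 15, 13, 11, 13, 15, 7, 5, 3, 5, 7, 15, 13, 11, 13, 15, 7, 5, 6, 4]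
def rw603 : List ℕ := [6, 4, 2, 10, 12, 14, 6, 4, 2, 10, 12, 14, 6, 4, 2, 10, 12, 14, 6, 4, 2, 3, 3, 5, 7, 15, 13, 11, 3, 5, 7, 15, 13, 11, 3, 5, 7, 15, 13, 11, 3, 5, 7, 15, 13, 11, 3, 5, 7, 15, 13, 11, 2, 10, 12, 14, 6, 4, 2, 10, 12, 14]
def rw604 : List ℕ := [6, 4, 2, 4, 6, 14, 12, 10, 12, 14, 6, 4, 2, 4, 6, 14, 12, 10, 12, 14, 6, 4, 2, 5, 3, 5, 7, 15, 13, 11, 13, 15, 7, 5, 3, 5, 7, 15, 13, 11, 13, 15, 7, 5, 3, 5, 7, 15, 13, 11, 13, 15, 7, 5, 4, 4, 6, 14, 12, 10, 12, 14]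
def rw605 : List ℕ := [6, 4, 2, 10, 12, 14, 6, 4, 2, 10, 12, 14, 6, 4, 2, 10, 12, 14, 6, 4, 2, 10, 12, 14, 6, 4, 2, 3, 3, 5, 7, 15, 13, 11, 3, 5, 7, 15, 13, 11, 3, 5, 7, 15, 13, 11, 3, 5, 7, 15, 13, 11, 3, 5, 7, 15, 13, 11, 2, 10, 12, 14]
def rw606 : List ℕ := [6, 4, 10, 12, 14, 8, 6, 4, 10, 12, 14, 8, 6, 4, 10, 12, 14, 8, 6, 4, 10, 12, 14, 8, 6, 4, 3, 5, 7, 9, 15, 13, 11, 5, 7, 9, 15, 13, 11, 5, 7, 9, 15, 13, 11, 5, 7, 9, 15, 13, 11, 5, 7, 9, 15, 13, 11, 2, 10, 12, 14, 8]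
def rw607 : List ℕ := [6, 4, 9, 5, 7, 9, 15, 13, 11, 5, 7, 9, 15, 13, 11, 5, 7, 9, 15, 13, 11, 5, 7, 9, 15, 13, 11, 5, 7, 9, 15, 13, 11, 8, 10, 12, 14, 8, 6, 4, 10, 12, 14, 8, 6, 4, 10, 12, 14, 8, 6, 4, 10, 12, 14, 8, 6, 4, 10, 12, 14, 8]
def rw608 : List ℕ := [6, 14, 12, 10, 12, 14, 6, 4, 2, 7, 3, 5, 7, 15, 13, 11, 13, 15, 7, 5, 3, 5, 7, 15, 13, 11, 13, 15, 7, 5, 3, 5, 7, 15, 13, 11, 13, 15, 7, 5, 6, 4, 6, 14, 12, 10, 12, 14, 6, 4, 2, 4, 6, 14, 12, 10, 12, 14, 6, 4, 2, 4]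
def rw609 : List ℕ := [6, 4, 2, 1, 3, 5, 7, 15, 13, 11, 13, 15, 7, 5, 3, 5, 7, 15, 13, 11, 13, 15, 7, 5, 3, 5, 7, 15, 13, 11, 13, 15, 7, 5, 0, 4, 6, 14, 12, 10, 12, 14, 6, 4, 2, 4, 6, 14, 12, 10, 12, 14, 6, 4, 2, 4, 6, 14, 12, 10, 12, 14]
def rw610 : List ℕ := [6, 4, 10, 12, 14, 8, 6, 4, 10, 12, 14, 8, 6, 4, 3, 5, 7, 9, 15, 13, 11, 5, 7, 9, 15, 13, 11, 5, 7, 9, 15, 13, 11, 5, 7, 9, 15, 13, 11, 5, 7, 9, 15, 13, 11, 2, 10, 12, 14, 8, 6, 4, 10, 12, 14, 8, 6, 4, 10, 12, 14, 8]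
def rw611 : List ℕ := [6, 4, 2, 10, 12, 14, 6, 4, 2, 10, 12, 14, 6, 4, 2, 10, 12, 14, 6, 4, 2, 10, 12, 14, 6, 4, 2, 13, 3, 5, 7, 15, 13, 11, 3, 5, 7, 15, 13, 11, 3, 5, 7, 15, 13, 11, 3, 5, 7, 15, 13, 11, 3, 5, 7, 15, 13, 11, 12, 10, 12, 14]
def rw612 : List ℕ := [6, 4, 2, 10, 12, 14, 6, 4, 2, 10, 12, 14, 6, 4, 2, 10, 12, 14, 6, 4, 2, 10, 12, 14, 6, 4, 2, 15, 3, 5, 7, 15, 13, 11, 3, 5, 7, 15, 13, 11, 3, 5, 7, 15, 13, 11, 3, 5, 7, 15, 13, 11, 3, 5, 7, 15, 13, 11, 14, 10, 12, 14]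
def rw613 : List ℕ := [6, 4, 10, 12, 14, 8, 6, 4, 10, 12, 14, 8, 6, 4, 5, 5, 7, 9, 15, 13, 11, 5, 7, 9, 15, 13, 11, 5, 7, 9, 15, 13, 11, 5, 7, 9, 15, 13, 11, 5, 7, 9, 15, 13, 11, 4, 10, 12, 14, 8, 6, 4, 10, 12, 14, 8, 6, 4, 10, 12, 14, 8]
def rw614 : List ℕ := [6, 4, 2, 4, 6, 14, 12, 10, 12, 14, 6, 4, 2, 11, 3, 5, 7, 15, 13, 11, 13, 15, 7, 5, 3, 5, 7, 15, 13, 11, 13, 15, 7, 5, 3, 5, 7, 15, 13, 11, 13, 15, 7, 5, 10, 4, 6, 14, 12, 10, 12, 14, 6, 4, 2, 4, 6, 14, 12, 10, 12, 14]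
def rw615 : List ℕ := [6, 4, 2, 0, 12, 10, 8, 6, 4, 2, 0, 12, 10, 8, 6, 4, 2, 0, 12, 10, 8, 6, 4, 2, 0, 12, 10, 8, 6, 4, 2, 0, 12, 10, 8, 6, 4, 2, 0, 1, 1, 3, 5, 7, 9, 11, 13, 1, 3, 5, 7, 9, 11, 13, 1, 3, 5, 7, 9, 11, 13, 1, 3, 5, 7, 9, 11, 13, 1, 3, 5, 7, 9, 11, 13, 1, 3, 5, 7, 9, 11, 13, 1, 3, 5, 7, 9, 11, 13, 1, 3, 5, 7, 9, 11, 13, 1, 3, 5, 7, 9, 11, 13, 0, 12, 10, 8, 6, 4, 2, 0, 12, 10, 8, 6, 4, 2, 0, 12, 10, 8, 6, 4, 2, 0, 12, 10, 8]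
def rw616 : List ℕ := [6, 4, 10, 12, 14, 8, 6, 4, 10, 12, 14, 8, 6, 4, 10, 12, 14, 8, 6, 4, 1, 5, 7, 9, 15, 13, 11, 5, 7, 9, 15, 13, 11, 5, 7, 9, 15, 13, 11, 5, 7, 9, 15, 13, 11, 5, 7, 9, 15, 13, 11, 0, 10, 12, 14, 8, 6, 4, 10, 12, 14, 8]
def rw617 : List ℕ := [6, 4, 2, 4, 6, 14, 12, 10, 12, 14, 6, 4, 2, 4, 6, 14, 12, 10, 12, 14, 6, 4, 2, 9, 3, 5, 7, 15, 13, 11, 13, 15, 7, 5, 3, 5, 7, 15, 13, 11, 13, 15, 7, 5, 3, 5, 7, 15, 13, 11, 13, 15, 7, 5, 8, 4, 6, 14, 12, 10, 12, 14]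
def rw618 : List ℕ := [6, 4, 10, 12, 14, 8, 6, 4, 10, 12, 14, 8, 6, 4, 10, 12, 14, 8, 6, 4, 10, 12, 14, 8, 6, 4, 13, 5, 7, 9, 15, 13, 11, 5, 7, 9, 15, 13, 11, 5, 7, 9, 15, 13, 11, 5, 7, 9, 15, 13, 11, 5, 7, 9, 15, 13, 11, 12, 10, 12, 14, 8]
def rw619 : List ℕ := [6, 10, 12, 14, 8, 6, 4, 10, 12, 14, 8, 6, 4, 10, 12, 14, 8, 6, 4, 10, 12, 14, 8, 6, 4, 10, 12, 14, 8, 6, 4, 7, 5, 7, 9, 15, 13, 11, 5, 7, 9, 15, 13, 11, 5, 7, 9, 15, 13, 11, 5, 7, 9, 15, 13, 11, 5, 7, 9, 15, 13, 11]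
def rw620 : List ℕ := [6, 4, 10, 12, 14, 8, 6, 4, 10, 12, 14, 8, 6, 4, 10, 12, 14, 8, 6, 4, 10, 12, 14, 8, 6, 4, 1, 5, 7, 9, 15, 13, 11, 5, 7, 9, 15, 13, 11, 5, 7, 9, 15, 13, 11, 5, 7, 9, 15, 13, 11, 5, 7, 9, 15, 13, 11, 0, 10, 12, 14, 8]
def rw621 : List ℕ := [6, 4, 2, 13, 3, 5, 7, 15, 13, 11, 3, 5, 7, 15, 13, 11, 3, 5, 7, 15, 13, 11, 3, 5, 7, 15, 13, 11, 3, 5, 7, 15, 13, 11, 12, 10, 12, 14, 6, 4, 2, 10, 12, 14, 6, 4, 2, 10, 12, 14, 6, 4, 2, 10, 12, 14, 6, 4, 2, 10, 12, 14]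
def rw622 : List ℕ := [6, 5, 7, 9, 15, 13, 11, 5, 7, 9, 15, 13, 11, 5, 7, 9, 15, 13, 11, 5, 7, 9, 15, 13, 11, 5, 7, 9, 15, 13, 11, 7, 10, 12, 14, 8, 6, 4, 10, 12, 14, 8, 6, 4, 10, 12, 14, 8, 6, 4, 10, 12, 14, 8, 6, 4, 10, 12, 14, 8, 6, 4]
def rw623 : List ℕ := [6, 4, 2, 4, 6, 14, 12, 10, 12, 14, 6, 4, 2, 13, 3, 5, 7, 15, 13, 11, 13, 15, 7, 5, 3, 5, 7, 15, 13, 11, 13, 15, 7, 5, 3, 5, 7, 15, 13, 11, 13, 15, 7, 5, 12, 4, 6, 14, 12, 10, 12, 14, 6, 4, 2, 4, 6, 14, 12, 10, 12, 14]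
def rw624 : List ℕ := [6, 4, 10, 12, 14, 8, 6, 4, 10, 12, 14, 8, 6, 4, 10, 12, 14, 8, 6, 4, 10, 12, 14, 8, 6, 4, 9, 5, 7, 9, 15, 13, 11, 5, 7, 9, 15, 13, 11, 5, 7, 9, 15, 13, 11, 5, 7, 9, 15, 13, 11, 5, 7, 9, 15, 13, 11, 8, 10, 12, 14, 8]
def rw625 : List ℕ := [6, 14, 12, 10, 12, 14, 6, 4, 2, 4, 6, 14, 12, 10, 12, 14, 6, 4, 2, 4, 6, 14, 12, 10, 12, 14, 6, 4, 2, 5, 3, 5, 7, 15, 13, 11, 13, 15, 7, 5, 3, 5, 7, 15, 13, 11, 13, 15, 7, 5, 3, 5, 7, 15, 13, 11, 13, 15, 7, 5, 4, 4]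
def rw626 : List ℕ := [6, 4, 2, 10, 12, 14, 6, 4, 2, 1, 3, 5, 7, 15, 13, 11, 3, 5, 7, 15, 13, 11, 3, 5, 7, 15, 13, 11, 3, 5, 7, 15, 13, 11, 3, 5, 7, 15, 13, 11, 0, 10, 12, 14, 6, 4, 2, 10, 12, 14, 6, 4, 2, 10, 12, 14, 6, 4, 2, 10, 12, 14]
def rw627 : List ℕ := [6, 4, 2, 5, 3, 5, 7, 15, 13, 11, 3, 5, 7, 15, 13, 11, 3, 5, 7, 15, 13, 11, 3, 5, 7, 15, 13, 11, 3, 5, 7, 15, 13, 11, 4, 10, 12, 14, 6, 4, 2, 10, 12, 14, 6, 4, 2, 10, 12, 14, 6, 4, 2, 10, 12, 14, 6, 4, 2, 10, 12, 14]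
def rw628 : List ℕ := [6, 4, 2, 15, 3, 5, 7, 15, 13, 11, 3, 5, 7, 15, 13, 11, 3, 5, 7, 15, 13, 11, 3, 5, 7, 15, 13, 11, 3, 5, 7, 15, 13, 11, 14, 10, 12, 14, 6, 4, 2, 10, 12, 14, 6, 4, 2, 10, 12, 14, 6, 4, 2, 10, 12, 14, 6, 4, 2, 10, 12, 14]
def rw629 : List ℕ := [6, 14, 12, 10, 12, 14, 6, 4, 2, 13, 3, 5, 7, 15, 13, 11, 13, 15, 7, 5, 3, 5, 7, 15, 13, 11, 13, 15, 7, 5, 3, 5, 7, 15, 13, 11, 13, 15, 7, 5, 12, 4, 6, 14, 12, 10, 12, 14, 6, 4, 2, 4, 6, 14, 12, 10, 12, 14, 6, 4, 2, 4]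
def rw630 : List ℕ := [6, 4, 1, 5, 7, 9, 15, 13, 11, 5, 7, 9, 15, 13, 11, 5, 7, 9, 15, 13, 11, 5, 7, 9, 15, 13, 11, 5, 7, 9, 15, 13, 11, 0, 10, 12, 14, 8, 6, 4, 10, 12, 14, 8, 6, 4, 10, 12, 14, 8, 6, 4, 10, 12, 14, 8, 6, 4, 10, 12, 14, 8]
def rw631 : List ℕ := [6, 4, 2, 9, 3, 5, 7, 15, 13, 11, 3, 5, 7, 15, 13, 11, 3, 5, 7, 15, 13, 11, 3, 5, 7, 15, 13, 11, 3, 5, 7, 15, 13, 11, 8, 10, 12, 14, 6, 4, 2, 10, 12, 14, 6, 4, 2, 10, 12, 14, 6, 4, 2, 10, 12, 14, 6, 4, 2, 10, 12, 14]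
def rw632 : List ℕ := [6, 4, 10, 12, 14, 8, 6, 4, 10, 12, 14, 8, 6, 4, 10, 12, 14, 8, 6, 4, 3, 5, 7, 9, 15, 13, 11, 5, 7, 9, 15, 13, 11, 5, 7, 9, 15, 13, 11, 5, 7, 9, 15, 13, 11, 5, 7, 9, 15, 13, 11, 2, 10, 12, 14, 8, 6, 4, 10, 12, 14, 8]
def rw633 : List ℕ := [6, 4, 2, 11, 3, 5, 7, 15, 13, 11, 13, 15, 7, 5, 3, 5, 7, 15, 13, 11, 13, 15, 7, 5, 3, 5, 7, 15, 13, 11, 13, 15, 7, 5, 10, 4, 6, 14, 12, 10, 12, 14, 6, 4, 2, 4, 6, 14, 12, 10, 12, 14, 6, 4, 2, 4, 6, 14, 12, 10, 12, 14]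
def rw634 : List ℕ := [6, 4, 2, 11, 3, 5, 7, 15, 13, 11, 3, 5, 7, 15, 13, 11, 3, 5, 7, 15, 13, 11, 3, 5, 7, 15, 13, 11, 3, 5, 7, 15, 13, 11, 10, 10, 12, 14, 6, 4, 2, 10, 12, 14, 6, 4, 2, 10, 12, 14, 6, 4, 2, 10, 12, 14, 6, 4, 2, 10, 12, 14]
def rw635 : List ℕ := [6, 4, 2, 0, 12, 10, 8, 6, 4, 2, 0, 12, 10, 8, 6, 4, 2, 0, 12, 10, 8, 6, 4, 2, 0, 12, 10, 8, 6, 4, 2, 0, 12, 10, 8, 6, 4, 2, 0, 12, 10, 8, 6, 4, 2, 0, 12, 10, 8, 6, 4, 2, 0, 1, 1, 3, 5, 7, 9, 11, 13, 1, 3, 5, 7, 9, 11, 13, 1, 3, 5, 7, 9, 11, 13, 1, 3, 5, 7, 9, 11, 13, 1, 3, 5, 7, 9, 11, 13, 1, 3, 5, 7, 9, 11, 13, 1, 3, 5, 7, 9, 11, 13, 1, 3, 5, 7, 9, 11, 13, 1, 3, 5, 7, 9, 11, 13, 0, 12, 10, 8, 6, 4, 2, 0, 12, 10, 8]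
def rw636 : List ℕ := [6, 4, 2, 4, 6, 14, 12, 10, 12, 14, 6, 4, 2, 4, 6, 14, 12, 10, 12, 14, 6, 4, 2, 1, 3, 5, 7, 15, 13, 11, 13, 15, 7, 5, 3, 5, 7, 15, 13, 11, 13, 15, 7, 5, 3, 5, 7, 15, 13, 11, 13, 15, 7, 5, 0, 4, 6, 14, 12, 10, 12, 14]
def rw637 : List ℕ := [6, 4, 2, 10, 12, 14, 6, 4, 2, 10, 12, 14, 6, 4, 2, 10, 12, 14, 6, 4, 2, 7, 3, 5, 7, 15, 13, 11, 3, 5, 7, 15, 13, 11, 3, 5, 7, 15, 13, 11, 3, 5, 7, 15, 13, 11, 3, 5, 7, 15, 13, 11, 6, 10, 12, 14, 6, 4, 2, 10, 12, 14]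
def rw638 : List ℕ := [6, 14, 12, 10, 12, 14, 6, 4, 2, 9, 3, 5, 7, 15, 13, 11, 13, 15, 7, 5, 3, 5, 7, 15, 13, 11, 13, 15, 7, 5, 3, 5, 7, 15, 13, 11, 13, 15, 7, 5, 8, 4, 6, 14, 12, 10, 12, 14, 6, 4, 2, 4, 6, 14, 12, 10, 12, 14, 6, 4, 2, 4]
def rw639 : List ℕ := [6, 4, 8, 5, 7, 9, 15, 13, 11, 5, 7, 9, 15, 13, 11, 5, 7, 9, 15, 13, 11, 5, 7, 9, 15, 13, 11, 5, 7, 9, 15, 13, 11, 9, 10, 12, 14, 8, 6, 4, 10, 12, 14, 8, 6, 4, 10, 12, 14, 8, 6, 4, 10, 12, 14, 8, 6, 4, 10, 12, 14, 8]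
def rw640 : List ℕ := [6, 4, 2, 5, 3, 5, 7, 15, 13, 11, 13, 15, 7, 5, 3, 5, 7, 15, 13, 11, 13, 15, 7, 5, 3, 5, 7, 15, 13, 11, 13, 15, 7, 5, 4, 4, 6, 14, 12, 10, 12, 14, 6, 4, 2, 4, 6, 14, 12, 10, 12, 14, 6, 4, 2, 4, 6, 14, 12, 10, 12, 14]
def rw641 : List ℕ := [6, 4, 2, 10, 12, 14, 6, 4, 2, 9, 3, 5, 7, 15, 13, 11, 3, 5, 7, 15, 13, 11, 3, 5, 7, 15, 13, 11, 3, 5, 7, 15, 13, 11, 3, 5, 7, 15, 13, 11, 8, 10, 12, 14, 6, 4, 2, 10, 12, 14, 6, 4, 2, 10, 12, 14, 6, 4, 2, 10, 12, 14]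
def rw642 : List ℕ := [6, 4, 2, 10, 12, 14, 6, 4, 2, 10, 12, 14, 6, 4, 2, 10, 12, 14, 6, 4, 2, 10, 12, 14, 6, 4, 2, 5, 3, 5, 7, 15, 13, 11, 3, 5, 7, 15, 13, 11, 3, 5, 7, 15, 13, 11, 3, 5, 7, 15, 13, 11, 3, 5, 7, 15, 13, 11, 4, 10, 12, 14]
def rw643 : List ℕ := [6, 4, 2, 4, 6, 14, 12, 10, 12, 14, 6, 4, 2, 4, 6, 14, 12, 10, 12, 14, 6, 4, 2, 13, 3, 5, 7, 15, 13, 11, 13, 15, 7, 5, 3, 5, 7, 15, 13, 11, 13, 15, 7, 5, 3, 5, 7, 15, 13, 11, 13, 15, 7, 5, 12, 4, 6, 14, 12, 10, 12, 14]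
def rw644 : List ℕ := [6, 4, 10, 12, 14, 8, 6, 4, 10, 12, 14, 8, 6, 4, 10, 12, 14, 8, 6, 4, 11, 5, 7, 9, 15, 13, 11, 5, 7, 9, 15, 13, 11, 5, 7, 9, 15, 13, 11, 5, 7, 9, 15, 13, 11, 5, 7, 9, 15, 13, 11, 10, 10, 12, 14, 8, 6, 4, 10, 12, 14, 8]
def rw645 : List ℕ := [6, 4, 10, 12, 14, 8, 6, 4, 1, 5, 7, 9, 15, 13, 11, 5, 7, 9, 15, 13, 11, 5, 7, 9, 15, 13, 11, 5, 7, 9, 15, 13, 11, 5, 7, 9, 15, 13, 11, 0, 10, 12, 14, 8, 6, 4, 10, 12, 14, 8, 6, 4, 10, 12, 14, 8, 6, 4, 10, 12, 14, 8]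
def rw646 : List ℕ := [6, 14, 12, 10, 12, 14, 6, 4, 2, 4, 6, 14, 12, 10, 12, 14, 6, 4, 2, 9, 3, 5, 7, 15, 13, 11, 13, 15, 7, 5, 3, 5, 7, 15, 13, 11, 13, 15, 7, 5, 3, 5, 7, 15, 13, 11, 13, 15, 7, 5, 8, 4, 6, 14, 12, 10, 12, 14, 6, 4, 2, 4]
def rw647 : List ℕ := [6, 4, 3, 5, 7, 9, 15, 13, 11, 5, 7, 9, 15, 13, 11, 5, 7, 9, 15, 13, 11, 5, 7, 9, 15, 13, 11, 5, 7, 9, 15, 13, 11, 2, 10, 12, 14, 8, 6, 4, 10, 12, 14, 8, 6, 4, 10, 12, 14, 8, 6, 4, 10, 12, 14, 8, 6, 4, 10, 12, 14, 8]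
def rw648 : List ℕ := [6, 4, 2, 3, 3, 5, 7, 15, 13, 11, 3, 5, 7, 15, 13, 11, 3, 5, 7, 15, 13, 11, 3, 5, 7, 15, 13, 11, 3, 5, 7, 15, 13, 11, 2, 10, 12, 14, 6, 4, 2, 10, 12, 14, 6, 4, 2, 10, 12, 14, 6, 4, 2, 10, 12, 14, 6, 4, 2, 10, 12, 14]
def rw649 : List ℕ := [6, 4, 2, 10, 12, 14, 6, 4, 2, 10, 12, 14, 6, 4, 2, 10, 12, 14, 6, 4, 2, 9, 3, 5, 7, 15, 13, 11, 3, 5, 7, 15, 13, 11, 3, 5, 7, 15, 13, 11, 3, 5, 7, 15, 13, 11, 3, 5, 7, 15, 13, 11, 8, 10, 12, 14, 6, 4, 2, 10, 12, 14]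
def rw650 : List ℕ := [6, 14, 12, 10, 12, 14, 6, 4, 2, 4, 6, 14, 12, 10, 12, 14, 6, 4, 2, 13, 3, 5, 7, 15, 13, 11, 13, 15, 7, 5, 3, 5, 7, 15, 13, 11, 13, 15, 7, 5, 3, 5, 7, 15, 13, 11, 13, 15, 7, 5, 12, 4, 6, 14, 12, 10, 12, 14, 6, 4, 2, 4]
def rw651 : List ℕ := [6, 4, 2, 7, 3, 5, 7, 15, 13, 11, 13, 15, 7, 5, 3, 5, 7, 15, 13, 11, 13, 15, 7, 5, 3, 5, 7, 15, 13, 11, 13, 15, 7, 5, 6, 4, 6, 14, 12, 10, 12, 14, 6, 4, 2, 4, 6, 14, 12, 10, 12, 14, 6, 4, 2, 4, 6, 14, 12, 10, 12, 14]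
def rw652 : List ℕ := [6, 4, 10, 12, 14, 8, 6, 4, 11, 5, 7, 9, 15, 13, 11, 5, 7, 9, 15, 13, 11, 5, 7, 9, 15, 13, 11, 5, 7, 9, 15, 13, 11, 5, 7, 9, 15, 13, 11, 10, 10, 12, 14, 8, 6, 4, 10, 12, 14, 8, 6, 4, 10, 12, 14, 8, 6, 4, 10, 12, 14, 8]
def rw653 : List ℕ := [6, 4, 10, 12, 14, 8, 6, 4, 10, 12, 14, 8, 6, 4, 10, 12, 14, 8, 6, 4, 10, 12, 14, 8, 6, 4, 7, 5, 7, 9, 15, 13, 11, 5, 7, 9, 15, 13, 11, 5, 7, 9, 15, 13, 11, 5, 7, 9, 15, 13, 11, 5, 7, 9, 15, 13, 11, 6, 10, 12, 14, 8]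
def rw654 : List ℕ := [6, 4, 10, 12, 14, 8, 6, 4, 10, 12, 14, 8, 6, 4, 1, 5, 7, 9, 15, 13, 11, 5, 7, 9, 15, 13, 11, 5, 7, 9, 15, 13, 11, 5, 7, 9, 15, 13, 11, 5, 7, 9, 15, 13, 11, 0, 10, 12, 14, 8, 6, 4, 10, 12, 14, 8, 6, 4, 10, 12, 14, 8]
def rw655 : List ℕ := [6, 4, 2, 10, 12, 14, 6, 4, 2, 10, 12, 14, 6, 4, 2, 10, 12, 14, 6, 4, 2, 11, 3, 5, 7, 15, 13, 11, 3, 5, 7, 15, 13, 11, 3, 5, 7, 15, 13, 11, 3, 5, 7, 15, 13, 11, 3, 5, 7, 15, 13, 11, 10, 10, 12, 14, 6, 4, 2, 10, 12, 14]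
def rw656 : List ℕ := [6, 4, 10, 12, 14, 8, 6, 4, 10, 12, 14, 8, 6, 4, 7, 5, 7, 9, 15, 13, 11, 5, 7, 9, 15, 13, 11, 5, 7, 9, 15, 13, 11, 5, 7, 9, 15, 13, 11, 5, 7, 9, 15, 13, 11, 6, 10, 12, 14, 8, 6, 4, 10, 12, 14, 8, 6, 4, 10, 12, 14, 8]
def rw657 : List ℕ := [6, 4, 2, 9, 3, 5, 7, 15, 13, 11, 13, 15, 7, 5, 3, 5, 7, 15, 13, 11, 13, 15, 7, 5, 3, 5, 7, 15, 13, 11, 13, 15, 7, 5, 8, 4, 6, 14, 12, 10, 12, 14, 6, 4, 2, 4, 6, 14, 12, 10, 12, 14, 6, 4, 2, 4, 6, 14, 12, 10, 12, 14]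
def rw658 : List ℕ := [6, 14, 12, 10, 12, 14, 6, 4, 2, 4, 6, 14, 12, 10, 12, 14, 6, 4, 2, 7, 3, 5, 7, 15, 13, 11, 13, 15, 7, 5, 3, 5, 7, 15, 13, 11, 13, 15, 7, 5, 3, 5, 7, 15, 13, 11, 13, 15, 7, 5, 6, 4, 6, 14, 12, 10, 12, 14, 6, 4, 2, 4]
def rw659 : List ℕ := [6, 4, 2, 4, 3, 5, 7, 15, 13, 11, 3, 5, 7, 15, 13, 11, 3, 5, 7, 15, 13, 11, 3, 5, 7, 15, 13, 11, 3, 5, 7, 15, 13, 11, 5, 10, 12, 14, 6, 4, 2, 10, 12, 14, 6, 4, 2, 10, 12, 14, 6, 4, 2, 10, 12, 14, 6, 4, 2, 10, 12, 14]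
def rw660 : List ℕ := [6, 4, 10, 12, 14, 8, 6, 4, 10, 12, 14, 8, 6, 4, 10, 12, 14, 8, 6, 4, 10, 12, 14, 8, 6, 4, 11, 5, 7, 9, 15, 13, 11, 5, 7, 9, 15, 13, 11, 5, 7, 9, 15, 13, 11, 5, 7, 9, 15, 13, 11, 5, 7, 9, 15, 13, 11, 10, 10, 12, 14, 8]
def rw661 : List ℕ := [6, 4, 7, 5, 7, 9, 15, 13, 11, 5, 7, 9, 15, 13, 11, 5, 7, 9, 15, 13, 11, 5, 7, 9, 15, 13, 11, 5, 7, 9, 15, 13, 11, 6, 10, 12, 14, 8, 6, 4, 10, 12, 14, 8, 6, 4, 10, 12, 14, 8, 6, 4, 10, 12, 14, 8, 6, 4, 10, 12, 14, 8]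
def rw662 : List ℕ := [6, 4, 5, 5, 7, 9, 15, 13, 11, 5, 7, 9, 15, 13, 11, 5, 7, 9, 15, 13, 11, 5, 7, 9, 15, 13, 11, 5, 7, 9, 15, 13, 11, 4, 10, 12, 14, 8, 6, 4, 10, 12, 14, 8, 6, 4, 10, 12, 14, 8, 6, 4, 10, 12, 14, 8, 6, 4, 10, 12, 14, 8]
def rw663 : List ℕ := [6, 4, 2, 0, 12, 10, 8, 6, 4, 2, 0, 12, 10, 8, 6, 4, 2, 0, 12, 10, 8, 6, 4, 2, 0, 12, 10, 8, 6, 4, 2, 0, 12, 10, 8, 6, 4, 2, 0, 12, 10, 8, 6, 4, 2, 0, 12, 10, 8, 6, 4, 2, 0, 12, 10, 8, 6, 4, 2, 0, 5, 1, 3, 5, 7, 9, 11, 13, 1, 3, 5, 7, 9, 11, 13, 1, 3, 5, 7, 9, 11, 13, 1, 3, 5, 7, 9, 11, 13, 1, 3, 5, 7, 9, 11, 13, 1, 3, 5, 7, 9, 11, 13, 1, 3, 5, 7, 9, 11, 13, 1, 3, 5, 7, 9, 11, 13, 1, 3, 5, 7, 9, 11, 13, 4, 12, 10, 8]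
def rw664 : List ℕ := [6, 14, 12, 10, 12, 14, 6, 4, 2, 4, 6, 14, 12, 10, 12, 14, 6, 4, 2, 4, 6, 14, 12, 10, 12, 14, 6, 4, 2, 1, 3, 5, 7, 15, 13, 11, 13, 15, 7, 5, 3, 5, 7, 15, 13, 11, 13, 15, 7, 5, 3, 5, 7, 15, 13, 11, 13, 15, 7, 5, 0, 4]
def rw665 : List ℕ := [6, 4, 2, 10, 12, 14, 6, 4, 2, 11, 3, 5, 7, 15, 13, 11, 3, 5, 7, 15, 13, 11, 3, 5, 7, 15, 13, 11, 3, 5, 7, 15, 13, 11, 3, 5, 7, 15, 13, 11, 10, 10, 12, 14, 6, 4, 2, 10, 12, 14, 6, 4, 2, 10, 12, 14, 6, 4, 2, 10, 12, 14]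
def rw666 : List ℕ := [6, 4, 10, 12, 14, 8, 6, 4, 5, 5, 7, 9, 15, 13, 11, 5, 7, 9, 15, 13, 11, 5, 7, 9, 15, 13, 11, 5, 7, 9, 15, 13, 11, 5, 7, 9, 15, 13, 11, 4, 10, 12, 14, 8, 6, 4, 10, 12, 14, 8, 6, 4, 10, 12, 14, 8, 6, 4, 10, 12, 14, 8]
def rw667 : List ℕ := [6, 4, 2, 10, 12, 14, 6, 4, 2, 10, 12, 14, 6, 4, 2, 10, 12, 14, 6, 4, 2, 10, 12, 14, 6, 4, 2, 1, 3, 5, 7, 15, 13, 11, 3, 5, 7, 15, 13, 11, 3, 5, 7, 15, 13, 11, 3, 5, 7, 15, 13, 11, 3, 5, 7, 15, 13, 11, 0, 10, 12, 14]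
def rw668 : List ℕ := [6, 4, 2, 0, 12, 10, 8, 6, 4, 2, 0, 12, 10, 8, 6, 4, 2, 0, 12, 10, 8, 6, 4, 2, 0, 12, 10, 8, 6, 4, 2, 0, 12, 10, 8, 6, 4, 2, 0, 12, 10, 8, 6, 4, 2, 0, 12, 10, 8, 6, 4, 2, 0, 12, 10, 8, 6, 4, 2, 0, 1, 1, 3, 5, 7, 9, 11, 13, 1, 3, 5, 7, 9, 11, 13, 1, 3, 5, 7, 9, 11, 13, 1, 3, 5, 7, 9, 11, 13, 1, 3, 5, 7, 9, 11, 13, 1, 3, 5, 7, 9, 11, 13, 1, 3, 5, 7, 9, 11, 13, 1, 3, 5, 7, 9, 11, 13, 1, 3, 5, 7, 9, 11, 13, 0, 12, 10, 8]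
def rw669 : List ℕ := [6, 4, 2, 0, 1, 1, 3, 5, 7, 9, 11, 13, 1, 3, 5, 7, 9, 11, 13, 1, 3, 5, 7, 9, 11, 13, 1, 3, 5, 7, 9, 11, 13, 1, 3, 5, 7, 9, 11, 13, 1, 3, 5, 7, 9, 11, 13, 1, 3, 5, 7, 9, 11, 13, 1, 3, 5, 7, 9, 11, 13, 1, 3, 5, 7, 9, 11, 13, 0, 12, 10, 8, 6, 4, 2, 0, 12, 10, 8, 6, 4, 2, 0, 12, 10, 8, 6, 4, 2, 0, 12, 10, 8, 6, 4, 2, 0, 12, 10, 8, 6, 4, 2, 0, 12, 10, 8, 6, 4, 2, 0, 12, 10, 8, 6, 4, 2, 0, 12, 10, 8, 6, 4, 2, 0, 12, 10, 8]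
def rw670 : List ℕ := [6, 4, 2, 0, 12, 10, 8, 6, 4, 2, 0, 12, 10, 8, 6, 4, 2, 0, 12, 10, 8, 6, 4, 2, 0, 12, 10, 8, 6, 4, 2, 0, 12, 10, 8, 6, 4, 2, 0, 12, 10, 8, 6, 4, 2, 0, 1, 1, 3, 5, 7, 9, 11, 13, 1, 3, 5, 7, 9, 11, 13, 1, 3, 5, 7, 9, 11, 13, 1, 3, 5, 7, 9, 11, 13, 1, 3, 5, 7, 9, 11, 13, 1, 3, 5, 7, 9, 11, 13, 1, 3, 5, 7, 9, 11, 13, 1, 3, 5, 7, 9, 11, 13, 1, 3, 5, 7, 9, 11, 13, 0, 12, 10, 8, 6, 4, 2, 0, 12, 10, 8, 6, 4, 2, 0, 12, 10, 8]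
def rw671 : List ℕ := [6, 4, 2, 0, 12, 10, 8, 6, 4, 2, 0, 12, 10, 8, 6, 4, 2, 0, 12, 10, 8, 6, 4, 2, 0, 1, 1, 3, 5, 7, 9, 11, 13, 1, 3, 5, 7, 9, 11, 13, 1, 3, 5, 7, 9, 11, 13, 1, 3, 5, 7, 9, 11, 13, 1, 3, 5, 7, 9, 11, 13, 1, 3, 5, 7, 9, 11, 13, 1, 3, 5, 7, 9, 11, 13, 1, 3, 5, 7, 9, 11, 13, 1, 3, 5, 7, 9, 11, 13, 0, 12, 10, 8, 6, 4, 2, 0, 12, 10, 8, 6, 4, 2, 0, 12, 10, 8, 6, 4, 2, 0, 12, 10, 8, 6, 4, 2, 0, 12, 10, 8, 6, 4, 2, 0, 12, 10, 8]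
def rw672 : List ℕ := [6, 4, 0, 2, 10, 12, 14, 4, 0, 2, 10, 12, 14, 4, 0, 2, 10, 12, 14, 4, 0, 2, 10, 12, 14, 4, 0, 2, 10, 12, 14, 7, 15, 13, 11, 3, 1, 5, 15, 13, 11, 3, 1, 5, 15, 13, 11, 3, 1, 5, 15, 13, 11, 3, 1, 5, 15, 13, 11, 3, 1, 5]
def rw673 : List ℕ := [6, 4, 2, 0, 12, 10, 8, 6, 4, 2, 0, 12, 10, 8, 6, 4, 2, 0, 12, 10, 8, 6, 4, 2, 0, 5, 1, 3, 5, 7, 9, 11, 13, 1, 3, 5, 7, 9, 11, 13, 1, 3, 5, 7, 9, 11, 13, 1, 3, 5, 7, 9, 11, 13, 1, 3, 5, 7, 9, 11, 13, 1, 3, 5, 7, 9, 11, 13, 1, 3, 5, 7, 9, 11, 13, 1, 3, 5, 7, 9, 11, 13, 1, 3, 5, 7, 9, 11, 13, 4, 12, 10, 8, 6, 4, 2, 0, 12, 10, 8, 6, 4, 2, 0, 12, 10, 8, 6, 4, 2, 0, 12, 10, 8, 6, 4, 2, 0, 12, 10, 8, 6, 4, 2, 0, 12, 10, 8]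
def rw674 : List ℕ := [6, 4, 10, 12, 14, 8, 6, 4, 10, 12, 14, 8, 6, 4, 10, 12, 14, 8, 6, 4, 10, 12, 14, 8, 6, 4, 15, 5, 7, 9, 15, 13, 11, 5, 7, 9, 15, 13, 11, 5, 7, 9, 15, 13, 11, 5, 7, 9, 15, 13, 11, 5, 7, 9, 15, 13, 11, 14, 10, 12, 14, 8]
def rw675 : List ℕ := [6, 4, 2, 0, 12, 10, 8, 6, 4, 2, 0, 12, 10, 8, 6, 4, 2, 0, 12, 10, 8, 6, 4, 2, 0, 12, 10, 8, 6, 4, 2, 0, 1, 1, 3, 5, 7, 9, 11, 13, 1, 3, 5, 7, 9, 11, 13, 1, 3, 5, 7, 9, 11, 13, 1, 3, 5, 7, 9, 11, 13, 1, 3, 5, 7, 9, 11, 13, 1, 3, 5, 7, 9, 11, 13, 1, 3, 5, 7, 9, 11, 13, 1, 3, 5, 7, 9, 11, 13, 1, 3, 5, 7, 9, 11, 13, 0, 12, 10, 8, 6, 4, 2, 0, 12, 10, 8, 6, 4, 2, 0, 12, 10, 8, 6, 4, 2, 0, 12, 10, 8, 6, 4, 2, 0, 12, 10, 8]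
def rw676 : List ℕ := [7, 9, 7, 9, 7, 9]
def rw677 : List ℕ := [7, 13, 7, 13]
def rw678 : List ℕ := [7, 15, 7, 15, 7, 15]
def rw679 : List ℕ := [7, 11, 7, 11]
def rw680 : List ℕ := [7, 15, 13, 11, 3, 1, 5, 15, 13, 11, 3, 1, 5, 15, 13, 11, 3, 1, 5, 15, 13, 11, 3, 1, 5, 15, 13, 11, 3, 1, 5, 6, 4, 0, 2, 10, 12, 14, 4, 0, 2, 10, 12, 14, 4, 0, 2, 10, 12, 14, 4, 0, 2, 10, 12, 14, 4, 0, 2, 10, 12, 14]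
def rw681 : List ℕ := [7, 5, 7, 5, 7, 5]
def rw682 : List ℕ := [7, 3, 5, 7, 15, 13, 11, 3, 5, 7, 15, 13, 11, 3, 5, 7, 15, 13, 11, 3, 5, 7, 15, 13, 11, 3, 5, 7, 15, 13, 11, 6, 10, 12, 14, 6, 4, 2, 10, 12, 14, 6, 4, 2, 10, 12, 14, 6, 4, 2, 10, 12, 14, 6, 4, 2, 10, 12, 14, 6, 4, 2]
def rw683 : List ℕ := [7, 9, 15, 13, 11, 5, 7, 9, 15, 13, 11, 8, 10, 12, 14, 8, 6, 4, 10, 12, 14, 8, 6, 4, 10, 12, 14, 8, 6, 4, 10, 12, 14, 8, 6, 4, 10, 12, 14, 8, 6, 4, 9, 5, 7, 9, 15, 13, 11, 5, 7, 9, 15, 13, 11, 5, 7, 9, 15, 13, 11, 5]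
def rw684 : List ℕ := [7, 9, 7, 9, 7, 9]
def rw685 : List ℕ := [7, 9, 15, 13, 11, 5, 7, 9, 15, 13, 11, 5, 7, 9, 15, 13, 11, 5, 7, 9, 15, 13, 11, 5, 7, 9, 15, 13, 11, 4, 10, 12, 14, 8, 6, 4, 10, 12, 14, 8, 6, 4, 10, 12, 14, 8, 6, 4, 10, 12, 14, 8, 6, 4, 10, 12, 14, 8, 6, 4, 5, 5]
def rw686 : List ℕ := [7, 15, 7, 15, 7, 15]
def rw687 : List ℕ := [7, 9, 7, 9, 7, 9]
def rw688 : List ℕ := [7, 11, 7, 11]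
def rw689 : List ℕ := [7, 5, 7, 5, 7, 5]
def rw690 : List ℕ := [7, 3, 7, 3]
def rw691 : List ℕ := [7, 3, 7, 3]
def rw692 : List ℕ := [7, 1, 7, 1]
def rw693 : List ℕ := [7, 15, 13, 11, 13, 15, 7, 5, 14, 4, 6, 14, 12, 10, 12, 14, 6, 4, 2, 4, 6, 14, 12, 10, 12, 14, 6, 4, 2, 4, 6, 14, 12, 10, 12, 14, 6, 4, 2, 15, 3, 5, 7, 15, 13, 11, 13, 15, 7, 5, 3, 5, 7, 15, 13, 11, 13, 15, 7, 5, 3, 5]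
def rw694 : List ℕ := [7, 5, 3, 5, 7, 15, 13, 11, 13, 15, 7, 5, 3, 5, 7, 15, 13, 11, 13, 15, 7, 5, 2, 4, 6, 14, 12, 10, 12, 14, 6, 4, 2, 4, 6, 14, 12, 10, 12, 14, 6, 4, 2, 4, 6, 14, 12, 10, 12, 14, 6, 4, 2, 3, 3, 5, 7, 15, 13, 11, 13, 15]
def rw695 : List ℕ := [7, 15, 13, 11, 13, 15, 7, 5, 3, 5, 7, 15, 13, 11, 13, 15, 7, 5, 3, 5, 7, 15, 13, 11, 13, 15, 7, 5, 2, 4, 6, 14, 12, 10, 12, 14, 6, 4, 2, 4, 6, 14, 12, 10, 12, 14, 6, 4, 2, 4, 6, 14, 12, 10, 12, 14, 6, 4, 2, 3, 3, 5]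
def rw696 : List ℕ := [7, 5, 7, 9, 15, 13, 11, 5, 7, 9, 15, 13, 11, 5, 7, 9, 15, 13, 11, 5, 7, 9, 15, 13, 11, 5, 7, 9, 15, 13, 11, 6, 10, 12, 14, 8, 6, 4, 10, 12, 14, 8, 6, 4, 10, 12, 14, 8, 6, 4, 10, 12, 14, 8, 6, 4, 10, 12, 14, 8, 6, 4]
def rw697 : List ℕ := [7, 9, 15, 13, 11, 5, 7, 9, 15, 13, 11, 5, 7, 9, 15, 13, 11, 10, 10, 12, 14, 8, 6, 4, 10, 12, 14, 8, 6, 4, 10, 12, 14, 8, 6, 4, 10, 12, 14, 8, 6, 4, 10, 12, 14, 8, 6, 4, 11, 5, 7, 9, 15, 13, 11, 5, 7, 9, 15, 13, 11, 5]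
def rw698 : List ℕ := [7, 15, 13, 11, 3, 5, 7, 15, 13, 11, 4, 10, 12, 14, 6, 4, 2, 10, 12, 14, 6, 4, 2, 10, 12, 14, 6, 4, 2, 10, 12, 14, 6, 4, 2, 10, 12, 14, 6, 4, 2, 5, 3, 5, 7, 15, 13, 11, 3, 5, 7, 15, 13, 11, 3, 5, 7, 15, 13, 11, 3, 5]
def rw699 : List ℕ := [7, 10, 12, 14, 6, 4, 2, 10, 12, 14, 6, 4, 2, 10, 12, 14, 6, 4, 2, 10, 12, 14, 6, 4, 2, 10, 12, 14, 6, 4, 2, 6, 3, 5, 7, 15, 13, 11, 3, 5, 7, 15, 13, 11, 3, 5, 7, 15, 13, 11, 3, 5, 7, 15, 13, 11, 3, 5, 7, 15, 13, 11]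
def rw700 : List ℕ := [7, 5, 3, 5, 7, 15, 13, 11, 13, 15, 7, 5, 10, 4, 6, 14, 12, 10, 12, 14, 6, 4, 2, 4, 6, 14, 12, 10, 12, 14, 6, 4, 2, 4, 6, 14, 12, 10, 12, 14, 6, 4, 2, 11, 3, 5, 7, 15, 13, 11, 13, 15, 7, 5, 3, 5, 7, 15, 13, 11, 13, 15]
def rw701 : List ℕ := [7, 15, 13, 11, 13, 15, 7, 5, 4, 4, 6, 14, 12, 10, 12, 14, 6, 4, 2, 4, 6, 14, 12, 10, 12, 14, 6, 4, 2, 4, 6, 14, 12, 10, 12, 14, 6, 4, 2, 5, 3, 5, 7, 15, 13, 11, 13, 15, 7, 5, 3, 5, 7, 15, 13, 11, 13, 15, 7, 5, 3, 5]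
def rw702 : List ℕ := [7, 15, 13, 11, 3, 5, 7, 15, 13, 11, 3, 5, 7, 15, 13, 11, 3, 5, 7, 15, 13, 11, 12, 10, 12, 14, 6, 4, 2, 10, 12, 14, 6, 4, 2, 10, 12, 14, 6, 4, 2, 10, 12, 14, 6, 4, 2, 10, 12, 14, 6, 4, 2, 13, 3, 5, 7, 15, 13, 11, 3, 5]
def rw703 : List ℕ := [7, 10, 12, 14, 8, 6, 4, 10, 12, 14, 8, 6, 4, 10, 12, 14, 8, 6, 4, 10, 12, 14, 8, 6, 4, 10, 12, 14, 8, 6, 4, 6, 5, 7, 9, 15, 13, 11, 5, 7, 9, 15, 13, 11, 5, 7, 9, 15, 13, 11, 5, 7, 9, 15, 13, 11, 5, 7, 9, 15, 13, 11]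
def rw704 : List ℕ := [7, 13, 7, 13]
def rw705 : List ℕ := [7, 15, 13, 11, 3, 5, 7, 15, 13, 11, 3, 5, 7, 15, 13, 11, 3, 5, 7, 15, 13, 11, 2, 10, 12, 14, 6, 4, 2, 10, 12, 14, 6, 4, 2, 10, 12, 14, 6, 4, 2, 10, 12, 14, 6, 4, 2, 10, 12, 14, 6, 4, 2, 3, 3, 5, 7, 15, 13, 11, 3, 5]
def rw706 : List ℕ := [7, 15, 13, 11, 13, 15, 7, 5, 3, 5, 7, 15, 13, 11, 13, 15, 7, 5, 10, 4, 6, 14, 12, 10, 12, 14, 6, 4, 2, 4, 6, 14, 12, 10, 12, 14, 6, 4, 2, 4, 6, 14, 12, 10, 12, 14, 6, 4, 2, 11, 3, 5, 7, 15, 13, 11, 13, 15, 7, 5, 3, 5]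
def rw707 : List ℕ := [7, 5, 3, 5, 7, 15, 13, 11, 13, 15, 7, 5, 6, 4, 6, 14, 12, 10, 12, 14, 6, 4, 2, 4, 6, 14, 12, 10, 12, 14, 6, 4, 2, 4, 6, 14, 12, 10, 12, 14, 6, 4, 2, 7, 3, 5, 7, 15, 13, 11, 13, 15, 7, 5, 3, 5, 7, 15, 13, 11, 13, 15]
def rw708 : List ℕ := [7, 5, 3, 5, 7, 15, 13, 11, 13, 15, 7, 5, 3, 5, 7, 15, 13, 11, 13, 15, 7, 5, 4, 4, 6, 14, 12, 10, 12, 14, 6, 4, 2, 4, 6, 14, 12, 10, 12, 14, 6, 4, 2, 4, 6, 14, 12, 10, 12, 14, 6, 4, 2, 5, 3, 5, 7, 15, 13, 11, 13, 15]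
def rw709 : List ℕ := [7, 15, 13, 11, 13, 15, 7, 5, 6, 4, 6, 14, 12, 10, 12, 14, 6, 4, 2, 4, 6, 14, 12, 10, 12, 14, 6, 4, 2, 4, 6, 14, 12, 10, 12, 14, 6, 4, 2, 7, 3, 5, 7, 15, 13, 11, 13, 15, 7, 5, 3, 5, 7, 15, 13, 11, 13, 15, 7, 5, 3, 5]
def rw710 : List ℕ := [7, 9, 15, 13, 11, 8, 10, 12, 14, 8, 6, 4, 10, 12, 14, 8, 6, 4, 10, 12, 14, 8, 6, 4, 10, 12, 14, 8, 6, 4, 10, 12, 14, 8, 6, 4, 9, 5, 7, 9, 15, 13, 11, 5, 7, 9, 15, 13, 11, 5, 7, 9, 15, 13, 11, 5, 7, 9, 15, 13, 11, 5]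
def rw711 : List ℕ := [7, 9, 15, 13, 11, 5, 7, 9, 15, 13, 11, 5, 7, 9, 15, 13, 11, 5, 7, 9, 15, 13, 11, 5, 7, 9, 15, 13, 11, 8, 10, 12, 14, 8, 6, 4, 10, 12, 14, 8, 6, 4, 10, 12, 14, 8, 6, 4, 10, 12, 14, 8, 6, 4, 10, 12, 14, 8, 6, 4, 9, 5]
def rw712 : List ℕ := [7, 1, 7, 1]
def rw713 : List ℕ := [7, 5, 3, 5, 7, 15, 13, 11, 13, 15, 7, 5, 4, 4, 6, 14, 12, 10, 12, 14, 6, 4, 2, 4, 6, 14, 12, 10, 12, 14, 6, 4, 2, 4, 6, 14, 12, 10, 12, 14, 6, 4, 2, 5, 3, 5, 7, 15, 13, 11, 13, 15, 7, 5, 3, 5, 7, 15, 13, 11, 13, 15]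
def rw714 : List ℕ := [7, 15, 13, 11, 3, 5, 7, 15, 13, 11, 3, 5, 7, 15, 13, 11, 10, 10, 12, 14, 6, 4, 2, 10, 12, 14, 6, 4, 2, 10, 12, 14, 6, 4, 2, 10, 12, 14, 6, 4, 2, 10, 12, 14, 6, 4, 2, 11, 3, 5, 7, 15, 13, 11, 3, 5, 7, 15, 13, 11, 3, 5]
def rw715 : List ℕ := [7, 9, 11, 13, 1, 3, 5, 7, 9, 11, 13, 4, 12, 10, 8, 6, 4, 2, 0, 12, 10, 8, 6, 4, 2, 0, 12, 10, 8, 6, 4, 2, 0, 12, 10, 8, 6, 4, 2, 0, 12, 10, 8, 6, 4, 2, 0, 12, 10, 8, 6, 4, 2, 0, 12, 10, 8, 6, 4, 2, 0, 12, 10, 8, 6, 4, 2, 0, 12, 10, 8, 6, 4, 2, 0, 5, 1, 3, 5, 7, 9, 11, 13, 1, 3, 5, 7, 9, 11, 13, 1, 3, 5, 7, 9, 11, 13, 1, 3, 5, 7, 9, 11, 13, 1, 3, 5, 7, 9, 11, 13, 1, 3, 5, 7, 9, 11, 13, 1, 3, 5, 7, 9, 11, 13, 1, 3, 5]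
def rw716 : List ℕ := [7, 5, 3, 5, 7, 15, 13, 11, 13, 15, 7, 5, 3, 5, 7, 15, 13, 11, 13, 15, 7, 5, 10, 4, 6, 14, 12, 10, 12, 14, 6, 4, 2, 4, 6, 14, 12, 10, 12, 14, 6, 4, 2, 4, 6, 14, 12, 10, 12, 14, 6, 4, 2, 11, 3, 5, 7, 15, 13, 11, 13, 15]
def rw717 : List ℕ := [7, 15, 13, 11, 13, 15, 7, 5, 3, 5, 7, 15, 13, 11, 13, 15, 7, 5, 4, 4, 6, 14, 12, 10, 12, 14, 6, 4, 2, 4, 6, 14, 12, 10, 12, 14, 6, 4, 2, 4, 6, 14, 12, 10, 12, 14, 6, 4, 2, 5, 3, 5, 7, 15, 13, 11, 13, 15, 7, 5, 3, 5]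
def rw718 : List ℕ := [7, 9, 15, 13, 11, 5, 7, 9, 15, 13, 11, 5, 7, 9, 15, 13, 11, 5, 7, 9, 15, 13, 11, 5, 7, 9, 15, 13, 11, 0, 10, 12, 14, 8, 6, 4, 10, 12, 14, 8, 6, 4, 10, 12, 14, 8, 6, 4, 10, 12, 14, 8, 6, 4, 10, 12, 14, 8, 6, 4, 1, 5]
def rw719 : List ℕ := [7, 15, 13, 11, 6, 10, 12, 14, 6, 4, 2, 10, 12, 14, 6, 4, 2, 10, 12, 14, 6, 4, 2, 10, 12, 14, 6, 4, 2, 10, 12, 14, 6, 4, 2, 7, 3, 5, 7, 15, 13, 11, 3, 5, 7, 15, 13, 11, 3, 5, 7, 15, 13, 11, 3, 5, 7, 15, 13, 11, 3, 5]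
def rw720 : List ℕ := [7, 9, 15, 13, 11, 5, 7, 9, 15, 13, 11, 5, 7, 9, 15, 13, 11, 5, 7, 9, 15, 13, 11, 5, 7, 9, 15, 13, 11, 1, 10, 12, 14, 8, 6, 4, 10, 12, 14, 8, 6, 4, 10, 12, 14, 8, 6, 4, 10, 12, 14, 8, 6, 4, 10, 12, 14, 8, 6, 4, 0, 5]
def rw721 : List ℕ := [7, 9, 11, 13, 1, 3, 5, 7, 9, 11, 13, 1, 3, 5, 7, 9, 11, 13, 1, 3, 5, 7, 9, 11, 13, 1, 3, 5, 7, 9, 11, 13, 1, 3, 5, 7, 9, 11, 13, 1, 3, 5, 7, 9, 11, 13, 10, 12, 10, 8, 6, 4, 2, 0, 12, 10, 8, 6, 4, 2, 0, 12, 10, 8, 6, 4, 2, 0, 12, 10, 8, 6, 4, 2, 0, 12, 10, 8, 6, 4, 2, 0, 12, 10, 8, 6, 4, 2, 0, 12, 10, 8, 6, 4, 2, 0, 12, 10, 8, 6, 4, 2, 0, 12, 10, 8, 6, 4, 2, 0, 11, 1, 3, 5, 7, 9, 11, 13, 1, 3, 5, 7, 9, 11, 13, 1, 3, 5]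
def rw722 : List ℕ := [7, 15, 13, 11, 3, 5, 7, 15, 13, 11, 3, 5, 7, 15, 13, 11, 3, 5, 7, 15, 13, 11, 3, 5, 7, 15, 13, 11, 4, 10, 12, 14, 6, 4, 2, 10, 12, 14, 6, 4, 2, 10, 12, 14, 6, 4, 2, 10, 12, 14, 6, 4, 2, 10, 12, 14, 6, 4, 2, 5, 3, 5]
def rw723 : List ℕ := [7, 5, 12, 4, 6, 14, 12, 10, 12, 14, 6, 4, 2, 4, 6, 14, 12, 10, 12, 14, 6, 4, 2, 4, 6, 14, 12, 10, 12, 14, 6, 4, 2, 13, 3, 5, 7, 15, 13, 11, 13, 15, 7, 5, 3, 5, 7, 15, 13, 11, 13, 15, 7, 5, 3, 5, 7, 15, 13, 11, 13, 15]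
def rw724 : List ℕ := [7, 9, 15, 13, 11, 5, 7, 9, 15, 13, 11, 5, 7, 9, 15, 13, 11, 5, 7, 9, 15, 13, 11, 6, 10, 12, 14, 8, 6, 4, 10, 12, 14, 8, 6, 4, 10, 12, 14, 8, 6, 4, 10, 12, 14, 8, 6, 4, 10, 12, 14, 8, 6, 4, 7, 5, 7, 9, 15, 13, 11, 5]
def rw725 : List ℕ := [7, 9, 15, 13, 11, 5, 7, 9, 15, 13, 11, 5, 7, 9, 15, 13, 11, 5, 7, 9, 15, 13, 11, 5, 7, 9, 15, 13, 11, 3, 10, 12, 14, 8, 6, 4, 10, 12, 14, 8, 6, 4, 10, 12, 14, 8, 6, 4, 10, 12, 14, 8, 6, 4, 10, 12, 14, 8, 6, 4, 2, 5]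
def rw726 : List ℕ := [7, 15, 13, 11, 4, 10, 12, 14, 6, 4, 2, 10, 12, 14, 6, 4, 2, 10, 12, 14, 6, 4, 2, 10, 12, 14, 6, 4, 2, 10, 12, 14, 6, 4, 2, 5, 3, 5, 7, 15, 13, 11, 3, 5, 7, 15, 13, 11, 3, 5, 7, 15, 13, 11, 3, 5, 7, 15, 13, 11, 3, 5]
def rw727 : List ℕ := [7, 15, 13, 11, 3, 5, 7, 15, 13, 11, 3, 5, 7, 15, 13, 11, 2, 10, 12, 14, 6, 4, 2, 10, 12, 14, 6, 4, 2, 10, 12, 14, 6, 4, 2, 10, 12, 14, 6, 4, 2, 10, 12, 14, 6, 4, 2, 3, 3, 5, 7, 15, 13, 11, 3, 5, 7, 15, 13, 11, 3, 5]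
def rw728 : List ℕ := [7, 15, 13, 11, 3, 5, 7, 15, 13, 11, 3, 5, 7, 15, 13, 11, 3, 5, 7, 15, 13, 11, 3, 5, 7, 15, 13, 11, 14, 10, 12, 14, 6, 4, 2, 10, 12, 14, 6, 4, 2, 10, 12, 14, 6, 4, 2, 10, 12, 14, 6, 4, 2, 10, 12, 14, 6, 4, 2, 15, 3, 5]
def rw729 : List ℕ := [7, 9, 15, 13, 11, 5, 7, 9, 15, 13, 11, 14, 10, 12, 14, 8, 6, 4, 10, 12, 14, 8, 6, 4, 10, 12, 14, 8, 6, 4, 10, 12, 14, 8, 6, 4, 10, 12, 14, 8, 6, 4, 15, 5, 7, 9, 15, 13, 11, 5, 7, 9, 15, 13, 11, 5, 7, 9, 15, 13, 11, 5]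
def rw730 : List ℕ := [7, 9, 15, 13, 11, 12, 10, 12, 14, 8, 6, 4, 10, 12, 14, 8, 6, 4, 10, 12, 14, 8, 6, 4, 10, 12, 14, 8, 6, 4, 10, 12, 14, 8, 6, 4, 13, 5, 7, 9, 15, 13, 11, 5, 7, 9, 15, 13, 11, 5, 7, 9, 15, 13, 11, 5, 7, 9, 15, 13, 11, 5]
def rw731 : List ℕ := [7, 5, 4, 4, 6, 14, 12, 10, 12, 14, 6, 4, 2, 4, 6, 14, 12, 10, 12, 14, 6, 4, 2, 4, 6, 14, 12, 10, 12, 14, 6, 4, 2, 5, 3, 5, 7, 15, 13, 11, 13, 15, 7, 5, 3, 5, 7, 15, 13, 11, 13, 15, 7, 5, 3, 5, 7, 15, 13, 11, 13, 15]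
def rw732 : List ℕ := [7, 4, 0, 2, 10, 12, 14, 4, 0, 2, 10, 12, 14, 4, 0, 2, 10, 12, 14, 4, 0, 2, 10, 12, 14, 4, 0, 2, 10, 12, 14, 6, 15, 13, 11, 3, 1, 5, 15, 13, 11, 3, 1, 5, 15, 13, 11, 3, 1, 5, 15, 13, 11, 3, 1, 5, 15, 13, 11, 3, 1, 5]
def rw733 : List ℕ := [7, 5, 3, 5, 7, 15, 13, 11, 13, 15, 7, 5, 3, 5, 7, 15, 13, 11, 13, 15, 7, 5, 0, 4, 6, 14, 12, 10, 12, 14, 6, 4, 2, 4, 6, 14, 12, 10, 12, 14, 6, 4, 2, 4, 6, 14, 12, 10, 12, 14, 6, 4, 2, 1, 3, 5, 7, 15, 13, 11, 13, 15]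
def rw734 : List ℕ := [7, 15, 13, 11, 13, 15, 7, 5, 3, 5, 7, 15, 13, 11, 13, 15, 7, 5, 3, 5, 7, 15, 13, 11, 13, 15, 7, 5, 4, 4, 6, 14, 12, 10, 12, 14, 6, 4, 2, 4, 6, 14, 12, 10, 12, 14, 6, 4, 2, 4, 6, 14, 12, 10, 12, 14, 6, 4, 2, 5, 3, 5]
def rw735 : List ℕ := [7, 9, 15, 13, 11, 5, 7, 9, 15, 13, 11, 4, 10, 12, 14, 8, 6, 4, 10, 12, 14, 8, 6, 4, 10, 12, 14, 8, 6, 4, 10, 12, 14, 8, 6, 4, 10, 12, 14, 8, 6, 4, 5, 5, 7, 9, 15, 13, 11, 5, 7, 9, 15, 13, 11, 5, 7, 9, 15, 13, 11, 5]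
def rw736 : List ℕ := [7, 5, 3, 5, 7, 15, 13, 11, 13, 15, 7, 5, 0, 4, 6, 14, 12, 10, 12, 14, 6, 4, 2, 4, 6, 14, 12, 10, 12, 14, 6, 4, 2, 4, 6, 14, 12, 10, 12, 14, 6, 4, 2, 1, 3, 5, 7, 15, 13, 11, 13, 15, 7, 5, 3, 5, 7, 15, 13, 11, 13, 15]
def rw737 : List ℕ := [7, 5, 3, 5, 7, 15, 13, 11, 13, 15, 7, 5, 3, 5, 7, 15, 13, 11, 13, 15, 7, 5, 8, 4, 6, 14, 12, 10, 12, 14, 6, 4, 2, 4, 6, 14, 12, 10, 12, 14, 6, 4, 2, 4, 6, 14, 12, 10, 12, 14, 6, 4, 2, 9, 3, 5, 7, 15, 13, 11, 13, 15]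
def rw738 : List ℕ := [7, 9, 15, 13, 11, 5, 7, 9, 15, 13, 11, 5, 7, 9, 15, 13, 11, 5, 7, 9, 15, 13, 11, 2, 10, 12, 14, 8, 6, 4, 10, 12, 14, 8, 6, 4, 10, 12, 14, 8, 6, 4, 10, 12, 14, 8, 6, 4, 10, 12, 14, 8, 6, 4, 3, 5, 7, 9, 15, 13, 11, 5]
def rw739 : List ℕ := [7, 9, 11, 13, 4, 12, 10, 8, 6, 4, 2, 0, 12, 10, 8, 6, 4, 2, 0, 12, 10, 8, 6, 4, 2, 0, 12, 10, 8, 6, 4, 2, 0, 12, 10, 8, 6, 4, 2, 0, 12, 10, 8, 6, 4, 2, 0, 12, 10, 8, 6, 4, 2, 0, 12, 10, 8, 6, 4, 2, 0, 12, 10, 8, 6, 4, 2, 0, 5, 1, 3, 5, 7, 9, 11, 13, 1, 3, 5, 7, 9, 11, 13, 1, 3, 5, 7, 9, 11, 13, 1, 3, 5, 7, 9, 11, 13, 1, 3, 5, 7, 9, 11, 13, 1, 3, 5, 7, 9, 11, 13, 1, 3, 5, 7, 9, 11, 13, 1, 3, 5, 7, 9, 11, 13, 1, 3, 5]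
def rw740 : List ℕ := [7, 15, 13, 11, 13, 15, 7, 5, 10, 4, 6, 14, 12, 10, 12, 14, 6, 4, 2, 4, 6, 14, 12, 10, 12, 14, 6, 4, 2, 4, 6, 14, 12, 10, 12, 14, 6, 4, 2, 11, 3, 5, 7, 15, 13, 11, 13, 15, 7, 5, 3, 5, 7, 15, 13, 11, 13, 15, 7, 5, 3, 5]
def rw741 : List ℕ := [7, 5, 0, 4, 6, 14, 12, 10, 12, 14, 6, 4, 2, 4, 6, 14, 12, 10, 12, 14, 6, 4, 2, 4, 6, 14, 12, 10, 12, 14, 6, 4, 2, 1, 3, 5, 7, 15, 13, 11, 13, 15, 7, 5, 3, 5, 7, 15, 13, 11, 13, 15, 7, 5, 3, 5, 7, 15, 13, 11, 13, 15]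
def rw742 : List ℕ := [7, 9, 11, 13, 1, 3, 5, 7, 9, 11, 13, 1, 3, 5, 7, 9, 11, 13, 1, 3, 5, 7, 9, 11, 13, 1, 3, 5, 7, 9, 11, 13, 1, 3, 5, 7, 9, 11, 13, 1, 3, 5, 7, 9, 11, 13, 0, 12, 10, 8, 6, 4, 2, 0, 12, 10, 8, 6, 4, 2, 0, 12, 10, 8, 6, 4, 2, 0, 12, 10, 8, 6, 4, 2, 0, 12, 10, 8, 6, 4, 2, 0, 12, 10, 8, 6, 4, 2, 0, 12, 10, 8, 6, 4, 2, 0, 12, 10, 8, 6, 4, 2, 0, 12, 10, 8, 6, 4, 2, 0, 1, 1, 3, 5, 7, 9, 11, 13, 1, 3, 5, 7, 9, 11, 13, 1, 3, 5]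
def rw743 : List ℕ := [7, 9, 11, 13, 1, 3, 5, 7, 9, 11, 13, 1, 3, 5, 7, 9, 11, 13, 1, 3, 5, 7, 9, 11, 13, 1, 3, 5, 7, 9, 11, 13, 1, 3, 5, 7, 9, 11, 13, 1, 3, 5, 7, 9, 11, 13, 1, 3, 5, 7, 9, 11, 13, 1, 3, 5, 7, 9, 11, 13, 4, 12, 10, 8, 6, 4, 2, 0, 12, 10, 8, 6, 4, 2, 0, 12, 10, 8, 6, 4, 2, 0, 12, 10, 8, 6, 4, 2, 0, 12, 10, 8, 6, 4, 2, 0, 12, 10, 8, 6, 4, 2, 0, 12, 10, 8, 6, 4, 2, 0, 12, 10, 8, 6, 4, 2, 0, 12, 10, 8, 6, 4, 2, 0, 5, 1, 3, 5]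
def rw744 : List ℕ := [7, 15, 13, 11, 3, 5, 7, 15, 13, 11, 3, 5, 7, 15, 13, 11, 3, 5, 7, 15, 13, 11, 3, 5, 7, 15, 13, 11, 2, 10, 12, 14, 6, 4, 2, 10, 12, 14, 6, 4, 2, 10, 12, 14, 6, 4, 2, 10, 12, 14, 6, 4, 2, 10, 12, 14, 6, 4, 2, 3, 3, 5]
def rw745 : List ℕ := [7, 9, 11, 13, 1, 3, 5, 7, 9, 11, 13, 1, 3, 5, 7, 9, 11, 13, 1, 3, 5, 7, 9, 11, 13, 1, 3, 5, 7, 9, 11, 13, 1, 3, 5, 7, 9, 11, 13, 1, 3, 5, 7, 9, 11, 13, 1, 3, 5, 7, 9, 11, 13, 10, 12, 10, 8, 6, 4, 2, 0, 12, 10, 8, 6, 4, 2, 0, 12, 10, 8, 6, 4, 2, 0, 12, 10, 8, 6, 4, 2, 0, 12, 10, 8, 6, 4, 2, 0, 12, 10, 8, 6, 4, 2, 0, 12, 10, 8, 6, 4, 2, 0, 12, 10, 8, 6, 4, 2, 0, 12, 10, 8, 6, 4, 2, 0, 11, 1, 3, 5, 7, 9, 11, 13, 1, 3, 5]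
def rw746 : List ℕ := [7, 9, 11, 13, 1, 3, 5, 7, 9, 11, 13, 1, 3, 5, 7, 9, 11, 13, 4, 12, 10, 8, 6, 4, 2, 0, 12, 10, 8, 6, 4, 2, 0, 12, 10, 8, 6, 4, 2, 0, 12, 10, 8, 6, 4, 2, 0, 12, 10, 8, 6, 4, 2, 0, 12, 10, 8, 6, 4, 2, 0, 12, 10, 8, 6, 4, 2, 0, 12, 10, 8, 6, 4, 2, 0, 12, 10, 8, 6, 4, 2, 0, 5, 1, 3, 5, 7, 9, 11, 13, 1, 3, 5, 7, 9, 11, 13, 1, 3, 5, 7, 9, 11, 13, 1, 3, 5, 7, 9, 11, 13, 1, 3, 5, 7, 9, 11, 13, 1, 3, 5, 7, 9, 11, 13, 1, 3, 5]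
def rw747 : List ℕ := [7, 9, 15, 13, 11, 5, 7, 9, 15, 13, 11, 5, 7, 9, 15, 13, 11, 5, 7, 9, 15, 13, 11, 5, 7, 9, 15, 13, 11, 14, 10, 12, 14, 8, 6, 4, 10, 12, 14, 8, 6, 4, 10, 12, 14, 8, 6, 4, 10, 12, 14, 8, 6, 4, 10, 12, 14, 8, 6, 4, 15, 5]
def rw748 : List ℕ := [8, 12, 8, 12]
def rw749 : List ℕ := [8, 8]
def rw750 : List ℕ := [8, 12, 8, 12]
def rw751 : List ℕ := [8, 10, 8, 10]
def rw752 : List ℕ := [8, 4, 8, 4]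
def rw753 : List ℕ := [8, 10, 8, 10]
def rw754 : List ℕ := [8, 0, 8, 0]
def rw755 : List ℕ := [8, 2, 8, 2]
def rw756 : List ℕ := [8, 2, 8, 2]
def rw757 : List ℕ := [8, 6, 8, 6, 8, 6]
def rw758 : List ℕ := [8, 14, 8, 14]
def rw759 : List ℕ := [8, 4, 8, 4]
def rw760 : List ℕ := [8, 0, 8, 0]
def rw761 : List ℕ := [8, 6, 8, 6, 8, 6]
def rw762 : List ℕ := [8, 6, 8, 6, 8, 6]
def rw763 : List ℕ := [8, 10, 12, 14, 6, 4, 2, 10, 12, 14, 6, 4, 2, 10, 12, 14, 6, 4, 2, 10, 12, 14, 6, 4, 2, 10, 12, 14, 6, 4, 2, 9, 3, 5, 7, 15, 13, 11, 3, 5, 7, 15, 13, 11, 3, 5, 7, 15, 13, 11, 3, 5, 7, 15, 13, 11, 3, 5, 7, 15, 13, 11]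
def rw764 : List ℕ := [8, 6, 4, 10, 12, 14, 8, 6, 4, 10, 12, 14, 8, 6, 4, 10, 12, 14, 8, 6, 4, 10, 12, 14, 8, 6, 4, 9, 5, 7, 9, 15, 13, 11, 5, 7, 9, 15, 13, 11, 5, 7, 9, 15, 13, 11, 5, 7, 9, 15, 13, 11, 5, 7, 9, 15, 13, 11, 8, 10, 12, 14]
def rw765 : List ℕ := [8, 6, 4, 10, 12, 14, 8, 6, 4, 11, 5, 7, 9, 15, 13, 11, 5, 7, 9, 15, 13, 11, 5, 7, 9, 15, 13, 11, 5, 7, 9, 15, 13, 11, 5, 7, 9, 15, 13, 11, 10, 10, 12, 14, 8, 6, 4, 10, 12, 14, 8, 6, 4, 10, 12, 14, 8, 6, 4, 10, 12, 14]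
def rw766 : List ℕ := [8, 5, 7, 9, 15, 13, 11, 5, 7, 9, 15, 13, 11, 5, 7, 9, 15, 13, 11, 5, 7, 9, 15, 13, 11, 5, 7, 9, 15, 13, 11, 9, 10, 12, 14, 8, 6, 4, 10, 12, 14, 8, 6, 4, 10, 12, 14, 8, 6, 4, 10, 12, 14, 8, 6, 4, 10, 12, 14, 8, 6, 4]
def rw767 : List ℕ := [8, 6, 4, 10, 12, 14, 8, 6, 4, 10, 12, 14, 8, 6, 4, 10, 12, 14, 8, 6, 4, 3, 5, 7, 9, 15, 13, 11, 5, 7, 9, 15, 13, 11, 5, 7, 9, 15, 13, 11, 5, 7, 9, 15, 13, 11, 5, 7, 9, 15, 13, 11, 2, 10, 12, 14, 8, 6, 4, 10, 12, 14]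
def rw768 : List ℕ := [8, 10, 12, 14, 8, 6, 4, 10, 12, 14, 8, 6, 4, 10, 12, 14, 8, 6, 4, 10, 12, 14, 8, 6, 4, 10, 12, 14, 8, 6, 4, 9, 5, 7, 9, 15, 13, 11, 5, 7, 9, 15, 13, 11, 5, 7, 9, 15, 13, 11, 5, 7, 9, 15, 13, 11, 5, 7, 9, 15, 13, 11]
def rw769 : List ℕ := [8, 6, 4, 10, 12, 14, 8, 6, 4, 10, 12, 14, 8, 6, 4, 3, 5, 7, 9, 15, 13, 11, 5, 7, 9, 15, 13, 11, 5, 7, 9, 15, 13, 11, 5, 7, 9, 15, 13, 11, 5, 7, 9, 15, 13, 11, 2, 10, 12, 14, 8, 6, 4, 10, 12, 14, 8, 6, 4, 10, 12, 14]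
def rw770 : List ℕ := [8, 14, 8, 14]
def rw771 : List ℕ := [8, 6, 4, 2, 0, 12, 10, 8, 6, 4, 2, 0, 12, 10, 8, 6, 4, 2, 0, 12, 10, 8, 6, 4, 2, 0, 12, 10, 8, 6, 4, 2, 0, 12, 10, 8, 6, 4, 2, 0, 12, 10, 8, 6, 4, 2, 0, 5, 1, 3, 5, 7, 9, 11, 13, 1, 3, 5, 7, 9, 11, 13, 1, 3, 5, 7, 9, 11, 13, 1, 3, 5, 7, 9, 11, 13, 1, 3, 5, 7, 9, 11, 13, 1, 3, 5, 7, 9, 11, 13, 1, 3, 5, 7, 9, 11, 13, 1, 3, 5, 7, 9, 11, 13, 1, 3, 5, 7, 9, 11, 13, 4, 12, 10, 8, 6, 4, 2, 0, 12, 10, 8, 6, 4, 2, 0, 12, 10]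
def rw772 : List ℕ := [8, 6, 4, 3, 5, 7, 9, 15, 13, 11, 5, 7, 9, 15, 13, 11, 5, 7, 9, 15, 13, 11, 5, 7, 9, 15, 13, 11, 5, 7, 9, 15, 13, 11, 2, 10, 12, 14, 8, 6, 4, 10, 12, 14, 8, 6, 4, 10, 12, 14, 8, 6, 4, 10, 12, 14, 8, 6, 4, 10, 12, 14]
def rw773 : List ℕ := [8, 6, 4, 2, 0, 12, 10, 8, 6, 4, 2, 0, 12, 10, 8, 6, 4, 2, 0, 12, 10, 8, 6, 4, 2, 0, 12, 10, 8, 6, 4, 2, 0, 1, 1, 3, 5, 7, 9, 11, 13, 1, 3, 5, 7, 9, 11, 13, 1, 3, 5, 7, 9, 11, 13, 1, 3, 5, 7, 9, 11, 13, 1, 3, 5, 7, 9, 11, 13, 1, 3, 5, 7, 9, 11, 13, 1, 3, 5, 7, 9, 11, 13, 1, 3, 5, 7, 9, 11, 13, 1, 3, 5, 7, 9, 11, 13, 0, 12, 10, 8, 6, 4, 2, 0, 12, 10, 8, 6, 4, 2, 0, 12, 10, 8, 6, 4, 2, 0, 12, 10, 8, 6, 4, 2, 0, 12, 10]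
def rw774 : List ℕ := [8, 3, 5, 7, 15, 13, 11, 3, 5, 7, 15, 13, 11, 3, 5, 7, 15, 13, 11, 3, 5, 7, 15, 13, 11, 3, 5, 7, 15, 13, 11, 9, 10, 12, 14, 6, 4, 2, 10, 12, 14, 6, 4, 2, 10, 12, 14, 6, 4, 2, 10, 12, 14, 6, 4, 2, 10, 12, 14, 6, 4, 2]
def rw775 : List ℕ := [8, 6, 4, 10, 12, 14, 8, 6, 4, 9, 5, 7, 9, 15, 13, 11, 5, 7, 9, 15, 13, 11, 5, 7, 9, 15, 13, 11, 5, 7, 9, 15, 13, 11, 5, 7, 9, 15, 13, 11, 8, 10, 12, 14, 8, 6, 4, 10, 12, 14, 8, 6, 4, 10, 12, 14, 8, 6, 4, 10, 12, 14]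
def rw776 : List ℕ := [8, 6, 4, 10, 12, 14, 8, 6, 4, 5, 5, 7, 9, 15, 13, 11, 5, 7, 9, 15, 13, 11, 5, 7, 9, 15, 13, 11, 5, 7, 9, 15, 13, 11, 5, 7, 9, 15, 13, 11, 4, 10, 12, 14, 8, 6, 4, 10, 12, 14, 8, 6, 4, 10, 12, 14, 8, 6, 4, 10, 12, 14]
def rw777 : List ℕ := [8, 6, 4, 15, 5, 7, 9, 15, 13, 11, 5, 7, 9, 15, 13, 11, 5, 7, 9, 15, 13, 11, 5, 7, 9, 15, 13, 11, 5, 7, 9, 15, 13, 11, 14, 10, 12, 14, 8, 6, 4, 10, 12, 14, 8, 6, 4, 10, 12, 14, 8, 6, 4, 10, 12, 14, 8, 6, 4, 10, 12, 14]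
def rw778 : List ℕ := [8, 6, 4, 10, 12, 14, 8, 6, 4, 10, 12, 14, 8, 6, 4, 10, 12, 14, 8, 6, 4, 10, 12, 14, 8, 6, 4, 11, 5, 7, 9, 15, 13, 11, 5, 7, 9, 15, 13, 11, 5, 7, 9, 15, 13, 11, 5, 7, 9, 15, 13, 11, 5, 7, 9, 15, 13, 11, 10, 10, 12, 14]
def rw779 : List ℕ := [8, 6, 4, 13, 5, 7, 9, 15, 13, 11, 5, 7, 9, 15, 13, 11, 5, 7, 9, 15, 13, 11, 5, 7, 9, 15, 13, 11, 5, 7, 9, 15, 13, 11, 12, 10, 12, 14, 8, 6, 4, 10, 12, 14, 8, 6, 4, 10, 12, 14, 8, 6, 4, 10, 12, 14, 8, 6, 4, 10, 12, 14]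
def rw780 : List ℕ := [8, 6, 4, 10, 12, 14, 8, 6, 4, 10, 12, 14, 8, 6, 4, 10, 12, 14, 8, 6, 4, 10, 12, 14, 8, 6, 4, 3, 5, 7, 9, 15, 13, 11, 5, 7, 9, 15, 13, 11, 5, 7, 9, 15, 13, 11, 5, 7, 9, 15, 13, 11, 5, 7, 9, 15, 13, 11, 2, 10, 12, 14]
def rw781 : List ℕ := [8, 6, 4, 10, 12, 14, 8, 6, 4, 3, 5, 7, 9, 15, 13, 11, 5, 7, 9, 15, 13, 11, 5, 7, 9, 15, 13, 11, 5, 7, 9, 15, 13, 11, 5, 7, 9, 15, 13, 11, 2, 10, 12, 14, 8, 6, 4, 10, 12, 14, 8, 6, 4, 10, 12, 14, 8, 6, 4, 10, 12, 14]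
def rw782 : List ℕ := [8, 6, 4, 6, 5, 7, 9, 15, 13, 11, 5, 7, 9, 15, 13, 11, 5, 7, 9, 15, 13, 11, 5, 7, 9, 15, 13, 11, 5, 7, 9, 15, 13, 11, 7, 10, 12, 14, 8, 6, 4, 10, 12, 14, 8, 6, 4, 10, 12, 14, 8, 6, 4, 10, 12, 14, 8, 6, 4, 10, 12, 14]
def rw783 : List ℕ := [8, 6, 4, 5, 5, 7, 9, 15, 13, 11, 5, 7, 9, 15, 13, 11, 5, 7, 9, 15, 13, 11, 5, 7, 9, 15, 13, 11, 5, 7, 9, 15, 13, 11, 4, 10, 12, 14, 8, 6, 4, 10, 12, 14, 8, 6, 4, 10, 12, 14, 8, 6, 4, 10, 12, 14, 8, 6, 4, 10, 12, 14]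
def rw784 : List ℕ := [8, 6, 4, 10, 12, 14, 8, 6, 4, 10, 12, 14, 8, 6, 4, 10, 12, 14, 8, 6, 4, 10, 12, 14, 8, 6, 4, 1, 5, 7, 9, 15, 13, 11, 5, 7, 9, 15, 13, 11, 5, 7, 9, 15, 13, 11, 5, 7, 9, 15, 13, 11, 5, 7, 9, 15, 13, 11, 0, 10, 12, 14]
def rw785 : List ℕ := [8, 6, 4, 2, 0, 11, 1, 3, 5, 7, 9, 11, 13, 1, 3, 5, 7, 9, 11, 13, 1, 3, 5, 7, 9, 11, 13, 1, 3, 5, 7, 9, 11, 13, 1, 3, 5, 7, 9, 11, 13, 1, 3, 5, 7, 9, 11, 13, 1, 3, 5, 7, 9, 11, 13, 1, 3, 5, 7, 9, 11, 13, 1, 3, 5, 7, 9, 11, 13, 10, 12, 10, 8, 6, 4, 2, 0, 12, 10, 8, 6, 4, 2, 0, 12, 10, 8, 6, 4, 2, 0, 12, 10, 8, 6, 4, 2, 0, 12, 10, 8, 6, 4, 2, 0, 12, 10, 8, 6, 4, 2, 0, 12, 10, 8, 6, 4, 2, 0, 12, 10, 8, 6, 4, 2, 0, 12, 10]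
def rw786 : List ℕ := [8, 6, 4, 10, 12, 14, 8, 6, 4, 13, 5, 7, 9, 15, 13, 11, 5, 7, 9, 15, 13, 11, 5, 7, 9, 15, 13, 11, 5, 7, 9, 15, 13, 11, 5, 7, 9, 15, 13, 11, 12, 10, 12, 14, 8, 6, 4, 10, 12, 14, 8, 6, 4, 10, 12, 14, 8, 6, 4, 10, 12, 14]
def rw787 : List ℕ := [8, 6, 4, 10, 12, 14, 8, 6, 4, 10, 12, 14, 8, 6, 4, 10, 12, 14, 8, 6, 4, 5, 5, 7, 9, 15, 13, 11, 5, 7, 9, 15, 13, 11, 5, 7, 9, 15, 13, 11, 5, 7, 9, 15, 13, 11, 5, 7, 9, 15, 13, 11, 4, 10, 12, 14, 8, 6, 4, 10, 12, 14]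
def rw788 : List ℕ := [8, 6, 4, 10, 12, 14, 8, 6, 4, 10, 12, 14, 8, 6, 4, 10, 12, 14, 8, 6, 4, 9, 5, 7, 9, 15, 13, 11, 5, 7, 9, 15, 13, 11, 5, 7, 9, 15, 13, 11, 5, 7, 9, 15, 13, 11, 5, 7, 9, 15, 13, 11, 8, 10, 12, 14, 8, 6, 4, 10, 12, 14]
def rw789 : List ℕ := [8, 6, 4, 1, 5, 7, 9, 15, 13, 11, 5, 7, 9, 15, 13, 11, 5, 7, 9, 15, 13, 11, 5, 7, 9, 15, 13, 11, 5, 7, 9, 15, 13, 11, 0, 10, 12, 14, 8, 6, 4, 10, 12, 14, 8, 6, 4, 10, 12, 14, 8, 6, 4, 10, 12, 14, 8, 6, 4, 10, 12, 14]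
def rw790 : List ℕ := [8, 6, 4, 10, 12, 14, 8, 6, 4, 10, 12, 14, 8, 6, 4, 10, 12, 14, 8, 6, 4, 10, 12, 14, 8, 6, 4, 13, 5, 7, 9, 15, 13, 11, 5, 7, 9, 15, 13, 11, 5, 7, 9, 15, 13, 11, 5, 7, 9, 15, 13, 11, 5, 7, 9, 15, 13, 11, 12, 10, 12, 14]
def rw791 : List ℕ := [8, 6, 4, 10, 12, 14, 8, 6, 4, 10, 12, 14, 8, 6, 4, 10, 12, 14, 8, 6, 4, 6, 5, 7, 9, 15, 13, 11, 5, 7, 9, 15, 13, 11, 5, 7, 9, 15, 13, 11, 5, 7, 9, 15, 13, 11, 5, 7, 9, 15, 13, 11, 7, 10, 12, 14, 8, 6, 4, 10, 12, 14]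
def rw792 : List ℕ := [8, 6, 4, 9, 5, 7, 9, 15, 13, 11, 5, 7, 9, 15, 13, 11, 5, 7, 9, 15, 13, 11, 5, 7, 9, 15, 13, 11, 5, 7, 9, 15, 13, 11, 8, 10, 12, 14, 8, 6, 4, 10, 12, 14, 8, 6, 4, 10, 12, 14, 8, 6, 4, 10, 12, 14, 8, 6, 4, 10, 12, 14]
def rw793 : List ℕ := [8, 6, 4, 10, 12, 14, 8, 6, 4, 10, 12, 14, 8, 6, 4, 5, 5, 7, 9, 15, 13, 11, 5, 7, 9, 15, 13, 11, 5, 7, 9, 15, 13, 11, 5, 7, 9, 15, 13, 11, 5, 7, 9, 15, 13, 11, 4, 10, 12, 14, 8, 6, 4, 10, 12, 14, 8, 6, 4, 10, 12, 14]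
def rw794 : List ℕ := [8, 6, 4, 11, 5, 7, 9, 15, 13, 11, 5, 7, 9, 15, 13, 11, 5, 7, 9, 15, 13, 11, 5, 7, 9, 15, 13, 11, 5, 7, 9, 15, 13, 11, 10, 10, 12, 14, 8, 6, 4, 10, 12, 14, 8, 6, 4, 10, 12, 14, 8, 6, 4, 10, 12, 14, 8, 6, 4, 10, 12, 14]
def rw795 : List ℕ := [8, 6, 4, 2, 0, 12, 10, 8, 6, 4, 2, 0, 12, 10, 8, 6, 4, 2, 0, 12, 10, 8, 6, 4, 2, 0, 12, 10, 8, 6, 4, 2, 0, 12, 10, 8, 6, 4, 2, 0, 12, 10, 8, 6, 4, 2, 0, 12, 10, 8, 6, 4, 2, 0, 1, 1, 3, 5, 7, 9, 11, 13, 1, 3, 5, 7, 9, 11, 13, 1, 3, 5, 7, 9, 11, 13, 1, 3, 5, 7, 9, 11, 13, 1, 3, 5, 7, 9, 11, 13, 1, 3, 5, 7, 9, 11, 13, 1, 3, 5, 7, 9, 11, 13, 1, 3, 5, 7, 9, 11, 13, 1, 3, 5, 7, 9, 11, 13, 0, 12, 10, 8, 6, 4, 2, 0, 12, 10]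
def rw796 : List ℕ := [8, 6, 4, 10, 12, 14, 8, 6, 4, 10, 12, 14, 8, 6, 4, 10, 12, 14, 8, 6, 4, 13, 5, 7, 9, 15, 13, 11, 5, 7, 9, 15, 13, 11, 5, 7, 9, 15, 13, 11, 5, 7, 9, 15, 13, 11, 5, 7, 9, 15, 13, 11, 12, 10, 12, 14, 8, 6, 4, 10, 12, 14]
def rw797 : List ℕ := [8, 6, 4, 10, 12, 14, 8, 6, 4, 10, 12, 14, 8, 6, 4, 10, 12, 14, 8, 6, 4, 10, 12, 14, 8, 6, 4, 6, 5, 7, 9, 15, 13, 11, 5, 7, 9, 15, 13, 11, 5, 7, 9, 15, 13, 11, 5, 7, 9, 15, 13, 11, 5, 7, 9, 15, 13, 11, 7, 10, 12, 14]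
def rw798 : List ℕ := [8, 6, 4, 2, 0, 12, 10, 8, 6, 4, 2, 0, 12, 10, 8, 6, 4, 2, 0, 12, 10, 8, 6, 4, 2, 0, 12, 10, 8, 6, 4, 2, 0, 12, 10, 8, 6, 4, 2, 0, 12, 10, 8, 6, 4, 2, 0, 1, 1, 3, 5, 7, 9, 11, 13, 1, 3, 5, 7, 9, 11, 13, 1, 3, 5, 7, 9, 11, 13, 1, 3, 5, 7, 9, 11, 13, 1, 3, 5, 7, 9, 11, 13, 1, 3, 5, 7, 9, 11, 13, 1, 3, 5, 7, 9, 11, 13, 1, 3, 5, 7, 9, 11, 13, 1, 3, 5, 7, 9, 11, 13, 0, 12, 10, 8, 6, 4, 2, 0, 12, 10, 8, 6, 4, 2, 0, 12, 10]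
def rw799 : List ℕ := [8, 6, 4, 10, 12, 14, 8, 6, 4, 10, 12, 14, 8, 6, 4, 10, 12, 14, 8, 6, 4, 1, 5, 7, 9, 15, 13, 11, 5, 7, 9, 15, 13, 11, 5, 7, 9, 15, 13, 11, 5, 7, 9, 15, 13, 11, 5, 7, 9, 15, 13, 11, 0, 10, 12, 14, 8, 6, 4, 10, 12, 14]
def rw800 : List ℕ := [9, 15, 9, 15]
def rw801 : List ℕ := [9, 15, 13, 11, 3, 1, 5, 15, 13, 11, 3, 1, 5, 15, 13, 11, 3, 1, 5, 15, 13, 11, 3, 1, 5, 15, 13, 11, 3, 1, 5, 8, 4, 0, 2, 10, 12, 14, 4, 0, 2, 10, 12, 14, 4, 0, 2, 10, 12, 14, 4, 0, 2, 10, 12, 14, 4, 0, 2, 10, 12, 14]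
def rw802 : List ℕ := [9, 10, 12, 14, 8, 6, 4, 10, 12, 14, 8, 6, 4, 10, 12, 14, 8, 6, 4, 10, 12, 14, 8, 6, 4, 10, 12, 14, 8, 6, 4, 8, 5, 7, 9, 15, 13, 11, 5, 7, 9, 15, 13, 11, 5, 7, 9, 15, 13, 11, 5, 7, 9, 15, 13, 11, 5, 7, 9, 15, 13, 11]
def rw803 : List ℕ := [9, 7, 9, 7, 9, 7]
def rw804 : List ℕ := [9, 3, 5, 7, 15, 13, 11, 3, 5, 7, 15, 13, 11, 3, 5, 7, 15, 13, 11, 3, 5, 7, 15, 13, 11, 3, 5, 7, 15, 13, 11, 8, 10, 12, 14, 6, 4, 2, 10, 12, 14, 6, 4, 2, 10, 12, 14, 6, 4, 2, 10, 12, 14, 6, 4, 2, 10, 12, 14, 6, 4, 2]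
def rw805 : List ℕ := [9, 4, 0, 2, 10, 12, 14, 4, 0, 2, 10, 12, 14, 4, 0, 2, 10, 12, 14, 4, 0, 2, 10, 12, 14, 4, 0, 2, 10, 12, 14, 8, 15, 13, 11, 3, 1, 5, 15, 13, 11, 3, 1, 5, 15, 13, 11, 3, 1, 5, 15, 13, 11, 3, 1, 5, 15, 13, 11, 3, 1, 5]
def rw806 : List ℕ := [9, 11, 13, 1, 3, 5, 7, 9, 11, 13, 1, 3, 5, 7, 9, 11, 13, 4, 12, 10, 8, 6, 4, 2, 0, 12, 10, 8, 6, 4, 2, 0, 12, 10, 8, 6, 4, 2, 0, 12, 10, 8, 6, 4, 2, 0, 12, 10, 8, 6, 4, 2, 0, 12, 10, 8, 6, 4, 2, 0, 12, 10, 8, 6, 4, 2, 0, 12, 10, 8, 6, 4, 2, 0, 12, 10, 8, 6, 4, 2, 0, 5, 1, 3, 5, 7, 9, 11, 13, 1, 3, 5, 7, 9, 11, 13, 1, 3, 5, 7, 9, 11, 13, 1, 3, 5, 7, 9, 11, 13, 1, 3, 5, 7, 9, 11, 13, 1, 3, 5, 7, 9, 11, 13, 1, 3, 5, 7]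
def rw807 : List ℕ := [9, 5, 7, 9, 15, 13, 11, 5, 7, 9, 15, 13, 11, 5, 7, 9, 15, 13, 11, 5, 7, 9, 15, 13, 11, 5, 7, 9, 15, 13, 11, 8, 10, 12, 14, 8, 6, 4, 10, 12, 14, 8, 6, 4, 10, 12, 14, 8, 6, 4, 10, 12, 14, 8, 6, 4, 10, 12, 14, 8, 6, 4]
def rw808 : List ℕ := [9, 15, 13, 11, 8, 10, 12, 14, 8, 6, 4, 10, 12, 14, 8, 6, 4, 10, 12, 14, 8, 6, 4, 10, 12, 14, 8, 6, 4, 10, 12, 14, 8, 6, 4, 9, 5, 7, 9, 15, 13, 11, 5, 7, 9, 15, 13, 11, 5, 7, 9, 15, 13, 11, 5, 7, 9, 15, 13, 11, 5, 7]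
def rw809 : List ℕ := [9, 5, 9, 5]
def rw810 : List ℕ := [9, 5, 9, 5]
def rw811 : List ℕ := [9, 3, 9, 3]
def rw812 : List ℕ := [9, 11, 9, 11]
def rw813 : List ℕ := [9, 3, 9, 3]
def rw814 : List ℕ := [9, 11, 9, 11]
def rw815 : List ℕ := [9, 1, 9, 1]
def rw816 : List ℕ := [9, 13, 9, 13]
def rw817 : List ℕ := [9, 15, 9, 15]
def rw818 : List ℕ := [9, 10, 12, 14, 6, 4, 2, 10, 12, 14, 6, 4, 2, 10, 12, 14, 6, 4, 2, 10, 12, 14, 6, 4, 2, 10, 12, 14, 6, 4, 2, 8, 3, 5, 7, 15, 13, 11, 3, 5, 7, 15, 13, 11, 3, 5, 7, 15, 13, 11, 3, 5, 7, 15, 13, 11, 3, 5, 7, 15, 13, 11]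
def rw819 : List ℕ := [9, 15, 13, 11, 9, 10, 12, 14, 8, 6, 4, 10, 12, 14, 8, 6, 4, 10, 12, 14, 8, 6, 4, 10, 12, 14, 8, 6, 4, 10, 12, 14, 8, 6, 4, 8, 5, 7, 9, 15, 13, 11, 5, 7, 9, 15, 13, 11, 5, 7, 9, 15, 13, 11, 5, 7, 9, 15, 13, 11, 5, 7]
def rw820 : List ℕ := [9, 13, 9, 13]
def rw821 : List ℕ := [9, 15, 13, 11, 5, 7, 9, 15, 13, 11, 5, 7, 9, 15, 13, 11, 2, 10, 12, 14, 8, 6, 4, 10, 12, 14, 8, 6, 4, 10, 12, 14, 8, 6, 4, 10, 12, 14, 8, 6, 4, 10, 12, 14, 8, 6, 4, 3, 5, 7, 9, 15, 13, 11, 5, 7, 9, 15, 13, 11, 5, 7]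
def rw822 : List ℕ := [9, 15, 13, 11, 5, 7, 9, 15, 13, 11, 5, 7, 9, 15, 13, 11, 5, 7, 9, 15, 13, 11, 5, 7, 9, 15, 13, 11, 8, 10, 12, 14, 8, 6, 4, 10, 12, 14, 8, 6, 4, 10, 12, 14, 8, 6, 4, 10, 12, 14, 8, 6, 4, 10, 12, 14, 8, 6, 4, 9, 5, 7]
def rw823 : List ℕ := [9, 15, 13, 11, 5, 7, 9, 15, 13, 11, 5, 7, 9, 15, 13, 11, 5, 7, 9, 15, 13, 11, 5, 7, 9, 15, 13, 11, 2, 10, 12, 14, 8, 6, 4, 10, 12, 14, 8, 6, 4, 10, 12, 14, 8, 6, 4, 10, 12, 14, 8, 6, 4, 10, 12, 14, 8, 6, 4, 3, 5, 7]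
def rw824 : List ℕ := [9, 15, 13, 11, 5, 7, 9, 15, 13, 11, 5, 7, 9, 15, 13, 11, 5, 7, 9, 15, 13, 11, 5, 7, 9, 15, 13, 11, 4, 10, 12, 14, 8, 6, 4, 10, 12, 14, 8, 6, 4, 10, 12, 14, 8, 6, 4, 10, 12, 14, 8, 6, 4, 10, 12, 14, 8, 6, 4, 5, 5, 7]
def rw825 : List ℕ := [9, 7, 9, 7, 9, 7]
def rw826 : List ℕ := [9, 15, 13, 11, 5, 7, 9, 15, 13, 11, 5, 7, 9, 15, 13, 11, 5, 7, 9, 15, 13, 11, 8, 10, 12, 14, 8, 6, 4, 10, 12, 14, 8, 6, 4, 10, 12, 14, 8, 6, 4, 10, 12, 14, 8, 6, 4, 10, 12, 14, 8, 6, 4, 9, 5, 7, 9, 15, 13, 11, 5, 7]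
def rw827 : List ℕ := [9, 15, 13, 11, 5, 7, 9, 15, 13, 11, 7, 10, 12, 14, 8, 6, 4, 10, 12, 14, 8, 6, 4, 10, 12, 14, 8, 6, 4, 10, 12, 14, 8, 6, 4, 10, 12, 14, 8, 6, 4, 6, 5, 7, 9, 15, 13, 11, 5, 7, 9, 15, 13, 11, 5, 7, 9, 15, 13, 11, 5, 7]
def rw828 : List ℕ := [9, 15, 13, 11, 5, 7, 9, 15, 13, 11, 14, 10, 12, 14, 8, 6, 4, 10, 12, 14, 8, 6, 4, 10, 12, 14, 8, 6, 4, 10, 12, 14, 8, 6, 4, 10, 12, 14, 8, 6, 4, 15, 5, 7, 9, 15, 13, 11, 5, 7, 9, 15, 13, 11, 5, 7, 9, 15, 13, 11, 5, 7]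
def rw829 : List ℕ := [9, 15, 13, 11, 5, 7, 9, 15, 13, 11, 5, 7, 9, 15, 13, 11, 5, 7, 9, 15, 13, 11, 2, 10, 12, 14, 8, 6, 4, 10, 12, 14, 8, 6, 4, 10, 12, 14, 8, 6, 4, 10, 12, 14, 8, 6, 4, 10, 12, 14, 8, 6, 4, 3, 5, 7, 9, 15, 13, 11, 5, 7]
def rw830 : List ℕ := [9, 15, 13, 11, 5, 7, 9, 15, 13, 11, 5, 7, 9, 15, 13, 11, 5, 7, 9, 15, 13, 11, 6, 10, 12, 14, 8, 6, 4, 10, 12, 14, 8, 6, 4, 10, 12, 14, 8, 6, 4, 10, 12, 14, 8, 6, 4, 10, 12, 14, 8, 6, 4, 7, 5, 7, 9, 15, 13, 11, 5, 7]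
def rw831 : List ℕ := [9, 15, 13, 11, 5, 7, 9, 15, 13, 11, 5, 7, 9, 15, 13, 11, 5, 7, 9, 15, 13, 11, 5, 7, 9, 15, 13, 11, 6, 10, 12, 14, 8, 6, 4, 10, 12, 14, 8, 6, 4, 10, 12, 14, 8, 6, 4, 10, 12, 14, 8, 6, 4, 10, 12, 14, 8, 6, 4, 7, 5, 7]
def rw832 : List ℕ := [9, 11, 13, 1, 3, 5, 7, 9, 11, 13, 4, 12, 10, 8, 6, 4, 2, 0, 12, 10, 8, 6, 4, 2, 0, 12, 10, 8, 6, 4, 2, 0, 12, 10, 8, 6, 4, 2, 0, 12, 10, 8, 6, 4, 2, 0, 12, 10, 8, 6, 4, 2, 0, 12, 10, 8, 6, 4, 2, 0, 12, 10, 8, 6, 4, 2, 0, 12, 10, 8, 6, 4, 2, 0, 5, 1, 3, 5, 7, 9, 11, 13, 1, 3, 5, 7, 9, 11, 13, 1, 3, 5, 7, 9, 11, 13, 1, 3, 5, 7, 9, 11, 13, 1, 3, 5, 7, 9, 11, 13, 1, 3, 5, 7, 9, 11, 13, 1, 3, 5, 7, 9, 11, 13, 1, 3, 5, 7]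
def rw833 : List ℕ := [9, 15, 13, 11, 5, 7, 9, 15, 13, 11, 5, 7, 9, 15, 13, 11, 5, 7, 9, 15, 13, 11, 5, 7, 9, 15, 13, 11, 1, 10, 12, 14, 8, 6, 4, 10, 12, 14, 8, 6, 4, 10, 12, 14, 8, 6, 4, 10, 12, 14, 8, 6, 4, 10, 12, 14, 8, 6, 4, 0, 5, 7]
def rw834 : List ℕ := [9, 15, 13, 11, 5, 7, 9, 15, 13, 11, 5, 7, 9, 15, 13, 11, 5, 7, 9, 15, 13, 11, 5, 7, 9, 15, 13, 11, 3, 10, 12, 14, 8, 6, 4, 10, 12, 14, 8, 6, 4, 10, 12, 14, 8, 6, 4, 10, 12, 14, 8, 6, 4, 10, 12, 14, 8, 6, 4, 2, 5, 7]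
def rw835 : List ℕ := [9, 15, 13, 11, 5, 7, 9, 15, 13, 11, 5, 7, 9, 15, 13, 11, 4, 10, 12, 14, 8, 6, 4, 10, 12, 14, 8, 6, 4, 10, 12, 14, 8, 6, 4, 10, 12, 14, 8, 6, 4, 10, 12, 14, 8, 6, 4, 5, 5, 7, 9, 15, 13, 11, 5, 7, 9, 15, 13, 11, 5, 7]
def rw836 : List ℕ := [9, 11, 13, 1, 3, 5, 7, 9, 11, 13, 1, 3, 5, 7, 9, 11, 13, 1, 3, 5, 7, 9, 11, 13, 1, 3, 5, 7, 9, 11, 13, 1, 3, 5, 7, 9, 11, 13, 1, 3, 5, 7, 9, 11, 13, 1, 3, 5, 7, 9, 11, 13, 0, 12, 10, 8, 6, 4, 2, 0, 12, 10, 8, 6, 4, 2, 0, 12, 10, 8, 6, 4, 2, 0, 12, 10, 8, 6, 4, 2, 0, 12, 10, 8, 6, 4, 2, 0, 12, 10, 8, 6, 4, 2, 0, 12, 10, 8, 6, 4, 2, 0, 12, 10, 8, 6, 4, 2, 0, 12, 10, 8, 6, 4, 2, 0, 1, 1, 3, 5, 7, 9, 11, 13, 1, 3, 5, 7]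
def rw837 : List ℕ := [9, 11, 13, 1, 3, 5, 7, 9, 11, 13, 1, 3, 5, 7, 9, 11, 13, 14, 12, 10, 8, 6, 4, 2, 0, 12, 10, 8, 6, 4, 2, 0, 12, 10, 8, 6, 4, 2, 0, 12, 10, 8, 6, 4, 2, 0, 12, 10, 8, 6, 4, 2, 0, 12, 10, 8, 6, 4, 2, 0, 12, 10, 8, 6, 4, 2, 0, 12, 10, 8, 6, 4, 2, 0, 12, 10, 8, 6, 4, 2, 0, 15, 1, 3, 5, 7, 9, 11, 13, 1, 3, 5, 7, 9, 11, 13, 1, 3, 5, 7, 9, 11, 13, 1, 3, 5, 7, 9, 11, 13, 1, 3, 5, 7, 9, 11, 13, 1, 3, 5, 7, 9, 11, 13, 1, 3, 5, 7]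
def rw838 : List ℕ := [9, 11, 13, 1, 3, 5, 7, 9, 11, 13, 10, 12, 10, 8, 6, 4, 2, 0, 12, 10, 8, 6, 4, 2, 0, 12, 10, 8, 6, 4, 2, 0, 12, 10, 8, 6, 4, 2, 0, 12, 10, 8, 6, 4, 2, 0, 12, 10, 8, 6, 4, 2, 0, 12, 10, 8, 6, 4, 2, 0, 12, 10, 8, 6, 4, 2, 0, 12, 10, 8, 6, 4, 2, 0, 11, 1, 3, 5, 7, 9, 11, 13, 1, 3, 5, 7, 9, 11, 13, 1, 3, 5, 7, 9, 11, 13, 1, 3, 5, 7, 9, 11, 13, 1, 3, 5, 7, 9, 11, 13, 1, 3, 5, 7, 9, 11, 13, 1, 3, 5, 7, 9, 11, 13, 1, 3, 5, 7]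
def rw839 : List ℕ := [10, 6, 10, 6]
def rw840 : List ℕ := [10, 4, 10, 4]
def rw841 : List ℕ := [10, 10]
def rw842 : List ℕ := [10, 0, 10, 0]
def rw843 : List ℕ := [10, 2, 10, 2, 10, 2]
def rw844 : List ℕ := [10, 4, 10, 4]
def rw845 : List ℕ := [10, 14, 10, 14]
def rw846 : List ℕ := [10, 2, 10, 2, 10, 2]
def rw847 : List ℕ := [10, 6, 10, 6]
def rw848 : List ℕ := [10, 0, 10, 0]
def rw849 : List ℕ := [10, 2, 10, 2, 10, 2]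
def rw850 : List ℕ := [10, 8, 10, 8]
def rw851 : List ℕ := [10, 5, 7, 9, 15, 13, 11, 5, 7, 9, 15, 13, 11, 5, 7, 9, 15, 13, 11, 5, 7, 9, 15, 13, 11, 5, 7, 9, 15, 13, 11, 11, 10, 12, 14, 8, 6, 4, 10, 12, 14, 8, 6, 4, 10, 12, 14, 8, 6, 4, 10, 12, 14, 8, 6, 4, 10, 12, 14, 8, 6, 4]
def rw852 : List ℕ := [10, 12, 10, 12, 10, 12]
def rw853 : List ℕ := [10, 12, 14, 4, 0, 2, 10, 12, 14, 4, 0, 2, 10, 12, 14, 4, 0, 2, 10, 12, 14, 3, 15, 13, 11, 3, 1, 5, 15, 13, 11, 3, 1, 5, 15, 13, 11, 3, 1, 5, 15, 13, 11, 3, 1, 5, 15, 13, 11, 3, 1, 5, 2, 4, 0, 2, 10, 12, 14, 4, 0, 2]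
def rw854 : List ℕ := [10, 12, 14, 4, 0, 2, 10, 12, 14, 4, 0, 2, 10, 12, 14, 4, 0, 2, 10, 12, 14, 1, 15, 13, 11, 3, 1, 5, 15, 13, 11, 3, 1, 5, 15, 13, 11, 3, 1, 5, 15, 13, 11, 3, 1, 5, 15, 13, 11, 3, 1, 5, 0, 4, 0, 2, 10, 12, 14, 4, 0, 2]
def rw855 : List ℕ := [10, 12, 14, 6, 4, 2, 4, 6, 14, 12, 10, 12, 14, 6, 4, 2, 4, 6, 14, 12, 10, 12, 14, 6, 4, 2, 5, 3, 5, 7, 15, 13, 11, 13, 15, 7, 5, 3, 5, 7, 15, 13, 11, 13, 15, 7, 5, 3, 5, 7, 15, 13, 11, 13, 15, 7, 5, 4, 4, 6, 14, 12]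
def rw856 : List ℕ := [10, 12, 14, 6, 4, 2, 10, 12, 14, 6, 4, 2, 10, 12, 14, 6, 4, 2, 10, 12, 14, 6, 4, 2, 10, 12, 14, 6, 4, 2, 15, 3, 5, 7, 15, 13, 11, 3, 5, 7, 15, 13, 11, 3, 5, 7, 15, 13, 11, 3, 5, 7, 15, 13, 11, 3, 5, 7, 15, 13, 11, 14]
def rw857 : List ℕ := [10, 12, 14, 6, 4, 2, 4, 6, 14, 12, 10, 12, 14, 6, 4, 2, 5, 3, 5, 7, 15, 13, 11, 13, 15, 7, 5, 3, 5, 7, 15, 13, 11, 13, 15, 7, 5, 3, 5, 7, 15, 13, 11, 13, 15, 7, 5, 4, 4, 6, 14, 12, 10, 12, 14, 6, 4, 2, 4, 6, 14, 12]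
def rw858 : List ℕ := [10, 8, 10, 8]
def rw859 : List ℕ := [10, 3, 5, 7, 15, 13, 11, 3, 5, 7, 15, 13, 11, 3, 5, 7, 15, 13, 11, 3, 5, 7, 15, 13, 11, 3, 5, 7, 15, 13, 11, 11, 10, 12, 14, 6, 4, 2, 10, 12, 14, 6, 4, 2, 10, 12, 14, 6, 4, 2, 10, 12, 14, 6, 4, 2, 10, 12, 14, 6, 4, 2]
def rw860 : List ℕ := [10, 12, 14, 6, 4, 2, 1, 3, 5, 7, 15, 13, 11, 13, 15, 7, 5, 3, 5, 7, 15, 13, 11, 13, 15, 7, 5, 3, 5, 7, 15, 13, 11, 13, 15, 7, 5, 0, 4, 6, 14, 12, 10, 12, 14, 6, 4, 2, 4, 6, 14, 12, 10, 12, 14, 6, 4, 2, 4, 6, 14, 12]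
def rw861 : List ℕ := [10, 12, 10, 12, 10, 12]
def rw862 : List ℕ := [10, 12, 14, 6, 4, 2, 4, 6, 14, 12, 10, 12, 14, 6, 4, 2, 1, 3, 5, 7, 15, 13, 11, 13, 15, 7, 5, 3, 5, 7, 15, 13, 11, 13, 15, 7, 5, 3, 5, 7, 15, 13, 11, 13, 15, 7, 5, 0, 4, 6, 14, 12, 10, 12, 14, 6, 4, 2, 4, 6, 14, 12]
def rw863 : List ℕ := [10, 12, 14, 8, 6, 4, 10, 12, 14, 8, 6, 4, 10, 12, 14, 8, 6, 4, 10, 12, 14, 8, 6, 4, 10, 12, 14, 8, 6, 4, 13, 5, 7, 9, 15, 13, 11, 5, 7, 9, 15, 13, 11, 5, 7, 9, 15, 13, 11, 5, 7, 9, 15, 13, 11, 5, 7, 9, 15, 13, 11, 12]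
def rw864 : List ℕ := [10, 12, 14, 6, 4, 2, 4, 6, 14, 12, 10, 12, 14, 6, 4, 2, 4, 6, 14, 12, 10, 12, 14, 6, 4, 2, 15, 3, 5, 7, 15, 13, 11, 13, 15, 7, 5, 3, 5, 7, 15, 13, 11, 13, 15, 7, 5, 3, 5, 7, 15, 13, 11, 13, 15, 7, 5, 14, 4, 6, 14, 12]
def rw865 : List ℕ := [10, 12, 14, 6, 4, 2, 10, 12, 14, 6, 4, 2, 10, 12, 14, 6, 4, 2, 3, 3, 5, 7, 15, 13, 11, 3, 5, 7, 15, 13, 11, 3, 5, 7, 15, 13, 11, 3, 5, 7, 15, 13, 11, 3, 5, 7, 15, 13, 11, 2, 10, 12, 14, 6, 4, 2, 10, 12, 14, 6, 4, 2]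
def rw866 : List ℕ := [10, 12, 14, 8, 6, 4, 10, 12, 14, 8, 6, 4, 11, 5, 7, 9, 15, 13, 11, 5, 7, 9, 15, 13, 11, 5, 7, 9, 15, 13, 11, 5, 7, 9, 15, 13, 11, 5, 7, 9, 15, 13, 11, 10, 10, 12, 14, 8, 6, 4, 10, 12, 14, 8, 6, 4, 10, 12, 14, 8, 6, 4]
def rw867 : List ℕ := [10, 12, 14, 6, 4, 2, 4, 6, 14, 12, 10, 12, 14, 6, 4, 2, 4, 6, 14, 12, 10, 12, 14, 6, 4, 2, 13, 3, 5, 7, 15, 13, 11, 13, 15, 7, 5, 3, 5, 7, 15, 13, 11, 13, 15, 7, 5, 3, 5, 7, 15, 13, 11, 13, 15, 7, 5, 12, 4, 6, 14, 12]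
def rw868 : List ℕ := [10, 14, 10, 14]
def rw869 : List ℕ := [10, 12, 14, 6, 4, 2, 10, 12, 14, 6, 4, 2, 10, 12, 14, 6, 4, 2, 10, 12, 14, 6, 4, 2, 10, 12, 14, 6, 4, 2, 13, 3, 5, 7, 15, 13, 11, 3, 5, 7, 15, 13, 11, 3, 5, 7, 15, 13, 11, 3, 5, 7, 15, 13, 11, 3, 5, 7, 15, 13, 11, 12]
def rw870 : List ℕ := [10, 12, 14, 6, 4, 2, 4, 6, 14, 12, 10, 12, 14, 6, 4, 2, 4, 6, 14, 12, 10, 12, 14, 6, 4, 2, 3, 3, 5, 7, 15, 13, 11, 13, 15, 7, 5, 3, 5, 7, 15, 13, 11, 13, 15, 7, 5, 3, 5, 7, 15, 13, 11, 13, 15, 7, 5, 2, 4, 6, 14, 12]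
def rw871 : List ℕ := [10, 12, 14, 6, 4, 2, 4, 6, 14, 12, 10, 12, 14, 6, 4, 2, 9, 3, 5, 7, 15, 13, 11, 13, 15, 7, 5, 3, 5, 7, 15, 13, 11, 13, 15, 7, 5, 3, 5, 7, 15, 13, 11, 13, 15, 7, 5, 8, 4, 6, 14, 12, 10, 12, 14, 6, 4, 2, 4, 6, 14, 12]
def rw872 : List ℕ := [10, 12, 14, 6, 4, 2, 4, 6, 14, 12, 10, 12, 14, 6, 4, 2, 4, 6, 14, 12, 10, 12, 14, 6, 4, 2, 1, 3, 5, 7, 15, 13, 11, 13, 15, 7, 5, 3, 5, 7, 15, 13, 11, 13, 15, 7, 5, 3, 5, 7, 15, 13, 11, 13, 15, 7, 5, 0, 4, 6, 14, 12]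
def rw873 : List ℕ := [10, 12, 14, 6, 4, 2, 4, 6, 14, 12, 10, 12, 14, 6, 4, 2, 15, 3, 5, 7, 15, 13, 11, 13, 15, 7, 5, 3, 5, 7, 15, 13, 11, 13, 15, 7, 5, 3, 5, 7, 15, 13, 11, 13, 15, 7, 5, 14, 4, 6, 14, 12, 10, 12, 14, 6, 4, 2, 4, 6, 14, 12]
def rw874 : List ℕ := [10, 12, 14, 6, 4, 2, 4, 6, 14, 12, 10, 12, 14, 6, 4, 2, 4, 6, 14, 12, 10, 12, 14, 6, 4, 2, 9, 3, 5, 7, 15, 13, 11, 13, 15, 7, 5, 3, 5, 7, 15, 13, 11, 13, 15, 7, 5, 3, 5, 7, 15, 13, 11, 13, 15, 7, 5, 8, 4, 6, 14, 12]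
def rw875 : List ℕ := [10, 12, 10, 12, 10, 12]
def rw876 : List ℕ := [10, 12, 14, 4, 0, 2, 10, 12, 14, 4, 0, 2, 10, 12, 14, 1, 15, 13, 11, 3, 1, 5, 15, 13, 11, 3, 1, 5, 15, 13, 11, 3, 1, 5, 15, 13, 11, 3, 1, 5, 15, 13, 11, 3, 1, 5, 0, 4, 0, 2, 10, 12, 14, 4, 0, 2, 10, 12, 14, 4, 0, 2]
def rw877 : List ℕ := [10, 12, 14, 6, 4, 2, 4, 6, 14, 12, 10, 12, 14, 6, 4, 2, 7, 3, 5, 7, 15, 13, 11, 13, 15, 7, 5, 3, 5, 7, 15, 13, 11, 13, 15, 7, 5, 3, 5, 7, 15, 13, 11, 13, 15, 7, 5, 6, 4, 6, 14, 12, 10, 12, 14, 6, 4, 2, 4, 6, 14, 12]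
def rw878 : List ℕ := [10, 12, 14, 6, 4, 2, 11, 3, 5, 7, 15, 13, 11, 13, 15, 7, 5, 3, 5, 7, 15, 13, 11, 13, 15, 7, 5, 3, 5, 7, 15, 13, 11, 13, 15, 7, 5, 10, 4, 6, 14, 12, 10, 12, 14, 6, 4, 2, 4, 6, 14, 12, 10, 12, 14, 6, 4, 2, 4, 6, 14, 12]
def rw879 : List ℕ := [10, 12, 14, 6, 4, 2, 15, 3, 5, 7, 15, 13, 11, 13, 15, 7, 5, 3, 5, 7, 15, 13, 11, 13, 15, 7, 5, 3, 5, 7, 15, 13, 11, 13, 15, 7, 5, 14, 4, 6, 14, 12, 10, 12, 14, 6, 4, 2, 4, 6, 14, 12, 10, 12, 14, 6, 4, 2, 4, 6, 14, 12]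
def rw880 : List ℕ := [10, 12, 14, 4, 0, 2, 10, 12, 14, 4, 0, 2, 10, 12, 14, 4, 0, 2, 10, 12, 14, 4, 0, 2, 10, 12, 14, 0, 15, 13, 11, 3, 1, 5, 15, 13, 11, 3, 1, 5, 15, 13, 11, 3, 1, 5, 15, 13, 11, 3, 1, 5, 15, 13, 11, 3, 1, 5, 1, 4, 0, 2]
def rw881 : List ℕ := [10, 12, 14, 6, 4, 2, 5, 3, 5, 7, 15, 13, 11, 13, 15, 7, 5, 3, 5, 7, 15, 13, 11, 13, 15, 7, 5, 3, 5, 7, 15, 13, 11, 13, 15, 7, 5, 4, 4, 6, 14, 12, 10, 12, 14, 6, 4, 2, 4, 6, 14, 12, 10, 12, 14, 6, 4, 2, 4, 6, 14, 12]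
def rw882 : List ℕ := [10, 12, 14, 6, 4, 2, 4, 6, 14, 12, 10, 12, 14, 6, 4, 2, 13, 3, 5, 7, 15, 13, 11, 13, 15, 7, 5, 3, 5, 7, 15, 13, 11, 13, 15, 7, 5, 3, 5, 7, 15, 13, 11, 13, 15, 7, 5, 12, 4, 6, 14, 12, 10, 12, 14, 6, 4, 2, 4, 6, 14, 12]
def rw883 : List ℕ := [10, 12, 14, 6, 4, 2, 4, 6, 14, 12, 10, 12, 14, 6, 4, 2, 4, 6, 14, 12, 10, 12, 14, 6, 4, 2, 7, 3, 5, 7, 15, 13, 11, 13, 15, 7, 5, 3, 5, 7, 15, 13, 11, 13, 15, 7, 5, 3, 5, 7, 15, 13, 11, 13, 15, 7, 5, 6, 4, 6, 14, 12]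
def rw884 : List ℕ := [10, 12, 14, 6, 4, 2, 4, 6, 14, 12, 10, 12, 14, 6, 4, 2, 4, 6, 14, 12, 10, 12, 14, 6, 4, 2, 11, 3, 5, 7, 15, 13, 11, 13, 15, 7, 5, 3, 5, 7, 15, 13, 11, 13, 15, 7, 5, 3, 5, 7, 15, 13, 11, 13, 15, 7, 5, 10, 4, 6, 14, 12]
def rw885 : List ℕ := [10, 12, 14, 4, 0, 2, 10, 12, 14, 4, 0, 2, 10, 12, 14, 4, 0, 2, 10, 12, 14, 7, 15, 13, 11, 3, 1, 5, 15, 13, 11, 3, 1, 5, 15, 13, 11, 3, 1, 5, 15, 13, 11, 3, 1, 5, 15, 13, 11, 3, 1, 5, 6, 4, 0, 2, 10, 12, 14, 4, 0, 2]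
def rw886 : List ℕ := [10, 12, 14, 6, 4, 2, 7, 3, 5, 7, 15, 13, 11, 13, 15, 7, 5, 3, 5, 7, 15, 13, 11, 13, 15, 7, 5, 3, 5, 7, 15, 13, 11, 13, 15, 7, 5, 6, 4, 6, 14, 12, 10, 12, 14, 6, 4, 2, 4, 6, 14, 12, 10, 12, 14, 6, 4, 2, 4, 6, 14, 12]
def rw887 : List ℕ := [10, 12, 14, 6, 4, 2, 4, 6, 14, 12, 10, 12, 14, 6, 4, 2, 11, 3, 5, 7, 15, 13, 11, 13, 15, 7, 5, 3, 5, 7, 15, 13, 11, 13, 15, 7, 5, 3, 5, 7, 15, 13, 11, 13, 15, 7, 5, 10, 4, 6, 14, 12, 10, 12, 14, 6, 4, 2, 4, 6, 14, 12]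
def rw888 : List ℕ := [10, 12, 14, 6, 4, 2, 10, 12, 14, 6, 4, 2, 10, 12, 14, 6, 4, 2, 10, 12, 14, 6, 4, 2, 3, 3, 5, 7, 15, 13, 11, 3, 5, 7, 15, 13, 11, 3, 5, 7, 15, 13, 11, 3, 5, 7, 15, 13, 11, 3, 5, 7, 15, 13, 11, 2, 10, 12, 14, 6, 4, 2]
def rw889 : List ℕ := [10, 12, 14, 6, 4, 2, 10, 12, 14, 6, 4, 2, 10, 12, 14, 6, 4, 2, 10, 12, 14, 6, 4, 2, 1, 3, 5, 7, 15, 13, 11, 3, 5, 7, 15, 13, 11, 3, 5, 7, 15, 13, 11, 3, 5, 7, 15, 13, 11, 3, 5, 7, 15, 13, 11, 0, 10, 12, 14, 6, 4, 2]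
def rw890 : List ℕ := [10, 8, 6, 4, 2, 0, 12, 10, 8, 6, 4, 2, 0, 12, 10, 8, 6, 4, 2, 0, 12, 10, 8, 6, 4, 2, 0, 12, 10, 8, 6, 4, 2, 0, 1, 1, 3, 5, 7, 9, 11, 13, 1, 3, 5, 7, 9, 11, 13, 1, 3, 5, 7, 9, 11, 13, 1, 3, 5, 7, 9, 11, 13, 1, 3, 5, 7, 9, 11, 13, 1, 3, 5, 7, 9, 11, 13, 1, 3, 5, 7, 9, 11, 13, 1, 3, 5, 7, 9, 11, 13, 1, 3, 5, 7, 9, 11, 13, 0, 12, 10, 8, 6, 4, 2, 0, 12, 10, 8, 6, 4, 2, 0, 12, 10, 8, 6, 4, 2, 0, 12, 10, 8, 6, 4, 2, 0, 12]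
def rw891 : List ℕ := [10, 8, 6, 4, 2, 0, 12, 10, 8, 6, 4, 2, 0, 12, 10, 8, 6, 4, 2, 0, 12, 10, 8, 6, 4, 2, 0, 12, 10, 8, 6, 4, 2, 0, 11, 1, 3, 5, 7, 9, 11, 13, 1, 3, 5, 7, 9, 11, 13, 1, 3, 5, 7, 9, 11, 13, 1, 3, 5, 7, 9, 11, 13, 1, 3, 5, 7, 9, 11, 13, 1, 3, 5, 7, 9, 11, 13, 1, 3, 5, 7, 9, 11, 13, 1, 3, 5, 7, 9, 11, 13, 1, 3, 5, 7, 9, 11, 13, 10, 12, 10, 8, 6, 4, 2, 0, 12, 10, 8, 6, 4, 2, 0, 12, 10, 8, 6, 4, 2, 0, 12, 10, 8, 6, 4, 2, 0, 12]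
def rw892 : List ℕ := [10, 12, 14, 6, 4, 2, 13, 3, 5, 7, 15, 13, 11, 3, 5, 7, 15, 13, 11, 3, 5, 7, 15, 13, 11, 3, 5, 7, 15, 13, 11, 3, 5, 7, 15, 13, 11, 12, 10, 12, 14, 6, 4, 2, 10, 12, 14, 6, 4, 2, 10, 12, 14, 6, 4, 2, 10, 12, 14, 6, 4, 2]
def rw893 : List ℕ := [10, 12, 14, 6, 4, 2, 10, 12, 14, 6, 4, 2, 10, 12, 14, 6, 4, 2, 1, 3, 5, 7, 15, 13, 11, 3, 5, 7, 15, 13, 11, 3, 5, 7, 15, 13, 11, 3, 5, 7, 15, 13, 11, 3, 5, 7, 15, 13, 11, 0, 10, 12, 14, 6, 4, 2, 10, 12, 14, 6, 4, 2]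
def rw894 : List ℕ := [10, 12, 14, 4, 0, 2, 10, 12, 14, 4, 0, 2, 10, 12, 14, 4, 0, 2, 10, 12, 14, 4, 0, 2, 10, 12, 14, 1, 15, 13, 11, 3, 1, 5, 15, 13, 11, 3, 1, 5, 15, 13, 11, 3, 1, 5, 15, 13, 11, 3, 1, 5, 15, 13, 11, 3, 1, 5, 0, 4, 0, 2]
def rw895 : List ℕ := [10, 12, 14, 4, 0, 2, 10, 12, 14, 9, 15, 13, 11, 3, 1, 5, 15, 13, 11, 3, 1, 5, 15, 13, 11, 3, 1, 5, 15, 13, 11, 3, 1, 5, 15, 13, 11, 3, 1, 5, 8, 4, 0, 2, 10, 12, 14, 4, 0, 2, 10, 12, 14, 4, 0, 2, 10, 12, 14, 4, 0, 2]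
def rw896 : List ℕ := [10, 12, 14, 4, 0, 2, 10, 12, 14, 4, 0, 2, 10, 12, 14, 4, 0, 2, 10, 12, 14, 4, 0, 2, 10, 12, 14, 5, 15, 13, 11, 3, 1, 5, 15, 13, 11, 3, 1, 5, 15, 13, 11, 3, 1, 5, 15, 13, 11, 3, 1, 5, 15, 13, 11, 3, 1, 5, 4, 4, 0, 2]
def rw897 : List ℕ := [10, 12, 14, 4, 0, 2, 10, 12, 14, 12, 15, 13, 11, 3, 1, 5, 15, 13, 11, 3, 1, 5, 15, 13, 11, 3, 1, 5, 15, 13, 11, 3, 1, 5, 15, 13, 11, 3, 1, 5, 13, 4, 0, 2, 10, 12, 14, 4, 0, 2, 10, 12, 14, 4, 0, 2, 10, 12, 14, 4, 0, 2]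
def rw898 : List ℕ := [10, 12, 14, 8, 6, 4, 10, 12, 14, 8, 6, 4, 13, 5, 7, 9, 15, 13, 11, 5, 7, 9, 15, 13, 11, 5, 7, 9, 15, 13, 11, 5, 7, 9, 15, 13, 11, 5, 7, 9, 15, 13, 11, 12, 10, 12, 14, 8, 6, 4, 10, 12, 14, 8, 6, 4, 10, 12, 14, 8, 6, 4]
def rw899 : List ℕ := [10, 12, 14, 6, 4, 2, 10, 12, 14, 6, 4, 2, 10, 12, 14, 6, 4, 2, 10, 12, 14, 6, 4, 2, 10, 12, 14, 6, 4, 2, 9, 3, 5, 7, 15, 13, 11, 3, 5, 7, 15, 13, 11, 3, 5, 7, 15, 13, 11, 3, 5, 7, 15, 13, 11, 3, 5, 7, 15, 13, 11, 8]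
def rw900 : List ℕ := [10, 8, 6, 4, 2, 0, 12, 10, 8, 6, 4, 2, 0, 12, 10, 8, 6, 4, 2, 0, 12, 10, 8, 6, 4, 2, 0, 12, 10, 8, 6, 4, 2, 0, 12, 10, 8, 6, 4, 2, 0, 12, 10, 8, 6, 4, 2, 0, 1, 1, 3, 5, 7, 9, 11, 13, 1, 3, 5, 7, 9, 11, 13, 1, 3, 5, 7, 9, 11, 13, 1, 3, 5, 7, 9, 11, 13, 1, 3, 5, 7, 9, 11, 13, 1, 3, 5, 7, 9, 11, 13, 1, 3, 5, 7, 9, 11, 13, 1, 3, 5, 7, 9, 11, 13, 1, 3, 5, 7, 9, 11, 13, 0, 12, 10, 8, 6, 4, 2, 0, 12, 10, 8, 6, 4, 2, 0, 12]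
def rw901 : List ℕ := [10, 12, 14, 8, 6, 4, 10, 12, 14, 8, 6, 4, 10, 12, 14, 8, 6, 4, 10, 12, 14, 8, 6, 4, 10, 12, 14, 8, 6, 4, 9, 5, 7, 9, 15, 13, 11, 5, 7, 9, 15, 13, 11, 5, 7, 9, 15, 13, 11, 5, 7, 9, 15, 13, 11, 5, 7, 9, 15, 13, 11, 8]
def rw902 : List ℕ := [10, 8, 6, 4, 2, 0, 12, 10, 8, 6, 4, 2, 0, 12, 10, 8, 6, 4, 2, 0, 12, 10, 8, 6, 4, 2, 0, 12, 10, 8, 6, 4, 2, 0, 12, 10, 8, 6, 4, 2, 0, 12, 10, 8, 6, 4, 2, 0, 12, 10, 8, 6, 4, 2, 0, 1, 1, 3, 5, 7, 9, 11, 13, 1, 3, 5, 7, 9, 11, 13, 1, 3, 5, 7, 9, 11, 13, 1, 3, 5, 7, 9, 11, 13, 1, 3, 5, 7, 9, 11, 13, 1, 3, 5, 7, 9, 11, 13, 1, 3, 5, 7, 9, 11, 13, 1, 3, 5, 7, 9, 11, 13, 1, 3, 5, 7, 9, 11, 13, 0, 12, 10, 8, 6, 4, 2, 0, 12]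
def rw903 : List ℕ := [10, 12, 14, 4, 0, 2, 10, 12, 14, 3, 15, 13, 11, 3, 1, 5, 15, 13, 11, 3, 1, 5, 15, 13, 11, 3, 1, 5, 15, 13, 11, 3, 1, 5, 15, 13, 11, 3, 1, 5, 2, 4, 0, 2, 10, 12, 14, 4, 0, 2, 10, 12, 14, 4, 0, 2, 10, 12, 14, 4, 0, 2]
def rw904 : List ℕ := [10, 12, 14, 8, 6, 4, 10, 12, 14, 8, 6, 4, 10, 12, 14, 8, 6, 4, 10, 12, 14, 8, 6, 4, 10, 12, 14, 8, 6, 4, 15, 5, 7, 9, 15, 13, 11, 5, 7, 9, 15, 13, 11, 5, 7, 9, 15, 13, 11, 5, 7, 9, 15, 13, 11, 5, 7, 9, 15, 13, 11, 14]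
def rw905 : List ℕ := [10, 12, 14, 8, 6, 4, 10, 12, 14, 8, 6, 4, 10, 12, 14, 8, 6, 4, 15, 5, 7, 9, 15, 13, 11, 5, 7, 9, 15, 13, 11, 5, 7, 9, 15, 13, 11, 5, 7, 9, 15, 13, 11, 5, 7, 9, 15, 13, 11, 14, 10, 12, 14, 8, 6, 4, 10, 12, 14, 8, 6, 4]
def rw906 : List ℕ := [10, 12, 14, 6, 4, 2, 10, 12, 14, 6, 4, 2, 1, 3, 5, 7, 15, 13, 11, 3, 5, 7, 15, 13, 11, 3, 5, 7, 15, 13, 11, 3, 5, 7, 15, 13, 11, 3, 5, 7, 15, 13, 11, 0, 10, 12, 14, 6, 4, 2, 10, 12, 14, 6, 4, 2, 10, 12, 14, 6, 4, 2]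
def rw907 : List ℕ := [10, 12, 14, 6, 4, 2, 10, 12, 14, 6, 4, 2, 10, 12, 14, 6, 4, 2, 5, 3, 5, 7, 15, 13, 11, 3, 5, 7, 15, 13, 11, 3, 5, 7, 15, 13, 11, 3, 5, 7, 15, 13, 11, 3, 5, 7, 15, 13, 11, 4, 10, 12, 14, 6, 4, 2, 10, 12, 14, 6, 4, 2]
def rw908 : List ℕ := [10, 12, 14, 8, 6, 4, 10, 12, 14, 8, 6, 4, 10, 12, 14, 8, 6, 4, 10, 12, 14, 8, 6, 4, 10, 12, 14, 8, 6, 4, 0, 5, 7, 9, 15, 13, 11, 5, 7, 9, 15, 13, 11, 5, 7, 9, 15, 13, 11, 5, 7, 9, 15, 13, 11, 5, 7, 9, 15, 13, 11, 1]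
def rw909 : List ℕ := [10, 12, 14, 6, 4, 2, 9, 3, 5, 7, 15, 13, 11, 13, 15, 7, 5, 3, 5, 7, 15, 13, 11, 13, 15, 7, 5, 3, 5, 7, 15, 13, 11, 13, 15, 7, 5, 8, 4, 6, 14, 12, 10, 12, 14, 6, 4, 2, 4, 6, 14, 12, 10, 12, 14, 6, 4, 2, 4, 6, 14, 12]
def rw910 : List ℕ := [10, 12, 14, 6, 4, 2, 1, 3, 5, 7, 15, 13, 11, 3, 5, 7, 15, 13, 11, 3, 5, 7, 15, 13, 11, 3, 5, 7, 15, 13, 11, 3, 5, 7, 15, 13, 11, 0, 10, 12, 14, 6, 4, 2, 10, 12, 14, 6, 4, 2, 10, 12, 14, 6, 4, 2, 10, 12, 14, 6, 4, 2]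
def rw911 : List ℕ := [10, 12, 14, 4, 0, 2, 10, 12, 14, 4, 0, 2, 10, 12, 14, 4, 0, 2, 10, 12, 14, 4, 0, 2, 10, 12, 14, 13, 15, 13, 11, 3, 1, 5, 15, 13, 11, 3, 1, 5, 15, 13, 11, 3, 1, 5, 15, 13, 11, 3, 1, 5, 15, 13, 11, 3, 1, 5, 12, 4, 0, 2]
def rw912 : List ℕ := [10, 12, 14, 6, 4, 2, 10, 12, 14, 6, 4, 2, 10, 12, 14, 6, 4, 2, 10, 12, 14, 6, 4, 2, 5, 3, 5, 7, 15, 13, 11, 3, 5, 7, 15, 13, 11, 3, 5, 7, 15, 13, 11, 3, 5, 7, 15, 13, 11, 3, 5, 7, 15, 13, 11, 4, 10, 12, 14, 6, 4, 2]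
def rw913 : List ℕ := [10, 12, 14, 6, 4, 2, 10, 12, 14, 6, 4, 2, 10, 12, 14, 6, 4, 2, 10, 12, 14, 6, 4, 2, 10, 12, 14, 6, 4, 2, 3, 3, 5, 7, 15, 13, 11, 3, 5, 7, 15, 13, 11, 3, 5, 7, 15, 13, 11, 3, 5, 7, 15, 13, 11, 3, 5, 7, 15, 13, 11, 2]
def rw914 : List ℕ := [10, 12, 14, 4, 0, 2, 10, 12, 14, 4, 0, 2, 10, 12, 14, 7, 15, 13, 11, 3, 1, 5, 15, 13, 11, 3, 1, 5, 15, 13, 11, 3, 1, 5, 15, 13, 11, 3, 1, 5, 15, 13, 11, 3, 1, 5, 6, 4, 0, 2, 10, 12, 14, 4, 0, 2, 10, 12, 14, 4, 0, 2]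
def rw915 : List ℕ := [10, 12, 14, 8, 6, 4, 10, 12, 14, 8, 6, 4, 10, 12, 14, 8, 6, 4, 10, 12, 14, 8, 6, 4, 3, 5, 7, 9, 15, 13, 11, 5, 7, 9, 15, 13, 11, 5, 7, 9, 15, 13, 11, 5, 7, 9, 15, 13, 11, 5, 7, 9, 15, 13, 11, 2, 10, 12, 14, 8, 6, 4]
def rw916 : List ℕ := [10, 12, 14, 7, 15, 13, 11, 3, 1, 5, 15, 13, 11, 3, 1, 5, 15, 13, 11, 3, 1, 5, 15, 13, 11, 3, 1, 5, 15, 13, 11, 3, 1, 5, 6, 4, 0, 2, 10, 12, 14, 4, 0, 2, 10, 12, 14, 4, 0, 2, 10, 12, 14, 4, 0, 2, 10, 12, 14, 4, 0, 2]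
def rw917 : List ℕ := [10, 8, 6, 4, 2, 0, 12, 10, 8, 6, 4, 2, 0, 12, 10, 8, 6, 4, 2, 0, 12, 10, 8, 6, 4, 2, 0, 12, 10, 8, 6, 4, 2, 0, 12, 10, 8, 6, 4, 2, 0, 1, 1, 3, 5, 7, 9, 11, 13, 1, 3, 5, 7, 9, 11, 13, 1, 3, 5, 7, 9, 11, 13, 1, 3, 5, 7, 9, 11, 13, 1, 3, 5, 7, 9, 11, 13, 1, 3, 5, 7, 9, 11, 13, 1, 3, 5, 7, 9, 11, 13, 1, 3, 5, 7, 9, 11, 13, 1, 3, 5, 7, 9, 11, 13, 0, 12, 10, 8, 6, 4, 2, 0, 12, 10, 8, 6, 4, 2, 0, 12, 10, 8, 6, 4, 2, 0, 12]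
def rw918 : List ℕ := [10, 12, 14, 4, 0, 2, 10, 12, 14, 7, 15, 13, 11, 3, 1, 5, 15, 13, 11, 3, 1, 5, 15, 13, 11, 3, 1, 5, 15, 13, 11, 3, 1, 5, 15, 13, 11, 3, 1, 5, 6, 4, 0, 2, 10, 12, 14, 4, 0, 2, 10, 12, 14, 4, 0, 2, 10, 12, 14, 4, 0, 2]
def rw919 : List ℕ := [10, 12, 14, 9, 15, 13, 11, 3, 1, 5, 15, 13, 11, 3, 1, 5, 15, 13, 11, 3, 1, 5, 15, 13, 11, 3, 1, 5, 15, 13, 11, 3, 1, 5, 8, 4, 0, 2, 10, 12, 14, 4, 0, 2, 10, 12, 14, 4, 0, 2, 10, 12, 14, 4, 0, 2, 10, 12, 14, 4, 0, 2]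
def rw920 : List ℕ := [10, 12, 14, 6, 4, 2, 3, 3, 5, 7, 15, 13, 11, 3, 5, 7, 15, 13, 11, 3, 5, 7, 15, 13, 11, 3, 5, 7, 15, 13, 11, 3, 5, 7, 15, 13, 11, 2, 10, 12, 14, 6, 4, 2, 10, 12, 14, 6, 4, 2, 10, 12, 14, 6, 4, 2, 10, 12, 14, 6, 4, 2]
def rw921 : List ℕ := [10, 12, 14, 4, 0, 2, 10, 12, 14, 4, 0, 2, 10, 12, 14, 4, 0, 2, 10, 12, 14, 4, 0, 2, 10, 12, 14, 3, 15, 13, 11, 3, 1, 5, 15, 13, 11, 3, 1, 5, 15, 13, 11, 3, 1, 5, 15, 13, 11, 3, 1, 5, 15, 13, 11, 3, 1, 5, 2, 4, 0, 2]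
def rw922 : List ℕ := [10, 12, 14, 1, 15, 13, 11, 3, 1, 5, 15, 13, 11, 3, 1, 5, 15, 13, 11, 3, 1, 5, 15, 13, 11, 3, 1, 5, 15, 13, 11, 3, 1, 5, 0, 4, 0, 2, 10, 12, 14, 4, 0, 2, 10, 12, 14, 4, 0, 2, 10, 12, 14, 4, 0, 2, 10, 12, 14, 4, 0, 2]
def rw923 : List ℕ := [10, 12, 14, 6, 4, 2, 10, 12, 14, 6, 4, 2, 10, 12, 14, 6, 4, 2, 10, 12, 14, 6, 4, 2, 7, 3, 5, 7, 15, 13, 11, 3, 5, 7, 15, 13, 11, 3, 5, 7, 15, 13, 11, 3, 5, 7, 15, 13, 11, 3, 5, 7, 15, 13, 11, 6, 10, 12, 14, 6, 4, 2]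
def rw924 : List ℕ := [10, 8, 6, 4, 2, 0, 1, 1, 3, 5, 7, 9, 11, 13, 1, 3, 5, 7, 9, 11, 13, 1, 3, 5, 7, 9, 11, 13, 1, 3, 5, 7, 9, 11, 13, 1, 3, 5, 7, 9, 11, 13, 1, 3, 5, 7, 9, 11, 13, 1, 3, 5, 7, 9, 11, 13, 1, 3, 5, 7, 9, 11, 13, 1, 3, 5, 7, 9, 11, 13, 0, 12, 10, 8, 6, 4, 2, 0, 12, 10, 8, 6, 4, 2, 0, 12, 10, 8, 6, 4, 2, 0, 12, 10, 8, 6, 4, 2, 0, 12, 10, 8, 6, 4, 2, 0, 12, 10, 8, 6, 4, 2, 0, 12, 10, 8, 6, 4, 2, 0, 12, 10, 8, 6, 4, 2, 0, 12]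
def rw925 : List ℕ := [10, 8, 6, 4, 2, 0, 12, 10, 8, 6, 4, 2, 0, 12, 10, 8, 6, 4, 2, 0, 1, 1, 3, 5, 7, 9, 11, 13, 1, 3, 5, 7, 9, 11, 13, 1, 3, 5, 7, 9, 11, 13, 1, 3, 5, 7, 9, 11, 13, 1, 3, 5, 7, 9, 11, 13, 1, 3, 5, 7, 9, 11, 13, 1, 3, 5, 7, 9, 11, 13, 1, 3, 5, 7, 9, 11, 13, 1, 3, 5, 7, 9, 11, 13, 0, 12, 10, 8, 6, 4, 2, 0, 12, 10, 8, 6, 4, 2, 0, 12, 10, 8, 6, 4, 2, 0, 12, 10, 8, 6, 4, 2, 0, 12, 10, 8, 6, 4, 2, 0, 12, 10, 8, 6, 4, 2, 0, 12]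
def rw926 : List ℕ := [10, 8, 6, 4, 2, 0, 12, 10, 8, 6, 4, 2, 0, 12, 10, 8, 6, 4, 2, 0, 12, 10, 8, 6, 4, 2, 0, 12, 10, 8, 6, 4, 2, 0, 12, 10, 8, 6, 4, 2, 0, 5, 1, 3, 5, 7, 9, 11, 13, 1, 3, 5, 7, 9, 11, 13, 1, 3, 5, 7, 9, 11, 13, 1, 3, 5, 7, 9, 11, 13, 1, 3, 5, 7, 9, 11, 13, 1, 3, 5, 7, 9, 11, 13, 1, 3, 5, 7, 9, 11, 13, 1, 3, 5, 7, 9, 11, 13, 1, 3, 5, 7, 9, 11, 13, 4, 12, 10, 8, 6, 4, 2, 0, 12, 10, 8, 6, 4, 2, 0, 12, 10, 8, 6, 4, 2, 0, 12]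
def rw927 : List ℕ := [10, 8, 6, 4, 2, 0, 12, 10, 8, 6, 4, 2, 0, 12, 10, 8, 6, 4, 2, 0, 11, 1, 3, 5, 7, 9, 11, 13, 1, 3, 5, 7, 9, 11, 13, 1, 3, 5, 7, 9, 11, 13, 1, 3, 5, 7, 9, 11, 13, 1, 3, 5, 7, 9, 11, 13, 1, 3, 5, 7, 9, 11, 13, 1, 3, 5, 7, 9, 11, 13, 1, 3, 5, 7, 9, 11, 13, 1, 3, 5, 7, 9, 11, 13, 10, 12, 10, 8, 6, 4, 2, 0, 12, 10, 8, 6, 4, 2, 0, 12, 10, 8, 6, 4, 2, 0, 12, 10, 8, 6, 4, 2, 0, 12, 10, 8, 6, 4, 2, 0, 12, 10, 8, 6, 4, 2, 0, 12]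
def rw928 : List ℕ := [10, 8, 6, 4, 2, 0, 12, 10, 8, 6, 4, 2, 0, 5, 1, 3, 5, 7, 9, 11, 13, 1, 3, 5, 7, 9, 11, 13, 1, 3, 5, 7, 9, 11, 13, 1, 3, 5, 7, 9, 11, 13, 1, 3, 5, 7, 9, 11, 13, 1, 3, 5, 7, 9, 11, 13, 1, 3, 5, 7, 9, 11, 13, 1, 3, 5, 7, 9, 11, 13, 1, 3, 5, 7, 9, 11, 13, 4, 12, 10, 8, 6, 4, 2, 0, 12, 10, 8, 6, 4, 2, 0, 12, 10, 8, 6, 4, 2, 0, 12, 10, 8, 6, 4, 2, 0, 12, 10, 8, 6, 4, 2, 0, 12, 10, 8, 6, 4, 2, 0, 12, 10, 8, 6, 4, 2, 0, 12]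
def rw929 : List ℕ := [10, 8, 6, 4, 2, 0, 12, 10, 8, 6, 4, 2, 0, 12, 10, 8, 6, 4, 2, 0, 12, 10, 8, 6, 4, 2, 0, 15, 1, 3, 5, 7, 9, 11, 13, 1, 3, 5, 7, 9, 11, 13, 1, 3, 5, 7, 9, 11, 13, 1, 3, 5, 7, 9, 11, 13, 1, 3, 5, 7, 9, 11, 13, 1, 3, 5, 7, 9, 11, 13, 1, 3, 5, 7, 9, 11, 13, 1, 3, 5, 7, 9, 11, 13, 1, 3, 5, 7, 9, 11, 13, 14, 12, 10, 8, 6, 4, 2, 0, 12, 10, 8, 6, 4, 2, 0, 12, 10, 8, 6, 4, 2, 0, 12, 10, 8, 6, 4, 2, 0, 12, 10, 8, 6, 4, 2, 0, 12]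
def rw930 : List ℕ := [10, 12, 14, 6, 4, 2, 10, 12, 14, 6, 4, 2, 3, 3, 5, 7, 15, 13, 11, 3, 5, 7, 15, 13, 11, 3, 5, 7, 15, 13, 11, 3, 5, 7, 15, 13, 11, 3, 5, 7, 15, 13, 11, 2, 10, 12, 14, 6, 4, 2, 10, 12, 14, 6, 4, 2, 10, 12, 14, 6, 4, 2]
def rw931 : List ℕ := [10, 12, 14, 6, 4, 2, 11, 3, 5, 7, 15, 13, 11, 3, 5, 7, 15, 13, 11, 3, 5, 7, 15, 13, 11, 3, 5, 7, 15, 13, 11, 3, 5, 7, 15, 13, 11, 10, 10, 12, 14, 6, 4, 2, 10, 12, 14, 6, 4, 2, 10, 12, 14, 6, 4, 2, 10, 12, 14, 6, 4, 2]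
def rw932 : List ℕ := [10, 12, 14, 6, 4, 2, 9, 3, 5, 7, 15, 13, 11, 3, 5, 7, 15, 13, 11, 3, 5, 7, 15, 13, 11, 3, 5, 7, 15, 13, 11, 3, 5, 7, 15, 13, 11, 8, 10, 12, 14, 6, 4, 2, 10, 12, 14, 6, 4, 2, 10, 12, 14, 6, 4, 2, 10, 12, 14, 6, 4, 2]
def rw933 : List ℕ := [10, 8, 6, 4, 2, 0, 12, 10, 8, 6, 4, 2, 0, 12, 10, 8, 6, 4, 2, 0, 12, 10, 8, 6, 4, 2, 0, 12, 10, 8, 6, 4, 2, 0, 12, 10, 8, 6, 4, 2, 0, 12, 10, 8, 6, 4, 2, 0, 12, 10, 8, 6, 4, 2, 0, 12, 10, 8, 6, 4, 2, 0, 1, 1, 3, 5, 7, 9, 11, 13, 1, 3, 5, 7, 9, 11, 13, 1, 3, 5, 7, 9, 11, 13, 1, 3, 5, 7, 9, 11, 13, 1, 3, 5, 7, 9, 11, 13, 1, 3, 5, 7, 9, 11, 13, 1, 3, 5, 7, 9, 11, 13, 1, 3, 5, 7, 9, 11, 13, 1, 3, 5, 7, 9, 11, 13, 0, 12]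
def rw934 : List ℕ := [10, 12, 14, 4, 0, 2, 10, 12, 14, 1, 15, 13, 11, 3, 1, 5, 15, 13, 11, 3, 1, 5, 15, 13, 11, 3, 1, 5, 15, 13, 11, 3, 1, 5, 15, 13, 11, 3, 1, 5, 0, 4, 0, 2, 10, 12, 14, 4, 0, 2, 10, 12, 14, 4, 0, 2, 10, 12, 14, 4, 0, 2]
def rw935 : List ℕ := [10, 8, 6, 4, 2, 0, 12, 10, 8, 6, 4, 2, 0, 1, 1, 3, 5, 7, 9, 11, 13, 1, 3, 5, 7, 9, 11, 13, 1, 3, 5, 7, 9, 11, 13, 1, 3, 5, 7, 9, 11, 13, 1, 3, 5, 7, 9, 11, 13, 1, 3, 5, 7, 9, 11, 13, 1, 3, 5, 7, 9, 11, 13, 1, 3, 5, 7, 9, 11, 13, 1, 3, 5, 7, 9, 11, 13, 0, 12, 10, 8, 6, 4, 2, 0, 12, 10, 8, 6, 4, 2, 0, 12, 10, 8, 6, 4, 2, 0, 12, 10, 8, 6, 4, 2, 0, 12, 10, 8, 6, 4, 2, 0, 12, 10, 8, 6, 4, 2, 0, 12, 10, 8, 6, 4, 2, 0, 12]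
def rw936 : List ℕ := [10, 12, 14, 12, 15, 13, 11, 3, 1, 5, 15, 13, 11, 3, 1, 5, 15, 13, 11, 3, 1, 5, 15, 13, 11, 3, 1, 5, 15, 13, 11, 3, 1, 5, 13, 4, 0, 2, 10, 12, 14, 4, 0, 2, 10, 12, 14, 4, 0, 2, 10, 12, 14, 4, 0, 2, 10, 12, 14, 4, 0, 2]
def rw937 : List ℕ := [10, 12, 14, 6, 4, 2, 7, 3, 5, 7, 15, 13, 11, 3, 5, 7, 15, 13, 11, 3, 5, 7, 15, 13, 11, 3, 5, 7, 15, 13, 11, 3, 5, 7, 15, 13, 11, 6, 10, 12, 14, 6, 4, 2, 10, 12, 14, 6, 4, 2, 10, 12, 14, 6, 4, 2, 10, 12, 14, 6, 4, 2]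
def rw938 : List ℕ := [10, 12, 14, 6, 4, 2, 13, 3, 5, 7, 15, 13, 11, 13, 15, 7, 5, 3, 5, 7, 15, 13, 11, 13, 15, 7, 5, 3, 5, 7, 15, 13, 11, 13, 15, 7, 5, 12, 4, 6, 14, 12, 10, 12, 14, 6, 4, 2, 4, 6, 14, 12, 10, 12, 14, 6, 4, 2, 4, 6, 14, 12]
def rw939 : List ℕ := [10, 15, 13, 11, 3, 1, 5, 15, 13, 11, 3, 1, 5, 15, 13, 11, 3, 1, 5, 15, 13, 11, 3, 1, 5, 15, 13, 11, 3, 1, 5, 11, 4, 0, 2, 10, 12, 14, 4, 0, 2, 10, 12, 14, 4, 0, 2, 10, 12, 14, 4, 0, 2, 10, 12, 14, 4, 0, 2, 10, 12, 14]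
def rw940 : List ℕ := [10, 8, 6, 4, 2, 0, 12, 10, 8, 6, 4, 2, 0, 12, 10, 8, 6, 4, 2, 0, 12, 10, 8, 6, 4, 2, 0, 1, 1, 3, 5, 7, 9, 11, 13, 1, 3, 5, 7, 9, 11, 13, 1, 3, 5, 7, 9, 11, 13, 1, 3, 5, 7, 9, 11, 13, 1, 3, 5, 7, 9, 11, 13, 1, 3, 5, 7, 9, 11, 13, 1, 3, 5, 7, 9, 11, 13, 1, 3, 5, 7, 9, 11, 13, 1, 3, 5, 7, 9, 11, 13, 0, 12, 10, 8, 6, 4, 2, 0, 12, 10, 8, 6, 4, 2, 0, 12, 10, 8, 6, 4, 2, 0, 12, 10, 8, 6, 4, 2, 0, 12, 10, 8, 6, 4, 2, 0, 12]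
def rw941 : List ℕ := [10, 12, 14, 6, 4, 2, 10, 12, 14, 6, 4, 2, 10, 12, 14, 6, 4, 2, 4, 3, 5, 7, 15, 13, 11, 3, 5, 7, 15, 13, 11, 3, 5, 7, 15, 13, 11, 3, 5, 7, 15, 13, 11, 3, 5, 7, 15, 13, 11, 5, 10, 12, 14, 6, 4, 2, 10, 12, 14, 6, 4, 2]
def rw942 : List ℕ := [10, 12, 14, 8, 6, 4, 10, 12, 14, 8, 6, 4, 10, 12, 14, 8, 6, 4, 3, 5, 7, 9, 15, 13, 11, 5, 7, 9, 15, 13, 11, 5, 7, 9, 15, 13, 11, 5, 7, 9, 15, 13, 11, 5, 7, 9, 15, 13, 11, 2, 10, 12, 14, 8, 6, 4, 10, 12, 14, 8, 6, 4]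
def rw943 : List ℕ := [11, 15, 11, 15]
def rw944 : List ℕ := [11, 9, 11, 9]
def rw945 : List ℕ := [11, 13, 11, 13, 11, 13]
def rw946 : List ℕ := [11, 13, 11, 13, 11, 13]
def rw947 : List ℕ := [11, 15, 13, 11, 3, 1, 5, 15, 13, 11, 3, 1, 5, 15, 13, 11, 3, 1, 5, 15, 13, 11, 3, 1, 5, 15, 13, 11, 3, 1, 5, 10, 4, 0, 2, 10, 12, 14, 4, 0, 2, 10, 12, 14, 4, 0, 2, 10, 12, 14, 4, 0, 2, 10, 12, 14, 4, 0, 2, 10, 12, 14]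
def rw948 : List ℕ := [11, 3, 11, 3, 11, 3]
def rw949 : List ℕ := [11, 3, 5, 7, 15, 13, 11, 4, 10, 12, 14, 6, 4, 2, 10, 12, 14, 6, 4, 2, 10, 12, 14, 6, 4, 2, 10, 12, 14, 6, 4, 2, 10, 12, 14, 6, 4, 2, 5, 3, 5, 7, 15, 13, 11, 3, 5, 7, 15, 13, 11, 3, 5, 7, 15, 13, 11, 3, 5, 7, 15, 13]
def rw950 : List ℕ := [11, 3, 1, 5, 15, 13, 11, 3, 1, 5, 15, 13, 11, 3, 1, 5, 15, 13, 11, 3, 1, 5, 15, 13, 11, 3, 1, 5, 0, 4, 0, 2, 10, 12, 14, 4, 0, 2, 10, 12, 14, 4, 0, 2, 10, 12, 14, 4, 0, 2, 10, 12, 14, 4, 0, 2, 10, 12, 14, 1, 15, 13]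
def rw951 : List ℕ := [11, 3, 1, 5, 15, 13, 11, 3, 1, 5, 15, 13, 11, 3, 1, 5, 15, 13, 11, 3, 1, 5, 15, 13, 11, 3, 1, 5, 2, 4, 0, 2, 10, 12, 14, 4, 0, 2, 10, 12, 14, 4, 0, 2, 10, 12, 14, 4, 0, 2, 10, 12, 14, 4, 0, 2, 10, 12, 14, 3, 15, 13]
def rw952 : List ℕ := [11, 13, 15, 7, 5, 3, 5, 7, 15, 13, 11, 13, 15, 7, 5, 10, 4, 6, 14, 12, 10, 12, 14, 6, 4, 2, 4, 6, 14, 12, 10, 12, 14, 6, 4, 2, 4, 6, 14, 12, 10, 12, 14, 6, 4, 2, 11, 3, 5, 7, 15, 13, 11, 13, 15, 7, 5, 3, 5, 7, 15, 13]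
def rw953 : List ℕ := [11, 13, 15, 7, 5, 4, 4, 6, 14, 12, 10, 12, 14, 6, 4, 2, 4, 6, 14, 12, 10, 12, 14, 6, 4, 2, 4, 6, 14, 12, 10, 12, 14, 6, 4, 2, 5, 3, 5, 7, 15, 13, 11, 13, 15, 7, 5, 3, 5, 7, 15, 13, 11, 13, 15, 7, 5, 3, 5, 7, 15, 13]
def rw954 : List ℕ := [11, 5, 7, 9, 15, 13, 11, 5, 7, 9, 15, 13, 11, 5, 7, 9, 15, 13, 11, 5, 7, 9, 15, 13, 11, 5, 7, 9, 15, 13, 11, 10, 10, 12, 14, 8, 6, 4, 10, 12, 14, 8, 6, 4, 10, 12, 14, 8, 6, 4, 10, 12, 14, 8, 6, 4, 10, 12, 14, 8, 6, 4]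
def rw955 : List ℕ := [11, 13, 15, 7, 5, 3, 5, 7, 15, 13, 11, 13, 15, 7, 5, 0, 4, 6, 14, 12, 10, 12, 14, 6, 4, 2, 4, 6, 14, 12, 10, 12, 14, 6, 4, 2, 4, 6, 14, 12, 10, 12, 14, 6, 4, 2, 1, 3, 5, 7, 15, 13, 11, 13, 15, 7, 5, 3, 5, 7, 15, 13]
def rw956 : List ℕ := [11, 4, 10, 12, 14, 8, 6, 4, 10, 12, 14, 8, 6, 4, 10, 12, 14, 8, 6, 4, 10, 12, 14, 8, 6, 4, 10, 12, 14, 8, 6, 4, 5, 5, 7, 9, 15, 13, 11, 5, 7, 9, 15, 13, 11, 5, 7, 9, 15, 13, 11, 5, 7, 9, 15, 13, 11, 5, 7, 9, 15, 13]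
def rw957 : List ℕ := [11, 3, 11, 3, 11, 3]
def rw958 : List ℕ := [11, 5, 7, 9, 15, 13, 11, 12, 10, 12, 14, 8, 6, 4, 10, 12, 14, 8, 6, 4, 10, 12, 14, 8, 6, 4, 10, 12, 14, 8, 6, 4, 10, 12, 14, 8, 6, 4, 13, 5, 7, 9, 15, 13, 11, 5, 7, 9, 15, 13, 11, 5, 7, 9, 15, 13, 11, 5, 7, 9, 15, 13]
def rw959 : List ℕ := [11, 1, 11, 1]
def rw960 : List ℕ := [11, 5, 11, 5]
def rw961 : List ℕ := [11, 11]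
def rw962 : List ℕ := [11, 7, 11, 7]
def rw963 : List ℕ := [11, 13, 11, 13, 11, 13]
def rw964 : List ℕ := [11, 7, 11, 7]
def rw965 : List ℕ := [11, 5, 11, 5]
def rw966 : List ℕ := [11, 3, 1, 5, 15, 13, 11, 3, 1, 5, 15, 13, 11, 3, 1, 5, 2, 4, 0, 2, 10, 12, 14, 4, 0, 2, 10, 12, 14, 4, 0, 2, 10, 12, 14, 4, 0, 2, 10, 12, 14, 4, 0, 2, 10, 12, 14, 3, 15, 13, 11, 3, 1, 5, 15, 13, 11, 3, 1, 5, 15, 13]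
def rw967 : List ℕ := [11, 3, 5, 7, 15, 13, 11, 3, 5, 7, 15, 13, 11, 3, 5, 7, 15, 13, 11, 8, 10, 12, 14, 6, 4, 2, 10, 12, 14, 6, 4, 2, 10, 12, 14, 6, 4, 2, 10, 12, 14, 6, 4, 2, 10, 12, 14, 6, 4, 2, 9, 3, 5, 7, 15, 13, 11, 3, 5, 7, 15, 13]
def rw968 : List ℕ := [11, 13, 15, 7, 5, 6, 4, 6, 14, 12, 10, 12, 14, 6, 4, 2, 4, 6, 14, 12, 10, 12, 14, 6, 4, 2, 4, 6, 14, 12, 10, 12, 14, 6, 4, 2, 7, 3, 5, 7, 15, 13, 11, 13, 15, 7, 5, 3, 5, 7, 15, 13, 11, 13, 15, 7, 5, 3, 5, 7, 15, 13]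
def rw969 : List ℕ := [11, 3, 5, 7, 15, 13, 11, 3, 5, 7, 15, 13, 11, 3, 5, 7, 15, 13, 11, 2, 10, 12, 14, 6, 4, 2, 10, 12, 14, 6, 4, 2, 10, 12, 14, 6, 4, 2, 10, 12, 14, 6, 4, 2, 10, 12, 14, 6, 4, 2, 3, 3, 5, 7, 15, 13, 11, 3, 5, 7, 15, 13]
def rw970 : List ℕ := [11, 13, 15, 7, 5, 3, 5, 7, 15, 13, 11, 13, 15, 7, 5, 3, 5, 7, 15, 13, 11, 13, 15, 7, 5, 2, 4, 6, 14, 12, 10, 12, 14, 6, 4, 2, 4, 6, 14, 12, 10, 12, 14, 6, 4, 2, 4, 6, 14, 12, 10, 12, 14, 6, 4, 2, 3, 3, 5, 7, 15, 13]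
def rw971 : List ℕ := [11, 13, 15, 7, 5, 12, 4, 6, 14, 12, 10, 12, 14, 6, 4, 2, 4, 6, 14, 12, 10, 12, 14, 6, 4, 2, 4, 6, 14, 12, 10, 12, 14, 6, 4, 2, 13, 3, 5, 7, 15, 13, 11, 13, 15, 7, 5, 3, 5, 7, 15, 13, 11, 13, 15, 7, 5, 3, 5, 7, 15, 13]
def rw972 : List ℕ := [11, 3, 1, 5, 15, 13, 11, 3, 1, 5, 15, 13, 11, 3, 1, 5, 15, 13, 11, 3, 1, 5, 0, 4, 0, 2, 10, 12, 14, 4, 0, 2, 10, 12, 14, 4, 0, 2, 10, 12, 14, 4, 0, 2, 10, 12, 14, 4, 0, 2, 10, 12, 14, 1, 15, 13, 11, 3, 1, 5, 15, 13]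
def rw973 : List ℕ := [11, 3, 5, 7, 15, 13, 11, 3, 5, 7, 15, 13, 11, 3, 5, 7, 15, 13, 11, 3, 5, 7, 15, 13, 11, 3, 5, 7, 15, 13, 11, 10, 10, 12, 14, 6, 4, 2, 10, 12, 14, 6, 4, 2, 10, 12, 14, 6, 4, 2, 10, 12, 14, 6, 4, 2, 10, 12, 14, 6, 4, 2]
def rw974 : List ℕ := [11, 6, 10, 12, 14, 6, 4, 2, 10, 12, 14, 6, 4, 2, 10, 12, 14, 6, 4, 2, 10, 12, 14, 6, 4, 2, 10, 12, 14, 6, 4, 2, 7, 3, 5, 7, 15, 13, 11, 3, 5, 7, 15, 13, 11, 3, 5, 7, 15, 13, 11, 3, 5, 7, 15, 13, 11, 3, 5, 7, 15, 13]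
def rw975 : List ℕ := [11, 14, 10, 12, 14, 8, 6, 4, 10, 12, 14, 8, 6, 4, 10, 12, 14, 8, 6, 4, 10, 12, 14, 8, 6, 4, 10, 12, 14, 8, 6, 4, 15, 5, 7, 9, 15, 13, 11, 5, 7, 9, 15, 13, 11, 5, 7, 9, 15, 13, 11, 5, 7, 9, 15, 13, 11, 5, 7, 9, 15, 13]
def rw976 : List ℕ := [11, 3, 5, 7, 15, 13, 11, 3, 5, 7, 15, 13, 11, 4, 10, 12, 14, 6, 4, 2, 10, 12, 14, 6, 4, 2, 10, 12, 14, 6, 4, 2, 10, 12, 14, 6, 4, 2, 10, 12, 14, 6, 4, 2, 5, 3, 5, 7, 15, 13, 11, 3, 5, 7, 15, 13, 11, 3, 5, 7, 15, 13]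
def rw977 : List ℕ := [11, 2, 10, 12, 14, 6, 4, 2, 10, 12, 14, 6, 4, 2, 10, 12, 14, 6, 4, 2, 10, 12, 14, 6, 4, 2, 10, 12, 14, 6, 4, 2, 3, 3, 5, 7, 15, 13, 11, 3, 5, 7, 15, 13, 11, 3, 5, 7, 15, 13, 11, 3, 5, 7, 15, 13, 11, 3, 5, 7, 15, 13]
def rw978 : List ℕ := [11, 5, 7, 9, 15, 13, 11, 5, 7, 9, 15, 13, 11, 5, 7, 9, 15, 13, 11, 5, 7, 9, 15, 13, 11, 6, 10, 12, 14, 8, 6, 4, 10, 12, 14, 8, 6, 4, 10, 12, 14, 8, 6, 4, 10, 12, 14, 8, 6, 4, 10, 12, 14, 8, 6, 4, 7, 5, 7, 9, 15, 13]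
def rw979 : List ℕ := [11, 0, 10, 12, 14, 8, 6, 4, 10, 12, 14, 8, 6, 4, 10, 12, 14, 8, 6, 4, 10, 12, 14, 8, 6, 4, 10, 12, 14, 8, 6, 4, 1, 5, 7, 9, 15, 13, 11, 5, 7, 9, 15, 13, 11, 5, 7, 9, 15, 13, 11, 5, 7, 9, 15, 13, 11, 5, 7, 9, 15, 13]
def rw980 : List ℕ := [11, 6, 10, 12, 14, 8, 6, 4, 10, 12, 14, 8, 6, 4, 10, 12, 14, 8, 6, 4, 10, 12, 14, 8, 6, 4, 10, 12, 14, 8, 6, 4, 7, 5, 7, 9, 15, 13, 11, 5, 7, 9, 15, 13, 11, 5, 7, 9, 15, 13, 11, 5, 7, 9, 15, 13, 11, 5, 7, 9, 15, 13]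
def rw981 : List ℕ := [11, 13, 15, 7, 5, 8, 4, 6, 14, 12, 10, 12, 14, 6, 4, 2, 4, 6, 14, 12, 10, 12, 14, 6, 4, 2, 4, 6, 14, 12, 10, 12, 14, 6, 4, 2, 9, 3, 5, 7, 15, 13, 11, 13, 15, 7, 5, 3, 5, 7, 15, 13, 11, 13, 15, 7, 5, 3, 5, 7, 15, 13]
def rw982 : List ℕ := [11, 4, 10, 12, 14, 6, 4, 2, 10, 12, 14, 6, 4, 2, 10, 12, 14, 6, 4, 2, 10, 12, 14, 6, 4, 2, 10, 12, 14, 6, 4, 2, 5, 3, 5, 7, 15, 13, 11, 3, 5, 7, 15, 13, 11, 3, 5, 7, 15, 13, 11, 3, 5, 7, 15, 13, 11, 3, 5, 7, 15, 13]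
def rw983 : List ℕ := [11, 13, 15, 7, 5, 10, 4, 6, 14, 12, 10, 12, 14, 6, 4, 2, 4, 6, 14, 12, 10, 12, 14, 6, 4, 2, 4, 6, 14, 12, 10, 12, 14, 6, 4, 2, 11, 3, 5, 7, 15, 13, 11, 13, 15, 7, 5, 3, 5, 7, 15, 13, 11, 13, 15, 7, 5, 3, 5, 7, 15, 13]
def rw984 : List ℕ := [11, 13, 1, 3, 5, 7, 9, 11, 13, 1, 3, 5, 7, 9, 11, 13, 4, 12, 10, 8, 6, 4, 2, 0, 12, 10, 8, 6, 4, 2, 0, 12, 10, 8, 6, 4, 2, 0, 12, 10, 8, 6, 4, 2, 0, 12, 10, 8, 6, 4, 2, 0, 12, 10, 8, 6, 4, 2, 0, 12, 10, 8, 6, 4, 2, 0, 12, 10, 8, 6, 4, 2, 0, 12, 10, 8, 6, 4, 2, 0, 5, 1, 3, 5, 7, 9, 11, 13, 1, 3, 5, 7, 9, 11, 13, 1, 3, 5, 7, 9, 11, 13, 1, 3, 5, 7, 9, 11, 13, 1, 3, 5, 7, 9, 11, 13, 1, 3, 5, 7, 9, 11, 13, 1, 3, 5, 7, 9]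
def rw985 : List ℕ := [11, 9, 11, 9]
def rw986 : List ℕ := [11, 15, 11, 15]
def rw987 : List ℕ := [11, 3, 1, 5, 15, 13, 11, 3, 1, 5, 15, 13, 11, 3, 1, 5, 15, 13, 11, 3, 1, 5, 15, 13, 11, 3, 1, 5, 3, 4, 0, 2, 10, 12, 14, 4, 0, 2, 10, 12, 14, 4, 0, 2, 10, 12, 14, 4, 0, 2, 10, 12, 14, 4, 0, 2, 10, 12, 14, 2, 15, 13]
def rw988 : List ℕ := [11, 3, 5, 7, 15, 13, 11, 3, 5, 7, 15, 13, 11, 3, 5, 7, 15, 13, 11, 3, 5, 7, 15, 13, 11, 4, 10, 12, 14, 6, 4, 2, 10, 12, 14, 6, 4, 2, 10, 12, 14, 6, 4, 2, 10, 12, 14, 6, 4, 2, 10, 12, 14, 6, 4, 2, 5, 3, 5, 7, 15, 13]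
def rw989 : List ℕ := [11, 13, 15, 7, 5, 0, 4, 6, 14, 12, 10, 12, 14, 6, 4, 2, 4, 6, 14, 12, 10, 12, 14, 6, 4, 2, 4, 6, 14, 12, 10, 12, 14, 6, 4, 2, 1, 3, 5, 7, 15, 13, 11, 13, 15, 7, 5, 3, 5, 7, 15, 13, 11, 13, 15, 7, 5, 3, 5, 7, 15, 13]
def rw990 : List ℕ := [11, 1, 11, 1]
def rw991 : List ℕ := [11, 13, 15, 7, 5, 3, 5, 7, 15, 13, 11, 13, 15, 7, 5, 3, 5, 7, 15, 13, 11, 13, 15, 7, 5, 4, 4, 6, 14, 12, 10, 12, 14, 6, 4, 2, 4, 6, 14, 12, 10, 12, 14, 6, 4, 2, 4, 6, 14, 12, 10, 12, 14, 6, 4, 2, 5, 3, 5, 7, 15, 13]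
def rw992 : List ℕ := [11, 13, 15, 7, 5, 3, 5, 7, 15, 13, 11, 13, 15, 7, 5, 4, 4, 6, 14, 12, 10, 12, 14, 6, 4, 2, 4, 6, 14, 12, 10, 12, 14, 6, 4, 2, 4, 6, 14, 12, 10, 12, 14, 6, 4, 2, 5, 3, 5, 7, 15, 13, 11, 13, 15, 7, 5, 3, 5, 7, 15, 13]
def rw993 : List ℕ := [11, 4, 0, 2, 10, 12, 14, 4, 0, 2, 10, 12, 14, 4, 0, 2, 10, 12, 14, 4, 0, 2, 10, 12, 14, 4, 0, 2, 10, 12, 14, 10, 15, 13, 11, 3, 1, 5, 15, 13, 11, 3, 1, 5, 15, 13, 11, 3, 1, 5, 15, 13, 11, 3, 1, 5, 15, 13, 11, 3, 1, 5]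
def rw994 : List ℕ := [11, 5, 7, 9, 15, 13, 11, 5, 7, 9, 15, 13, 11, 5, 7, 9, 15, 13, 11, 5, 7, 9, 15, 13, 11, 10, 10, 12, 14, 8, 6, 4, 10, 12, 14, 8, 6, 4, 10, 12, 14, 8, 6, 4, 10, 12, 14, 8, 6, 4, 10, 12, 14, 8, 6, 4, 11, 5, 7, 9, 15, 13]
def rw995 : List ℕ := [11, 3, 1, 5, 0, 4, 0, 2, 10, 12, 14, 4, 0, 2, 10, 12, 14, 4, 0, 2, 10, 12, 14, 4, 0, 2, 10, 12, 14, 4, 0, 2, 10, 12, 14, 1, 15, 13, 11, 3, 1, 5, 15, 13, 11, 3, 1, 5, 15, 13, 11, 3, 1, 5, 15, 13, 11, 3, 1, 5, 15, 13]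
def rw996 : List ℕ := [11, 13, 4, 12, 10, 8, 6, 4, 2, 0, 12, 10, 8, 6, 4, 2, 0, 12, 10, 8, 6, 4, 2, 0, 12, 10, 8, 6, 4, 2, 0, 12, 10, 8, 6, 4, 2, 0, 12, 10, 8, 6, 4, 2, 0, 12, 10, 8, 6, 4, 2, 0, 12, 10, 8, 6, 4, 2, 0, 12, 10, 8, 6, 4, 2, 0, 5, 1, 3, 5, 7, 9, 11, 13, 1, 3, 5, 7, 9, 11, 13, 1, 3, 5, 7, 9, 11, 13, 1, 3, 5, 7, 9, 11, 13, 1, 3, 5, 7, 9, 11, 13, 1, 3, 5, 7, 9, 11, 13, 1, 3, 5, 7, 9, 11, 13, 1, 3, 5, 7, 9, 11, 13, 1, 3, 5, 7, 9]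
def rw997 : List ℕ := [11, 0, 10, 12, 14, 6, 4, 2, 10, 12, 14, 6, 4, 2, 10, 12, 14, 6, 4, 2, 10, 12, 14, 6, 4, 2, 10, 12, 14, 6, 4, 2, 1, 3, 5, 7, 15, 13, 11, 3, 5, 7, 15, 13, 11, 3, 5, 7, 15, 13, 11, 3, 5, 7, 15, 13, 11, 3, 5, 7, 15, 13]
def rw998 : List ℕ := [11, 13, 15, 7, 5, 3, 5, 7, 15, 13, 11, 13, 15, 7, 5, 3, 5, 7, 15, 13, 11, 13, 15, 7, 5, 0, 4, 6, 14, 12, 10, 12, 14, 6, 4, 2, 4, 6, 14, 12, 10, 12, 14, 6, 4, 2, 4, 6, 14, 12, 10, 12, 14, 6, 4, 2, 1, 3, 5, 7, 15, 13]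
def rw999 : List ℕ := [11, 3, 1, 5, 15, 13, 11, 3, 1, 5, 15, 13, 11, 3, 1, 5, 15, 13, 11, 3, 1, 5, 15, 13, 11, 3, 1, 5, 14, 4, 0, 2, 10, 12, 14, 4, 0, 2, 10, 12, 14, 4, 0, 2, 10, 12, 14, 4, 0, 2, 10, 12, 14, 4, 0, 2, 10, 12, 14, 15, 15, 13]
def rw1000 : List ℕ := [11, 3, 1, 5, 15, 13, 11, 3, 1, 5, 15, 13, 11, 3, 1, 5, 15, 13, 11, 3, 1, 5, 13, 4, 0, 2, 10, 12, 14, 4, 0, 2, 10, 12, 14, 4, 0, 2, 10, 12, 14, 4, 0, 2, 10, 12, 14, 4, 0, 2, 10, 12, 14, 12, 15, 13, 11, 3, 1, 5, 15, 13]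
def rw1001 : List ℕ := [11, 3, 1, 5, 15, 13, 11, 3, 1, 5, 15, 13, 11, 3, 1, 5, 15, 13, 11, 3, 1, 5, 4, 4, 0, 2, 10, 12, 14, 4, 0, 2, 10, 12, 14, 4, 0, 2, 10, 12, 14, 4, 0, 2, 10, 12, 14, 4, 0, 2, 10, 12, 14, 5, 15, 13, 11, 3, 1, 5, 15, 13]
def rw1002 : List ℕ := [11, 13, 11, 12, 10, 8, 6, 4, 2, 0, 12, 10, 8, 6, 4, 2, 0, 12, 10, 8, 6, 4, 2, 0, 12, 10, 8, 6, 4, 2, 0, 12, 10, 8, 6, 4, 2, 0, 12, 10, 8, 6, 4, 2, 0, 12, 10, 8, 6, 4, 2, 0, 12, 10, 8, 6, 4, 2, 0, 12, 10, 8, 6, 4, 2, 0, 10, 1, 3, 5, 7, 9, 11, 13, 1, 3, 5, 7, 9, 11, 13, 1, 3, 5, 7, 9, 11, 13, 1, 3, 5, 7, 9, 11, 13, 1, 3, 5, 7, 9, 11, 13, 1, 3, 5, 7, 9, 11, 13, 1, 3, 5, 7, 9, 11, 13, 1, 3, 5, 7, 9, 11, 13, 1, 3, 5, 7, 9]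
def rw1003 : List ℕ := [11, 13, 1, 3, 5, 7, 9, 11, 13, 10, 12, 10, 8, 6, 4, 2, 0, 12, 10, 8, 6, 4, 2, 0, 12, 10, 8, 6, 4, 2, 0, 12, 10, 8, 6, 4, 2, 0, 12, 10, 8, 6, 4, 2, 0, 12, 10, 8, 6, 4, 2, 0, 12, 10, 8, 6, 4, 2, 0, 12, 10, 8, 6, 4, 2, 0, 12, 10, 8, 6, 4, 2, 0, 11, 1, 3, 5, 7, 9, 11, 13, 1, 3, 5, 7, 9, 11, 13, 1, 3, 5, 7, 9, 11, 13, 1, 3, 5, 7, 9, 11, 13, 1, 3, 5, 7, 9, 11, 13, 1, 3, 5, 7, 9, 11, 13, 1, 3, 5, 7, 9, 11, 13, 1, 3, 5, 7, 9]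
def rw1004 : List ℕ := [11, 13, 15, 7, 5, 11, 4, 6, 14, 12, 10, 12, 14, 6, 4, 2, 4, 6, 14, 12, 10, 12, 14, 6, 4, 2, 4, 6, 14, 12, 10, 12, 14, 6, 4, 2, 10, 3, 5, 7, 15, 13, 11, 13, 15, 7, 5, 3, 5, 7, 15, 13, 11, 13, 15, 7, 5, 3, 5, 7, 15, 13]
def rw1005 : List ℕ := [11, 3, 1, 5, 15, 13, 11, 3, 1, 5, 15, 13, 11, 3, 1, 5, 15, 13, 11, 3, 1, 5, 2, 4, 0, 2, 10, 12, 14, 4, 0, 2, 10, 12, 14, 4, 0, 2, 10, 12, 14, 4, 0, 2, 10, 12, 14, 4, 0, 2, 10, 12, 14, 3, 15, 13, 11, 3, 1, 5, 15, 13]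
def rw1006 : List ℕ := [11, 3, 1, 5, 7, 4, 0, 2, 10, 12, 14, 4, 0, 2, 10, 12, 14, 4, 0, 2, 10, 12, 14, 4, 0, 2, 10, 12, 14, 4, 0, 2, 10, 12, 14, 6, 15, 13, 11, 3, 1, 5, 15, 13, 11, 3, 1, 5, 15, 13, 11, 3, 1, 5, 15, 13, 11, 3, 1, 5, 15, 13]
def rw1007 : List ℕ := [11, 3, 5, 7, 15, 13, 11, 3, 5, 7, 15, 13, 11, 3, 5, 7, 15, 13, 11, 3, 5, 7, 15, 13, 11, 0, 10, 12, 14, 6, 4, 2, 10, 12, 14, 6, 4, 2, 10, 12, 14, 6, 4, 2, 10, 12, 14, 6, 4, 2, 10, 12, 14, 6, 4, 2, 1, 3, 5, 7, 15, 13]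
def rw1008 : List ℕ := [11, 3, 11, 3, 11, 3]
def rw1009 : List ℕ := [11, 8, 10, 12, 14, 6, 4, 2, 10, 12, 14, 6, 4, 2, 10, 12, 14, 6, 4, 2, 10, 12, 14, 6, 4, 2, 10, 12, 14, 6, 4, 2, 9, 3, 5, 7, 15, 13, 11, 3, 5, 7, 15, 13, 11, 3, 5, 7, 15, 13, 11, 3, 5, 7, 15, 13, 11, 3, 5, 7, 15, 13]
def rw1010 : List ℕ := [11, 3, 1, 5, 15, 13, 11, 3, 1, 5, 2, 4, 0, 2, 10, 12, 14, 4, 0, 2, 10, 12, 14, 4, 0, 2, 10, 12, 14, 4, 0, 2, 10, 12, 14, 4, 0, 2, 10, 12, 14, 3, 15, 13, 11, 3, 1, 5, 15, 13, 11, 3, 1, 5, 15, 13, 11, 3, 1, 5, 15, 13]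
def rw1011 : List ℕ := [11, 3, 5, 7, 15, 13, 11, 3, 5, 7, 15, 13, 11, 3, 5, 7, 15, 13, 11, 3, 5, 7, 15, 13, 11, 6, 10, 12, 14, 6, 4, 2, 10, 12, 14, 6, 4, 2, 10, 12, 14, 6, 4, 2, 10, 12, 14, 6, 4, 2, 10, 12, 14, 6, 4, 2, 7, 3, 5, 7, 15, 13]
def rw1012 : List ℕ := [11, 3, 5, 7, 15, 13, 11, 3, 5, 7, 15, 13, 11, 3, 5, 7, 15, 13, 11, 6, 10, 12, 14, 6, 4, 2, 10, 12, 14, 6, 4, 2, 10, 12, 14, 6, 4, 2, 10, 12, 14, 6, 4, 2, 10, 12, 14, 6, 4, 2, 7, 3, 5, 7, 15, 13, 11, 3, 5, 7, 15, 13]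
def rw1013 : List ℕ := [11, 5, 7, 9, 15, 13, 11, 5, 7, 9, 15, 13, 11, 14, 10, 12, 14, 8, 6, 4, 10, 12, 14, 8, 6, 4, 10, 12, 14, 8, 6, 4, 10, 12, 14, 8, 6, 4, 10, 12, 14, 8, 6, 4, 15, 5, 7, 9, 15, 13, 11, 5, 7, 9, 15, 13, 11, 5, 7, 9, 15, 13]
def rw1014 : List ℕ := [11, 3, 5, 7, 15, 13, 11, 3, 5, 7, 15, 13, 11, 3, 5, 7, 15, 13, 11, 4, 10, 12, 14, 6, 4, 2, 10, 12, 14, 6, 4, 2, 10, 12, 14, 6, 4, 2, 10, 12, 14, 6, 4, 2, 10, 12, 14, 6, 4, 2, 5, 3, 5, 7, 15, 13, 11, 3, 5, 7, 15, 13]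
def rw1015 : List ℕ := [11, 3, 5, 7, 15, 13, 11, 8, 10, 12, 14, 6, 4, 2, 10, 12, 14, 6, 4, 2, 10, 12, 14, 6, 4, 2, 10, 12, 14, 6, 4, 2, 10, 12, 14, 6, 4, 2, 9, 3, 5, 7, 15, 13, 11, 3, 5, 7, 15, 13, 11, 3, 5, 7, 15, 13, 11, 3, 5, 7, 15, 13]
def rw1016 : List ℕ := [11, 2, 10, 12, 14, 8, 6, 4, 10, 12, 14, 8, 6, 4, 10, 12, 14, 8, 6, 4, 10, 12, 14, 8, 6, 4, 10, 12, 14, 8, 6, 4, 3, 5, 7, 9, 15, 13, 11, 5, 7, 9, 15, 13, 11, 5, 7, 9, 15, 13, 11, 5, 7, 9, 15, 13, 11, 5, 7, 9, 15, 13]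
def rw1017 : List ℕ := [11, 3, 5, 7, 15, 13, 11, 12, 10, 12, 14, 6, 4, 2, 10, 12, 14, 6, 4, 2, 10, 12, 14, 6, 4, 2, 10, 12, 14, 6, 4, 2, 10, 12, 14, 6, 4, 2, 13, 3, 5, 7, 15, 13, 11, 3, 5, 7, 15, 13, 11, 3, 5, 7, 15, 13, 11, 3, 5, 7, 15, 13]
def rw1018 : List ℕ := [11, 8, 10, 12, 14, 8, 6, 4, 10, 12, 14, 8, 6, 4, 10, 12, 14, 8, 6, 4, 10, 12, 14, 8, 6, 4, 10, 12, 14, 8, 6, 4, 9, 5, 7, 9, 15, 13, 11, 5, 7, 9, 15, 13, 11, 5, 7, 9, 15, 13, 11, 5, 7, 9, 15, 13, 11, 5, 7, 9, 15, 13]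
def rw1019 : List ℕ := [11, 5, 7, 9, 15, 13, 11, 5, 7, 9, 15, 13, 11, 5, 7, 9, 15, 13, 11, 10, 10, 12, 14, 8, 6, 4, 10, 12, 14, 8, 6, 4, 10, 12, 14, 8, 6, 4, 10, 12, 14, 8, 6, 4, 10, 12, 14, 8, 6, 4, 11, 5, 7, 9, 15, 13, 11, 5, 7, 9, 15, 13]
def rw1020 : List ℕ := [11, 3, 1, 5, 10, 4, 0, 2, 10, 12, 14, 4, 0, 2, 10, 12, 14, 4, 0, 2, 10, 12, 14, 4, 0, 2, 10, 12, 14, 4, 0, 2, 10, 12, 14, 11, 15, 13, 11, 3, 1, 5, 15, 13, 11, 3, 1, 5, 15, 13, 11, 3, 1, 5, 15, 13, 11, 3, 1, 5, 15, 13]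
def rw1021 : List ℕ := [11, 3, 1, 5, 1, 4, 0, 2, 10, 12, 14, 4, 0, 2, 10, 12, 14, 4, 0, 2, 10, 12, 14, 4, 0, 2, 10, 12, 14, 4, 0, 2, 10, 12, 14, 0, 15, 13, 11, 3, 1, 5, 15, 13, 11, 3, 1, 5, 15, 13, 11, 3, 1, 5, 15, 13, 11, 3, 1, 5, 15, 13]
def rw1022 : List ℕ := [11, 13, 1, 3, 5, 7, 9, 11, 13, 1, 3, 5, 7, 9, 11, 13, 1, 3, 5, 7, 9, 11, 13, 1, 3, 5, 7, 9, 11, 13, 0, 12, 10, 8, 6, 4, 2, 0, 12, 10, 8, 6, 4, 2, 0, 12, 10, 8, 6, 4, 2, 0, 12, 10, 8, 6, 4, 2, 0, 12, 10, 8, 6, 4, 2, 0, 12, 10, 8, 6, 4, 2, 0, 12, 10, 8, 6, 4, 2, 0, 12, 10, 8, 6, 4, 2, 0, 12, 10, 8, 6, 4, 2, 0, 1, 1, 3, 5, 7, 9, 11, 13, 1, 3, 5, 7, 9, 11, 13, 1, 3, 5, 7, 9, 11, 13, 1, 3, 5, 7, 9, 11, 13, 1, 3, 5, 7, 9]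
def rw1023 : List ℕ := [12, 12]
def rw1024 : List ℕ := [12, 10, 12, 10, 12, 10]
def rw1025 : List ℕ := [12, 2, 12, 2]
def rw1026 : List ℕ := [12, 0, 12, 0]
def rw1027 : List ℕ := [12, 4, 12, 4]
def rw1028 : List ℕ := [12, 10, 12, 10, 12, 10]
def rw1029 : List ℕ := [12, 6, 12, 6]
def rw1030 : List ℕ := [12, 0, 12, 0]
def rw1031 : List ℕ := [12, 2, 12, 2]
def rw1032 : List ℕ := [12, 6, 12, 6]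
def rw1033 : List ℕ := [12, 4, 12, 4]
def rw1034 : List ℕ := [12, 8, 12, 8]
def rw1035 : List ℕ := [12, 14, 12, 14, 12, 14]
def rw1036 : List ℕ := [12, 8, 12, 8]
def rw1037 : List ℕ := [12, 14, 12, 14, 12, 14]
def rw1038 : List ℕ := [12, 14, 6, 4, 2, 4, 6, 14, 12, 10, 12, 14, 6, 4, 2, 11, 3, 5, 7, 15, 13, 11, 13, 15, 7, 5, 3, 5, 7, 15, 13, 11, 13, 15, 7, 5, 3, 5, 7, 15, 13, 11, 13, 15, 7, 5, 10, 4, 6, 14, 12, 10, 12, 14, 6, 4, 2, 4, 6, 14, 12, 10]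
def rw1039 : List ℕ := [12, 14, 8, 6, 4, 10, 12, 14, 8, 6, 4, 15, 5, 7, 9, 15, 13, 11, 5, 7, 9, 15, 13, 11, 5, 7, 9, 15, 13, 11, 5, 7, 9, 15, 13, 11, 5, 7, 9, 15, 13, 11, 14, 10, 12, 14, 8, 6, 4, 10, 12, 14, 8, 6, 4, 10, 12, 14, 8, 6, 4, 10]
def rw1040 : List ℕ := [12, 15, 13, 11, 3, 1, 5, 15, 13, 11, 3, 1, 5, 15, 13, 11, 3, 1, 5, 15, 13, 11, 3, 1, 5, 15, 13, 11, 3, 1, 5, 13, 4, 0, 2, 10, 12, 14, 4, 0, 2, 10, 12, 14, 4, 0, 2, 10, 12, 14, 4, 0, 2, 10, 12, 14, 4, 0, 2, 10, 12, 14]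
def rw1041 : List ℕ := [12, 14, 6, 4, 2, 4, 6, 14, 12, 10, 12, 14, 6, 4, 2, 4, 6, 14, 12, 10, 12, 14, 6, 4, 2, 5, 3, 5, 7, 15, 13, 11, 13, 15, 7, 5, 3, 5, 7, 15, 13, 11, 13, 15, 7, 5, 3, 5, 7, 15, 13, 11, 13, 15, 7, 5, 4, 4, 6, 14, 12, 10]
def rw1042 : List ℕ := [12, 10, 12, 10, 12, 10]
def rw1043 : List ℕ := [12, 14, 6, 4, 2, 4, 6, 14, 12, 10, 12, 14, 6, 4, 2, 1, 3, 5, 7, 15, 13, 11, 13, 15, 7, 5, 3, 5, 7, 15, 13, 11, 13, 15, 7, 5, 3, 5, 7, 15, 13, 11, 13, 15, 7, 5, 0, 4, 6, 14, 12, 10, 12, 14, 6, 4, 2, 4, 6, 14, 12, 10]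
def rw1044 : List ℕ := [12, 14, 6, 4, 2, 5, 3, 5, 7, 15, 13, 11, 13, 15, 7, 5, 3, 5, 7, 15, 13, 11, 13, 15, 7, 5, 3, 5, 7, 15, 13, 11, 13, 15, 7, 5, 4, 4, 6, 14, 12, 10, 12, 14, 6, 4, 2, 4, 6, 14, 12, 10, 12, 14, 6, 4, 2, 4, 6, 14, 12, 10]
def rw1045 : List ℕ := [12, 14, 8, 6, 4, 10, 12, 14, 8, 6, 4, 3, 5, 7, 9, 15, 13, 11, 5, 7, 9, 15, 13, 11, 5, 7, 9, 15, 13, 11, 5, 7, 9, 15, 13, 11, 5, 7, 9, 15, 13, 11, 2, 10, 12, 14, 8, 6, 4, 10, 12, 14, 8, 6, 4, 10, 12, 14, 8, 6, 4, 10]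
def rw1046 : List ℕ := [12, 14, 8, 6, 4, 10, 12, 14, 8, 6, 4, 10, 12, 14, 8, 6, 4, 10, 12, 14, 8, 6, 4, 10, 12, 14, 8, 6, 4, 11, 5, 7, 9, 15, 13, 11, 5, 7, 9, 15, 13, 11, 5, 7, 9, 15, 13, 11, 5, 7, 9, 15, 13, 11, 5, 7, 9, 15, 13, 11, 10, 10]
def rw1047 : List ℕ := [12, 10, 12, 14, 6, 4, 2, 15, 3, 5, 7, 15, 13, 11, 13, 15, 7, 5, 3, 5, 7, 15, 13, 11, 13, 15, 7, 5, 3, 5, 7, 15, 13, 11, 13, 15, 7, 5, 14, 4, 6, 14, 12, 10, 12, 14, 6, 4, 2, 4, 6, 14, 12, 10, 12, 14, 6, 4, 2, 4, 6, 14]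
def rw1048 : List ℕ := [12, 14, 12, 14, 12, 14]
def rw1049 : List ℕ := [12, 4, 0, 2, 10, 12, 14, 4, 0, 2, 10, 12, 14, 4, 0, 2, 10, 12, 14, 4, 0, 2, 10, 12, 14, 4, 0, 2, 10, 12, 14, 13, 15, 13, 11, 3, 1, 5, 15, 13, 11, 3, 1, 5, 15, 13, 11, 3, 1, 5, 15, 13, 11, 3, 1, 5, 15, 13, 11, 3, 1, 5]
def rw1050 : List ℕ := [12, 14, 6, 4, 2, 4, 6, 14, 12, 10, 12, 14, 6, 4, 2, 4, 6, 14, 12, 10, 12, 14, 6, 4, 2, 7, 3, 5, 7, 15, 13, 11, 13, 15, 7, 5, 3, 5, 7, 15, 13, 11, 13, 15, 7, 5, 3, 5, 7, 15, 13, 11, 13, 15, 7, 5, 6, 4, 6, 14, 12, 10]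
def rw1051 : List ℕ := [12, 14, 6, 4, 2, 4, 6, 14, 12, 10, 12, 14, 6, 4, 2, 4, 6, 14, 12, 10, 12, 14, 6, 4, 2, 1, 3, 5, 7, 15, 13, 11, 13, 15, 7, 5, 3, 5, 7, 15, 13, 11, 13, 15, 7, 5, 3, 5, 7, 15, 13, 11, 13, 15, 7, 5, 0, 4, 6, 14, 12, 10]
def rw1052 : List ℕ := [12, 14, 8, 6, 4, 10, 12, 14, 8, 6, 4, 10, 12, 14, 8, 6, 4, 10, 12, 14, 8, 6, 4, 10, 12, 14, 8, 6, 4, 9, 5, 7, 9, 15, 13, 11, 5, 7, 9, 15, 13, 11, 5, 7, 9, 15, 13, 11, 5, 7, 9, 15, 13, 11, 5, 7, 9, 15, 13, 11, 8, 10]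
def rw1053 : List ℕ := [12, 14, 8, 6, 4, 4, 5, 7, 9, 15, 13, 11, 5, 7, 9, 15, 13, 11, 5, 7, 9, 15, 13, 11, 5, 7, 9, 15, 13, 11, 5, 7, 9, 15, 13, 11, 5, 10, 12, 14, 8, 6, 4, 10, 12, 14, 8, 6, 4, 10, 12, 14, 8, 6, 4, 10, 12, 14, 8, 6, 4, 10]
def rw1054 : List ℕ := [12, 14, 6, 4, 2, 10, 12, 14, 6, 4, 2, 10, 12, 14, 6, 4, 2, 9, 3, 5, 7, 15, 13, 11, 3, 5, 7, 15, 13, 11, 3, 5, 7, 15, 13, 11, 3, 5, 7, 15, 13, 11, 3, 5, 7, 15, 13, 11, 8, 10, 12, 14, 6, 4, 2, 10, 12, 14, 6, 4, 2, 10]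
def rw1055 : List ℕ := [12, 14, 6, 4, 2, 4, 6, 14, 12, 10, 12, 14, 6, 4, 2, 15, 3, 5, 7, 15, 13, 11, 13, 15, 7, 5, 3, 5, 7, 15, 13, 11, 13, 15, 7, 5, 3, 5, 7, 15, 13, 11, 13, 15, 7, 5, 14, 4, 6, 14, 12, 10, 12, 14, 6, 4, 2, 4, 6, 14, 12, 10]
def rw1056 : List ℕ := [12, 14, 6, 4, 2, 4, 6, 14, 12, 10, 12, 14, 6, 4, 2, 4, 6, 14, 12, 10, 12, 14, 6, 4, 2, 3, 3, 5, 7, 15, 13, 11, 13, 15, 7, 5, 3, 5, 7, 15, 13, 11, 13, 15, 7, 5, 3, 5, 7, 15, 13, 11, 13, 15, 7, 5, 2, 4, 6, 14, 12, 10]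
def rw1057 : List ℕ := [12, 14, 6, 4, 2, 11, 3, 5, 7, 15, 13, 11, 13, 15, 7, 5, 3, 5, 7, 15, 13, 11, 13, 15, 7, 5, 3, 5, 7, 15, 13, 11, 13, 15, 7, 5, 10, 4, 6, 14, 12, 10, 12, 14, 6, 4, 2, 4, 6, 14, 12, 10, 12, 14, 6, 4, 2, 4, 6, 14, 12, 10]
def rw1058 : List ℕ := [12, 10, 12, 14, 6, 4, 2, 4, 6, 14, 12, 10, 12, 14, 6, 4, 2, 1, 3, 5, 7, 15, 13, 11, 13, 15, 7, 5, 3, 5, 7, 15, 13, 11, 13, 15, 7, 5, 3, 5, 7, 15, 13, 11, 13, 15, 7, 5, 0, 4, 6, 14, 12, 10, 12, 14, 6, 4, 2, 4, 6, 14]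
def rw1059 : List ℕ := [12, 10, 12, 14, 6, 4, 2, 4, 6, 14, 12, 10, 12, 14, 6, 4, 2, 7, 3, 5, 7, 15, 13, 11, 13, 15, 7, 5, 3, 5, 7, 15, 13, 11, 13, 15, 7, 5, 3, 5, 7, 15, 13, 11, 13, 15, 7, 5, 6, 4, 6, 14, 12, 10, 12, 14, 6, 4, 2, 4, 6, 14]
def rw1060 : List ℕ := [12, 14, 6, 4, 2, 4, 6, 14, 12, 10, 12, 14, 6, 4, 2, 9, 3, 5, 7, 15, 13, 11, 13, 15, 7, 5, 3, 5, 7, 15, 13, 11, 13, 15, 7, 5, 3, 5, 7, 15, 13, 11, 13, 15, 7, 5, 8, 4, 6, 14, 12, 10, 12, 14, 6, 4, 2, 4, 6, 14, 12, 10]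
def rw1061 : List ℕ := [12, 14, 6, 4, 2, 4, 6, 14, 12, 10, 12, 14, 6, 4, 2, 13, 3, 5, 7, 15, 13, 11, 13, 15, 7, 5, 3, 5, 7, 15, 13, 11, 13, 15, 7, 5, 3, 5, 7, 15, 13, 11, 13, 15, 7, 5, 12, 4, 6, 14, 12, 10, 12, 14, 6, 4, 2, 4, 6, 14, 12, 10]
def rw1062 : List ℕ := [12, 10, 12, 14, 6, 4, 2, 4, 6, 14, 12, 10, 12, 14, 6, 4, 2, 4, 6, 14, 12, 10, 12, 14, 6, 4, 2, 11, 3, 5, 7, 15, 13, 11, 13, 15, 7, 5, 3, 5, 7, 15, 13, 11, 13, 15, 7, 5, 3, 5, 7, 15, 13, 11, 13, 15, 7, 5, 10, 4, 6, 14]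
def rw1063 : List ℕ := [12, 10, 12, 14, 6, 4, 2, 4, 6, 14, 12, 10, 12, 14, 6, 4, 2, 4, 6, 14, 12, 10, 12, 14, 6, 4, 2, 1, 3, 5, 7, 15, 13, 11, 13, 15, 7, 5, 3, 5, 7, 15, 13, 11, 13, 15, 7, 5, 3, 5, 7, 15, 13, 11, 13, 15, 7, 5, 0, 4, 6, 14]
def rw1064 : List ℕ := [12, 10, 12, 14, 6, 4, 2, 4, 6, 14, 12, 10, 12, 14, 6, 4, 2, 9, 3, 5, 7, 15, 13, 11, 13, 15, 7, 5, 3, 5, 7, 15, 13, 11, 13, 15, 7, 5, 3, 5, 7, 15, 13, 11, 13, 15, 7, 5, 8, 4, 6, 14, 12, 10, 12, 14, 6, 4, 2, 4, 6, 14]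
def rw1065 : List ℕ := [12, 10, 12, 14, 6, 4, 2, 7, 3, 5, 7, 15, 13, 11, 13, 15, 7, 5, 3, 5, 7, 15, 13, 11, 13, 15, 7, 5, 3, 5, 7, 15, 13, 11, 13, 15, 7, 5, 6, 4, 6, 14, 12, 10, 12, 14, 6, 4, 2, 4, 6, 14, 12, 10, 12, 14, 6, 4, 2, 4, 6, 14]
def rw1066 : List ℕ := [12, 14, 8, 6, 4, 3, 5, 7, 9, 15, 13, 11, 5, 7, 9, 15, 13, 11, 5, 7, 9, 15, 13, 11, 5, 7, 9, 15, 13, 11, 5, 7, 9, 15, 13, 11, 2, 10, 12, 14, 8, 6, 4, 10, 12, 14, 8, 6, 4, 10, 12, 14, 8, 6, 4, 10, 12, 14, 8, 6, 4, 10]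
def rw1067 : List ℕ := [12, 10, 12, 14, 6, 4, 2, 4, 6, 14, 12, 10, 12, 14, 6, 4, 2, 4, 6, 14, 12, 10, 12, 14, 6, 4, 2, 9, 3, 5, 7, 15, 13, 11, 13, 15, 7, 5, 3, 5, 7, 15, 13, 11, 13, 15, 7, 5, 3, 5, 7, 15, 13, 11, 13, 15, 7, 5, 8, 4, 6, 14]
def rw1068 : List ℕ := [12, 14, 4, 0, 2, 10, 12, 14, 5, 15, 13, 11, 3, 1, 5, 15, 13, 11, 3, 1, 5, 15, 13, 11, 3, 1, 5, 15, 13, 11, 3, 1, 5, 15, 13, 11, 3, 1, 5, 4, 4, 0, 2, 10, 12, 14, 4, 0, 2, 10, 12, 14, 4, 0, 2, 10, 12, 14, 4, 0, 2, 10]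
def rw1069 : List ℕ := [12, 14, 6, 4, 2, 10, 12, 14, 6, 4, 2, 10, 12, 14, 6, 4, 2, 10, 12, 14, 6, 4, 2, 5, 3, 5, 7, 15, 13, 11, 3, 5, 7, 15, 13, 11, 3, 5, 7, 15, 13, 11, 3, 5, 7, 15, 13, 11, 3, 5, 7, 15, 13, 11, 4, 10, 12, 14, 6, 4, 2, 10]
def rw1070 : List ℕ := [12, 14, 4, 0, 2, 10, 12, 14, 4, 0, 2, 10, 12, 14, 4, 0, 2, 10, 12, 14, 3, 15, 13, 11, 3, 1, 5, 15, 13, 11, 3, 1, 5, 15, 13, 11, 3, 1, 5, 15, 13, 11, 3, 1, 5, 15, 13, 11, 3, 1, 5, 2, 4, 0, 2, 10, 12, 14, 4, 0, 2, 10]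
def rw1071 : List ℕ := [12, 10, 12, 14, 6, 4, 2, 4, 6, 14, 12, 10, 12, 14, 6, 4, 2, 4, 6, 14, 12, 10, 12, 14, 6, 4, 2, 5, 3, 5, 7, 15, 13, 11, 13, 15, 7, 5, 3, 5, 7, 15, 13, 11, 13, 15, 7, 5, 3, 5, 7, 15, 13, 11, 13, 15, 7, 5, 4, 4, 6, 14]
def rw1072 : List ℕ := [12, 14, 6, 4, 2, 9, 3, 5, 7, 15, 13, 11, 13, 15, 7, 5, 3, 5, 7, 15, 13, 11, 13, 15, 7, 5, 3, 5, 7, 15, 13, 11, 13, 15, 7, 5, 8, 4, 6, 14, 12, 10, 12, 14, 6, 4, 2, 4, 6, 14, 12, 10, 12, 14, 6, 4, 2, 4, 6, 14, 12, 10]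
def rw1073 : List ℕ := [12, 10, 12, 14, 6, 4, 2, 4, 6, 14, 12, 10, 12, 14, 6, 4, 2, 5, 3, 5, 7, 15, 13, 11, 13, 15, 7, 5, 3, 5, 7, 15, 13, 11, 13, 15, 7, 5, 3, 5, 7, 15, 13, 11, 13, 15, 7, 5, 4, 4, 6, 14, 12, 10, 12, 14, 6, 4, 2, 4, 6, 14]
def rw1074 : List ℕ := [12, 10, 12, 14, 6, 4, 2, 5, 3, 5, 7, 15, 13, 11, 13, 15, 7, 5, 3, 5, 7, 15, 13, 11, 13, 15, 7, 5, 3, 5, 7, 15, 13, 11, 13, 15, 7, 5, 4, 4, 6, 14, 12, 10, 12, 14, 6, 4, 2, 4, 6, 14, 12, 10, 12, 14, 6, 4, 2, 4, 6, 14]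
def rw1075 : List ℕ := [12, 14, 6, 4, 2, 4, 6, 14, 12, 10, 12, 14, 6, 4, 2, 5, 3, 5, 7, 15, 13, 11, 13, 15, 7, 5, 3, 5, 7, 15, 13, 11, 13, 15, 7, 5, 3, 5, 7, 15, 13, 11, 13, 15, 7, 5, 4, 4, 6, 14, 12, 10, 12, 14, 6, 4, 2, 4, 6, 14, 12, 10]
def rw1076 : List ℕ := [12, 14, 6, 4, 2, 1, 3, 5, 7, 15, 13, 11, 13, 15, 7, 5, 3, 5, 7, 15, 13, 11, 13, 15, 7, 5, 3, 5, 7, 15, 13, 11, 13, 15, 7, 5, 0, 4, 6, 14, 12, 10, 12, 14, 6, 4, 2, 4, 6, 14, 12, 10, 12, 14, 6, 4, 2, 4, 6, 14, 12, 10]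
def rw1077 : List ℕ := [12, 14, 8, 6, 4, 10, 12, 14, 8, 6, 4, 10, 12, 14, 8, 6, 4, 10, 12, 14, 8, 6, 4, 11, 5, 7, 9, 15, 13, 11, 5, 7, 9, 15, 13, 11, 5, 7, 9, 15, 13, 11, 5, 7, 9, 15, 13, 11, 5, 7, 9, 15, 13, 11, 10, 10, 12, 14, 8, 6, 4, 10]
def rw1078 : List ℕ := [12, 10, 12, 14, 6, 4, 2, 4, 6, 14, 12, 10, 12, 14, 6, 4, 2, 15, 3, 5, 7, 15, 13, 11, 13, 15, 7, 5, 3, 5, 7, 15, 13, 11, 13, 15, 7, 5, 3, 5, 7, 15, 13, 11, 13, 15, 7, 5, 14, 4, 6, 14, 12, 10, 12, 14, 6, 4, 2, 4, 6, 14]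
def rw1079 : List ℕ := [12, 10, 12, 14, 6, 4, 2, 1, 3, 5, 7, 15, 13, 11, 13, 15, 7, 5, 3, 5, 7, 15, 13, 11, 13, 15, 7, 5, 3, 5, 7, 15, 13, 11, 13, 15, 7, 5, 0, 4, 6, 14, 12, 10, 12, 14, 6, 4, 2, 4, 6, 14, 12, 10, 12, 14, 6, 4, 2, 4, 6, 14]
def rw1080 : List ℕ := [12, 14, 8, 6, 4, 10, 12, 14, 8, 6, 4, 10, 12, 14, 8, 6, 4, 3, 5, 7, 9, 15, 13, 11, 5, 7, 9, 15, 13, 11, 5, 7, 9, 15, 13, 11, 5, 7, 9, 15, 13, 11, 5, 7, 9, 15, 13, 11, 2, 10, 12, 14, 8, 6, 4, 10, 12, 14, 8, 6, 4, 10]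
def rw1081 : List ℕ := [12, 14, 6, 4, 2, 3, 3, 5, 7, 15, 13, 11, 3, 5, 7, 15, 13, 11, 3, 5, 7, 15, 13, 11, 3, 5, 7, 15, 13, 11, 3, 5, 7, 15, 13, 11, 2, 10, 12, 14, 6, 4, 2, 10, 12, 14, 6, 4, 2, 10, 12, 14, 6, 4, 2, 10, 12, 14, 6, 4, 2, 10]
def rw1082 : List ℕ := [12, 14, 8, 6, 4, 10, 12, 14, 8, 6, 4, 10, 12, 14, 8, 6, 4, 10, 12, 14, 8, 6, 4, 10, 12, 14, 8, 6, 4, 7, 5, 7, 9, 15, 13, 11, 5, 7, 9, 15, 13, 11, 5, 7, 9, 15, 13, 11, 5, 7, 9, 15, 13, 11, 5, 7, 9, 15, 13, 11, 6, 10]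
def rw1083 : List ℕ := [12, 14, 6, 4, 2, 6, 3, 5, 7, 15, 13, 11, 3, 5, 7, 15, 13, 11, 3, 5, 7, 15, 13, 11, 3, 5, 7, 15, 13, 11, 3, 5, 7, 15, 13, 11, 7, 10, 12, 14, 6, 4, 2, 10, 12, 14, 6, 4, 2, 10, 12, 14, 6, 4, 2, 10, 12, 14, 6, 4, 2, 10]
def rw1084 : List ℕ := [12, 14, 4, 0, 2, 10, 12, 14, 4, 0, 2, 10, 12, 14, 7, 15, 13, 11, 3, 1, 5, 15, 13, 11, 3, 1, 5, 15, 13, 11, 3, 1, 5, 15, 13, 11, 3, 1, 5, 15, 13, 11, 3, 1, 5, 6, 4, 0, 2, 10, 12, 14, 4, 0, 2, 10, 12, 14, 4, 0, 2, 10]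
def rw1085 : List ℕ := [12, 14, 6, 4, 2, 4, 6, 14, 12, 10, 12, 14, 6, 4, 2, 4, 6, 14, 12, 10, 12, 14, 6, 4, 2, 9, 3, 5, 7, 15, 13, 11, 13, 15, 7, 5, 3, 5, 7, 15, 13, 11, 13, 15, 7, 5, 3, 5, 7, 15, 13, 11, 13, 15, 7, 5, 8, 4, 6, 14, 12, 10]
def rw1086 : List ℕ := [12, 14, 6, 4, 2, 10, 12, 14, 6, 4, 2, 10, 12, 14, 6, 4, 2, 10, 12, 14, 6, 4, 2, 10, 12, 14, 6, 4, 2, 3, 3, 5, 7, 15, 13, 11, 3, 5, 7, 15, 13, 11, 3, 5, 7, 15, 13, 11, 3, 5, 7, 15, 13, 11, 3, 5, 7, 15, 13, 11, 2, 10]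
def rw1087 : List ℕ := [12, 14, 8, 6, 4, 10, 12, 14, 8, 6, 4, 10, 12, 14, 8, 6, 4, 10, 12, 14, 8, 6, 4, 10, 12, 14, 8, 6, 4, 1, 5, 7, 9, 15, 13, 11, 5, 7, 9, 15, 13, 11, 5, 7, 9, 15, 13, 11, 5, 7, 9, 15, 13, 11, 5, 7, 9, 15, 13, 11, 0, 10]
def rw1088 : List ℕ := [12, 14, 6, 4, 2, 10, 12, 14, 6, 4, 2, 10, 12, 14, 6, 4, 2, 10, 12, 14, 6, 4, 2, 3, 3, 5, 7, 15, 13, 11, 3, 5, 7, 15, 13, 11, 3, 5, 7, 15, 13, 11, 3, 5, 7, 15, 13, 11, 3, 5, 7, 15, 13, 11, 2, 10, 12, 14, 6, 4, 2, 10]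
def rw1089 : List ℕ := [12, 14, 6, 4, 2, 10, 12, 14, 6, 4, 2, 10, 12, 14, 6, 4, 2, 10, 12, 14, 6, 4, 2, 1, 3, 5, 7, 15, 13, 11, 3, 5, 7, 15, 13, 11, 3, 5, 7, 15, 13, 11, 3, 5, 7, 15, 13, 11, 3, 5, 7, 15, 13, 11, 0, 10, 12, 14, 6, 4, 2, 10]
def rw1090 : List ℕ := [12, 14, 6, 4, 2, 10, 12, 14, 6, 4, 2, 9, 3, 5, 7, 15, 13, 11, 3, 5, 7, 15, 13, 11, 3, 5, 7, 15, 13, 11, 3, 5, 7, 15, 13, 11, 3, 5, 7, 15, 13, 11, 8, 10, 12, 14, 6, 4, 2, 10, 12, 14, 6, 4, 2, 10, 12, 14, 6, 4, 2, 10]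
def rw1091 : List ℕ := [12, 14, 6, 4, 2, 15, 3, 5, 7, 15, 13, 11, 13, 15, 7, 5, 3, 5, 7, 15, 13, 11, 13, 15, 7, 5, 3, 5, 7, 15, 13, 11, 13, 15, 7, 5, 14, 4, 6, 14, 12, 10, 12, 14, 6, 4, 2, 4, 6, 14, 12, 10, 12, 14, 6, 4, 2, 4, 6, 14, 12, 10]
def rw1092 : List ℕ := [12, 14, 1, 15, 13, 11, 3, 1, 5, 15, 13, 11, 3, 1, 5, 15, 13, 11, 3, 1, 5, 15, 13, 11, 3, 1, 5, 15, 13, 11, 3, 1, 5, 0, 4, 0, 2, 10, 12, 14, 4, 0, 2, 10, 12, 14, 4, 0, 2, 10, 12, 14, 4, 0, 2, 10, 12, 14, 4, 0, 2, 10]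
def rw1093 : List ℕ := [12, 14, 6, 4, 2, 10, 12, 14, 6, 4, 2, 10, 12, 14, 6, 4, 2, 3, 3, 5, 7, 15, 13, 11, 3, 5, 7, 15, 13, 11, 3, 5, 7, 15, 13, 11, 3, 5, 7, 15, 13, 11, 3, 5, 7, 15, 13, 11, 2, 10, 12, 14, 6, 4, 2, 10, 12, 14, 6, 4, 2, 10]
def rw1094 : List ℕ := [12, 14, 6, 4, 2, 4, 6, 14, 12, 10, 12, 14, 6, 4, 2, 7, 3, 5, 7, 15, 13, 11, 13, 15, 7, 5, 3, 5, 7, 15, 13, 11, 13, 15, 7, 5, 3, 5, 7, 15, 13, 11, 13, 15, 7, 5, 6, 4, 6, 14, 12, 10, 12, 14, 6, 4, 2, 4, 6, 14, 12, 10]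
def rw1095 : List ℕ := [12, 10, 8, 6, 4, 2, 0, 12, 10, 8, 6, 4, 2, 0, 12, 10, 8, 6, 4, 2, 0, 12, 10, 8, 6, 4, 2, 0, 12, 10, 8, 6, 4, 2, 0, 12, 10, 8, 6, 4, 2, 0, 12, 10, 8, 6, 4, 2, 0, 1, 1, 3, 5, 7, 9, 11, 13, 1, 3, 5, 7, 9, 11, 13, 1, 3, 5, 7, 9, 11, 13, 1, 3, 5, 7, 9, 11, 13, 1, 3, 5, 7, 9, 11, 13, 1, 3, 5, 7, 9, 11, 13, 1, 3, 5, 7, 9, 11, 13, 1, 3, 5, 7, 9, 11, 13, 1, 3, 5, 7, 9, 11, 13, 0, 12, 10, 8, 6, 4, 2, 0, 12, 10, 8, 6, 4, 2, 0]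
def rw1096 : List ℕ := [12, 14, 6, 4, 2, 15, 3, 5, 7, 15, 13, 11, 3, 5, 7, 15, 13, 11, 3, 5, 7, 15, 13, 11, 3, 5, 7, 15, 13, 11, 3, 5, 7, 15, 13, 11, 14, 10, 12, 14, 6, 4, 2, 10, 12, 14, 6, 4, 2, 10, 12, 14, 6, 4, 2, 10, 12, 14, 6, 4, 2, 10]
def rw1097 : List ℕ := [12, 14, 8, 6, 4, 5, 5, 7, 9, 15, 13, 11, 5, 7, 9, 15, 13, 11, 5, 7, 9, 15, 13, 11, 5, 7, 9, 15, 13, 11, 5, 7, 9, 15, 13, 11, 4, 10, 12, 14, 8, 6, 4, 10, 12, 14, 8, 6, 4, 10, 12, 14, 8, 6, 4, 10, 12, 14, 8, 6, 4, 10]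
def rw1098 : List ℕ := [12, 10, 12, 14, 6, 4, 2, 4, 6, 14, 12, 10, 12, 14, 6, 4, 2, 4, 6, 14, 12, 10, 12, 14, 6, 4, 2, 7, 3, 5, 7, 15, 13, 11, 13, 15, 7, 5, 3, 5, 7, 15, 13, 11, 13, 15, 7, 5, 3, 5, 7, 15, 13, 11, 13, 15, 7, 5, 6, 4, 6, 14]
def rw1099 : List ℕ := [12, 14, 4, 0, 2, 10, 12, 14, 4, 0, 2, 10, 12, 14, 4, 0, 2, 10, 12, 14, 4, 0, 2, 10, 12, 14, 1, 15, 13, 11, 3, 1, 5, 15, 13, 11, 3, 1, 5, 15, 13, 11, 3, 1, 5, 15, 13, 11, 3, 1, 5, 15, 13, 11, 3, 1, 5, 0, 4, 0, 2, 10]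
def rw1100 : List ℕ := [12, 14, 6, 4, 2, 5, 3, 5, 7, 15, 13, 11, 3, 5, 7, 15, 13, 11, 3, 5, 7, 15, 13, 11, 3, 5, 7, 15, 13, 11, 3, 5, 7, 15, 13, 11, 4, 10, 12, 14, 6, 4, 2, 10, 12, 14, 6, 4, 2, 10, 12, 14, 6, 4, 2, 10, 12, 14, 6, 4, 2, 10]
def rw1101 : List ℕ := [12, 14, 6, 4, 2, 7, 3, 5, 7, 15, 13, 11, 3, 5, 7, 15, 13, 11, 3, 5, 7, 15, 13, 11, 3, 5, 7, 15, 13, 11, 3, 5, 7, 15, 13, 11, 6, 10, 12, 14, 6, 4, 2, 10, 12, 14, 6, 4, 2, 10, 12, 14, 6, 4, 2, 10, 12, 14, 6, 4, 2, 10]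
def rw1102 : List ℕ := [12, 14, 6, 4, 2, 10, 12, 14, 6, 4, 2, 10, 12, 14, 6, 4, 2, 10, 12, 14, 6, 4, 2, 10, 12, 14, 6, 4, 2, 5, 3, 5, 7, 15, 13, 11, 3, 5, 7, 15, 13, 11, 3, 5, 7, 15, 13, 11, 3, 5, 7, 15, 13, 11, 3, 5, 7, 15, 13, 11, 4, 10]
def rw1103 : List ℕ := [12, 14, 5, 15, 13, 11, 3, 1, 5, 15, 13, 11, 3, 1, 5, 15, 13, 11, 3, 1, 5, 15, 13, 11, 3, 1, 5, 15, 13, 11, 3, 1, 5, 4, 4, 0, 2, 10, 12, 14, 4, 0, 2, 10, 12, 14, 4, 0, 2, 10, 12, 14, 4, 0, 2, 10, 12, 14, 4, 0, 2, 10]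
def rw1104 : List ℕ := [12, 10, 12, 14, 6, 4, 2, 11, 3, 5, 7, 15, 13, 11, 13, 15, 7, 5, 3, 5, 7, 15, 13, 11, 13, 15, 7, 5, 3, 5, 7, 15, 13, 11, 13, 15, 7, 5, 10, 4, 6, 14, 12, 10, 12, 14, 6, 4, 2, 4, 6, 14, 12, 10, 12, 14, 6, 4, 2, 4, 6, 14]
def rw1105 : List ℕ := [12, 14, 8, 6, 4, 10, 12, 14, 8, 6, 4, 11, 5, 7, 9, 15, 13, 11, 5, 7, 9, 15, 13, 11, 5, 7, 9, 15, 13, 11, 5, 7, 9, 15, 13, 11, 5, 7, 9, 15, 13, 11, 10, 10, 12, 14, 8, 6, 4, 10, 12, 14, 8, 6, 4, 10, 12, 14, 8, 6, 4, 10]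
def rw1106 : List ℕ := [12, 10, 12, 14, 6, 4, 2, 4, 6, 14, 12, 10, 12, 14, 6, 4, 2, 4, 6, 14, 12, 10, 12, 14, 6, 4, 2, 13, 3, 5, 7, 15, 13, 11, 13, 15, 7, 5, 3, 5, 7, 15, 13, 11, 13, 15, 7, 5, 3, 5, 7, 15, 13, 11, 13, 15, 7, 5, 12, 4, 6, 14]
def rw1107 : List ℕ := [12, 14, 8, 6, 4, 10, 12, 14, 8, 6, 4, 10, 12, 14, 8, 6, 4, 9, 5, 7, 9, 15, 13, 11, 5, 7, 9, 15, 13, 11, 5, 7, 9, 15, 13, 11, 5, 7, 9, 15, 13, 11, 5, 7, 9, 15, 13, 11, 8, 10, 12, 14, 8, 6, 4, 10, 12, 14, 8, 6, 4, 10]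
def rw1108 : List ℕ := [12, 14, 6, 4, 2, 10, 12, 14, 6, 4, 2, 1, 3, 5, 7, 15, 13, 11, 3, 5, 7, 15, 13, 11, 3, 5, 7, 15, 13, 11, 3, 5, 7, 15, 13, 11, 3, 5, 7, 15, 13, 11, 0, 10, 12, 14, 6, 4, 2, 10, 12, 14, 6, 4, 2, 10, 12, 14, 6, 4, 2, 10]
def rw1109 : List ℕ := [12, 14, 3, 15, 13, 11, 3, 1, 5, 15, 13, 11, 3, 1, 5, 15, 13, 11, 3, 1, 5, 15, 13, 11, 3, 1, 5, 15, 13, 11, 3, 1, 5, 2, 4, 0, 2, 10, 12, 14, 4, 0, 2, 10, 12, 14, 4, 0, 2, 10, 12, 14, 4, 0, 2, 10, 12, 14, 4, 0, 2, 10]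
def rw1110 : List ℕ := [12, 14, 8, 6, 4, 11, 5, 7, 9, 15, 13, 11, 5, 7, 9, 15, 13, 11, 5, 7, 9, 15, 13, 11, 5, 7, 9, 15, 13, 11, 5, 7, 9, 15, 13, 11, 10, 10, 12, 14, 8, 6, 4, 10, 12, 14, 8, 6, 4, 10, 12, 14, 8, 6, 4, 10, 12, 14, 8, 6, 4, 10]
def rw1111 : List ℕ := [12, 14, 4, 0, 2, 10, 12, 14, 4, 0, 2, 10, 12, 14, 1, 15, 13, 11, 3, 1, 5, 15, 13, 11, 3, 1, 5, 15, 13, 11, 3, 1, 5, 15, 13, 11, 3, 1, 5, 15, 13, 11, 3, 1, 5, 0, 4, 0, 2, 10, 12, 14, 4, 0, 2, 10, 12, 14, 4, 0, 2, 10]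
def rw1112 : List ℕ := [12, 14, 6, 4, 2, 10, 12, 14, 6, 4, 2, 10, 12, 14, 6, 4, 2, 10, 12, 14, 6, 4, 2, 10, 12, 14, 6, 4, 2, 15, 3, 5, 7, 15, 13, 11, 3, 5, 7, 15, 13, 11, 3, 5, 7, 15, 13, 11, 3, 5, 7, 15, 13, 11, 3, 5, 7, 15, 13, 11, 14, 10]
def rw1113 : List ℕ := [12, 14, 6, 4, 2, 4, 6, 14, 12, 10, 12, 14, 6, 4, 2, 4, 6, 14, 12, 10, 12, 14, 6, 4, 2, 13, 3, 5, 7, 15, 13, 11, 13, 15, 7, 5, 3, 5, 7, 15, 13, 11, 13, 15, 7, 5, 3, 5, 7, 15, 13, 11, 13, 15, 7, 5, 12, 4, 6, 14, 12, 10]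
def rw1114 : List ℕ := [12, 14, 4, 0, 2, 10, 12, 14, 4, 0, 2, 10, 12, 14, 4, 0, 2, 10, 12, 14, 9, 15, 13, 11, 3, 1, 5, 15, 13, 11, 3, 1, 5, 15, 13, 11, 3, 1, 5, 15, 13, 11, 3, 1, 5, 15, 13, 11, 3, 1, 5, 8, 4, 0, 2, 10, 12, 14, 4, 0, 2, 10]
def rw1115 : List ℕ := [12, 14, 6, 4, 2, 10, 12, 14, 6, 4, 2, 10, 12, 14, 6, 4, 2, 10, 12, 14, 6, 4, 2, 13, 3, 5, 7, 15, 13, 11, 3, 5, 7, 15, 13, 11, 3, 5, 7, 15, 13, 11, 3, 5, 7, 15, 13, 11, 3, 5, 7, 15, 13, 11, 12, 10, 12, 14, 6, 4, 2, 10]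
def rw1116 : List ℕ := [12, 14, 8, 6, 4, 10, 12, 14, 8, 6, 4, 10, 12, 14, 8, 6, 4, 10, 12, 14, 8, 6, 4, 10, 12, 14, 8, 6, 4, 3, 5, 7, 9, 15, 13, 11, 5, 7, 9, 15, 13, 11, 5, 7, 9, 15, 13, 11, 5, 7, 9, 15, 13, 11, 5, 7, 9, 15, 13, 11, 2, 10]
def rw1117 : List ℕ := [12, 14, 4, 0, 2, 10, 12, 14, 4, 0, 2, 10, 12, 14, 4, 0, 2, 10, 12, 14, 11, 15, 13, 11, 3, 1, 5, 15, 13, 11, 3, 1, 5, 15, 13, 11, 3, 1, 5, 15, 13, 11, 3, 1, 5, 15, 13, 11, 3, 1, 5, 10, 4, 0, 2, 10, 12, 14, 4, 0, 2, 10]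
def rw1118 : List ℕ := [12, 10, 12, 14, 6, 4, 2, 9, 3, 5, 7, 15, 13, 11, 13, 15, 7, 5, 3, 5, 7, 15, 13, 11, 13, 15, 7, 5, 3, 5, 7, 15, 13, 11, 13, 15, 7, 5, 8, 4, 6, 14, 12, 10, 12, 14, 6, 4, 2, 4, 6, 14, 12, 10, 12, 14, 6, 4, 2, 4, 6, 14]
def rw1119 : List ℕ := [12, 14, 12, 15, 13, 11, 3, 1, 5, 15, 13, 11, 3, 1, 5, 15, 13, 11, 3, 1, 5, 15, 13, 11, 3, 1, 5, 15, 13, 11, 3, 1, 5, 13, 4, 0, 2, 10, 12, 14, 4, 0, 2, 10, 12, 14, 4, 0, 2, 10, 12, 14, 4, 0, 2, 10, 12, 14, 4, 0, 2, 10]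
def rw1120 : List ℕ := [12, 14, 4, 0, 2, 10, 12, 14, 4, 0, 2, 10, 12, 14, 4, 0, 2, 10, 12, 14, 5, 15, 13, 11, 3, 1, 5, 15, 13, 11, 3, 1, 5, 15, 13, 11, 3, 1, 5, 15, 13, 11, 3, 1, 5, 15, 13, 11, 3, 1, 5, 4, 4, 0, 2, 10, 12, 14, 4, 0, 2, 10]
def rw1121 : List ℕ := [12, 14, 8, 6, 4, 10, 12, 14, 8, 6, 4, 10, 12, 14, 8, 6, 4, 10, 12, 14, 8, 6, 4, 3, 5, 7, 9, 15, 13, 11, 5, 7, 9, 15, 13, 11, 5, 7, 9, 15, 13, 11, 5, 7, 9, 15, 13, 11, 5, 7, 9, 15, 13, 11, 2, 10, 12, 14, 8, 6, 4, 10]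
def rw1122 : List ℕ := [12, 14, 6, 4, 2, 1, 3, 5, 7, 15, 13, 11, 3, 5, 7, 15, 13, 11, 3, 5, 7, 15, 13, 11, 3, 5, 7, 15, 13, 11, 3, 5, 7, 15, 13, 11, 0, 10, 12, 14, 6, 4, 2, 10, 12, 14, 6, 4, 2, 10, 12, 14, 6, 4, 2, 10, 12, 14, 6, 4, 2, 10]
def rw1123 : List ℕ := [12, 10, 12, 14, 6, 4, 2, 4, 6, 14, 12, 10, 12, 14, 6, 4, 2, 13, 3, 5, 7, 15, 13, 11, 13, 15, 7, 5, 3, 5, 7, 15, 13, 11, 13, 15, 7, 5, 3, 5, 7, 15, 13, 11, 13, 15, 7, 5, 12, 4, 6, 14, 12, 10, 12, 14, 6, 4, 2, 4, 6, 14]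
def rw1124 : List ℕ := [12, 14, 6, 4, 2, 10, 12, 14, 6, 4, 2, 10, 12, 14, 6, 4, 2, 1, 3, 5, 7, 15, 13, 11, 3, 5, 7, 15, 13, 11, 3, 5, 7, 15, 13, 11, 3, 5, 7, 15, 13, 11, 3, 5, 7, 15, 13, 11, 0, 10, 12, 14, 6, 4, 2, 10, 12, 14, 6, 4, 2, 10]
def rw1125 : List ℕ := [12, 14, 4, 0, 2, 10, 12, 14, 1, 15, 13, 11, 3, 1, 5, 15, 13, 11, 3, 1, 5, 15, 13, 11, 3, 1, 5, 15, 13, 11, 3, 1, 5, 15, 13, 11, 3, 1, 5, 0, 4, 0, 2, 10, 12, 14, 4, 0, 2, 10, 12, 14, 4, 0, 2, 10, 12, 14, 4, 0, 2, 10]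
def rw1126 : List ℕ := [12, 14, 4, 0, 2, 10, 12, 14, 4, 0, 2, 10, 12, 14, 4, 0, 2, 10, 12, 14, 4, 0, 2, 10, 12, 14, 7, 15, 13, 11, 3, 1, 5, 15, 13, 11, 3, 1, 5, 15, 13, 11, 3, 1, 5, 15, 13, 11, 3, 1, 5, 15, 13, 11, 3, 1, 5, 6, 4, 0, 2, 10]
def rw1127 : List ℕ := [12, 14, 8, 6, 4, 10, 12, 14, 8, 6, 4, 10, 12, 14, 8, 6, 4, 10, 12, 14, 8, 6, 4, 1, 5, 7, 9, 15, 13, 11, 5, 7, 9, 15, 13, 11, 5, 7, 9, 15, 13, 11, 5, 7, 9, 15, 13, 11, 5, 7, 9, 15, 13, 11, 0, 10, 12, 14, 8, 6, 4, 10]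
def rw1128 : List ℕ := [12, 14, 4, 0, 2, 10, 12, 14, 4, 0, 2, 10, 12, 14, 4, 0, 2, 10, 12, 14, 1, 15, 13, 11, 3, 1, 5, 15, 13, 11, 3, 1, 5, 15, 13, 11, 3, 1, 5, 15, 13, 11, 3, 1, 5, 15, 13, 11, 3, 1, 5, 0, 4, 0, 2, 10, 12, 14, 4, 0, 2, 10]
def rw1129 : List ℕ := [12, 14, 4, 0, 2, 10, 12, 14, 4, 0, 2, 10, 12, 14, 4, 0, 2, 10, 12, 14, 4, 0, 2, 10, 12, 14, 5, 15, 13, 11, 3, 1, 5, 15, 13, 11, 3, 1, 5, 15, 13, 11, 3, 1, 5, 15, 13, 11, 3, 1, 5, 15, 13, 11, 3, 1, 5, 4, 4, 0, 2, 10]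
def rw1130 : List ℕ := [12, 10, 12, 14, 6, 4, 2, 4, 6, 14, 12, 10, 12, 14, 6, 4, 2, 11, 3, 5, 7, 15, 13, 11, 13, 15, 7, 5, 3, 5, 7, 15, 13, 11, 13, 15, 7, 5, 3, 5, 7, 15, 13, 11, 13, 15, 7, 5, 10, 4, 6, 14, 12, 10, 12, 14, 6, 4, 2, 4, 6, 14]
def rw1131 : List ℕ := [12, 14, 6, 4, 2, 4, 6, 14, 12, 10, 12, 14, 6, 4, 2, 4, 6, 14, 12, 10, 12, 14, 6, 4, 2, 15, 3, 5, 7, 15, 13, 11, 13, 15, 7, 5, 3, 5, 7, 15, 13, 11, 13, 15, 7, 5, 3, 5, 7, 15, 13, 11, 13, 15, 7, 5, 14, 4, 6, 14, 12, 10]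
def rw1132 : List ℕ := [12, 14, 8, 6, 4, 10, 12, 14, 8, 6, 4, 10, 12, 14, 8, 6, 4, 10, 12, 14, 8, 6, 4, 10, 12, 14, 8, 6, 4, 15, 5, 7, 9, 15, 13, 11, 5, 7, 9, 15, 13, 11, 5, 7, 9, 15, 13, 11, 5, 7, 9, 15, 13, 11, 5, 7, 9, 15, 13, 11, 14, 10]
def rw1133 : List ℕ := [12, 14, 7, 15, 13, 11, 3, 1, 5, 15, 13, 11, 3, 1, 5, 15, 13, 11, 3, 1, 5, 15, 13, 11, 3, 1, 5, 15, 13, 11, 3, 1, 5, 6, 4, 0, 2, 10, 12, 14, 4, 0, 2, 10, 12, 14, 4, 0, 2, 10, 12, 14, 4, 0, 2, 10, 12, 14, 4, 0, 2, 10]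
def rw1134 : List ℕ := [12, 14, 4, 0, 2, 10, 12, 14, 4, 0, 2, 10, 12, 14, 3, 15, 13, 11, 3, 1, 5, 15, 13, 11, 3, 1, 5, 15, 13, 11, 3, 1, 5, 15, 13, 11, 3, 1, 5, 15, 13, 11, 3, 1, 5, 2, 4, 0, 2, 10, 12, 14, 4, 0, 2, 10, 12, 14, 4, 0, 2, 10]
def rw1135 : List ℕ := [12, 14, 6, 4, 2, 10, 12, 14, 6, 4, 2, 10, 12, 14, 6, 4, 2, 10, 12, 14, 6, 4, 2, 11, 3, 5, 7, 15, 13, 11, 3, 5, 7, 15, 13, 11, 3, 5, 7, 15, 13, 11, 3, 5, 7, 15, 13, 11, 3, 5, 7, 15, 13, 11, 10, 10, 12, 14, 6, 4, 2, 10]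
def rw1136 : List ℕ := [12, 14, 6, 4, 2, 10, 12, 14, 6, 4, 2, 3, 3, 5, 7, 15, 13, 11, 3, 5, 7, 15, 13, 11, 3, 5, 7, 15, 13, 11, 3, 5, 7, 15, 13, 11, 3, 5, 7, 15, 13, 11, 2, 10, 12, 14, 6, 4, 2, 10, 12, 14, 6, 4, 2, 10, 12, 14, 6, 4, 2, 10]
def rw1137 : List ℕ := [12, 14, 6, 4, 2, 10, 12, 14, 6, 4, 2, 10, 12, 14, 6, 4, 2, 10, 12, 14, 6, 4, 2, 10, 12, 14, 6, 4, 2, 11, 3, 5, 7, 15, 13, 11, 3, 5, 7, 15, 13, 11, 3, 5, 7, 15, 13, 11, 3, 5, 7, 15, 13, 11, 3, 5, 7, 15, 13, 11, 10, 10]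
def rw1138 : List ℕ := [12, 3, 5, 7, 15, 13, 11, 3, 5, 7, 15, 13, 11, 3, 5, 7, 15, 13, 11, 3, 5, 7, 15, 13, 11, 3, 5, 7, 15, 13, 11, 13, 10, 12, 14, 6, 4, 2, 10, 12, 14, 6, 4, 2, 10, 12, 14, 6, 4, 2, 10, 12, 14, 6, 4, 2, 10, 12, 14, 6, 4, 2]
def rw1139 : List ℕ := [12, 10, 8, 6, 4, 2, 0, 12, 10, 8, 6, 4, 2, 0, 12, 10, 8, 6, 4, 2, 0, 12, 10, 8, 6, 4, 2, 0, 12, 10, 8, 6, 4, 2, 0, 12, 10, 8, 6, 4, 2, 0, 12, 10, 8, 6, 4, 2, 0, 12, 10, 8, 6, 4, 2, 0, 5, 1, 3, 5, 7, 9, 11, 13, 1, 3, 5, 7, 9, 11, 13, 1, 3, 5, 7, 9, 11, 13, 1, 3, 5, 7, 9, 11, 13, 1, 3, 5, 7, 9, 11, 13, 1, 3, 5, 7, 9, 11, 13, 1, 3, 5, 7, 9, 11, 13, 1, 3, 5, 7, 9, 11, 13, 1, 3, 5, 7, 9, 11, 13, 4, 12, 10, 8, 6, 4, 2, 0]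
def rw1140 : List ℕ := [12, 14, 6, 4, 2, 10, 12, 14, 6, 4, 2, 10, 12, 14, 6, 4, 2, 10, 12, 14, 6, 4, 2, 10, 12, 14, 6, 4, 2, 1, 3, 5, 7, 15, 13, 11, 3, 5, 7, 15, 13, 11, 3, 5, 7, 15, 13, 11, 3, 5, 7, 15, 13, 11, 3, 5, 7, 15, 13, 11, 0, 10]
def rw1141 : List ℕ := [12, 10, 8, 6, 4, 2, 0, 12, 10, 8, 6, 4, 2, 0, 12, 10, 8, 6, 4, 2, 0, 12, 10, 8, 6, 4, 2, 0, 12, 10, 8, 6, 4, 2, 0, 12, 10, 8, 6, 4, 2, 0, 1, 1, 3, 5, 7, 9, 11, 13, 1, 3, 5, 7, 9, 11, 13, 1, 3, 5, 7, 9, 11, 13, 1, 3, 5, 7, 9, 11, 13, 1, 3, 5, 7, 9, 11, 13, 1, 3, 5, 7, 9, 11, 13, 1, 3, 5, 7, 9, 11, 13, 1, 3, 5, 7, 9, 11, 13, 1, 3, 5, 7, 9, 11, 13, 0, 12, 10, 8, 6, 4, 2, 0, 12, 10, 8, 6, 4, 2, 0, 12, 10, 8, 6, 4, 2, 0]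
def rw1142 : List ℕ := [12, 10, 8, 6, 4, 2, 0, 12, 10, 8, 6, 4, 2, 0, 12, 10, 8, 6, 4, 2, 0, 12, 10, 8, 6, 4, 2, 0, 1, 1, 3, 5, 7, 9, 11, 13, 1, 3, 5, 7, 9, 11, 13, 1, 3, 5, 7, 9, 11, 13, 1, 3, 5, 7, 9, 11, 13, 1, 3, 5, 7, 9, 11, 13, 1, 3, 5, 7, 9, 11, 13, 1, 3, 5, 7, 9, 11, 13, 1, 3, 5, 7, 9, 11, 13, 1, 3, 5, 7, 9, 11, 13, 0, 12, 10, 8, 6, 4, 2, 0, 12, 10, 8, 6, 4, 2, 0, 12, 10, 8, 6, 4, 2, 0, 12, 10, 8, 6, 4, 2, 0, 12, 10, 8, 6, 4, 2, 0]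
def rw1143 : List ℕ := [12, 10, 12, 14, 6, 4, 2, 4, 6, 14, 12, 10, 12, 14, 6, 4, 2, 4, 6, 14, 12, 10, 12, 14, 6, 4, 2, 3, 3, 5, 7, 15, 13, 11, 13, 15, 7, 5, 3, 5, 7, 15, 13, 11, 13, 15, 7, 5, 3, 5, 7, 15, 13, 11, 13, 15, 7, 5, 2, 4, 6, 14]
def rw1144 : List ℕ := [12, 5, 7, 9, 15, 13, 11, 5, 7, 9, 15, 13, 11, 5, 7, 9, 15, 13, 11, 5, 7, 9, 15, 13, 11, 5, 7, 9, 15, 13, 11, 13, 10, 12, 14, 8, 6, 4, 10, 12, 14, 8, 6, 4, 10, 12, 14, 8, 6, 4, 10, 12, 14, 8, 6, 4, 10, 12, 14, 8, 6, 4]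
def rw1145 : List ℕ := [12, 10, 8, 6, 4, 2, 0, 12, 10, 8, 6, 4, 2, 0, 12, 10, 8, 6, 4, 2, 0, 12, 10, 8, 6, 4, 2, 0, 12, 10, 8, 6, 4, 2, 0, 1, 1, 3, 5, 7, 9, 11, 13, 1, 3, 5, 7, 9, 11, 13, 1, 3, 5, 7, 9, 11, 13, 1, 3, 5, 7, 9, 11, 13, 1, 3, 5, 7, 9, 11, 13, 1, 3, 5, 7, 9, 11, 13, 1, 3, 5, 7, 9, 11, 13, 1, 3, 5, 7, 9, 11, 13, 1, 3, 5, 7, 9, 11, 13, 0, 12, 10, 8, 6, 4, 2, 0, 12, 10, 8, 6, 4, 2, 0, 12, 10, 8, 6, 4, 2, 0, 12, 10, 8, 6, 4, 2, 0]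
def rw1146 : List ℕ := [12, 14, 8, 6, 4, 10, 12, 14, 8, 6, 4, 1, 5, 7, 9, 15, 13, 11, 5, 7, 9, 15, 13, 11, 5, 7, 9, 15, 13, 11, 5, 7, 9, 15, 13, 11, 5, 7, 9, 15, 13, 11, 0, 10, 12, 14, 8, 6, 4, 10, 12, 14, 8, 6, 4, 10, 12, 14, 8, 6, 4, 10]
def rw1147 : List ℕ := [12, 10, 8, 6, 4, 2, 0, 12, 10, 8, 6, 4, 2, 0, 12, 10, 8, 6, 4, 2, 0, 12, 10, 8, 6, 4, 2, 0, 12, 10, 8, 6, 4, 2, 0, 12, 10, 8, 6, 4, 2, 0, 12, 10, 8, 6, 4, 2, 0, 12, 10, 8, 6, 4, 2, 0, 1, 1, 3, 5, 7, 9, 11, 13, 1, 3, 5, 7, 9, 11, 13, 1, 3, 5, 7, 9, 11, 13, 1, 3, 5, 7, 9, 11, 13, 1, 3, 5, 7, 9, 11, 13, 1, 3, 5, 7, 9, 11, 13, 1, 3, 5, 7, 9, 11, 13, 1, 3, 5, 7, 9, 11, 13, 1, 3, 5, 7, 9, 11, 13, 0, 12, 10, 8, 6, 4, 2, 0]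
def rw1148 : List ℕ := [12, 10, 8, 6, 4, 2, 0, 12, 10, 8, 6, 4, 2, 0, 12, 10, 8, 6, 4, 2, 0, 12, 10, 8, 6, 4, 2, 0, 12, 10, 8, 6, 4, 2, 0, 12, 10, 8, 6, 4, 2, 0, 12, 10, 8, 6, 4, 2, 0, 12, 10, 8, 6, 4, 2, 0, 12, 10, 8, 6, 4, 2, 0, 15, 1, 3, 5, 7, 9, 11, 13, 1, 3, 5, 7, 9, 11, 13, 1, 3, 5, 7, 9, 11, 13, 1, 3, 5, 7, 9, 11, 13, 1, 3, 5, 7, 9, 11, 13, 1, 3, 5, 7, 9, 11, 13, 1, 3, 5, 7, 9, 11, 13, 1, 3, 5, 7, 9, 11, 13, 1, 3, 5, 7, 9, 11, 13, 14]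
def rw1149 : List ℕ := [13, 15, 13, 15, 13, 15]
def rw1150 : List ℕ := [13, 9, 13, 9]
def rw1151 : List ℕ := [13, 15, 13, 15, 13, 15]
def rw1152 : List ℕ := [13, 15, 13, 11, 3, 1, 5, 15, 13, 11, 3, 1, 5, 15, 13, 11, 3, 1, 5, 15, 13, 11, 3, 1, 5, 15, 13, 11, 3, 1, 5, 12, 4, 0, 2, 10, 12, 14, 4, 0, 2, 10, 12, 14, 4, 0, 2, 10, 12, 14, 4, 0, 2, 10, 12, 14, 4, 0, 2, 10, 12, 14]
def rw1153 : List ℕ := [13, 11, 13, 11, 13, 11]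
def rw1154 : List ℕ := [13, 1, 13, 1]
def rw1155 : List ℕ := [13, 11, 3, 1, 5, 15, 13, 11, 3, 1, 5, 15, 13, 11, 3, 1, 5, 15, 13, 11, 3, 1, 5, 15, 13, 11, 3, 1, 5, 11, 4, 0, 2, 10, 12, 14, 4, 0, 2, 10, 12, 14, 4, 0, 2, 10, 12, 14, 4, 0, 2, 10, 12, 14, 4, 0, 2, 10, 12, 14, 10, 15]
def rw1156 : List ℕ := [13, 5, 7, 9, 15, 13, 11, 5, 7, 9, 15, 13, 11, 5, 7, 9, 15, 13, 11, 5, 7, 9, 15, 13, 11, 5, 7, 9, 15, 13, 11, 12, 10, 12, 14, 8, 6, 4, 10, 12, 14, 8, 6, 4, 10, 12, 14, 8, 6, 4, 10, 12, 14, 8, 6, 4, 10, 12, 14, 8, 6, 4]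
def rw1157 : List ℕ := [13, 11, 3, 1, 5, 15, 13, 11, 3, 1, 5, 15, 13, 11, 3, 1, 5, 11, 4, 0, 2, 10, 12, 14, 4, 0, 2, 10, 12, 14, 4, 0, 2, 10, 12, 14, 4, 0, 2, 10, 12, 14, 4, 0, 2, 10, 12, 14, 10, 15, 13, 11, 3, 1, 5, 15, 13, 11, 3, 1, 5, 15]
def rw1158 : List ℕ := [13, 3, 5, 7, 15, 13, 11, 3, 5, 7, 15, 13, 11, 3, 5, 7, 15, 13, 11, 3, 5, 7, 15, 13, 11, 3, 5, 7, 15, 13, 11, 12, 10, 12, 14, 6, 4, 2, 10, 12, 14, 6, 4, 2, 10, 12, 14, 6, 4, 2, 10, 12, 14, 6, 4, 2, 10, 12, 14, 6, 4, 2]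
def rw1159 : List ℕ := [13, 11, 3, 1, 5, 15, 13, 11, 3, 1, 5, 15, 13, 11, 3, 1, 5, 15, 13, 11, 3, 1, 5, 15, 13, 11, 3, 1, 5, 14, 4, 0, 2, 10, 12, 14, 4, 0, 2, 10, 12, 14, 4, 0, 2, 10, 12, 14, 4, 0, 2, 10, 12, 14, 4, 0, 2, 10, 12, 14, 15, 15]
def rw1160 : List ℕ := [13, 15, 7, 5, 3, 5, 7, 15, 13, 11, 13, 15, 7, 5, 3, 5, 7, 15, 13, 11, 13, 15, 7, 5, 2, 4, 6, 14, 12, 10, 12, 14, 6, 4, 2, 4, 6, 14, 12, 10, 12, 14, 6, 4, 2, 4, 6, 14, 12, 10, 12, 14, 6, 4, 2, 3, 3, 5, 7, 15, 13, 11]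
def rw1161 : List ℕ := [13, 11, 3, 1, 5, 15, 13, 11, 3, 1, 5, 15, 13, 11, 3, 1, 5, 15, 13, 11, 3, 1, 5, 15, 13, 11, 3, 1, 5, 3, 4, 0, 2, 10, 12, 14, 4, 0, 2, 10, 12, 14, 4, 0, 2, 10, 12, 14, 4, 0, 2, 10, 12, 14, 4, 0, 2, 10, 12, 14, 2, 15]
def rw1162 : List ℕ := [13, 11, 13, 10, 12, 14, 8, 6, 4, 10, 12, 14, 8, 6, 4, 10, 12, 14, 8, 6, 4, 10, 12, 14, 8, 6, 4, 10, 12, 14, 8, 6, 4, 12, 5, 7, 9, 15, 13, 11, 5, 7, 9, 15, 13, 11, 5, 7, 9, 15, 13, 11, 5, 7, 9, 15, 13, 11, 5, 7, 9, 15]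
def rw1163 : List ℕ := [13, 3, 13, 3]
def rw1164 : List ℕ := [13, 5, 13, 5]
def rw1165 : List ℕ := [13, 3, 13, 3]
def rw1166 : List ℕ := [13, 7, 13, 7]
def rw1167 : List ℕ := [13, 11, 3, 1, 5, 15, 13, 11, 3, 1, 5, 2, 4, 0, 2, 10, 12, 14, 4, 0, 2, 10, 12, 14, 4, 0, 2, 10, 12, 14, 4, 0, 2, 10, 12, 14, 4, 0, 2, 10, 12, 14, 3, 15, 13, 11, 3, 1, 5, 15, 13, 11, 3, 1, 5, 15, 13, 11, 3, 1, 5, 15]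
def rw1168 : List ℕ := [13, 15, 13, 15, 13, 15]
def rw1169 : List ℕ := [13, 11, 3, 1, 5, 15, 13, 11, 3, 1, 5, 15, 13, 11, 3, 1, 5, 15, 13, 11, 3, 1, 5, 15, 13, 11, 3, 1, 5, 9, 4, 0, 2, 10, 12, 14, 4, 0, 2, 10, 12, 14, 4, 0, 2, 10, 12, 14, 4, 0, 2, 10, 12, 14, 4, 0, 2, 10, 12, 14, 8, 15]
def rw1170 : List ℕ := [13, 11, 5, 7, 9, 15, 13, 11, 5, 7, 9, 15, 13, 11, 10, 10, 12, 14, 8, 6, 4, 10, 12, 14, 8, 6, 4, 10, 12, 14, 8, 6, 4, 10, 12, 14, 8, 6, 4, 10, 12, 14, 8, 6, 4, 11, 5, 7, 9, 15, 13, 11, 5, 7, 9, 15, 13, 11, 5, 7, 9, 15]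
def rw1171 : List ℕ := [13, 11, 13, 15, 7, 5, 3, 5, 7, 15, 13, 11, 13, 15, 7, 5, 3, 5, 7, 15, 13, 11, 13, 15, 7, 5, 2, 4, 6, 14, 12, 10, 12, 14, 6, 4, 2, 4, 6, 14, 12, 10, 12, 14, 6, 4, 2, 4, 6, 14, 12, 10, 12, 14, 6, 4, 2, 3, 3, 5, 7, 15]
def rw1172 : List ℕ := [13, 10, 12, 14, 8, 6, 4, 10, 12, 14, 8, 6, 4, 10, 12, 14, 8, 6, 4, 10, 12, 14, 8, 6, 4, 10, 12, 14, 8, 6, 4, 12, 5, 7, 9, 15, 13, 11, 5, 7, 9, 15, 13, 11, 5, 7, 9, 15, 13, 11, 5, 7, 9, 15, 13, 11, 5, 7, 9, 15, 13, 11]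
def rw1173 : List ℕ := [13, 15, 7, 5, 12, 4, 6, 14, 12, 10, 12, 14, 6, 4, 2, 4, 6, 14, 12, 10, 12, 14, 6, 4, 2, 4, 6, 14, 12, 10, 12, 14, 6, 4, 2, 13, 3, 5, 7, 15, 13, 11, 13, 15, 7, 5, 3, 5, 7, 15, 13, 11, 13, 15, 7, 5, 3, 5, 7, 15, 13, 11]
def rw1174 : List ℕ := [13, 11, 13, 11, 13, 11]
def rw1175 : List ℕ := [13, 10, 12, 14, 6, 4, 2, 10, 12, 14, 6, 4, 2, 10, 12, 14, 6, 4, 2, 10, 12, 14, 6, 4, 2, 10, 12, 14, 6, 4, 2, 12, 3, 5, 7, 15, 13, 11, 3, 5, 7, 15, 13, 11, 3, 5, 7, 15, 13, 11, 3, 5, 7, 15, 13, 11, 3, 5, 7, 15, 13, 11]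
def rw1176 : List ℕ := [13, 11, 5, 7, 9, 15, 13, 11, 5, 7, 9, 15, 13, 11, 9, 10, 12, 14, 8, 6, 4, 10, 12, 14, 8, 6, 4, 10, 12, 14, 8, 6, 4, 10, 12, 14, 8, 6, 4, 10, 12, 14, 8, 6, 4, 8, 5, 7, 9, 15, 13, 11, 5, 7, 9, 15, 13, 11, 5, 7, 9, 15]
def rw1177 : List ℕ := [13, 11, 5, 7, 9, 15, 13, 11, 12, 10, 12, 14, 8, 6, 4, 10, 12, 14, 8, 6, 4, 10, 12, 14, 8, 6, 4, 10, 12, 14, 8, 6, 4, 10, 12, 14, 8, 6, 4, 13, 5, 7, 9, 15, 13, 11, 5, 7, 9, 15, 13, 11, 5, 7, 9, 15, 13, 11, 5, 7, 9, 15]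
def rw1178 : List ℕ := [13, 11, 13, 15, 7, 5, 12, 4, 6, 14, 12, 10, 12, 14, 6, 4, 2, 4, 6, 14, 12, 10, 12, 14, 6, 4, 2, 4, 6, 14, 12, 10, 12, 14, 6, 4, 2, 13, 3, 5, 7, 15, 13, 11, 13, 15, 7, 5, 3, 5, 7, 15, 13, 11, 13, 15, 7, 5, 3, 5, 7, 15]
def rw1179 : List ℕ := [13, 11, 3, 1, 5, 15, 13, 11, 3, 1, 5, 15, 13, 11, 3, 1, 5, 15, 13, 11, 3, 1, 5, 12, 4, 0, 2, 10, 12, 14, 4, 0, 2, 10, 12, 14, 4, 0, 2, 10, 12, 14, 4, 0, 2, 10, 12, 14, 4, 0, 2, 10, 12, 14, 13, 15, 13, 11, 3, 1, 5, 15]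
def rw1180 : List ℕ := [13, 11, 3, 1, 5, 15, 13, 11, 3, 1, 5, 15, 13, 11, 3, 1, 5, 0, 4, 0, 2, 10, 12, 14, 4, 0, 2, 10, 12, 14, 4, 0, 2, 10, 12, 14, 4, 0, 2, 10, 12, 14, 4, 0, 2, 10, 12, 14, 1, 15, 13, 11, 3, 1, 5, 15, 13, 11, 3, 1, 5, 15]
def rw1181 : List ℕ := [13, 11, 13, 15, 7, 5, 14, 4, 6, 14, 12, 10, 12, 14, 6, 4, 2, 4, 6, 14, 12, 10, 12, 14, 6, 4, 2, 4, 6, 14, 12, 10, 12, 14, 6, 4, 2, 15, 3, 5, 7, 15, 13, 11, 13, 15, 7, 5, 3, 5, 7, 15, 13, 11, 13, 15, 7, 5, 3, 5, 7, 15]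
def rw1182 : List ℕ := [13, 15, 7, 5, 3, 5, 7, 15, 13, 11, 13, 15, 7, 5, 6, 4, 6, 14, 12, 10, 12, 14, 6, 4, 2, 4, 6, 14, 12, 10, 12, 14, 6, 4, 2, 4, 6, 14, 12, 10, 12, 14, 6, 4, 2, 7, 3, 5, 7, 15, 13, 11, 13, 15, 7, 5, 3, 5, 7, 15, 13, 11]
def rw1183 : List ℕ := [13, 11, 5, 7, 9, 15, 13, 11, 5, 7, 9, 15, 13, 11, 5, 7, 9, 15, 13, 11, 5, 7, 9, 15, 13, 11, 2, 10, 12, 14, 8, 6, 4, 10, 12, 14, 8, 6, 4, 10, 12, 14, 8, 6, 4, 10, 12, 14, 8, 6, 4, 10, 12, 14, 8, 6, 4, 3, 5, 7, 9, 15]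
def rw1184 : List ℕ := [13, 11, 6, 10, 12, 14, 6, 4, 2, 10, 12, 14, 6, 4, 2, 10, 12, 14, 6, 4, 2, 10, 12, 14, 6, 4, 2, 10, 12, 14, 6, 4, 2, 7, 3, 5, 7, 15, 13, 11, 3, 5, 7, 15, 13, 11, 3, 5, 7, 15, 13, 11, 3, 5, 7, 15, 13, 11, 3, 5, 7, 15]
def rw1185 : List ℕ := [13, 11, 14, 10, 12, 14, 6, 4, 2, 10, 12, 14, 6, 4, 2, 10, 12, 14, 6, 4, 2, 10, 12, 14, 6, 4, 2, 10, 12, 14, 6, 4, 2, 15, 3, 5, 7, 15, 13, 11, 3, 5, 7, 15, 13, 11, 3, 5, 7, 15, 13, 11, 3, 5, 7, 15, 13, 11, 3, 5, 7, 15]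
def rw1186 : List ℕ := [13, 11, 5, 7, 9, 15, 13, 11, 5, 7, 9, 15, 13, 11, 14, 10, 12, 14, 8, 6, 4, 10, 12, 14, 8, 6, 4, 10, 12, 14, 8, 6, 4, 10, 12, 14, 8, 6, 4, 10, 12, 14, 8, 6, 4, 15, 5, 7, 9, 15, 13, 11, 5, 7, 9, 15, 13, 11, 5, 7, 9, 15]
def rw1187 : List ℕ := [13, 1, 13, 1]
def rw1188 : List ℕ := [13, 5, 13, 5]
def rw1189 : List ℕ := [13, 11, 3, 5, 7, 15, 13, 11, 3, 5, 7, 15, 13, 11, 3, 5, 7, 15, 13, 11, 3, 5, 7, 15, 13, 11, 12, 10, 12, 14, 6, 4, 2, 10, 12, 14, 6, 4, 2, 10, 12, 14, 6, 4, 2, 10, 12, 14, 6, 4, 2, 10, 12, 14, 6, 4, 2, 13, 3, 5, 7, 15]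
def rw1190 : List ℕ := [13, 11, 5, 7, 9, 15, 13, 11, 14, 10, 12, 14, 8, 6, 4, 10, 12, 14, 8, 6, 4, 10, 12, 14, 8, 6, 4, 10, 12, 14, 8, 6, 4, 10, 12, 14, 8, 6, 4, 15, 5, 7, 9, 15, 13, 11, 5, 7, 9, 15, 13, 11, 5, 7, 9, 15, 13, 11, 5, 7, 9, 15]
def rw1191 : List ℕ := [13, 11, 3, 5, 7, 15, 13, 11, 3, 5, 7, 15, 13, 11, 2, 10, 12, 14, 6, 4, 2, 10, 12, 14, 6, 4, 2, 10, 12, 14, 6, 4, 2, 10, 12, 14, 6, 4, 2, 10, 12, 14, 6, 4, 2, 3, 3, 5, 7, 15, 13, 11, 3, 5, 7, 15, 13, 11, 3, 5, 7, 15]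
def rw1192 : List ℕ := [13, 11, 13, 11, 13, 11]
def rw1193 : List ℕ := [13, 11, 3, 1, 5, 15, 13, 11, 3, 1, 5, 15, 13, 11, 3, 1, 5, 10, 4, 0, 2, 10, 12, 14, 4, 0, 2, 10, 12, 14, 4, 0, 2, 10, 12, 14, 4, 0, 2, 10, 12, 14, 4, 0, 2, 10, 12, 14, 11, 15, 13, 11, 3, 1, 5, 15, 13, 11, 3, 1, 5, 15]
def rw1194 : List ℕ := [13, 7, 13, 7]
def rw1195 : List ℕ := [13, 6, 12, 10, 8, 6, 4, 2, 0, 12, 10, 8, 6, 4, 2, 0, 12, 10, 8, 6, 4, 2, 0, 12, 10, 8, 6, 4, 2, 0, 12, 10, 8, 6, 4, 2, 0, 12, 10, 8, 6, 4, 2, 0, 12, 10, 8, 6, 4, 2, 0, 12, 10, 8, 6, 4, 2, 0, 12, 10, 8, 6, 4, 2, 0, 7, 1, 3, 5, 7, 9, 11, 13, 1, 3, 5, 7, 9, 11, 13, 1, 3, 5, 7, 9, 11, 13, 1, 3, 5, 7, 9, 11, 13, 1, 3, 5, 7, 9, 11, 13, 1, 3, 5, 7, 9, 11, 13, 1, 3, 5, 7, 9, 11, 13, 1, 3, 5, 7, 9, 11, 13, 1, 3, 5, 7, 9, 11]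
def rw1196 : List ℕ := [13, 11, 5, 7, 9, 15, 13, 11, 5, 7, 9, 15, 13, 11, 5, 7, 9, 15, 13, 11, 5, 7, 9, 15, 13, 11, 0, 10, 12, 14, 8, 6, 4, 10, 12, 14, 8, 6, 4, 10, 12, 14, 8, 6, 4, 10, 12, 14, 8, 6, 4, 10, 12, 14, 8, 6, 4, 1, 5, 7, 9, 15]
def rw1197 : List ℕ := [13, 4, 0, 2, 10, 12, 14, 4, 0, 2, 10, 12, 14, 4, 0, 2, 10, 12, 14, 4, 0, 2, 10, 12, 14, 4, 0, 2, 10, 12, 14, 12, 15, 13, 11, 3, 1, 5, 15, 13, 11, 3, 1, 5, 15, 13, 11, 3, 1, 5, 15, 13, 11, 3, 1, 5, 15, 13, 11, 3, 1, 5]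
def rw1198 : List ℕ := [13, 10, 12, 10, 8, 6, 4, 2, 0, 12, 10, 8, 6, 4, 2, 0, 12, 10, 8, 6, 4, 2, 0, 12, 10, 8, 6, 4, 2, 0, 12, 10, 8, 6, 4, 2, 0, 12, 10, 8, 6, 4, 2, 0, 12, 10, 8, 6, 4, 2, 0, 12, 10, 8, 6, 4, 2, 0, 12, 10, 8, 6, 4, 2, 0, 11, 1, 3, 5, 7, 9, 11, 13, 1, 3, 5, 7, 9, 11, 13, 1, 3, 5, 7, 9, 11, 13, 1, 3, 5, 7, 9, 11, 13, 1, 3, 5, 7, 9, 11, 13, 1, 3, 5, 7, 9, 11, 13, 1, 3, 5, 7, 9, 11, 13, 1, 3, 5, 7, 9, 11, 13, 1, 3, 5, 7, 9, 11]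
def rw1199 : List ℕ := [13, 11, 3, 5, 7, 15, 13, 11, 3, 5, 7, 15, 13, 11, 4, 10, 12, 14, 6, 4, 2, 10, 12, 14, 6, 4, 2, 10, 12, 14, 6, 4, 2, 10, 12, 14, 6, 4, 2, 10, 12, 14, 6, 4, 2, 5, 3, 5, 7, 15, 13, 11, 3, 5, 7, 15, 13, 11, 3, 5, 7, 15]
def rw1200 : List ℕ := [13, 11, 5, 7, 9, 15, 13, 11, 5, 7, 9, 15, 13, 11, 5, 7, 9, 15, 13, 11, 5, 7, 9, 15, 13, 11, 12, 10, 12, 14, 8, 6, 4, 10, 12, 14, 8, 6, 4, 10, 12, 14, 8, 6, 4, 10, 12, 14, 8, 6, 4, 10, 12, 14, 8, 6, 4, 13, 5, 7, 9, 15]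
def rw1201 : List ℕ := [13, 11, 3, 1, 5, 15, 13, 11, 3, 1, 5, 15, 13, 11, 3, 1, 5, 2, 4, 0, 2, 10, 12, 14, 4, 0, 2, 10, 12, 14, 4, 0, 2, 10, 12, 14, 4, 0, 2, 10, 12, 14, 4, 0, 2, 10, 12, 14, 3, 15, 13, 11, 3, 1, 5, 15, 13, 11, 3, 1, 5, 15]
def rw1202 : List ℕ := [13, 15, 7, 5, 14, 4, 6, 14, 12, 10, 12, 14, 6, 4, 2, 4, 6, 14, 12, 10, 12, 14, 6, 4, 2, 4, 6, 14, 12, 10, 12, 14, 6, 4, 2, 15, 3, 5, 7, 15, 13, 11, 13, 15, 7, 5, 3, 5, 7, 15, 13, 11, 13, 15, 7, 5, 3, 5, 7, 15, 13, 11]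
def rw1203 : List ℕ := [13, 11, 5, 7, 9, 15, 13, 11, 5, 7, 9, 15, 13, 11, 5, 7, 9, 15, 13, 11, 10, 10, 12, 14, 8, 6, 4, 10, 12, 14, 8, 6, 4, 10, 12, 14, 8, 6, 4, 10, 12, 14, 8, 6, 4, 10, 12, 14, 8, 6, 4, 11, 5, 7, 9, 15, 13, 11, 5, 7, 9, 15]
def rw1204 : List ℕ := [13, 11, 3, 5, 7, 15, 13, 11, 3, 5, 7, 15, 13, 11, 3, 10, 12, 14, 6, 4, 2, 10, 12, 14, 6, 4, 2, 10, 12, 14, 6, 4, 2, 10, 12, 14, 6, 4, 2, 10, 12, 14, 6, 4, 2, 2, 3, 5, 7, 15, 13, 11, 3, 5, 7, 15, 13, 11, 3, 5, 7, 15]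
def rw1205 : List ℕ := [13, 9, 13, 9]
def rw1206 : List ℕ := [13, 1, 3, 5, 7, 9, 11, 13, 10, 12, 10, 8, 6, 4, 2, 0, 12, 10, 8, 6, 4, 2, 0, 12, 10, 8, 6, 4, 2, 0, 12, 10, 8, 6, 4, 2, 0, 12, 10, 8, 6, 4, 2, 0, 12, 10, 8, 6, 4, 2, 0, 12, 10, 8, 6, 4, 2, 0, 12, 10, 8, 6, 4, 2, 0, 12, 10, 8, 6, 4, 2, 0, 11, 1, 3, 5, 7, 9, 11, 13, 1, 3, 5, 7, 9, 11, 13, 1, 3, 5, 7, 9, 11, 13, 1, 3, 5, 7, 9, 11, 13, 1, 3, 5, 7, 9, 11, 13, 1, 3, 5, 7, 9, 11, 13, 1, 3, 5, 7, 9, 11, 13, 1, 3, 5, 7, 9, 11]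
def rw1207 : List ℕ := [13, 11, 3, 1, 5, 8, 4, 0, 2, 10, 12, 14, 4, 0, 2, 10, 12, 14, 4, 0, 2, 10, 12, 14, 4, 0, 2, 10, 12, 14, 4, 0, 2, 10, 12, 14, 9, 15, 13, 11, 3, 1, 5, 15, 13, 11, 3, 1, 5, 15, 13, 11, 3, 1, 5, 15, 13, 11, 3, 1, 5, 15]
def rw1208 : List ℕ := [13, 13]
def rw1209 : List ℕ := [13, 11, 4, 10, 12, 14, 8, 6, 4, 10, 12, 14, 8, 6, 4, 10, 12, 14, 8, 6, 4, 10, 12, 14, 8, 6, 4, 10, 12, 14, 8, 6, 4, 5, 5, 7, 9, 15, 13, 11, 5, 7, 9, 15, 13, 11, 5, 7, 9, 15, 13, 11, 5, 7, 9, 15, 13, 11, 5, 7, 9, 15]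
def rw1210 : List ℕ := [13, 0, 12, 10, 8, 6, 4, 2, 0, 12, 10, 8, 6, 4, 2, 0, 12, 10, 8, 6, 4, 2, 0, 12, 10, 8, 6, 4, 2, 0, 12, 10, 8, 6, 4, 2, 0, 12, 10, 8, 6, 4, 2, 0, 12, 10, 8, 6, 4, 2, 0, 12, 10, 8, 6, 4, 2, 0, 12, 10, 8, 6, 4, 2, 0, 1, 1, 3, 5, 7, 9, 11, 13, 1, 3, 5, 7, 9, 11, 13, 1, 3, 5, 7, 9, 11, 13, 1, 3, 5, 7, 9, 11, 13, 1, 3, 5, 7, 9, 11, 13, 1, 3, 5, 7, 9, 11, 13, 1, 3, 5, 7, 9, 11, 13, 1, 3, 5, 7, 9, 11, 13, 1, 3, 5, 7, 9, 11]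
def rw1211 : List ℕ := [13, 11, 5, 7, 9, 15, 13, 11, 5, 7, 9, 15, 13, 11, 5, 7, 9, 15, 13, 11, 2, 10, 12, 14, 8, 6, 4, 10, 12, 14, 8, 6, 4, 10, 12, 14, 8, 6, 4, 10, 12, 14, 8, 6, 4, 10, 12, 14, 8, 6, 4, 3, 5, 7, 9, 15, 13, 11, 5, 7, 9, 15]
def rw1212 : List ℕ := [13, 11, 3, 1, 5, 15, 13, 11, 3, 1, 5, 15, 13, 11, 3, 1, 5, 15, 13, 11, 3, 1, 5, 2, 4, 0, 2, 10, 12, 14, 4, 0, 2, 10, 12, 14, 4, 0, 2, 10, 12, 14, 4, 0, 2, 10, 12, 14, 4, 0, 2, 10, 12, 14, 3, 15, 13, 11, 3, 1, 5, 15]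
def rw1213 : List ℕ := [13, 11, 3, 1, 5, 15, 13, 11, 3, 1, 5, 15, 13, 11, 3, 1, 5, 15, 13, 11, 3, 1, 5, 11, 4, 0, 2, 10, 12, 14, 4, 0, 2, 10, 12, 14, 4, 0, 2, 10, 12, 14, 4, 0, 2, 10, 12, 14, 4, 0, 2, 10, 12, 14, 10, 15, 13, 11, 3, 1, 5, 15]
def rw1214 : List ℕ := [13, 11, 3, 1, 5, 15, 13, 11, 3, 1, 5, 15, 13, 11, 3, 1, 5, 15, 13, 11, 3, 1, 5, 15, 13, 11, 3, 1, 5, 5, 4, 0, 2, 10, 12, 14, 4, 0, 2, 10, 12, 14, 4, 0, 2, 10, 12, 14, 4, 0, 2, 10, 12, 14, 4, 0, 2, 10, 12, 14, 4, 15]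
def rw1215 : List ℕ := [13, 11, 5, 7, 9, 15, 13, 11, 5, 7, 9, 15, 13, 11, 5, 7, 9, 15, 13, 11, 5, 7, 9, 15, 13, 11, 10, 10, 12, 14, 8, 6, 4, 10, 12, 14, 8, 6, 4, 10, 12, 14, 8, 6, 4, 10, 12, 14, 8, 6, 4, 10, 12, 14, 8, 6, 4, 11, 5, 7, 9, 15]
def rw1216 : List ℕ := [13, 11, 3, 1, 5, 15, 13, 11, 3, 1, 5, 15, 13, 11, 3, 1, 5, 15, 13, 11, 3, 1, 5, 15, 13, 11, 3, 1, 5, 10, 4, 0, 2, 10, 12, 14, 4, 0, 2, 10, 12, 14, 4, 0, 2, 10, 12, 14, 4, 0, 2, 10, 12, 14, 4, 0, 2, 10, 12, 14, 11, 15]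
def rw1217 : List ℕ := [13, 11, 3, 5, 7, 15, 13, 11, 3, 5, 7, 15, 13, 11, 10, 10, 12, 14, 6, 4, 2, 10, 12, 14, 6, 4, 2, 10, 12, 14, 6, 4, 2, 10, 12, 14, 6, 4, 2, 10, 12, 14, 6, 4, 2, 11, 3, 5, 7, 15, 13, 11, 3, 5, 7, 15, 13, 11, 3, 5, 7, 15]
def rw1218 : List ℕ := [13, 11, 5, 7, 9, 15, 13, 11, 2, 10, 12, 14, 8, 6, 4, 10, 12, 14, 8, 6, 4, 10, 12, 14, 8, 6, 4, 10, 12, 14, 8, 6, 4, 10, 12, 14, 8, 6, 4, 3, 5, 7, 9, 15, 13, 11, 5, 7, 9, 15, 13, 11, 5, 7, 9, 15, 13, 11, 5, 7, 9, 15]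
def rw1219 : List ℕ := [13, 11, 3, 5, 7, 15, 13, 11, 3, 5, 7, 15, 13, 11, 3, 5, 7, 15, 13, 11, 4, 10, 12, 14, 6, 4, 2, 10, 12, 14, 6, 4, 2, 10, 12, 14, 6, 4, 2, 10, 12, 14, 6, 4, 2, 10, 12, 14, 6, 4, 2, 5, 3, 5, 7, 15, 13, 11, 3, 5, 7, 15]
def rw1220 : List ℕ := [13, 2, 12, 10, 8, 6, 4, 2, 0, 12, 10, 8, 6, 4, 2, 0, 12, 10, 8, 6, 4, 2, 0, 12, 10, 8, 6, 4, 2, 0, 12, 10, 8, 6, 4, 2, 0, 12, 10, 8, 6, 4, 2, 0, 12, 10, 8, 6, 4, 2, 0, 12, 10, 8, 6, 4, 2, 0, 12, 10, 8, 6, 4, 2, 0, 3, 1, 3, 5, 7, 9, 11, 13, 1, 3, 5, 7, 9, 11, 13, 1, 3, 5, 7, 9, 11, 13, 1, 3, 5, 7, 9, 11, 13, 1, 3, 5, 7, 9, 11, 13, 1, 3, 5, 7, 9, 11, 13, 1, 3, 5, 7, 9, 11, 13, 1, 3, 5, 7, 9, 11, 13, 1, 3, 5, 7, 9, 11]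
def rw1221 : List ℕ := [13, 4, 12, 10, 8, 6, 4, 2, 0, 12, 10, 8, 6, 4, 2, 0, 12, 10, 8, 6, 4, 2, 0, 12, 10, 8, 6, 4, 2, 0, 12, 10, 8, 6, 4, 2, 0, 12, 10, 8, 6, 4, 2, 0, 12, 10, 8, 6, 4, 2, 0, 12, 10, 8, 6, 4, 2, 0, 12, 10, 8, 6, 4, 2, 0, 5, 1, 3, 5, 7, 9, 11, 13, 1, 3, 5, 7, 9, 11, 13, 1, 3, 5, 7, 9, 11, 13, 1, 3, 5, 7, 9, 11, 13, 1, 3, 5, 7, 9, 11, 13, 1, 3, 5, 7, 9, 11, 13, 1, 3, 5, 7, 9, 11, 13, 1, 3, 5, 7, 9, 11, 13, 1, 3, 5, 7, 9, 11]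
def rw1222 : List ℕ := [13, 11, 8, 10, 12, 14, 8, 6, 4, 10, 12, 14, 8, 6, 4, 10, 12, 14, 8, 6, 4, 10, 12, 14, 8, 6, 4, 10, 12, 14, 8, 6, 4, 9, 5, 7, 9, 15, 13, 11, 5, 7, 9, 15, 13, 11, 5, 7, 9, 15, 13, 11, 5, 7, 9, 15, 13, 11, 5, 7, 9, 15]
def rw1223 : List ℕ := [13, 11, 5, 7, 9, 15, 13, 11, 5, 7, 9, 15, 13, 11, 5, 7, 9, 15, 13, 11, 5, 7, 9, 15, 13, 11, 4, 10, 12, 14, 8, 6, 4, 10, 12, 14, 8, 6, 4, 10, 12, 14, 8, 6, 4, 10, 12, 14, 8, 6, 4, 10, 12, 14, 8, 6, 4, 5, 5, 7, 9, 15]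
def rw1224 : List ℕ := [13, 11, 14, 10, 12, 14, 8, 6, 4, 10, 12, 14, 8, 6, 4, 10, 12, 14, 8, 6, 4, 10, 12, 14, 8, 6, 4, 10, 12, 14, 8, 6, 4, 15, 5, 7, 9, 15, 13, 11, 5, 7, 9, 15, 13, 11, 5, 7, 9, 15, 13, 11, 5, 7, 9, 15, 13, 11, 5, 7, 9, 15]
def rw1225 : List ℕ := [13, 15, 7, 5, 3, 5, 7, 15, 13, 11, 13, 15, 7, 5, 3, 5, 7, 15, 13, 11, 13, 15, 7, 5, 4, 4, 6, 14, 12, 10, 12, 14, 6, 4, 2, 4, 6, 14, 12, 10, 12, 14, 6, 4, 2, 4, 6, 14, 12, 10, 12, 14, 6, 4, 2, 5, 3, 5, 7, 15, 13, 11]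
def rw1226 : List ℕ := [13, 15, 7, 5, 3, 5, 7, 15, 13, 11, 13, 15, 7, 5, 0, 4, 6, 14, 12, 10, 12, 14, 6, 4, 2, 4, 6, 14, 12, 10, 12, 14, 6, 4, 2, 4, 6, 14, 12, 10, 12, 14, 6, 4, 2, 1, 3, 5, 7, 15, 13, 11, 13, 15, 7, 5, 3, 5, 7, 15, 13, 11]
def rw1227 : List ℕ := [13, 11, 5, 7, 9, 15, 13, 11, 5, 7, 9, 15, 13, 11, 12, 10, 12, 14, 8, 6, 4, 10, 12, 14, 8, 6, 4, 10, 12, 14, 8, 6, 4, 10, 12, 14, 8, 6, 4, 10, 12, 14, 8, 6, 4, 13, 5, 7, 9, 15, 13, 11, 5, 7, 9, 15, 13, 11, 5, 7, 9, 15]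
def rw1228 : List ℕ := [13, 11, 3, 5, 7, 15, 13, 11, 3, 5, 7, 15, 13, 11, 3, 5, 7, 15, 13, 11, 3, 5, 7, 15, 13, 11, 4, 10, 12, 14, 6, 4, 2, 10, 12, 14, 6, 4, 2, 10, 12, 14, 6, 4, 2, 10, 12, 14, 6, 4, 2, 10, 12, 14, 6, 4, 2, 5, 3, 5, 7, 15]
def rw1229 : List ℕ := [13, 15, 7, 5, 3, 5, 7, 15, 13, 11, 13, 15, 7, 5, 4, 4, 6, 14, 12, 10, 12, 14, 6, 4, 2, 4, 6, 14, 12, 10, 12, 14, 6, 4, 2, 4, 6, 14, 12, 10, 12, 14, 6, 4, 2, 5, 3, 5, 7, 15, 13, 11, 13, 15, 7, 5, 3, 5, 7, 15, 13, 11]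
def rw1230 : List ℕ := [13, 14, 12, 10, 8, 6, 4, 2, 0, 12, 10, 8, 6, 4, 2, 0, 12, 10, 8, 6, 4, 2, 0, 12, 10, 8, 6, 4, 2, 0, 12, 10, 8, 6, 4, 2, 0, 12, 10, 8, 6, 4, 2, 0, 12, 10, 8, 6, 4, 2, 0, 12, 10, 8, 6, 4, 2, 0, 12, 10, 8, 6, 4, 2, 0, 15, 1, 3, 5, 7, 9, 11, 13, 1, 3, 5, 7, 9, 11, 13, 1, 3, 5, 7, 9, 11, 13, 1, 3, 5, 7, 9, 11, 13, 1, 3, 5, 7, 9, 11, 13, 1, 3, 5, 7, 9, 11, 13, 1, 3, 5, 7, 9, 11, 13, 1, 3, 5, 7, 9, 11, 13, 1, 3, 5, 7, 9, 11]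
def rw1231 : List ℕ := [13, 11, 3, 1, 5, 15, 13, 11, 3, 1, 5, 15, 13, 11, 3, 1, 5, 15, 13, 11, 3, 1, 5, 15, 13, 11, 3, 1, 5, 1, 4, 0, 2, 10, 12, 14, 4, 0, 2, 10, 12, 14, 4, 0, 2, 10, 12, 14, 4, 0, 2, 10, 12, 14, 4, 0, 2, 10, 12, 14, 0, 15]
def rw1232 : List ℕ := [13, 1, 3, 5, 7, 9, 11, 13, 1, 3, 5, 7, 9, 11, 13, 1, 3, 5, 7, 9, 11, 13, 1, 3, 5, 7, 9, 11, 13, 1, 3, 5, 7, 9, 11, 13, 1, 3, 5, 7, 9, 11, 13, 1, 3, 5, 7, 9, 11, 13, 0, 12, 10, 8, 6, 4, 2, 0, 12, 10, 8, 6, 4, 2, 0, 12, 10, 8, 6, 4, 2, 0, 12, 10, 8, 6, 4, 2, 0, 12, 10, 8, 6, 4, 2, 0, 12, 10, 8, 6, 4, 2, 0, 12, 10, 8, 6, 4, 2, 0, 12, 10, 8, 6, 4, 2, 0, 12, 10, 8, 6, 4, 2, 0, 1, 1, 3, 5, 7, 9, 11, 13, 1, 3, 5, 7, 9, 11]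
def rw1233 : List ℕ := [13, 15, 7, 5, 0, 4, 6, 14, 12, 10, 12, 14, 6, 4, 2, 4, 6, 14, 12, 10, 12, 14, 6, 4, 2, 4, 6, 14, 12, 10, 12, 14, 6, 4, 2, 1, 3, 5, 7, 15, 13, 11, 13, 15, 7, 5, 3, 5, 7, 15, 13, 11, 13, 15, 7, 5, 3, 5, 7, 15, 13, 11]
def rw1234 : List ℕ := [13, 11, 3, 5, 7, 15, 13, 11, 4, 10, 12, 14, 6, 4, 2, 10, 12, 14, 6, 4, 2, 10, 12, 14, 6, 4, 2, 10, 12, 14, 6, 4, 2, 10, 12, 14, 6, 4, 2, 5, 3, 5, 7, 15, 13, 11, 3, 5, 7, 15, 13, 11, 3, 5, 7, 15, 13, 11, 3, 5, 7, 15]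
def rw1235 : List ℕ := [13, 8, 12, 10, 8, 6, 4, 2, 0, 12, 10, 8, 6, 4, 2, 0, 12, 10, 8, 6, 4, 2, 0, 12, 10, 8, 6, 4, 2, 0, 12, 10, 8, 6, 4, 2, 0, 12, 10, 8, 6, 4, 2, 0, 12, 10, 8, 6, 4, 2, 0, 12, 10, 8, 6, 4, 2, 0, 12, 10, 8, 6, 4, 2, 0, 9, 1, 3, 5, 7, 9, 11, 13, 1, 3, 5, 7, 9, 11, 13, 1, 3, 5, 7, 9, 11, 13, 1, 3, 5, 7, 9, 11, 13, 1, 3, 5, 7, 9, 11, 13, 1, 3, 5, 7, 9, 11, 13, 1, 3, 5, 7, 9, 11, 13, 1, 3, 5, 7, 9, 11, 13, 1, 3, 5, 7, 9, 11]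
def rw1236 : List ℕ := [13, 15, 7, 5, 3, 5, 7, 15, 13, 11, 13, 15, 7, 5, 3, 5, 7, 15, 13, 11, 13, 15, 7, 5, 0, 4, 6, 14, 12, 10, 12, 14, 6, 4, 2, 4, 6, 14, 12, 10, 12, 14, 6, 4, 2, 4, 6, 14, 12, 10, 12, 14, 6, 4, 2, 1, 3, 5, 7, 15, 13, 11]
def rw1237 : List ℕ := [13, 11, 2, 10, 12, 14, 6, 4, 2, 10, 12, 14, 6, 4, 2, 10, 12, 14, 6, 4, 2, 10, 12, 14, 6, 4, 2, 10, 12, 14, 6, 4, 2, 3, 3, 5, 7, 15, 13, 11, 3, 5, 7, 15, 13, 11, 3, 5, 7, 15, 13, 11, 3, 5, 7, 15, 13, 11, 3, 5, 7, 15]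
def rw1238 : List ℕ := [13, 1, 3, 5, 7, 9, 11, 13, 0, 12, 10, 8, 6, 4, 2, 0, 12, 10, 8, 6, 4, 2, 0, 12, 10, 8, 6, 4, 2, 0, 12, 10, 8, 6, 4, 2, 0, 12, 10, 8, 6, 4, 2, 0, 12, 10, 8, 6, 4, 2, 0, 12, 10, 8, 6, 4, 2, 0, 12, 10, 8, 6, 4, 2, 0, 12, 10, 8, 6, 4, 2, 0, 1, 1, 3, 5, 7, 9, 11, 13, 1, 3, 5, 7, 9, 11, 13, 1, 3, 5, 7, 9, 11, 13, 1, 3, 5, 7, 9, 11, 13, 1, 3, 5, 7, 9, 11, 13, 1, 3, 5, 7, 9, 11, 13, 1, 3, 5, 7, 9, 11, 13, 1, 3, 5, 7, 9, 11]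
def rw1239 : List ℕ := [13, 1, 3, 5, 7, 9, 11, 13, 1, 3, 5, 7, 9, 11, 13, 4, 12, 10, 8, 6, 4, 2, 0, 12, 10, 8, 6, 4, 2, 0, 12, 10, 8, 6, 4, 2, 0, 12, 10, 8, 6, 4, 2, 0, 12, 10, 8, 6, 4, 2, 0, 12, 10, 8, 6, 4, 2, 0, 12, 10, 8, 6, 4, 2, 0, 12, 10, 8, 6, 4, 2, 0, 12, 10, 8, 6, 4, 2, 0, 5, 1, 3, 5, 7, 9, 11, 13, 1, 3, 5, 7, 9, 11, 13, 1, 3, 5, 7, 9, 11, 13, 1, 3, 5, 7, 9, 11, 13, 1, 3, 5, 7, 9, 11, 13, 1, 3, 5, 7, 9, 11, 13, 1, 3, 5, 7, 9, 11]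
def rw1240 : List ℕ := [13, 1, 3, 5, 7, 9, 11, 13, 1, 3, 5, 7, 9, 11, 13, 1, 3, 5, 7, 9, 11, 13, 1, 3, 5, 7, 9, 11, 13, 1, 3, 5, 7, 9, 11, 13, 1, 3, 5, 7, 9, 11, 13, 10, 12, 10, 8, 6, 4, 2, 0, 12, 10, 8, 6, 4, 2, 0, 12, 10, 8, 6, 4, 2, 0, 12, 10, 8, 6, 4, 2, 0, 12, 10, 8, 6, 4, 2, 0, 12, 10, 8, 6, 4, 2, 0, 12, 10, 8, 6, 4, 2, 0, 12, 10, 8, 6, 4, 2, 0, 12, 10, 8, 6, 4, 2, 0, 11, 1, 3, 5, 7, 9, 11, 13, 1, 3, 5, 7, 9, 11, 13, 1, 3, 5, 7, 9, 11]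
def rw1241 : List ℕ := [14, 14]
def rw1242 : List ℕ := [14, 6, 14, 6, 14, 6]
def rw1243 : List ℕ := [14, 12, 14, 12, 14, 12]
def rw1244 : List ℕ := [14, 4, 14, 4]
def rw1245 : List ℕ := [14, 8, 14, 8]
def rw1246 : List ℕ := [14, 10, 14, 10]
def rw1247 : List ℕ := [14, 2, 14, 2]
def rw1248 : List ℕ := [14, 0, 14, 0]
def rw1249 : List ℕ := [14, 12, 14, 12, 14, 12]
def rw1250 : List ℕ := [14, 6, 14, 6, 14, 6]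
def rw1251 : List ℕ := [14, 2, 14, 2]
def rw1252 : List ℕ := [14, 10, 14, 10]
def rw1253 : List ℕ := [14, 4, 14, 4]
def rw1254 : List ℕ := [14, 8, 14, 8]
def rw1255 : List ℕ := [14, 0, 14, 0]
def rw1256 : List ℕ := [14, 12, 14, 12, 14, 12]
def rw1257 : List ℕ := [14, 8, 6, 4, 10, 12, 14, 8, 6, 4, 10, 12, 14, 8, 6, 4, 1, 5, 7, 9, 15, 13, 11, 5, 7, 9, 15, 13, 11, 5, 7, 9, 15, 13, 11, 5, 7, 9, 15, 13, 11, 5, 7, 9, 15, 13, 11, 0, 10, 12, 14, 8, 6, 4, 10, 12, 14, 8, 6, 4, 10, 12]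
def rw1258 : List ℕ := [14, 8, 6, 4, 10, 12, 14, 8, 6, 4, 10, 12, 14, 8, 6, 4, 10, 12, 14, 8, 6, 4, 1, 5, 7, 9, 15, 13, 11, 5, 7, 9, 15, 13, 11, 5, 7, 9, 15, 13, 11, 5, 7, 9, 15, 13, 11, 5, 7, 9, 15, 13, 11, 0, 10, 12, 14, 8, 6, 4, 10, 12]
def rw1259 : List ℕ := [14, 12, 10, 12, 14, 6, 4, 2, 4, 6, 14, 12, 10, 12, 14, 6, 4, 2, 13, 3, 5, 7, 15, 13, 11, 13, 15, 7, 5, 3, 5, 7, 15, 13, 11, 13, 15, 7, 5, 3, 5, 7, 15, 13, 11, 13, 15, 7, 5, 12, 4, 6, 14, 12, 10, 12, 14, 6, 4, 2, 4, 6]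
def rw1260 : List ℕ := [14, 8, 6, 4, 10, 12, 14, 8, 6, 4, 7, 5, 7, 9, 15, 13, 11, 5, 7, 9, 15, 13, 11, 5, 7, 9, 15, 13, 11, 5, 7, 9, 15, 13, 11, 5, 7, 9, 15, 13, 11, 6, 10, 12, 14, 8, 6, 4, 10, 12, 14, 8, 6, 4, 10, 12, 14, 8, 6, 4, 10, 12]
def rw1261 : List ℕ := [14, 6, 14, 6, 14, 6]
def rw1262 : List ℕ := [14, 12, 10, 12, 14, 6, 4, 2, 1, 3, 5, 7, 15, 13, 11, 13, 15, 7, 5, 3, 5, 7, 15, 13, 11, 13, 15, 7, 5, 3, 5, 7, 15, 13, 11, 13, 15, 7, 5, 0, 4, 6, 14, 12, 10, 12, 14, 6, 4, 2, 4, 6, 14, 12, 10, 12, 14, 6, 4, 2, 4, 6]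
def rw1263 : List ℕ := [14, 8, 6, 4, 10, 12, 14, 8, 6, 4, 10, 12, 14, 8, 6, 4, 3, 5, 7, 9, 15, 13, 11, 5, 7, 9, 15, 13, 11, 5, 7, 9, 15, 13, 11, 5, 7, 9, 15, 13, 11, 5, 7, 9, 15, 13, 11, 2, 10, 12, 14, 8, 6, 4, 10, 12, 14, 8, 6, 4, 10, 12]
def rw1264 : List ℕ := [14, 6, 4, 2, 4, 6, 14, 12, 10, 12, 14, 6, 4, 2, 4, 6, 14, 12, 10, 12, 14, 6, 4, 2, 3, 3, 5, 7, 15, 13, 11, 13, 15, 7, 5, 3, 5, 7, 15, 13, 11, 13, 15, 7, 5, 3, 5, 7, 15, 13, 11, 13, 15, 7, 5, 2, 4, 6, 14, 12, 10, 12]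
def rw1265 : List ℕ := [14, 12, 10, 12, 14, 6, 4, 2, 4, 6, 14, 12, 10, 12, 14, 6, 4, 2, 4, 6, 14, 12, 10, 12, 14, 6, 4, 2, 13, 3, 5, 7, 15, 13, 11, 13, 15, 7, 5, 3, 5, 7, 15, 13, 11, 13, 15, 7, 5, 3, 5, 7, 15, 13, 11, 13, 15, 7, 5, 12, 4, 6]
def rw1266 : List ℕ := [14, 6, 4, 2, 4, 6, 14, 12, 10, 12, 14, 6, 4, 2, 4, 6, 14, 12, 10, 12, 14, 6, 4, 2, 5, 3, 5, 7, 15, 13, 11, 13, 15, 7, 5, 3, 5, 7, 15, 13, 11, 13, 15, 7, 5, 3, 5, 7, 15, 13, 11, 13, 15, 7, 5, 4, 4, 6, 14, 12, 10, 12]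
def rw1267 : List ℕ := [14, 8, 6, 4, 10, 12, 14, 8, 6, 4, 10, 12, 14, 8, 6, 4, 10, 12, 14, 8, 6, 4, 10, 12, 14, 8, 6, 4, 1, 5, 7, 9, 15, 13, 11, 5, 7, 9, 15, 13, 11, 5, 7, 9, 15, 13, 11, 5, 7, 9, 15, 13, 11, 5, 7, 9, 15, 13, 11, 0, 10, 12]
def rw1268 : List ℕ := [14, 8, 6, 4, 10, 12, 14, 8, 6, 4, 10, 12, 14, 8, 6, 4, 5, 5, 7, 9, 15, 13, 11, 5, 7, 9, 15, 13, 11, 5, 7, 9, 15, 13, 11, 5, 7, 9, 15, 13, 11, 5, 7, 9, 15, 13, 11, 4, 10, 12, 14, 8, 6, 4, 10, 12, 14, 8, 6, 4, 10, 12]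
def rw1269 : List ℕ := [14, 8, 6, 4, 10, 12, 14, 8, 6, 4, 10, 12, 14, 8, 6, 4, 10, 12, 14, 8, 6, 4, 10, 12, 14, 8, 6, 4, 11, 5, 7, 9, 15, 13, 11, 5, 7, 9, 15, 13, 11, 5, 7, 9, 15, 13, 11, 5, 7, 9, 15, 13, 11, 5, 7, 9, 15, 13, 11, 10, 10, 12]
def rw1270 : List ℕ := [14, 6, 4, 2, 10, 12, 14, 6, 4, 2, 15, 3, 5, 7, 15, 13, 11, 3, 5, 7, 15, 13, 11, 3, 5, 7, 15, 13, 11, 3, 5, 7, 15, 13, 11, 3, 5, 7, 15, 13, 11, 14, 10, 12, 14, 6, 4, 2, 10, 12, 14, 6, 4, 2, 10, 12, 14, 6, 4, 2, 10, 12]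
def rw1271 : List ℕ := [14, 6, 4, 2, 11, 3, 5, 7, 15, 13, 11, 13, 15, 7, 5, 3, 5, 7, 15, 13, 11, 13, 15, 7, 5, 3, 5, 7, 15, 13, 11, 13, 15, 7, 5, 10, 4, 6, 14, 12, 10, 12, 14, 6, 4, 2, 4, 6, 14, 12, 10, 12, 14, 6, 4, 2, 4, 6, 14, 12, 10, 12]
def rw1272 : List ℕ := [14, 5, 7, 9, 15, 13, 11, 5, 7, 9, 15, 13, 11, 5, 7, 9, 15, 13, 11, 5, 7, 9, 15, 13, 11, 5, 7, 9, 15, 13, 11, 15, 10, 12, 14, 8, 6, 4, 10, 12, 14, 8, 6, 4, 10, 12, 14, 8, 6, 4, 10, 12, 14, 8, 6, 4, 10, 12, 14, 8, 6, 4]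
def rw1273 : List ℕ := [14, 6, 4, 2, 5, 3, 5, 7, 15, 13, 11, 13, 15, 7, 5, 3, 5, 7, 15, 13, 11, 13, 15, 7, 5, 3, 5, 7, 15, 13, 11, 13, 15, 7, 5, 4, 4, 6, 14, 12, 10, 12, 14, 6, 4, 2, 4, 6, 14, 12, 10, 12, 14, 6, 4, 2, 4, 6, 14, 12, 10, 12]
def rw1274 : List ℕ := [14, 12, 10, 12, 14, 6, 4, 2, 5, 3, 5, 7, 15, 13, 11, 13, 15, 7, 5, 3, 5, 7, 15, 13, 11, 13, 15, 7, 5, 3, 5, 7, 15, 13, 11, 13, 15, 7, 5, 4, 4, 6, 14, 12, 10, 12, 14, 6, 4, 2, 4, 6, 14, 12, 10, 12, 14, 6, 4, 2, 4, 6]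
def rw1275 : List ℕ := [14, 6, 4, 2, 4, 6, 14, 12, 10, 12, 14, 6, 4, 2, 9, 3, 5, 7, 15, 13, 11, 13, 15, 7, 5, 3, 5, 7, 15, 13, 11, 13, 15, 7, 5, 3, 5, 7, 15, 13, 11, 13, 15, 7, 5, 8, 4, 6, 14, 12, 10, 12, 14, 6, 4, 2, 4, 6, 14, 12, 10, 12]
def rw1276 : List ℕ := [14, 4, 0, 2, 10, 12, 14, 4, 0, 2, 10, 12, 14, 4, 0, 2, 10, 12, 14, 4, 0, 2, 10, 12, 14, 1, 15, 13, 11, 3, 1, 5, 15, 13, 11, 3, 1, 5, 15, 13, 11, 3, 1, 5, 15, 13, 11, 3, 1, 5, 15, 13, 11, 3, 1, 5, 0, 4, 0, 2, 10, 12]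
def rw1277 : List ℕ := [14, 6, 4, 2, 4, 6, 14, 12, 10, 12, 14, 6, 4, 2, 13, 3, 5, 7, 15, 13, 11, 13, 15, 7, 5, 3, 5, 7, 15, 13, 11, 13, 15, 7, 5, 3, 5, 7, 15, 13, 11, 13, 15, 7, 5, 12, 4, 6, 14, 12, 10, 12, 14, 6, 4, 2, 4, 6, 14, 12, 10, 12]
def rw1278 : List ℕ := [14, 6, 4, 2, 4, 6, 14, 12, 10, 12, 14, 6, 4, 2, 4, 6, 14, 12, 10, 12, 14, 6, 4, 2, 9, 3, 5, 7, 15, 13, 11, 13, 15, 7, 5, 3, 5, 7, 15, 13, 11, 13, 15, 7, 5, 3, 5, 7, 15, 13, 11, 13, 15, 7, 5, 8, 4, 6, 14, 12, 10, 12]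
def rw1279 : List ℕ := [14, 12, 10, 12, 14, 6, 4, 2, 4, 6, 14, 12, 10, 12, 14, 6, 4, 2, 4, 6, 14, 12, 10, 12, 14, 6, 4, 2, 3, 3, 5, 7, 15, 13, 11, 13, 15, 7, 5, 3, 5, 7, 15, 13, 11, 13, 15, 7, 5, 3, 5, 7, 15, 13, 11, 13, 15, 7, 5, 2, 4, 6]
def rw1280 : List ℕ := [14, 12, 10, 12, 14, 6, 4, 2, 4, 6, 14, 12, 10, 12, 14, 6, 4, 2, 4, 6, 14, 12, 10, 12, 14, 6, 4, 2, 7, 3, 5, 7, 15, 13, 11, 13, 15, 7, 5, 3, 5, 7, 15, 13, 11, 13, 15, 7, 5, 3, 5, 7, 15, 13, 11, 13, 15, 7, 5, 6, 4, 6]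
def rw1281 : List ℕ := [14, 6, 4, 2, 10, 12, 14, 6, 4, 2, 5, 3, 5, 7, 15, 13, 11, 3, 5, 7, 15, 13, 11, 3, 5, 7, 15, 13, 11, 3, 5, 7, 15, 13, 11, 3, 5, 7, 15, 13, 11, 4, 10, 12, 14, 6, 4, 2, 10, 12, 14, 6, 4, 2, 10, 12, 14, 6, 4, 2, 10, 12]
def rw1282 : List ℕ := [14, 6, 4, 2, 4, 6, 14, 12, 10, 12, 14, 6, 4, 2, 11, 3, 5, 7, 15, 13, 11, 13, 15, 7, 5, 3, 5, 7, 15, 13, 11, 13, 15, 7, 5, 3, 5, 7, 15, 13, 11, 13, 15, 7, 5, 10, 4, 6, 14, 12, 10, 12, 14, 6, 4, 2, 4, 6, 14, 12, 10, 12]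
def rw1283 : List ℕ := [14, 8, 6, 4, 10, 12, 14, 8, 6, 4, 10, 12, 14, 8, 6, 4, 10, 12, 14, 8, 6, 4, 10, 12, 14, 8, 6, 4, 5, 5, 7, 9, 15, 13, 11, 5, 7, 9, 15, 13, 11, 5, 7, 9, 15, 13, 11, 5, 7, 9, 15, 13, 11, 5, 7, 9, 15, 13, 11, 4, 10, 12]
def rw1284 : List ℕ := [14, 8, 6, 4, 10, 12, 14, 8, 6, 4, 10, 12, 14, 8, 6, 4, 10, 12, 14, 8, 6, 4, 5, 5, 7, 9, 15, 13, 11, 5, 7, 9, 15, 13, 11, 5, 7, 9, 15, 13, 11, 5, 7, 9, 15, 13, 11, 5, 7, 9, 15, 13, 11, 4, 10, 12, 14, 8, 6, 4, 10, 12]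
def rw1285 : List ℕ := [14, 6, 4, 2, 10, 12, 14, 6, 4, 2, 7, 3, 5, 7, 15, 13, 11, 3, 5, 7, 15, 13, 11, 3, 5, 7, 15, 13, 11, 3, 5, 7, 15, 13, 11, 3, 5, 7, 15, 13, 11, 6, 10, 12, 14, 6, 4, 2, 10, 12, 14, 6, 4, 2, 10, 12, 14, 6, 4, 2, 10, 12]
def rw1286 : List ℕ := [14, 6, 4, 2, 10, 12, 14, 6, 4, 2, 10, 12, 14, 6, 4, 2, 15, 3, 5, 7, 15, 13, 11, 3, 5, 7, 15, 13, 11, 3, 5, 7, 15, 13, 11, 3, 5, 7, 15, 13, 11, 3, 5, 7, 15, 13, 11, 14, 10, 12, 14, 6, 4, 2, 10, 12, 14, 6, 4, 2, 10, 12]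
def rw1287 : List ℕ := [14, 12, 10, 12, 14, 6, 4, 2, 4, 6, 14, 12, 10, 12, 14, 6, 4, 2, 9, 3, 5, 7, 15, 13, 11, 13, 15, 7, 5, 3, 5, 7, 15, 13, 11, 13, 15, 7, 5, 3, 5, 7, 15, 13, 11, 13, 15, 7, 5, 8, 4, 6, 14, 12, 10, 12, 14, 6, 4, 2, 4, 6]
def rw1288 : List ℕ := [14, 12, 10, 12, 14, 6, 4, 2, 4, 6, 14, 12, 10, 12, 14, 6, 4, 2, 4, 6, 14, 12, 10, 12, 14, 6, 4, 2, 5, 3, 5, 7, 15, 13, 11, 13, 15, 7, 5, 3, 5, 7, 15, 13, 11, 13, 15, 7, 5, 3, 5, 7, 15, 13, 11, 13, 15, 7, 5, 4, 4, 6]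
def rw1289 : List ℕ := [14, 6, 4, 2, 4, 6, 14, 12, 10, 12, 14, 6, 4, 2, 4, 6, 14, 12, 10, 12, 14, 6, 4, 2, 11, 3, 5, 7, 15, 13, 11, 13, 15, 7, 5, 3, 5, 7, 15, 13, 11, 13, 15, 7, 5, 3, 5, 7, 15, 13, 11, 13, 15, 7, 5, 10, 4, 6, 14, 12, 10, 12]
def rw1290 : List ℕ := [14, 12, 10, 12, 14, 6, 4, 2, 4, 6, 14, 12, 10, 12, 14, 6, 4, 2, 5, 3, 5, 7, 15, 13, 11, 13, 15, 7, 5, 3, 5, 7, 15, 13, 11, 13, 15, 7, 5, 3, 5, 7, 15, 13, 11, 13, 15, 7, 5, 4, 4, 6, 14, 12, 10, 12, 14, 6, 4, 2, 4, 6]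
def rw1291 : List ℕ := [14, 6, 4, 2, 4, 6, 14, 12, 10, 12, 14, 6, 4, 2, 5, 3, 5, 7, 15, 13, 11, 13, 15, 7, 5, 3, 5, 7, 15, 13, 11, 13, 15, 7, 5, 3, 5, 7, 15, 13, 11, 13, 15, 7, 5, 4, 4, 6, 14, 12, 10, 12, 14, 6, 4, 2, 4, 6, 14, 12, 10, 12]
def rw1292 : List ℕ := [14, 6, 4, 2, 4, 6, 14, 12, 10, 12, 14, 6, 4, 2, 7, 3, 5, 7, 15, 13, 11, 13, 15, 7, 5, 3, 5, 7, 15, 13, 11, 13, 15, 7, 5, 3, 5, 7, 15, 13, 11, 13, 15, 7, 5, 6, 4, 6, 14, 12, 10, 12, 14, 6, 4, 2, 4, 6, 14, 12, 10, 12]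
def rw1293 : List ℕ := [14, 6, 4, 2, 4, 6, 14, 12, 10, 12, 14, 6, 4, 2, 4, 6, 14, 12, 10, 12, 14, 6, 4, 2, 15, 3, 5, 7, 15, 13, 11, 13, 15, 7, 5, 3, 5, 7, 15, 13, 11, 13, 15, 7, 5, 3, 5, 7, 15, 13, 11, 13, 15, 7, 5, 14, 4, 6, 14, 12, 10, 12]
def rw1294 : List ℕ := [14, 4, 0, 2, 10, 12, 14, 4, 0, 2, 10, 12, 14, 3, 15, 13, 11, 3, 1, 5, 15, 13, 11, 3, 1, 5, 15, 13, 11, 3, 1, 5, 15, 13, 11, 3, 1, 5, 15, 13, 11, 3, 1, 5, 2, 4, 0, 2, 10, 12, 14, 4, 0, 2, 10, 12, 14, 4, 0, 2, 10, 12]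
def rw1295 : List ℕ := [14, 4, 0, 2, 10, 12, 14, 4, 0, 2, 10, 12, 14, 4, 0, 2, 10, 12, 14, 3, 15, 13, 11, 3, 1, 5, 15, 13, 11, 3, 1, 5, 15, 13, 11, 3, 1, 5, 15, 13, 11, 3, 1, 5, 15, 13, 11, 3, 1, 5, 2, 4, 0, 2, 10, 12, 14, 4, 0, 2, 10, 12]
def rw1296 : List ℕ := [14, 4, 0, 2, 10, 12, 14, 4, 0, 2, 10, 12, 14, 4, 0, 2, 10, 12, 14, 4, 0, 2, 10, 12, 14, 15, 15, 13, 11, 3, 1, 5, 15, 13, 11, 3, 1, 5, 15, 13, 11, 3, 1, 5, 15, 13, 11, 3, 1, 5, 15, 13, 11, 3, 1, 5, 14, 4, 0, 2, 10, 12]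
def rw1297 : List ℕ := [14, 4, 0, 2, 10, 12, 14, 3, 15, 13, 11, 3, 1, 5, 15, 13, 11, 3, 1, 5, 15, 13, 11, 3, 1, 5, 15, 13, 11, 3, 1, 5, 15, 13, 11, 3, 1, 5, 2, 4, 0, 2, 10, 12, 14, 4, 0, 2, 10, 12, 14, 4, 0, 2, 10, 12, 14, 4, 0, 2, 10, 12]
def rw1298 : List ℕ := [14, 8, 6, 4, 10, 12, 14, 8, 6, 4, 1, 5, 7, 9, 15, 13, 11, 5, 7, 9, 15, 13, 11, 5, 7, 9, 15, 13, 11, 5, 7, 9, 15, 13, 11, 5, 7, 9, 15, 13, 11, 0, 10, 12, 14, 8, 6, 4, 10, 12, 14, 8, 6, 4, 10, 12, 14, 8, 6, 4, 10, 12]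
def rw1299 : List ℕ := [14, 6, 4, 2, 15, 3, 5, 7, 15, 13, 11, 13, 15, 7, 5, 3, 5, 7, 15, 13, 11, 13, 15, 7, 5, 3, 5, 7, 15, 13, 11, 13, 15, 7, 5, 14, 4, 6, 14, 12, 10, 12, 14, 6, 4, 2, 4, 6, 14, 12, 10, 12, 14, 6, 4, 2, 4, 6, 14, 12, 10, 12]
def rw1300 : List ℕ := [14, 6, 4, 2, 1, 3, 5, 7, 15, 13, 11, 13, 15, 7, 5, 3, 5, 7, 15, 13, 11, 13, 15, 7, 5, 3, 5, 7, 15, 13, 11, 13, 15, 7, 5, 0, 4, 6, 14, 12, 10, 12, 14, 6, 4, 2, 4, 6, 14, 12, 10, 12, 14, 6, 4, 2, 4, 6, 14, 12, 10, 12]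
def rw1301 : List ℕ := [14, 6, 4, 2, 10, 12, 14, 6, 4, 2, 10, 12, 14, 6, 4, 2, 13, 3, 5, 7, 15, 13, 11, 3, 5, 7, 15, 13, 11, 3, 5, 7, 15, 13, 11, 3, 5, 7, 15, 13, 11, 3, 5, 7, 15, 13, 11, 12, 10, 12, 14, 6, 4, 2, 10, 12, 14, 6, 4, 2, 10, 12]
def rw1302 : List ℕ := [14, 8, 6, 4, 10, 12, 14, 8, 6, 4, 10, 12, 14, 8, 6, 4, 7, 5, 7, 9, 15, 13, 11, 5, 7, 9, 15, 13, 11, 5, 7, 9, 15, 13, 11, 5, 7, 9, 15, 13, 11, 5, 7, 9, 15, 13, 11, 6, 10, 12, 14, 8, 6, 4, 10, 12, 14, 8, 6, 4, 10, 12]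
def rw1303 : List ℕ := [14, 12, 10, 12, 14, 6, 4, 2, 7, 3, 5, 7, 15, 13, 11, 13, 15, 7, 5, 3, 5, 7, 15, 13, 11, 13, 15, 7, 5, 3, 5, 7, 15, 13, 11, 13, 15, 7, 5, 6, 4, 6, 14, 12, 10, 12, 14, 6, 4, 2, 4, 6, 14, 12, 10, 12, 14, 6, 4, 2, 4, 6]
def rw1304 : List ℕ := [14, 6, 4, 2, 10, 12, 14, 6, 4, 2, 10, 12, 14, 6, 4, 2, 10, 12, 14, 6, 4, 2, 10, 12, 14, 6, 4, 2, 3, 3, 5, 7, 15, 13, 11, 3, 5, 7, 15, 13, 11, 3, 5, 7, 15, 13, 11, 3, 5, 7, 15, 13, 11, 3, 5, 7, 15, 13, 11, 2, 10, 12]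
def rw1305 : List ℕ := [14, 12, 10, 12, 14, 6, 4, 2, 13, 3, 5, 7, 15, 13, 11, 13, 15, 7, 5, 3, 5, 7, 15, 13, 11, 13, 15, 7, 5, 3, 5, 7, 15, 13, 11, 13, 15, 7, 5, 12, 4, 6, 14, 12, 10, 12, 14, 6, 4, 2, 4, 6, 14, 12, 10, 12, 14, 6, 4, 2, 4, 6]
def rw1306 : List ℕ := [14, 4, 0, 2, 10, 12, 14, 4, 0, 2, 10, 12, 14, 7, 15, 13, 11, 3, 1, 5, 15, 13, 11, 3, 1, 5, 15, 13, 11, 3, 1, 5, 15, 13, 11, 3, 1, 5, 15, 13, 11, 3, 1, 5, 6, 4, 0, 2, 10, 12, 14, 4, 0, 2, 10, 12, 14, 4, 0, 2, 10, 12]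
def rw1307 : List ℕ := [14, 12, 10, 12, 14, 6, 4, 2, 4, 6, 14, 12, 10, 12, 14, 6, 4, 2, 1, 3, 5, 7, 15, 13, 11, 13, 15, 7, 5, 3, 5, 7, 15, 13, 11, 13, 15, 7, 5, 3, 5, 7, 15, 13, 11, 13, 15, 7, 5, 0, 4, 6, 14, 12, 10, 12, 14, 6, 4, 2, 4, 6]
def rw1308 : List ℕ := [14, 6, 4, 2, 10, 12, 14, 6, 4, 2, 10, 12, 14, 6, 4, 2, 10, 12, 14, 6, 4, 2, 5, 3, 5, 7, 15, 13, 11, 3, 5, 7, 15, 13, 11, 3, 5, 7, 15, 13, 11, 3, 5, 7, 15, 13, 11, 3, 5, 7, 15, 13, 11, 4, 10, 12, 14, 6, 4, 2, 10, 12]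
def rw1309 : List ℕ := [14, 12, 10, 12, 14, 6, 4, 2, 4, 6, 14, 12, 10, 12, 14, 6, 4, 2, 4, 6, 14, 12, 10, 12, 14, 6, 4, 2, 9, 3, 5, 7, 15, 13, 11, 13, 15, 7, 5, 3, 5, 7, 15, 13, 11, 13, 15, 7, 5, 3, 5, 7, 15, 13, 11, 13, 15, 7, 5, 8, 4, 6]
def rw1310 : List ℕ := [14, 12, 10, 12, 14, 6, 4, 2, 9, 3, 5, 7, 15, 13, 11, 13, 15, 7, 5, 3, 5, 7, 15, 13, 11, 13, 15, 7, 5, 3, 5, 7, 15, 13, 11, 13, 15, 7, 5, 8, 4, 6, 14, 12, 10, 12, 14, 6, 4, 2, 4, 6, 14, 12, 10, 12, 14, 6, 4, 2, 4, 6]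
def rw1311 : List ℕ := [14, 4, 0, 2, 10, 12, 14, 4, 0, 2, 10, 12, 14, 4, 0, 2, 10, 12, 14, 7, 15, 13, 11, 3, 1, 5, 15, 13, 11, 3, 1, 5, 15, 13, 11, 3, 1, 5, 15, 13, 11, 3, 1, 5, 15, 13, 11, 3, 1, 5, 6, 4, 0, 2, 10, 12, 14, 4, 0, 2, 10, 12]
def rw1312 : List ℕ := [14, 8, 6, 4, 10, 12, 14, 8, 6, 4, 10, 12, 14, 8, 6, 4, 10, 12, 14, 8, 6, 4, 9, 5, 7, 9, 15, 13, 11, 5, 7, 9, 15, 13, 11, 5, 7, 9, 15, 13, 11, 5, 7, 9, 15, 13, 11, 5, 7, 9, 15, 13, 11, 8, 10, 12, 14, 8, 6, 4, 10, 12]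
def rw1313 : List ℕ := [14, 4, 0, 2, 10, 12, 14, 1, 15, 13, 11, 3, 1, 5, 15, 13, 11, 3, 1, 5, 15, 13, 11, 3, 1, 5, 15, 13, 11, 3, 1, 5, 15, 13, 11, 3, 1, 5, 0, 4, 0, 2, 10, 12, 14, 4, 0, 2, 10, 12, 14, 4, 0, 2, 10, 12, 14, 4, 0, 2, 10, 12]
def rw1314 : List ℕ := [14, 6, 4, 2, 4, 6, 14, 12, 10, 12, 14, 6, 4, 2, 15, 3, 5, 7, 15, 13, 11, 13, 15, 7, 5, 3, 5, 7, 15, 13, 11, 13, 15, 7, 5, 3, 5, 7, 15, 13, 11, 13, 15, 7, 5, 14, 4, 6, 14, 12, 10, 12, 14, 6, 4, 2, 4, 6, 14, 12, 10, 12]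
def rw1315 : List ℕ := [14, 6, 4, 2, 10, 12, 14, 6, 4, 2, 1, 3, 5, 7, 15, 13, 11, 3, 5, 7, 15, 13, 11, 3, 5, 7, 15, 13, 11, 3, 5, 7, 15, 13, 11, 3, 5, 7, 15, 13, 11, 0, 10, 12, 14, 6, 4, 2, 10, 12, 14, 6, 4, 2, 10, 12, 14, 6, 4, 2, 10, 12]
def rw1316 : List ℕ := [14, 6, 4, 2, 4, 6, 14, 12, 10, 12, 14, 6, 4, 2, 4, 6, 14, 12, 10, 12, 14, 6, 4, 2, 1, 3, 5, 7, 15, 13, 11, 13, 15, 7, 5, 3, 5, 7, 15, 13, 11, 13, 15, 7, 5, 3, 5, 7, 15, 13, 11, 13, 15, 7, 5, 0, 4, 6, 14, 12, 10, 12]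
def rw1317 : List ℕ := [14, 4, 0, 2, 10, 12, 14, 4, 0, 2, 10, 12, 14, 13, 15, 13, 11, 3, 1, 5, 15, 13, 11, 3, 1, 5, 15, 13, 11, 3, 1, 5, 15, 13, 11, 3, 1, 5, 15, 13, 11, 3, 1, 5, 12, 4, 0, 2, 10, 12, 14, 4, 0, 2, 10, 12, 14, 4, 0, 2, 10, 12]
def rw1318 : List ℕ := [14, 6, 4, 2, 4, 6, 14, 12, 10, 12, 14, 6, 4, 2, 1, 3, 5, 7, 15, 13, 11, 13, 15, 7, 5, 3, 5, 7, 15, 13, 11, 13, 15, 7, 5, 3, 5, 7, 15, 13, 11, 13, 15, 7, 5, 0, 4, 6, 14, 12, 10, 12, 14, 6, 4, 2, 4, 6, 14, 12, 10, 12]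
def rw1319 : List ℕ := [14, 6, 4, 2, 10, 12, 14, 6, 4, 2, 3, 3, 5, 7, 15, 13, 11, 3, 5, 7, 15, 13, 11, 3, 5, 7, 15, 13, 11, 3, 5, 7, 15, 13, 11, 3, 5, 7, 15, 13, 11, 2, 10, 12, 14, 6, 4, 2, 10, 12, 14, 6, 4, 2, 10, 12, 14, 6, 4, 2, 10, 12]
def rw1320 : List ℕ := [14, 12, 10, 12, 14, 6, 4, 2, 4, 6, 14, 12, 10, 12, 14, 6, 4, 2, 7, 3, 5, 7, 15, 13, 11, 13, 15, 7, 5, 3, 5, 7, 15, 13, 11, 13, 15, 7, 5, 3, 5, 7, 15, 13, 11, 13, 15, 7, 5, 6, 4, 6, 14, 12, 10, 12, 14, 6, 4, 2, 4, 6]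
def rw1321 : List ℕ := [14, 4, 0, 2, 10, 12, 14, 4, 0, 2, 10, 12, 14, 4, 0, 2, 10, 12, 14, 1, 15, 13, 11, 3, 1, 5, 15, 13, 11, 3, 1, 5, 15, 13, 11, 3, 1, 5, 15, 13, 11, 3, 1, 5, 15, 13, 11, 3, 1, 5, 0, 4, 0, 2, 10, 12, 14, 4, 0, 2, 10, 12]
def rw1322 : List ℕ := [14, 6, 4, 2, 10, 12, 14, 6, 4, 2, 10, 12, 14, 6, 4, 2, 10, 12, 14, 6, 4, 2, 10, 12, 14, 6, 4, 2, 7, 3, 5, 7, 15, 13, 11, 3, 5, 7, 15, 13, 11, 3, 5, 7, 15, 13, 11, 3, 5, 7, 15, 13, 11, 3, 5, 7, 15, 13, 11, 6, 10, 12]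
def rw1323 : List ℕ := [14, 6, 4, 2, 4, 6, 14, 12, 10, 12, 14, 6, 4, 2, 4, 6, 14, 12, 10, 12, 14, 6, 4, 2, 7, 3, 5, 7, 15, 13, 11, 13, 15, 7, 5, 3, 5, 7, 15, 13, 11, 13, 15, 7, 5, 3, 5, 7, 15, 13, 11, 13, 15, 7, 5, 6, 4, 6, 14, 12, 10, 12]
def rw1324 : List ℕ := [14, 8, 6, 4, 10, 12, 14, 8, 6, 4, 3, 5, 7, 9, 15, 13, 11, 5, 7, 9, 15, 13, 11, 5, 7, 9, 15, 13, 11, 5, 7, 9, 15, 13, 11, 5, 7, 9, 15, 13, 11, 2, 10, 12, 14, 8, 6, 4, 10, 12, 14, 8, 6, 4, 10, 12, 14, 8, 6, 4, 10, 12]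
def rw1325 : List ℕ := [14, 4, 0, 2, 10, 12, 14, 4, 0, 2, 10, 12, 14, 4, 0, 2, 10, 12, 14, 4, 0, 2, 10, 12, 14, 5, 15, 13, 11, 3, 1, 5, 15, 13, 11, 3, 1, 5, 15, 13, 11, 3, 1, 5, 15, 13, 11, 3, 1, 5, 15, 13, 11, 3, 1, 5, 4, 4, 0, 2, 10, 12]
def rw1326 : List ℕ := [14, 4, 0, 2, 10, 12, 14, 4, 0, 2, 10, 12, 14, 4, 0, 2, 10, 12, 14, 4, 0, 2, 10, 12, 14, 3, 15, 13, 11, 3, 1, 5, 15, 13, 11, 3, 1, 5, 15, 13, 11, 3, 1, 5, 15, 13, 11, 3, 1, 5, 15, 13, 11, 3, 1, 5, 2, 4, 0, 2, 10, 12]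
def rw1327 : List ℕ := [14, 6, 4, 2, 3, 3, 5, 7, 15, 13, 11, 3, 5, 7, 15, 13, 11, 3, 5, 7, 15, 13, 11, 3, 5, 7, 15, 13, 11, 3, 5, 7, 15, 13, 11, 2, 10, 12, 14, 6, 4, 2, 10, 12, 14, 6, 4, 2, 10, 12, 14, 6, 4, 2, 10, 12, 14, 6, 4, 2, 10, 12]
def rw1328 : List ℕ := [14, 12, 10, 12, 14, 6, 4, 2, 4, 6, 14, 12, 10, 12, 14, 6, 4, 2, 4, 6, 14, 12, 10, 12, 14, 6, 4, 2, 1, 3, 5, 7, 15, 13, 11, 13, 15, 7, 5, 3, 5, 7, 15, 13, 11, 13, 15, 7, 5, 3, 5, 7, 15, 13, 11, 13, 15, 7, 5, 0, 4, 6]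
def rw1329 : List ℕ := [14, 8, 6, 4, 10, 12, 14, 8, 6, 4, 10, 12, 14, 8, 6, 4, 10, 12, 14, 8, 6, 4, 10, 12, 14, 8, 6, 4, 9, 5, 7, 9, 15, 13, 11, 5, 7, 9, 15, 13, 11, 5, 7, 9, 15, 13, 11, 5, 7, 9, 15, 13, 11, 5, 7, 9, 15, 13, 11, 8, 10, 12]
def rw1330 : List ℕ := [14, 4, 0, 2, 10, 12, 14, 4, 0, 2, 10, 12, 14, 1, 15, 13, 11, 3, 1, 5, 15, 13, 11, 3, 1, 5, 15, 13, 11, 3, 1, 5, 15, 13, 11, 3, 1, 5, 15, 13, 11, 3, 1, 5, 0, 4, 0, 2, 10, 12, 14, 4, 0, 2, 10, 12, 14, 4, 0, 2, 10, 12]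
def rw1331 : List ℕ := [14, 6, 4, 2, 10, 12, 14, 6, 4, 2, 10, 12, 14, 6, 4, 2, 5, 3, 5, 7, 15, 13, 11, 3, 5, 7, 15, 13, 11, 3, 5, 7, 15, 13, 11, 3, 5, 7, 15, 13, 11, 3, 5, 7, 15, 13, 11, 4, 10, 12, 14, 6, 4, 2, 10, 12, 14, 6, 4, 2, 10, 12]
def rw1332 : List ℕ := [14, 6, 4, 2, 7, 3, 5, 7, 15, 13, 11, 3, 5, 7, 15, 13, 11, 3, 5, 7, 15, 13, 11, 3, 5, 7, 15, 13, 11, 3, 5, 7, 15, 13, 11, 6, 10, 12, 14, 6, 4, 2, 10, 12, 14, 6, 4, 2, 10, 12, 14, 6, 4, 2, 10, 12, 14, 6, 4, 2, 10, 12]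
def rw1333 : List ℕ := [14, 4, 0, 2, 10, 12, 14, 4, 0, 2, 10, 12, 14, 4, 0, 2, 10, 12, 14, 9, 15, 13, 11, 3, 1, 5, 15, 13, 11, 3, 1, 5, 15, 13, 11, 3, 1, 5, 15, 13, 11, 3, 1, 5, 15, 13, 11, 3, 1, 5, 8, 4, 0, 2, 10, 12, 14, 4, 0, 2, 10, 12]
def rw1334 : List ℕ := [14, 6, 4, 2, 15, 3, 5, 7, 15, 13, 11, 3, 5, 7, 15, 13, 11, 3, 5, 7, 15, 13, 11, 3, 5, 7, 15, 13, 11, 3, 5, 7, 15, 13, 11, 14, 10, 12, 14, 6, 4, 2, 10, 12, 14, 6, 4, 2, 10, 12, 14, 6, 4, 2, 10, 12, 14, 6, 4, 2, 10, 12]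
def rw1335 : List ℕ := [14, 4, 0, 2, 10, 12, 14, 4, 0, 2, 10, 12, 14, 4, 0, 2, 10, 12, 14, 4, 0, 2, 10, 12, 14, 7, 15, 13, 11, 3, 1, 5, 15, 13, 11, 3, 1, 5, 15, 13, 11, 3, 1, 5, 15, 13, 11, 3, 1, 5, 15, 13, 11, 3, 1, 5, 6, 4, 0, 2, 10, 12]
def rw1336 : List ℕ := [14, 2, 15, 13, 11, 3, 1, 5, 15, 13, 11, 3, 1, 5, 15, 13, 11, 3, 1, 5, 15, 13, 11, 3, 1, 5, 15, 13, 11, 3, 1, 5, 3, 4, 0, 2, 10, 12, 14, 4, 0, 2, 10, 12, 14, 4, 0, 2, 10, 12, 14, 4, 0, 2, 10, 12, 14, 4, 0, 2, 10, 12]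
def rw1337 : List ℕ := [14, 6, 4, 2, 5, 3, 5, 7, 15, 13, 11, 3, 5, 7, 15, 13, 11, 3, 5, 7, 15, 13, 11, 3, 5, 7, 15, 13, 11, 3, 5, 7, 15, 13, 11, 4, 10, 12, 14, 6, 4, 2, 10, 12, 14, 6, 4, 2, 10, 12, 14, 6, 4, 2, 10, 12, 14, 6, 4, 2, 10, 12]
def rw1338 : List ℕ := [14, 6, 4, 2, 1, 3, 5, 7, 15, 13, 11, 3, 5, 7, 15, 13, 11, 3, 5, 7, 15, 13, 11, 3, 5, 7, 15, 13, 11, 3, 5, 7, 15, 13, 11, 0, 10, 12, 14, 6, 4, 2, 10, 12, 14, 6, 4, 2, 10, 12, 14, 6, 4, 2, 10, 12, 14, 6, 4, 2, 10, 12]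
def rw1339 : List ℕ := [14, 6, 4, 2, 10, 12, 14, 6, 4, 2, 10, 12, 14, 6, 4, 2, 10, 12, 14, 6, 4, 2, 10, 12, 14, 6, 4, 2, 11, 3, 5, 7, 15, 13, 11, 3, 5, 7, 15, 13, 11, 3, 5, 7, 15, 13, 11, 3, 5, 7, 15, 13, 11, 3, 5, 7, 15, 13, 11, 10, 10, 12]
def rw1340 : List ℕ := [14, 8, 6, 4, 11, 5, 7, 9, 15, 13, 11, 5, 7, 9, 15, 13, 11, 5, 7, 9, 15, 13, 11, 5, 7, 9, 15, 13, 11, 5, 7, 9, 15, 13, 11, 10, 10, 12, 14, 8, 6, 4, 10, 12, 14, 8, 6, 4, 10, 12, 14, 8, 6, 4, 10, 12, 14, 8, 6, 4, 10, 12]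
def rw1341 : List ℕ := [14, 8, 6, 4, 3, 5, 7, 9, 15, 13, 11, 5, 7, 9, 15, 13, 11, 5, 7, 9, 15, 13, 11, 5, 7, 9, 15, 13, 11, 5, 7, 9, 15, 13, 11, 2, 10, 12, 14, 8, 6, 4, 10, 12, 14, 8, 6, 4, 10, 12, 14, 8, 6, 4, 10, 12, 14, 8, 6, 4, 10, 12]
def rw1342 : List ℕ := [14, 6, 4, 2, 10, 12, 14, 6, 4, 2, 10, 12, 14, 6, 4, 2, 10, 12, 14, 6, 4, 2, 1, 3, 5, 7, 15, 13, 11, 3, 5, 7, 15, 13, 11, 3, 5, 7, 15, 13, 11, 3, 5, 7, 15, 13, 11, 3, 5, 7, 15, 13, 11, 0, 10, 12, 14, 6, 4, 2, 10, 12]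
def rw1343 : List ℕ := [14, 6, 4, 2, 10, 12, 14, 6, 4, 2, 10, 12, 14, 6, 4, 2, 1, 3, 5, 7, 15, 13, 11, 3, 5, 7, 15, 13, 11, 3, 5, 7, 15, 13, 11, 3, 5, 7, 15, 13, 11, 3, 5, 7, 15, 13, 11, 0, 10, 12, 14, 6, 4, 2, 10, 12, 14, 6, 4, 2, 10, 12]
def rw1344 : List ℕ := [14, 4, 0, 2, 10, 12, 14, 5, 15, 13, 11, 3, 1, 5, 15, 13, 11, 3, 1, 5, 15, 13, 11, 3, 1, 5, 15, 13, 11, 3, 1, 5, 15, 13, 11, 3, 1, 5, 4, 4, 0, 2, 10, 12, 14, 4, 0, 2, 10, 12, 14, 4, 0, 2, 10, 12, 14, 4, 0, 2, 10, 12]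
def rw1345 : List ℕ := [14, 13, 15, 13, 11, 3, 1, 5, 15, 13, 11, 3, 1, 5, 15, 13, 11, 3, 1, 5, 15, 13, 11, 3, 1, 5, 15, 13, 11, 3, 1, 5, 12, 4, 0, 2, 10, 12, 14, 4, 0, 2, 10, 12, 14, 4, 0, 2, 10, 12, 14, 4, 0, 2, 10, 12, 14, 4, 0, 2, 10, 12]
def rw1346 : List ℕ := [14, 8, 6, 4, 5, 5, 7, 9, 15, 13, 11, 5, 7, 9, 15, 13, 11, 5, 7, 9, 15, 13, 11, 5, 7, 9, 15, 13, 11, 5, 7, 9, 15, 13, 11, 4, 10, 12, 14, 8, 6, 4, 10, 12, 14, 8, 6, 4, 10, 12, 14, 8, 6, 4, 10, 12, 14, 8, 6, 4, 10, 12]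
def rw1347 : List ℕ := [14, 4, 0, 2, 10, 12, 14, 4, 0, 2, 10, 12, 14, 9, 15, 13, 11, 3, 1, 5, 15, 13, 11, 3, 1, 5, 15, 13, 11, 3, 1, 5, 15, 13, 11, 3, 1, 5, 15, 13, 11, 3, 1, 5, 8, 4, 0, 2, 10, 12, 14, 4, 0, 2, 10, 12, 14, 4, 0, 2, 10, 12]
def rw1348 : List ℕ := [14, 4, 0, 2, 10, 12, 14, 4, 0, 2, 10, 12, 14, 11, 15, 13, 11, 3, 1, 5, 15, 13, 11, 3, 1, 5, 15, 13, 11, 3, 1, 5, 15, 13, 11, 3, 1, 5, 15, 13, 11, 3, 1, 5, 10, 4, 0, 2, 10, 12, 14, 4, 0, 2, 10, 12, 14, 4, 0, 2, 10, 12]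
def rw1349 : List ℕ := [14, 6, 4, 2, 10, 12, 14, 6, 4, 2, 10, 12, 14, 6, 4, 2, 10, 12, 14, 6, 4, 2, 3, 3, 5, 7, 15, 13, 11, 3, 5, 7, 15, 13, 11, 3, 5, 7, 15, 13, 11, 3, 5, 7, 15, 13, 11, 3, 5, 7, 15, 13, 11, 2, 10, 12, 14, 6, 4, 2, 10, 12]
def rw1350 : List ℕ := [14, 6, 4, 2, 10, 12, 14, 6, 4, 2, 10, 12, 14, 6, 4, 2, 10, 12, 14, 6, 4, 2, 10, 12, 14, 6, 4, 2, 1, 3, 5, 7, 15, 13, 11, 3, 5, 7, 15, 13, 11, 3, 5, 7, 15, 13, 11, 3, 5, 7, 15, 13, 11, 3, 5, 7, 15, 13, 11, 0, 10, 12]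
def rw1351 : List ℕ := [14, 6, 4, 2, 10, 12, 14, 6, 4, 2, 10, 12, 14, 6, 4, 2, 10, 12, 14, 6, 4, 2, 7, 3, 5, 7, 15, 13, 11, 3, 5, 7, 15, 13, 11, 3, 5, 7, 15, 13, 11, 3, 5, 7, 15, 13, 11, 3, 5, 7, 15, 13, 11, 6, 10, 12, 14, 6, 4, 2, 10, 12]
def rw1352 : List ℕ := [14, 3, 15, 13, 11, 3, 1, 5, 15, 13, 11, 3, 1, 5, 15, 13, 11, 3, 1, 5, 15, 13, 11, 3, 1, 5, 15, 13, 11, 3, 1, 5, 2, 4, 0, 2, 10, 12, 14, 4, 0, 2, 10, 12, 14, 4, 0, 2, 10, 12, 14, 4, 0, 2, 10, 12, 14, 4, 0, 2, 10, 12]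
def rw1353 : List ℕ := [14, 6, 4, 2, 10, 12, 14, 6, 4, 2, 10, 12, 14, 6, 4, 2, 10, 12, 14, 6, 4, 2, 10, 12, 14, 6, 4, 2, 9, 3, 5, 7, 15, 13, 11, 3, 5, 7, 15, 13, 11, 3, 5, 7, 15, 13, 11, 3, 5, 7, 15, 13, 11, 3, 5, 7, 15, 13, 11, 8, 10, 12]
def rw1354 : List ℕ := [14, 6, 4, 2, 10, 12, 14, 6, 4, 2, 10, 12, 14, 6, 4, 2, 10, 12, 14, 6, 4, 2, 10, 12, 14, 6, 4, 2, 13, 3, 5, 7, 15, 13, 11, 3, 5, 7, 15, 13, 11, 3, 5, 7, 15, 13, 11, 3, 5, 7, 15, 13, 11, 3, 5, 7, 15, 13, 11, 12, 10, 12]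
def rw1355 : List ℕ := [14, 4, 0, 2, 10, 12, 14, 4, 0, 2, 10, 12, 14, 4, 0, 2, 10, 12, 14, 5, 15, 13, 11, 3, 1, 5, 15, 13, 11, 3, 1, 5, 15, 13, 11, 3, 1, 5, 15, 13, 11, 3, 1, 5, 15, 13, 11, 3, 1, 5, 4, 4, 0, 2, 10, 12, 14, 4, 0, 2, 10, 12]
def rw1356 : List ℕ := [14, 8, 6, 4, 10, 12, 14, 8, 6, 4, 10, 12, 14, 8, 6, 4, 11, 5, 7, 9, 15, 13, 11, 5, 7, 9, 15, 13, 11, 5, 7, 9, 15, 13, 11, 5, 7, 9, 15, 13, 11, 5, 7, 9, 15, 13, 11, 10, 10, 12, 14, 8, 6, 4, 10, 12, 14, 8, 6, 4, 10, 12]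
def rw1357 : List ℕ := [14, 6, 4, 2, 10, 12, 14, 6, 4, 2, 10, 12, 14, 6, 4, 2, 10, 12, 14, 6, 4, 2, 10, 12, 14, 6, 4, 2, 15, 3, 5, 7, 15, 13, 11, 3, 5, 7, 15, 13, 11, 3, 5, 7, 15, 13, 11, 3, 5, 7, 15, 13, 11, 3, 5, 7, 15, 13, 11, 14, 10, 12]
def rw1358 : List ℕ := [14, 8, 6, 4, 1, 5, 7, 9, 15, 13, 11, 5, 7, 9, 15, 13, 11, 5, 7, 9, 15, 13, 11, 5, 7, 9, 15, 13, 11, 5, 7, 9, 15, 13, 11, 0, 10, 12, 14, 8, 6, 4, 10, 12, 14, 8, 6, 4, 10, 12, 14, 8, 6, 4, 10, 12, 14, 8, 6, 4, 10, 12]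
def rw1359 : List ℕ := [14, 12, 10, 12, 14, 6, 4, 2, 15, 3, 5, 7, 15, 13, 11, 13, 15, 7, 5, 3, 5, 7, 15, 13, 11, 13, 15, 7, 5, 3, 5, 7, 15, 13, 11, 13, 15, 7, 5, 14, 4, 6, 14, 12, 10, 12, 14, 6, 4, 2, 4, 6, 14, 12, 10, 12, 14, 6, 4, 2, 4, 6]
def rw1360 : List ℕ := [14, 12, 10, 12, 14, 6, 4, 2, 4, 6, 14, 12, 10, 12, 14, 6, 4, 2, 11, 3, 5, 7, 15, 13, 11, 13, 15, 7, 5, 3, 5, 7, 15, 13, 11, 13, 15, 7, 5, 3, 5, 7, 15, 13, 11, 13, 15, 7, 5, 10, 4, 6, 14, 12, 10, 12, 14, 6, 4, 2, 4, 6]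
def rw1361 : List ℕ := [14, 8, 6, 4, 10, 12, 14, 8, 6, 4, 10, 12, 14, 8, 6, 4, 9, 5, 7, 9, 15, 13, 11, 5, 7, 9, 15, 13, 11, 5, 7, 9, 15, 13, 11, 5, 7, 9, 15, 13, 11, 5, 7, 9, 15, 13, 11, 8, 10, 12, 14, 8, 6, 4, 10, 12, 14, 8, 6, 4, 10, 12]
def rw1362 : List ℕ := [14, 4, 0, 2, 10, 12, 14, 7, 15, 13, 11, 3, 1, 5, 15, 13, 11, 3, 1, 5, 15, 13, 11, 3, 1, 5, 15, 13, 11, 3, 1, 5, 15, 13, 11, 3, 1, 5, 6, 4, 0, 2, 10, 12, 14, 4, 0, 2, 10, 12, 14, 4, 0, 2, 10, 12, 14, 4, 0, 2, 10, 12]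
def rw1363 : List ℕ := [14, 8, 6, 4, 10, 12, 14, 8, 6, 4, 10, 12, 14, 8, 6, 4, 10, 12, 14, 8, 6, 4, 10, 12, 14, 8, 6, 4, 3, 5, 7, 9, 15, 13, 11, 5, 7, 9, 15, 13, 11, 5, 7, 9, 15, 13, 11, 5, 7, 9, 15, 13, 11, 5, 7, 9, 15, 13, 11, 2, 10, 12]
def rw1364 : List ℕ := [14, 14, 15, 13, 11, 3, 1, 5, 15, 13, 11, 3, 1, 5, 15, 13, 11, 3, 1, 5, 15, 13, 11, 3, 1, 5, 15, 13, 11, 3, 1, 5, 15, 4, 0, 2, 10, 12, 14, 4, 0, 2, 10, 12, 14, 4, 0, 2, 10, 12, 14, 4, 0, 2, 10, 12, 14, 4, 0, 2, 10, 12]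
def rw1365 : List ℕ := [14, 6, 4, 2, 10, 12, 14, 6, 4, 2, 10, 12, 14, 6, 4, 2, 9, 3, 5, 7, 15, 13, 11, 3, 5, 7, 15, 13, 11, 3, 5, 7, 15, 13, 11, 3, 5, 7, 15, 13, 11, 3, 5, 7, 15, 13, 11, 8, 10, 12, 14, 6, 4, 2, 10, 12, 14, 6, 4, 2, 10, 12]
def rw1366 : List ℕ := [14, 12, 10, 12, 14, 6, 4, 2, 4, 6, 14, 12, 10, 12, 14, 6, 4, 2, 4, 6, 14, 12, 10, 12, 14, 6, 4, 2, 11, 3, 5, 7, 15, 13, 11, 13, 15, 7, 5, 3, 5, 7, 15, 13, 11, 13, 15, 7, 5, 3, 5, 7, 15, 13, 11, 13, 15, 7, 5, 10, 4, 6]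
def rw1367 : List ℕ := [14, 8, 6, 4, 7, 5, 7, 9, 15, 13, 11, 5, 7, 9, 15, 13, 11, 5, 7, 9, 15, 13, 11, 5, 7, 9, 15, 13, 11, 5, 7, 9, 15, 13, 11, 6, 10, 12, 14, 8, 6, 4, 10, 12, 14, 8, 6, 4, 10, 12, 14, 8, 6, 4, 10, 12, 14, 8, 6, 4, 10, 12]
def rw1368 : List ℕ := [14, 8, 6, 4, 10, 12, 14, 8, 6, 4, 10, 12, 14, 8, 6, 4, 10, 12, 14, 8, 6, 4, 3, 5, 7, 9, 15, 13, 11, 5, 7, 9, 15, 13, 11, 5, 7, 9, 15, 13, 11, 5, 7, 9, 15, 13, 11, 5, 7, 9, 15, 13, 11, 2, 10, 12, 14, 8, 6, 4, 10, 12]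
def rw1369 : List ℕ := [14, 8, 6, 4, 9, 5, 7, 9, 15, 13, 11, 5, 7, 9, 15, 13, 11, 5, 7, 9, 15, 13, 11, 5, 7, 9, 15, 13, 11, 5, 7, 9, 15, 13, 11, 8, 10, 12, 14, 8, 6, 4, 10, 12, 14, 8, 6, 4, 10, 12, 14, 8, 6, 4, 10, 12, 14, 8, 6, 4, 10, 12]
def rw1370 : List ℕ := [14, 6, 4, 2, 13, 3, 5, 7, 15, 13, 11, 3, 5, 7, 15, 13, 11, 3, 5, 7, 15, 13, 11, 3, 5, 7, 15, 13, 11, 3, 5, 7, 15, 13, 11, 12, 10, 12, 14, 6, 4, 2, 10, 12, 14, 6, 4, 2, 10, 12, 14, 6, 4, 2, 10, 12, 14, 6, 4, 2, 10, 12]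
def rw1371 : List ℕ := [14, 9, 15, 13, 11, 3, 1, 5, 15, 13, 11, 3, 1, 5, 15, 13, 11, 3, 1, 5, 15, 13, 11, 3, 1, 5, 15, 13, 11, 3, 1, 5, 8, 4, 0, 2, 10, 12, 14, 4, 0, 2, 10, 12, 14, 4, 0, 2, 10, 12, 14, 4, 0, 2, 10, 12, 14, 4, 0, 2, 10, 12]
def rw1372 : List ℕ := [14, 4, 0, 2, 10, 12, 14, 4, 0, 2, 10, 12, 14, 4, 0, 2, 10, 12, 14, 4, 0, 2, 10, 12, 14, 9, 15, 13, 11, 3, 1, 5, 15, 13, 11, 3, 1, 5, 15, 13, 11, 3, 1, 5, 15, 13, 11, 3, 1, 5, 15, 13, 11, 3, 1, 5, 8, 4, 0, 2, 10, 12]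
def rw1373 : List ℕ := [14, 6, 4, 2, 11, 3, 5, 7, 15, 13, 11, 3, 5, 7, 15, 13, 11, 3, 5, 7, 15, 13, 11, 3, 5, 7, 15, 13, 11, 3, 5, 7, 15, 13, 11, 10, 10, 12, 14, 6, 4, 2, 10, 12, 14, 6, 4, 2, 10, 12, 14, 6, 4, 2, 10, 12, 14, 6, 4, 2, 10, 12]
def rw1374 : List ℕ := [14, 11, 15, 13, 11, 3, 1, 5, 15, 13, 11, 3, 1, 5, 15, 13, 11, 3, 1, 5, 15, 13, 11, 3, 1, 5, 15, 13, 11, 3, 1, 5, 10, 4, 0, 2, 10, 12, 14, 4, 0, 2, 10, 12, 14, 4, 0, 2, 10, 12, 14, 4, 0, 2, 10, 12, 14, 4, 0, 2, 10, 12]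
def rw1375 : List ℕ := [14, 1, 15, 13, 11, 3, 1, 5, 15, 13, 11, 3, 1, 5, 15, 13, 11, 3, 1, 5, 15, 13, 11, 3, 1, 5, 15, 13, 11, 3, 1, 5, 0, 4, 0, 2, 10, 12, 14, 4, 0, 2, 10, 12, 14, 4, 0, 2, 10, 12, 14, 4, 0, 2, 10, 12, 14, 4, 0, 2, 10, 12]
def rw1376 : List ℕ := [14, 4, 0, 2, 10, 12, 14, 15, 15, 13, 11, 3, 1, 5, 15, 13, 11, 3, 1, 5, 15, 13, 11, 3, 1, 5, 15, 13, 11, 3, 1, 5, 15, 13, 11, 3, 1, 5, 14, 4, 0, 2, 10, 12, 14, 4, 0, 2, 10, 12, 14, 4, 0, 2, 10, 12, 14, 4, 0, 2, 10, 12]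
def rw1377 : List ℕ := [15, 7, 15, 7, 15, 7]
def rw1378 : List ℕ := [15, 13, 15, 13, 15, 13]
def rw1379 : List ℕ := [15, 13, 11, 5, 7, 9, 15, 13, 11, 4, 10, 12, 14, 8, 6, 4, 10, 12, 14, 8, 6, 4, 10, 12, 14, 8, 6, 4, 10, 12, 14, 8, 6, 4, 10, 12, 14, 8, 6, 4, 5, 5, 7, 9, 15, 13, 11, 5, 7, 9, 15, 13, 11, 5, 7, 9, 15, 13, 11, 5, 7, 9]
def rw1380 : List ℕ := [15, 5, 7, 9, 15, 13, 11, 5, 7, 9, 15, 13, 11, 5, 7, 9, 15, 13, 11, 5, 7, 9, 15, 13, 11, 5, 7, 9, 15, 13, 11, 14, 10, 12, 14, 8, 6, 4, 10, 12, 14, 8, 6, 4, 10, 12, 14, 8, 6, 4, 10, 12, 14, 8, 6, 4, 10, 12, 14, 8, 6, 4]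
def rw1381 : List ℕ := [15, 13, 11, 3, 1, 5, 15, 13, 11, 3, 1, 5, 2, 4, 0, 2, 10, 12, 14, 4, 0, 2, 10, 12, 14, 4, 0, 2, 10, 12, 14, 4, 0, 2, 10, 12, 14, 4, 0, 2, 10, 12, 14, 3, 15, 13, 11, 3, 1, 5, 15, 13, 11, 3, 1, 5, 15, 13, 11, 3, 1, 5]
def rw1382 : List ℕ := [15, 1, 15, 1]
def rw1383 : List ℕ := [15, 13, 11, 3, 1, 5, 15, 13, 11, 3, 1, 5, 15, 13, 11, 3, 1, 5, 15, 13, 11, 3, 1, 5, 15, 13, 11, 3, 1, 5, 13, 4, 0, 2, 10, 12, 14, 4, 0, 2, 10, 12, 14, 4, 0, 2, 10, 12, 14, 4, 0, 2, 10, 12, 14, 4, 0, 2, 10, 12, 14, 12]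
def rw1384 : List ℕ := [15, 13, 11, 5, 7, 9, 15, 13, 11, 5, 7, 9, 15, 13, 11, 5, 7, 9, 15, 13, 11, 6, 10, 12, 14, 8, 6, 4, 10, 12, 14, 8, 6, 4, 10, 12, 14, 8, 6, 4, 10, 12, 14, 8, 6, 4, 10, 12, 14, 8, 6, 4, 7, 5, 7, 9, 15, 13, 11, 5, 7, 9]
def rw1385 : List ℕ := [15, 13, 11, 3, 1, 5, 15, 13, 11, 3, 1, 5, 15, 13, 11, 3, 1, 5, 15, 13, 11, 3, 1, 5, 15, 13, 11, 3, 1, 5, 11, 4, 0, 2, 10, 12, 14, 4, 0, 2, 10, 12, 14, 4, 0, 2, 10, 12, 14, 4, 0, 2, 10, 12, 14, 4, 0, 2, 10, 12, 14, 10]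
def rw1386 : List ℕ := [15, 13, 11, 3, 1, 5, 15, 13, 11, 3, 1, 5, 15, 13, 11, 3, 1, 5, 15, 13, 11, 3, 1, 5, 15, 13, 11, 3, 1, 5, 3, 4, 0, 2, 10, 12, 14, 4, 0, 2, 10, 12, 14, 4, 0, 2, 10, 12, 14, 4, 0, 2, 10, 12, 14, 4, 0, 2, 10, 12, 14, 2]
def rw1387 : List ℕ := [15, 3, 5, 7, 15, 13, 11, 3, 5, 7, 15, 13, 11, 3, 5, 7, 15, 13, 11, 3, 5, 7, 15, 13, 11, 3, 5, 7, 15, 13, 11, 14, 10, 12, 14, 6, 4, 2, 10, 12, 14, 6, 4, 2, 10, 12, 14, 6, 4, 2, 10, 12, 14, 6, 4, 2, 10, 12, 14, 6, 4, 2]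
def rw1388 : List ℕ := [15, 13, 11, 3, 1, 5, 15, 13, 11, 3, 1, 5, 15, 13, 11, 3, 1, 5, 15, 13, 11, 3, 1, 5, 15, 13, 11, 3, 1, 5, 7, 4, 0, 2, 10, 12, 14, 4, 0, 2, 10, 12, 14, 4, 0, 2, 10, 12, 14, 4, 0, 2, 10, 12, 14, 4, 0, 2, 10, 12, 14, 6]
def rw1389 : List ℕ := [15, 13, 11, 3, 1, 5, 15, 13, 11, 3, 1, 5, 15, 13, 11, 3, 1, 5, 2, 4, 0, 2, 10, 12, 14, 4, 0, 2, 10, 12, 14, 4, 0, 2, 10, 12, 14, 4, 0, 2, 10, 12, 14, 4, 0, 2, 10, 12, 14, 3, 15, 13, 11, 3, 1, 5, 15, 13, 11, 3, 1, 5]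
def rw1390 : List ℕ := [15, 13, 11, 13, 15, 7, 5, 14, 4, 6, 14, 12, 10, 12, 14, 6, 4, 2, 4, 6, 14, 12, 10, 12, 14, 6, 4, 2, 4, 6, 14, 12, 10, 12, 14, 6, 4, 2, 15, 3, 5, 7, 15, 13, 11, 13, 15, 7, 5, 3, 5, 7, 15, 13, 11, 13, 15, 7, 5, 3, 5, 7]
def rw1391 : List ℕ := [15, 13, 11, 3, 1, 5, 15, 13, 11, 3, 1, 5, 15, 13, 11, 3, 1, 5, 15, 13, 11, 3, 1, 5, 15, 13, 11, 3, 1, 5, 9, 4, 0, 2, 10, 12, 14, 4, 0, 2, 10, 12, 14, 4, 0, 2, 10, 12, 14, 4, 0, 2, 10, 12, 14, 4, 0, 2, 10, 12, 14, 8]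
def rw1392 : List ℕ := [15, 13, 11, 5, 7, 9, 15, 13, 11, 5, 7, 9, 15, 13, 11, 5, 7, 9, 15, 13, 11, 5, 7, 9, 15, 13, 11, 4, 10, 12, 14, 8, 6, 4, 10, 12, 14, 8, 6, 4, 10, 12, 14, 8, 6, 4, 10, 12, 14, 8, 6, 4, 10, 12, 14, 8, 6, 4, 5, 5, 7, 9]
def rw1393 : List ℕ := [15, 5, 15, 5]
def rw1394 : List ℕ := [15, 5, 15, 5]
def rw1395 : List ℕ := [15, 13, 11, 3, 1, 5, 15, 13, 11, 3, 1, 5, 15, 13, 11, 3, 1, 5, 15, 13, 11, 3, 1, 5, 15, 13, 11, 3, 1, 5, 14, 4, 0, 2, 10, 12, 14, 4, 0, 2, 10, 12, 14, 4, 0, 2, 10, 12, 14, 4, 0, 2, 10, 12, 14, 4, 0, 2, 10, 12, 14, 15]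
def rw1396 : List ℕ := [15, 13, 11, 13, 15, 7, 5, 10, 4, 6, 14, 12, 10, 12, 14, 6, 4, 2, 4, 6, 14, 12, 10, 12, 14, 6, 4, 2, 4, 6, 14, 12, 10, 12, 14, 6, 4, 2, 11, 3, 5, 7, 15, 13, 11, 13, 15, 7, 5, 3, 5, 7, 15, 13, 11, 13, 15, 7, 5, 3, 5, 7]
def rw1397 : List ℕ := [15, 13, 11, 13, 15, 7, 5, 3, 5, 7, 15, 13, 11, 13, 15, 7, 5, 3, 5, 7, 15, 13, 11, 13, 15, 7, 5, 2, 4, 6, 14, 12, 10, 12, 14, 6, 4, 2, 4, 6, 14, 12, 10, 12, 14, 6, 4, 2, 4, 6, 14, 12, 10, 12, 14, 6, 4, 2, 3, 3, 5, 7]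
def rw1398 : List ℕ := [15, 3, 15, 3]
def rw1399 : List ℕ := [15, 11, 15, 11]
def rw1400 : List ℕ := [15, 13, 11, 3, 1, 5, 15, 13, 11, 3, 1, 5, 15, 13, 11, 3, 1, 5, 15, 13, 11, 3, 1, 5, 2, 4, 0, 2, 10, 12, 14, 4, 0, 2, 10, 12, 14, 4, 0, 2, 10, 12, 14, 4, 0, 2, 10, 12, 14, 4, 0, 2, 10, 12, 14, 3, 15, 13, 11, 3, 1, 5]
def rw1401 : List ℕ := [15, 7, 5, 3, 5, 7, 15, 13, 11, 13, 15, 7, 5, 3, 5, 7, 15, 13, 11, 13, 15, 7, 5, 2, 4, 6, 14, 12, 10, 12, 14, 6, 4, 2, 4, 6, 14, 12, 10, 12, 14, 6, 4, 2, 4, 6, 14, 12, 10, 12, 14, 6, 4, 2, 3, 3, 5, 7, 15, 13, 11, 13]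
def rw1402 : List ℕ := [15, 13, 11, 3, 1, 5, 15, 13, 11, 3, 1, 5, 15, 13, 11, 3, 1, 5, 15, 13, 11, 3, 1, 5, 15, 13, 11, 3, 1, 5, 5, 4, 0, 2, 10, 12, 14, 4, 0, 2, 10, 12, 14, 4, 0, 2, 10, 12, 14, 4, 0, 2, 10, 12, 14, 4, 0, 2, 10, 12, 14, 4]
def rw1403 : List ℕ := [15, 3, 15, 3]
def rw1404 : List ℕ := [15, 7, 15, 7, 15, 7]
def rw1405 : List ℕ := [15, 13, 11, 5, 7, 9, 15, 13, 11, 5, 7, 9, 15, 13, 11, 5, 7, 9, 15, 13, 11, 5, 7, 9, 15, 13, 11, 6, 10, 12, 14, 8, 6, 4, 10, 12, 14, 8, 6, 4, 10, 12, 14, 8, 6, 4, 10, 12, 14, 8, 6, 4, 10, 12, 14, 8, 6, 4, 7, 5, 7, 9]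
def rw1406 : List ℕ := [15, 13, 11, 5, 7, 9, 15, 13, 11, 8, 10, 12, 14, 8, 6, 4, 10, 12, 14, 8, 6, 4, 10, 12, 14, 8, 6, 4, 10, 12, 14, 8, 6, 4, 10, 12, 14, 8, 6, 4, 9, 5, 7, 9, 15, 13, 11, 5, 7, 9, 15, 13, 11, 5, 7, 9, 15, 13, 11, 5, 7, 9]
def rw1407 : List ℕ := [15, 13, 11, 3, 1, 5, 15, 13, 11, 3, 1, 5, 15, 13, 11, 3, 1, 5, 15, 13, 11, 3, 1, 5, 15, 13, 11, 3, 1, 5, 1, 4, 0, 2, 10, 12, 14, 4, 0, 2, 10, 12, 14, 4, 0, 2, 10, 12, 14, 4, 0, 2, 10, 12, 14, 4, 0, 2, 10, 12, 14, 0]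
def rw1408 : List ℕ := [15, 7, 5, 3, 5, 7, 15, 13, 11, 13, 15, 7, 5, 10, 4, 6, 14, 12, 10, 12, 14, 6, 4, 2, 4, 6, 14, 12, 10, 12, 14, 6, 4, 2, 4, 6, 14, 12, 10, 12, 14, 6, 4, 2, 11, 3, 5, 7, 15, 13, 11, 13, 15, 7, 5, 3, 5, 7, 15, 13, 11, 13]
def rw1409 : List ℕ := [15, 7, 5, 3, 5, 7, 15, 13, 11, 13, 15, 7, 5, 4, 4, 6, 14, 12, 10, 12, 14, 6, 4, 2, 4, 6, 14, 12, 10, 12, 14, 6, 4, 2, 4, 6, 14, 12, 10, 12, 14, 6, 4, 2, 5, 3, 5, 7, 15, 13, 11, 13, 15, 7, 5, 3, 5, 7, 15, 13, 11, 13]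
def rw1410 : List ℕ := [15, 13, 11, 3, 5, 7, 15, 13, 11, 14, 10, 12, 14, 6, 4, 2, 10, 12, 14, 6, 4, 2, 10, 12, 14, 6, 4, 2, 10, 12, 14, 6, 4, 2, 10, 12, 14, 6, 4, 2, 15, 3, 5, 7, 15, 13, 11, 3, 5, 7, 15, 13, 11, 3, 5, 7, 15, 13, 11, 3, 5, 7]
def rw1411 : List ℕ := [15, 13, 11, 12, 10, 12, 14, 8, 6, 4, 10, 12, 14, 8, 6, 4, 10, 12, 14, 8, 6, 4, 10, 12, 14, 8, 6, 4, 10, 12, 14, 8, 6, 4, 13, 5, 7, 9, 15, 13, 11, 5, 7, 9, 15, 13, 11, 5, 7, 9, 15, 13, 11, 5, 7, 9, 15, 13, 11, 5, 7, 9]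
def rw1412 : List ℕ := [15, 13, 11, 3, 5, 7, 15, 13, 11, 3, 5, 7, 15, 13, 11, 2, 10, 12, 14, 6, 4, 2, 10, 12, 14, 6, 4, 2, 10, 12, 14, 6, 4, 2, 10, 12, 14, 6, 4, 2, 10, 12, 14, 6, 4, 2, 3, 3, 5, 7, 15, 13, 11, 3, 5, 7, 15, 13, 11, 3, 5, 7]
def rw1413 : List ℕ := [15, 11, 15, 11]
def rw1414 : List ℕ := [15, 13, 11, 13, 15, 7, 5, 6, 4, 6, 14, 12, 10, 12, 14, 6, 4, 2, 4, 6, 14, 12, 10, 12, 14, 6, 4, 2, 4, 6, 14, 12, 10, 12, 14, 6, 4, 2, 7, 3, 5, 7, 15, 13, 11, 13, 15, 7, 5, 3, 5, 7, 15, 13, 11, 13, 15, 7, 5, 3, 5, 7]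
def rw1415 : List ℕ := [15, 13, 11, 4, 10, 12, 14, 6, 4, 2, 10, 12, 14, 6, 4, 2, 10, 12, 14, 6, 4, 2, 10, 12, 14, 6, 4, 2, 10, 12, 14, 6, 4, 2, 5, 3, 5, 7, 15, 13, 11, 3, 5, 7, 15, 13, 11, 3, 5, 7, 15, 13, 11, 3, 5, 7, 15, 13, 11, 3, 5, 7]
def rw1416 : List ℕ := [15, 13, 11, 8, 10, 12, 14, 8, 6, 4, 10, 12, 14, 8, 6, 4, 10, 12, 14, 8, 6, 4, 10, 12, 14, 8, 6, 4, 10, 12, 14, 8, 6, 4, 9, 5, 7, 9, 15, 13, 11, 5, 7, 9, 15, 13, 11, 5, 7, 9, 15, 13, 11, 5, 7, 9, 15, 13, 11, 5, 7, 9]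
def rw1417 : List ℕ := [15, 13, 11, 14, 10, 12, 14, 8, 6, 4, 10, 12, 14, 8, 6, 4, 10, 12, 14, 8, 6, 4, 10, 12, 14, 8, 6, 4, 10, 12, 14, 8, 6, 4, 15, 5, 7, 9, 15, 13, 11, 5, 7, 9, 15, 13, 11, 5, 7, 9, 15, 13, 11, 5, 7, 9, 15, 13, 11, 5, 7, 9]
def rw1418 : List ℕ := [15, 7, 5, 6, 4, 6, 14, 12, 10, 12, 14, 6, 4, 2, 4, 6, 14, 12, 10, 12, 14, 6, 4, 2, 4, 6, 14, 12, 10, 12, 14, 6, 4, 2, 7, 3, 5, 7, 15, 13, 11, 13, 15, 7, 5, 3, 5, 7, 15, 13, 11, 13, 15, 7, 5, 3, 5, 7, 15, 13, 11, 13]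
def rw1419 : List ℕ := [15, 13, 11, 3, 5, 7, 15, 13, 11, 3, 5, 7, 15, 13, 11, 4, 10, 12, 14, 6, 4, 2, 10, 12, 14, 6, 4, 2, 10, 12, 14, 6, 4, 2, 10, 12, 14, 6, 4, 2, 10, 12, 14, 6, 4, 2, 5, 3, 5, 7, 15, 13, 11, 3, 5, 7, 15, 13, 11, 3, 5, 7]
def rw1420 : List ℕ := [15, 1, 15, 1]
def rw1421 : List ℕ := [15, 13, 11, 13, 15, 7, 5, 12, 4, 6, 14, 12, 10, 12, 14, 6, 4, 2, 4, 6, 14, 12, 10, 12, 14, 6, 4, 2, 4, 6, 14, 12, 10, 12, 14, 6, 4, 2, 13, 3, 5, 7, 15, 13, 11, 13, 15, 7, 5, 3, 5, 7, 15, 13, 11, 13, 15, 7, 5, 3, 5, 7]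
def rw1422 : List ℕ := [15, 9, 15, 9]
def rw1423 : List ℕ := [15, 13, 11, 6, 10, 12, 14, 6, 4, 2, 10, 12, 14, 6, 4, 2, 10, 12, 14, 6, 4, 2, 10, 12, 14, 6, 4, 2, 10, 12, 14, 6, 4, 2, 7, 3, 5, 7, 15, 13, 11, 3, 5, 7, 15, 13, 11, 3, 5, 7, 15, 13, 11, 3, 5, 7, 15, 13, 11, 3, 5, 7]
def rw1424 : List ℕ := [15, 13, 11, 3, 5, 7, 15, 13, 11, 3, 5, 7, 15, 13, 11, 10, 10, 12, 14, 6, 4, 2, 10, 12, 14, 6, 4, 2, 10, 12, 14, 6, 4, 2, 10, 12, 14, 6, 4, 2, 10, 12, 14, 6, 4, 2, 11, 3, 5, 7, 15, 13, 11, 3, 5, 7, 15, 13, 11, 3, 5, 7]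
def rw1425 : List ℕ := [15, 13, 11, 3, 1, 5, 8, 4, 0, 2, 10, 12, 14, 4, 0, 2, 10, 12, 14, 4, 0, 2, 10, 12, 14, 4, 0, 2, 10, 12, 14, 4, 0, 2, 10, 12, 14, 9, 15, 13, 11, 3, 1, 5, 15, 13, 11, 3, 1, 5, 15, 13, 11, 3, 1, 5, 15, 13, 11, 3, 1, 5]
def rw1426 : List ℕ := [15, 7, 5, 5, 4, 6, 14, 12, 10, 12, 14, 6, 4, 2, 4, 6, 14, 12, 10, 12, 14, 6, 4, 2, 4, 6, 14, 12, 10, 12, 14, 6, 4, 2, 4, 3, 5, 7, 15, 13, 11, 13, 15, 7, 5, 3, 5, 7, 15, 13, 11, 13, 15, 7, 5, 3, 5, 7, 15, 13, 11, 13]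
def rw1427 : List ℕ := [15, 10, 12, 14, 6, 4, 2, 10, 12, 14, 6, 4, 2, 10, 12, 14, 6, 4, 2, 10, 12, 14, 6, 4, 2, 10, 12, 14, 6, 4, 2, 14, 3, 5, 7, 15, 13, 11, 3, 5, 7, 15, 13, 11, 3, 5, 7, 15, 13, 11, 3, 5, 7, 15, 13, 11, 3, 5, 7, 15, 13, 11]
def rw1428 : List ℕ := [15, 7, 5, 3, 5, 7, 15, 13, 11, 13, 15, 7, 5, 3, 5, 7, 15, 13, 11, 13, 15, 7, 5, 0, 4, 6, 14, 12, 10, 12, 14, 6, 4, 2, 4, 6, 14, 12, 10, 12, 14, 6, 4, 2, 4, 6, 14, 12, 10, 12, 14, 6, 4, 2, 1, 3, 5, 7, 15, 13, 11, 13]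
def rw1429 : List ℕ := [15, 7, 5, 3, 5, 7, 15, 13, 11, 13, 15, 7, 5, 3, 5, 7, 15, 13, 11, 13, 15, 7, 5, 4, 4, 6, 14, 12, 10, 12, 14, 6, 4, 2, 4, 6, 14, 12, 10, 12, 14, 6, 4, 2, 4, 6, 14, 12, 10, 12, 14, 6, 4, 2, 5, 3, 5, 7, 15, 13, 11, 13]
def rw1430 : List ℕ := [15, 9, 15, 9]
def rw1431 : List ℕ := [15, 13, 11, 8, 10, 12, 14, 6, 4, 2, 10, 12, 14, 6, 4, 2, 10, 12, 14, 6, 4, 2, 10, 12, 14, 6, 4, 2, 10, 12, 14, 6, 4, 2, 9, 3, 5, 7, 15, 13, 11, 3, 5, 7, 15, 13, 11, 3, 5, 7, 15, 13, 11, 3, 5, 7, 15, 13, 11, 3, 5, 7]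
def rw1432 : List ℕ := [15, 13, 11, 3, 1, 5, 15, 13, 11, 3, 1, 5, 15, 13, 11, 3, 1, 5, 10, 4, 0, 2, 10, 12, 14, 4, 0, 2, 10, 12, 14, 4, 0, 2, 10, 12, 14, 4, 0, 2, 10, 12, 14, 4, 0, 2, 10, 12, 14, 11, 15, 13, 11, 3, 1, 5, 15, 13, 11, 3, 1, 5]
def rw1433 : List ℕ := [15, 13, 15, 13, 15, 13]
def rw1434 : List ℕ := [15, 13, 11, 5, 7, 9, 15, 13, 11, 5, 7, 9, 15, 13, 11, 5, 7, 9, 15, 13, 11, 10, 10, 12, 14, 8, 6, 4, 10, 12, 14, 8, 6, 4, 10, 12, 14, 8, 6, 4, 10, 12, 14, 8, 6, 4, 10, 12, 14, 8, 6, 4, 11, 5, 7, 9, 15, 13, 11, 5, 7, 9]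
def rw1435 : List ℕ := [15, 13, 11, 3, 5, 7, 15, 13, 11, 3, 5, 7, 15, 13, 11, 12, 10, 12, 14, 6, 4, 2, 10, 12, 14, 6, 4, 2, 10, 12, 14, 6, 4, 2, 10, 12, 14, 6, 4, 2, 10, 12, 14, 6, 4, 2, 13, 3, 5, 7, 15, 13, 11, 3, 5, 7, 15, 13, 11, 3, 5, 7]
def rw1436 : List ℕ := [15, 10, 12, 14, 8, 6, 4, 10, 12, 14, 8, 6, 4, 10, 12, 14, 8, 6, 4, 10, 12, 14, 8, 6, 4, 10, 12, 14, 8, 6, 4, 14, 5, 7, 9, 15, 13, 11, 5, 7, 9, 15, 13, 11, 5, 7, 9, 15, 13, 11, 5, 7, 9, 15, 13, 11, 5, 7, 9, 15, 13, 11]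
def rw1437 : List ℕ := [15, 13, 11, 3, 1, 5, 15, 13, 11, 3, 1, 5, 15, 13, 11, 3, 1, 5, 15, 13, 11, 3, 1, 5, 14, 4, 0, 2, 10, 12, 14, 4, 0, 2, 10, 12, 14, 4, 0, 2, 10, 12, 14, 4, 0, 2, 10, 12, 14, 4, 0, 2, 10, 12, 14, 15, 15, 13, 11, 3, 1, 5]
def rw1438 : List ℕ := [15, 4, 0, 2, 10, 12, 14, 4, 0, 2, 10, 12, 14, 4, 0, 2, 10, 12, 14, 4, 0, 2, 10, 12, 14, 4, 0, 2, 10, 12, 14, 14, 15, 13, 11, 3, 1, 5, 15, 13, 11, 3, 1, 5, 15, 13, 11, 3, 1, 5, 15, 13, 11, 3, 1, 5, 15, 13, 11, 3, 1, 5]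
def rw1439 : List ℕ := [15, 13, 11, 13, 15, 7, 5, 4, 4, 6, 14, 12, 10, 12, 14, 6, 4, 2, 4, 6, 14, 12, 10, 12, 14, 6, 4, 2, 4, 6, 14, 12, 10, 12, 14, 6, 4, 2, 5, 3, 5, 7, 15, 13, 11, 13, 15, 7, 5, 3, 5, 7, 15, 13, 11, 13, 15, 7, 5, 3, 5, 7]
def rw1440 : List ℕ := [15, 13, 11, 3, 1, 5, 15, 13, 11, 3, 1, 5, 15, 13, 11, 3, 1, 5, 15, 13, 11, 3, 1, 5, 0, 4, 0, 2, 10, 12, 14, 4, 0, 2, 10, 12, 14, 4, 0, 2, 10, 12, 14, 4, 0, 2, 10, 12, 14, 4, 0, 2, 10, 12, 14, 1, 15, 13, 11, 3, 1, 5]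
def rw1441 : List ℕ := [15, 13, 11, 5, 7, 9, 15, 13, 11, 5, 7, 9, 15, 13, 11, 5, 7, 9, 15, 13, 11, 14, 10, 12, 14, 8, 6, 4, 10, 12, 14, 8, 6, 4, 10, 12, 14, 8, 6, 4, 10, 12, 14, 8, 6, 4, 10, 12, 14, 8, 6, 4, 15, 5, 7, 9, 15, 13, 11, 5, 7, 9]
def rw1442 : List ℕ := [15, 7, 5, 10, 4, 6, 14, 12, 10, 12, 14, 6, 4, 2, 4, 6, 14, 12, 10, 12, 14, 6, 4, 2, 4, 6, 14, 12, 10, 12, 14, 6, 4, 2, 11, 3, 5, 7, 15, 13, 11, 13, 15, 7, 5, 3, 5, 7, 15, 13, 11, 13, 15, 7, 5, 3, 5, 7, 15, 13, 11, 13]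
def rw1443 : List ℕ := [15, 13, 11, 3, 5, 7, 15, 13, 11, 3, 5, 7, 15, 13, 11, 3, 5, 7, 15, 13, 11, 4, 10, 12, 14, 6, 4, 2, 10, 12, 14, 6, 4, 2, 10, 12, 14, 6, 4, 2, 10, 12, 14, 6, 4, 2, 10, 12, 14, 6, 4, 2, 5, 3, 5, 7, 15, 13, 11, 3, 5, 7]
def rw1444 : List ℕ := [15, 13, 11, 3, 1, 5, 15, 13, 11, 3, 1, 5, 15, 13, 11, 3, 1, 5, 15, 13, 11, 3, 1, 5, 12, 4, 0, 2, 10, 12, 14, 4, 0, 2, 10, 12, 14, 4, 0, 2, 10, 12, 14, 4, 0, 2, 10, 12, 14, 4, 0, 2, 10, 12, 14, 13, 15, 13, 11, 3, 1, 5]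
def rw1445 : List ℕ := [15, 15]
def rw1446 : List ℕ := [15, 7, 5, 3, 5, 7, 15, 13, 11, 13, 15, 7, 5, 6, 4, 6, 14, 12, 10, 12, 14, 6, 4, 2, 4, 6, 14, 12, 10, 12, 14, 6, 4, 2, 4, 6, 14, 12, 10, 12, 14, 6, 4, 2, 7, 3, 5, 7, 15, 13, 11, 13, 15, 7, 5, 3, 5, 7, 15, 13, 11, 13]
def rw1447 : List ℕ := [15, 13, 11, 3, 5, 7, 15, 13, 11, 4, 10, 12, 14, 6, 4, 2, 10, 12, 14, 6, 4, 2, 10, 12, 14, 6, 4, 2, 10, 12, 14, 6, 4, 2, 10, 12, 14, 6, 4, 2, 5, 3, 5, 7, 15, 13, 11, 3, 5, 7, 15, 13, 11, 3, 5, 7, 15, 13, 11, 3, 5, 7]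
def rw1448 : List ℕ := [15, 7, 5, 3, 5, 7, 15, 13, 11, 13, 15, 7, 5, 0, 4, 6, 14, 12, 10, 12, 14, 6, 4, 2, 4, 6, 14, 12, 10, 12, 14, 6, 4, 2, 4, 6, 14, 12, 10, 12, 14, 6, 4, 2, 1, 3, 5, 7, 15, 13, 11, 13, 15, 7, 5, 3, 5, 7, 15, 13, 11, 13]
def rw1449 : List ℕ := [15, 13, 11, 3, 1, 5, 15, 13, 11, 3, 1, 5, 15, 13, 11, 3, 1, 5, 15, 13, 11, 3, 1, 5, 15, 13, 11, 3, 1, 5, 2, 4, 0, 2, 10, 12, 14, 4, 0, 2, 10, 12, 14, 4, 0, 2, 10, 12, 14, 4, 0, 2, 10, 12, 14, 4, 0, 2, 10, 12, 14, 3]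
def rw1450 : List ℕ := [15, 13, 11, 12, 10, 12, 14, 6, 4, 2, 10, 12, 14, 6, 4, 2, 10, 12, 14, 6, 4, 2, 10, 12, 14, 6, 4, 2, 10, 12, 14, 6, 4, 2, 13, 3, 5, 7, 15, 13, 11, 3, 5, 7, 15, 13, 11, 3, 5, 7, 15, 13, 11, 3, 5, 7, 15, 13, 11, 3, 5, 7]
def rw1451 : List ℕ := [15, 7, 5, 4, 4, 6, 14, 12, 10, 12, 14, 6, 4, 2, 4, 6, 14, 12, 10, 12, 14, 6, 4, 2, 4, 6, 14, 12, 10, 12, 14, 6, 4, 2, 5, 3, 5, 7, 15, 13, 11, 13, 15, 7, 5, 3, 5, 7, 15, 13, 11, 13, 15, 7, 5, 3, 5, 7, 15, 13, 11, 13]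
def rw1452 : List ℕ := [15, 7, 5, 3, 5, 7, 15, 13, 11, 13, 15, 7, 5, 3, 5, 7, 15, 13, 11, 13, 15, 7, 5, 10, 4, 6, 14, 12, 10, 12, 14, 6, 4, 2, 4, 6, 14, 12, 10, 12, 14, 6, 4, 2, 4, 6, 14, 12, 10, 12, 14, 6, 4, 2, 11, 3, 5, 7, 15, 13, 11, 13]
def rw1453 : List ℕ := [15, 13, 11, 3, 1, 5, 15, 13, 11, 3, 1, 5, 15, 13, 11, 3, 1, 5, 15, 13, 11, 3, 1, 5, 10, 4, 0, 2, 10, 12, 14, 4, 0, 2, 10, 12, 14, 4, 0, 2, 10, 12, 14, 4, 0, 2, 10, 12, 14, 4, 0, 2, 10, 12, 14, 11, 15, 13, 11, 3, 1, 5]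
def rw1454 : List ℕ := [15, 13, 11, 3, 1, 5, 15, 13, 11, 3, 1, 5, 15, 13, 11, 3, 1, 5, 15, 13, 11, 3, 1, 5, 15, 13, 11, 3, 1, 5, 10, 4, 0, 2, 10, 12, 14, 4, 0, 2, 10, 12, 14, 4, 0, 2, 10, 12, 14, 4, 0, 2, 10, 12, 14, 4, 0, 2, 10, 12, 14, 11]
def rw1455 : List ℕ := [15, 13, 11, 5, 7, 9, 15, 13, 11, 5, 7, 9, 15, 13, 11, 5, 7, 9, 15, 13, 11, 5, 7, 9, 15, 13, 11, 14, 10, 12, 14, 8, 6, 4, 10, 12, 14, 8, 6, 4, 10, 12, 14, 8, 6, 4, 10, 12, 14, 8, 6, 4, 10, 12, 14, 8, 6, 4, 15, 5, 7, 9]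
def rw1456 : List ℕ := [15, 7, 5, 14, 4, 6, 14, 12, 10, 12, 14, 6, 4, 2, 4, 6, 14, 12, 10, 12, 14, 6, 4, 2, 4, 6, 14, 12, 10, 12, 14, 6, 4, 2, 15, 3, 5, 7, 15, 13, 11, 13, 15, 7, 5, 3, 5, 7, 15, 13, 11, 13, 15, 7, 5, 3, 5, 7, 15, 13, 11, 13]
def rw1457 : List ℕ := [15, 13, 11, 3, 5, 7, 15, 13, 11, 3, 5, 7, 15, 13, 11, 3, 5, 7, 15, 13, 11, 3, 5, 7, 15, 13, 11, 6, 10, 12, 14, 6, 4, 2, 10, 12, 14, 6, 4, 2, 10, 12, 14, 6, 4, 2, 10, 12, 14, 6, 4, 2, 10, 12, 14, 6, 4, 2, 7, 3, 5, 7]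
def rw1458 : List ℕ := [15, 13, 11, 13, 15, 7, 5, 3, 5, 7, 15, 13, 11, 13, 15, 7, 5, 6, 4, 6, 14, 12, 10, 12, 14, 6, 4, 2, 4, 6, 14, 12, 10, 12, 14, 6, 4, 2, 4, 6, 14, 12, 10, 12, 14, 6, 4, 2, 7, 3, 5, 7, 15, 13, 11, 13, 15, 7, 5, 3, 5, 7]
def rw1459 : List ℕ := [15, 13, 11, 5, 7, 9, 15, 13, 11, 5, 7, 9, 15, 13, 11, 5, 7, 9, 15, 13, 11, 5, 7, 9, 15, 13, 11, 0, 10, 12, 14, 8, 6, 4, 10, 12, 14, 8, 6, 4, 10, 12, 14, 8, 6, 4, 10, 12, 14, 8, 6, 4, 10, 12, 14, 8, 6, 4, 1, 5, 7, 9]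
def rw1460 : List ℕ := [15, 13, 11, 3, 5, 7, 15, 13, 11, 3, 5, 7, 15, 13, 11, 3, 5, 7, 15, 13, 11, 3, 5, 7, 15, 13, 11, 12, 10, 12, 14, 6, 4, 2, 10, 12, 14, 6, 4, 2, 10, 12, 14, 6, 4, 2, 10, 12, 14, 6, 4, 2, 10, 12, 14, 6, 4, 2, 13, 3, 5, 7]
def rw1461 : List ℕ := [13, 15, 7, 5, 3, 5, 7, 15, 13, 11, 13, 15, 7, 5, 3, 5, 7, 15, 13, 11, 13, 15, 7, 5, 10, 4, 6, 14, 12, 10, 12, 14, 6, 4, 2, 4, 6, 14, 12, 10, 12, 14, 6, 4, 2, 4, 6, 14, 12, 10, 12, 14, 6, 4, 2, 11, 3, 5, 7, 15, 13, 11]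
def rw1462 : List ℕ := [3, 1, 5, 15, 13, 11, 3, 1, 5, 15, 13, 11, 3, 1, 5, 15, 13, 11, 3, 1, 5, 10, 4, 0, 2, 10, 12, 14, 4, 0, 2, 10, 12, 14, 4, 0, 2, 10, 12, 14, 4, 0, 2, 10, 12, 14, 4, 0, 2, 10, 12, 14, 11, 15, 13, 11, 3, 1, 5, 15, 13, 11]
def rw1463 : List ℕ := [11, 3, 1, 5, 15, 13, 11, 3, 1, 5, 15, 13, 11, 3, 1, 5, 15, 13, 11, 3, 1, 5, 15, 13, 11, 3, 1, 5, 10, 4, 0, 2, 10, 12, 14, 4, 0, 2, 10, 12, 14, 4, 0, 2, 10, 12, 14, 4, 0, 2, 10, 12, 14, 4, 0, 2, 10, 12, 14, 11, 15, 13]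
def rw1464 : List ℕ := [12, 14, 9, 15, 13, 11, 3, 1, 5, 15, 13, 11, 3, 1, 5, 15, 13, 11, 3, 1, 5, 15, 13, 11, 3, 1, 5, 15, 13, 11, 3, 1, 5, 8, 4, 0, 2, 10, 12, 14, 4, 0, 2, 10, 12, 14, 4, 0, 2, 10, 12, 14, 4, 0, 2, 10, 12, 14, 4, 0, 2, 10]
def rw1465 : List ℕ := [1, 5, 15, 13, 11, 3, 1, 5, 15, 13, 11, 3, 1, 5, 15, 13, 11, 3, 1, 5, 4, 4, 0, 2, 10, 12, 14, 4, 0, 2, 10, 12, 14, 4, 0, 2, 10, 12, 14, 4, 0, 2, 10, 12, 14, 4, 0, 2, 10, 12, 14, 5, 15, 13, 11, 3, 1, 5, 15, 13, 11, 3]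
def rw1466 : List ℕ := [5, 7, 15, 13, 11, 12, 10, 12, 14, 6, 4, 2, 10, 12, 14, 6, 4, 2, 10, 12, 14, 6, 4, 2, 10, 12, 14, 6, 4, 2, 10, 12, 14, 6, 4, 2, 13, 3, 5, 7, 15, 13, 11, 3, 5, 7, 15, 13, 11, 3, 5, 7, 15, 13, 11, 3, 5, 7, 15, 13, 11, 3]
def rw1467 : List ℕ := [14, 12, 10, 12, 14, 6, 4, 2, 4, 6, 14, 12, 10, 12, 14, 6, 4, 2, 4, 3, 5, 7, 15, 13, 11, 13, 15, 7, 5, 3, 5, 7, 15, 13, 11, 13, 15, 7, 5, 3, 5, 7, 15, 13, 11, 13, 15, 7, 5, 5, 4, 6, 14, 12, 10, 12, 14, 6, 4, 2, 4, 6]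
def rw1468 : List ℕ := [4, 5, 5, 7, 9, 15, 13, 11, 5, 7, 9, 15, 13, 11, 5, 7, 9, 15, 13, 11, 5, 7, 9, 15, 13, 11, 5, 7, 9, 15, 13, 11, 4, 10, 12, 14, 8, 6, 4, 10, 12, 14, 8, 6, 4, 10, 12, 14, 8, 6, 4, 10, 12, 14, 8, 6, 4, 10, 12, 14, 8, 6]
def rw1469 : List ℕ := [2, 10, 12, 14, 6, 4, 2, 15, 3, 5, 7, 15, 13, 11, 3, 5, 7, 15, 13, 11, 3, 5, 7, 15, 13, 11, 3, 5, 7, 15, 13, 11, 3, 5, 7, 15, 13, 11, 14, 10, 12, 14, 6, 4, 2, 10, 12, 14, 6, 4, 2, 10, 12, 14, 6, 4, 2, 10, 12, 14, 6, 4]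
def rw1470 : List ℕ := [11, 5, 7, 9, 15, 13, 11, 5, 7, 9, 15, 13, 11, 5, 7, 9, 15, 13, 11, 5, 7, 9, 15, 13, 11, 4, 10, 12, 14, 8, 6, 4, 10, 12, 14, 8, 6, 4, 10, 12, 14, 8, 6, 4, 10, 12, 14, 8, 6, 4, 10, 12, 14, 8, 6, 4, 5, 5, 7, 9, 15, 13]
def rw1471 : List ℕ := [2, 10, 12, 14, 4, 0, 2, 10, 12, 14, 4, 0, 2, 10, 12, 14, 4, 0, 2, 10, 12, 14, 7, 15, 13, 11, 3, 1, 5, 15, 13, 11, 3, 1, 5, 15, 13, 11, 3, 1, 5, 15, 13, 11, 3, 1, 5, 15, 13, 11, 3, 1, 5, 6, 4, 0, 2, 10, 12, 14, 4, 0]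
def rw1472 : List ℕ := [3, 5, 7, 9, 11, 13, 1, 3, 5, 7, 9, 11, 13, 1, 3, 5, 7, 9, 11, 13, 1, 3, 5, 7, 9, 11, 13, 1, 3, 5, 7, 9, 11, 13, 0, 12, 10, 8, 6, 4, 2, 0, 12, 10, 8, 6, 4, 2, 0, 12, 10, 8, 6, 4, 2, 0, 12, 10, 8, 6, 4, 2, 0, 12, 10, 8, 6, 4, 2, 0, 12, 10, 8, 6, 4, 2, 0, 12, 10, 8, 6, 4, 2, 0, 12, 10, 8, 6, 4, 2, 0, 12, 10, 8, 6, 4, 2, 0, 1, 1, 3, 5, 7, 9, 11, 13, 1, 3, 5, 7, 9, 11, 13, 1, 3, 5, 7, 9, 11, 13, 1, 3, 5, 7, 9, 11, 13, 1]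
def rw1473 : List ℕ := [5, 7, 15, 13, 11, 3, 5, 7, 15, 13, 11, 3, 5, 7, 15, 13, 11, 3, 5, 7, 15, 13, 11, 3, 5, 7, 15, 13, 11, 0, 10, 12, 14, 6, 4, 2, 10, 12, 14, 6, 4, 2, 10, 12, 14, 6, 4, 2, 10, 12, 14, 6, 4, 2, 10, 12, 14, 6, 4, 2, 1, 3]
def rw1474 : List ℕ := [10, 12, 14, 4, 0, 2, 10, 12, 14, 4, 0, 2, 10, 12, 14, 4, 0, 2, 10, 12, 14, 4, 0, 2, 10, 12, 14, 11, 15, 13, 11, 3, 1, 5, 15, 13, 11, 3, 1, 5, 15, 13, 11, 3, 1, 5, 15, 13, 11, 3, 1, 5, 15, 13, 11, 3, 1, 5, 10, 4, 0, 2]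
def rw1475 : List ℕ := [13, 11, 5, 7, 9, 15, 13, 11, 5, 7, 9, 15, 13, 11, 5, 7, 9, 15, 13, 11, 5, 7, 9, 15, 13, 11, 6, 10, 12, 14, 8, 6, 4, 10, 12, 14, 8, 6, 4, 10, 12, 14, 8, 6, 4, 10, 12, 14, 8, 6, 4, 10, 12, 14, 8, 6, 4, 7, 5, 7, 9, 15]
def rw1476 : List ℕ := [4, 10, 12, 14, 8, 6, 4, 10, 12, 14, 8, 6, 4, 10, 12, 14, 8, 6, 4, 10, 12, 14, 8, 6, 4, 13, 5, 7, 9, 15, 13, 11, 5, 7, 9, 15, 13, 11, 5, 7, 9, 15, 13, 11, 5, 7, 9, 15, 13, 11, 5, 7, 9, 15, 13, 11, 12, 10, 12, 14, 8, 6]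
def rw1477 : List ℕ := [15, 13, 11, 5, 7, 9, 15, 13, 11, 5, 7, 9, 15, 13, 11, 5, 7, 9, 15, 13, 11, 5, 7, 9, 15, 13, 11, 10, 10, 12, 14, 8, 6, 4, 10, 12, 14, 8, 6, 4, 10, 12, 14, 8, 6, 4, 10, 12, 14, 8, 6, 4, 10, 12, 14, 8, 6, 4, 11, 5, 7, 9]
noncomputable def relW (i : ℕ) : List ℕ := (Bool.rec (motive := fun _ => List ℕ) (Bool.rec (motive := fun _ => List ℕ) (Bool.rec (motive := fun _ => List ℕ) (Bool.rec (motive := fun _ => List ℕ) (Bool.rec (motive := fun _ => List ℕ) (Bool.rec (motive := fun _ => List ℕ) (Bool.rec (motive := fun _ => List ℕ) (Bool.rec (motive := fun _ => List ℕ) (Bool.rec (motive := fun _ => List ℕ) (Bool.rec (motive := fun _ => List ℕ) (Bool.rec (motive := fun _ => List ℕ) (rw0) (rw1) (Nat.ble 1 i)) (Bool.rec (motive := fun _ => List ℕ) (rw2)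 (rw3) (Nat.ble 3 i)) (Nat.ble 2 i)) (Bool.rec (motive := fun _ => List ℕ) (Bool.rec (motive := fun _ => List ℕ) (rw4) (rw5) (Nat.ble 5 i)) (Bool.rec (motive := fun _ => List ℕ) (rw6) (rw7) (Nat.ble 7 i)) (Nat.ble 6 i)) (Nat.ble 4 i)) (Bool.rec (motive := fun _ => List ℕ) (Bool.rec (motive := fun _ => List ℕ) (Bool.rec (motive := fun _ => List ℕ) (rw8) (rw9) (Nat.ble 9 i)) (Bool.rec (motive := fun _ => List ℕ) (rw10) (rw11) (Nat.ble 11 i)) (Nat.ble 10 i)) (Bool.rec (motive := fun _ => List ℕ) (Bool.rec (motive := fun _ => List ℕ) (rw12) (rw13) (Nat.ble 13 i)) (Bool.rec (motive := fun _ => List ℕ) (rw14) (rw15) (Nat.ble 15 i)) (Nat.ble 14 i)) (Nat.ble 12 i)) (Nat.ble 8 i)) (Bool.rec (motive := fun _ => List ℕ) (Bool.rec (motive := fun _ => List ℕ) (Bool.rec (motive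 := fun _ => List ℕ) (Bool.rec (motive := fun _ => List ℕ) (rw16) (rw17) (Nat.ble 17 i)) (Bool.rec (motive := fun _ => List ℕ) (rw18) (rw19) (Nat.ble 19 i)) (Nat.ble 18 i)) (Bool.rec (motive := fun _ => List ℕ) (Bool.rec (motive := fun _ => List ℕ) (rw20) (rw21) (Nat.ble 21 i)) (Bool.rec (motive := fun _ => List ℕ) (rw22) (rw23) (Nat.ble 23 i)) (Nat.ble 22 i)) (Nat.ble 20 i)) (Bool.rec (motive := fun _ => List ℕ) (Bool.rec (motive := fun _ => List ℕ) (Bool.rec (motive := fun _ => List ℕ) (rw24) (rw25) (Nat.ble 25 i)) (Bool.rec (motive := fun _ => List ℕ) (rw26) (rw27) (Nat.ble 27 i)) (Nat.ble 26 i)) (Bool.rec (motive := fun _ => List ℕ) (Bool.rec (motive := fun _ => List ℕ) (rw28) (rw29) (Nat.ble 29 i)) (Bool.rec (motive := fun _ => List ℕ) (rw30) (rw31) (Nat.ble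 31 i)) (Nat.ble 30 i)) (Nat.ble 28 i)) (Nat.ble 24 i)) (Nat.ble 16 i)) (Bool.rec (motive := fun _ => List ℕ) (Bool.rec (motive := fun _ => List ℕ) (Bool.rec (motive := fun _ => List ℕ) (Bool.rec (motive := fun _ => List ℕ) (Bool.rec (motive := fun _ => List ℕ) (rw32) (rw33) (Nat.ble 33 i)) (Bool.rec (motive := fun _ => List ℕ) (rw34) (rw35) (Nat.ble 35 i)) (Nat.ble 34 i)) (Bool.rec (motive := fun _ => List ℕ) (Bool.rec (motive := fun _ => List ℕ) (rw36) (rw37) (Nat.ble 37 i)) (Bool.rec (motive := fun _ => List ℕ) (rw38) (rw39) (Nat.ble 39 i)) (Nat.ble 38 i)) (Nat.ble 36 i)) (Bool.rec (motive := fun _ => List ℕ) (Bool.rec (motive := fun _ => List ℕ) (Bool.rec (motive := fun _ => List ℕ) (rw40) (rw41) (Nat.ble 41 i)) (Bool.rec (motive := fun _ => List ℕ) (rw42) (rw43)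 (Nat.ble 43 i)) (Nat.ble 42 i)) (Bool.rec (motive := fun _ => List ℕ) (Bool.rec (motive := fun _ => List ℕ) (rw44) (rw45) (Nat.ble 45 i)) (Bool.rec (motive := fun _ => List ℕ) (rw46) (rw47) (Nat.ble 47 i)) (Nat.ble 46 i)) (Nat.ble 44 i)) (Nat.ble 40 i)) (Bool.rec (motive := fun _ => List ℕ) (Bool.rec (motive := fun _ => List ℕ) (Bool.rec (motive := fun _ => List ℕ) (Bool.rec (motive := fun _ => List ℕ) (rw48) (rw49) (Nat.ble 49 i)) (Bool.rec (motive := fun _ => List ℕ) (rw50) (rw51) (Nat.ble 51 i)) (Nat.ble 50 i)) (Bool.rec (motive := fun _ => List ℕ) (Bool.rec (motive := fun _ => List ℕ) (rw52) (rw53) (Nat.ble 53 i)) (Bool.rec (motive := fun _ => List ℕ) (rw54) (rw55) (Nat.ble 55 i)) (Nat.ble 54 i)) (Nat.ble 52 i)) (Bool.rec (motive := fun _ => List ℕ) (Bool.rec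 (motive := fun _ => List ℕ) (Bool.rec (motive := fun _ => List ℕ) (rw56) (rw57) (Nat.ble 57 i)) (Bool.rec (motive := fun _ => List ℕ) (rw58) (rw59) (Nat.ble 59 i)) (Nat.ble 58 i)) (Bool.rec (motive := fun _ => List ℕ) (Bool.rec (motive := fun _ => List ℕ) (rw60) (rw61) (Nat.ble 61 i)) (Bool.rec (motive := fun _ => List ℕ) (rw62) (rw63) (Nat.ble 63 i)) (Nat.ble 62 i)) (Nat.ble 60 i)) (Nat.ble 56 i)) (Nat.ble 48 i)) (Nat.ble 32 i)) (Bool.rec (motive := fun _ => List ℕ) (Bool.rec (motive := fun _ => List ℕ) (Bool.rec (motive := fun _ => List ℕ) (Bool.rec (motive := fun _ => List ℕ) (Bool.rec (motive := fun _ => List ℕ) (Bool.rec (motive := fun _ => List ℕ) (rw64) (rw65) (Nat.ble 65 i)) (Bool.rec (motive := fun _ => List ℕ) (rw66) (rw67) (Nat.ble 67 i)) (Nat.ble 66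 i)) (Bool.rec (motive := fun _ => List ℕ) (Bool.rec (motive := fun _ => List ℕ) (rw68) (rw69) (Nat.ble 69 i)) (Bool.rec (motive := fun _ => List ℕ) (rw70) (rw71) (Nat.ble 71 i)) (Nat.ble 70 i)) (Nat.ble 68 i)) (Bool.rec (motive := fun _ => List ℕ) (Bool.rec (motive := fun _ => List ℕ) (Bool.rec (motive := fun _ => List ℕ) (rw72) (rw73) (Nat.ble 73 i)) (Bool.rec (motive := fun _ => List ℕ) (rw74) (rw75) (Nat.ble 75 i)) (Nat.ble 74 i)) (Bool.rec (motive := fun _ => List ℕ) (Bool.rec (motive := fun _ => List ℕ) (rw76) (rw77) (Nat.ble 77 i)) (Bool.rec (motive := fun _ => List ℕ) (rw78) (rw79) (Nat.ble 79 i)) (Nat.ble 78 i)) (Nat.ble 76 i)) (Nat.ble 72 i)) (Bool.rec (motive := fun _ => List ℕ) (Bool.rec (motive := fun _ => List ℕ) (Bool.rec (motive := fun _ => List ℕ)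 (Bool.rec (motive := fun _ => List ℕ) (rw80) (rw81) (Nat.ble 81 i)) (Bool.rec (motive := fun _ => List ℕ) (rw82) (rw83) (Nat.ble 83 i)) (Nat.ble 82 i)) (Bool.rec (motive := fun _ => List ℕ) (Bool.rec (motive := fun _ => List ℕ) (rw84) (rw85) (Nat.ble 85 i)) (Bool.rec (motive := fun _ => List ℕ) (rw86) (rw87) (Nat.ble 87 i)) (Nat.ble 86 i)) (Nat.ble 84 i)) (Bool.rec (motive := fun _ => List ℕ) (Bool.rec (motive := fun _ => List ℕ) (Bool.rec (motive := fun _ => List ℕ) (rw88) (rw89) (Nat.ble 89 i)) (Bool.rec (motive := fun _ => List ℕ) (rw90) (rw91) (Nat.ble 91 i)) (Nat.ble 90 i)) (Bool.rec (motive := fun _ => List ℕ) (Bool.rec (motive := fun _ => List ℕ) (rw92) (rw93) (Nat.ble 93 i)) (Bool.rec (motive := fun _ => List ℕ) (rw94) (rw95) (Nat.ble 95 i)) (Nat.ble 94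 i)) (Nat.ble 92 i)) (Nat.ble 88 i)) (Nat.ble 80 i)) (Bool.rec (motive := fun _ => List ℕ) (Bool.rec (motive := fun _ => List ℕ) (Bool.rec (motive := fun _ => List ℕ) (Bool.rec (motive := fun _ => List ℕ) (Bool.rec (motive := fun _ => List ℕ) (rw96) (rw97) (Nat.ble 97 i)) (Bool.rec (motive := fun _ => List ℕ) (rw98) (rw99) (Nat.ble 99 i)) (Nat.ble 98 i)) (Bool.rec (motive := fun _ => List ℕ) (Bool.rec (motive := fun _ => List ℕ) (rw100) (rw101) (Nat.ble 101 i)) (Bool.rec (motive := fun _ => List ℕ) (rw102) (rw103) (Nat.ble 103 i)) (Nat.ble 102 i)) (Nat.ble 100 i)) (Bool.rec (motive := fun _ => List ℕ) (Bool.rec (motive := fun _ => List ℕ) (Bool.rec (motive := fun _ => List ℕ) (rw104) (rw105) (Nat.ble 105 i)) (Bool.rec (motive := fun _ => List ℕ) (rw106) (rw107) (Nat.ble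 107 i)) (Nat.ble 106 i)) (Bool.rec (motive := fun _ => List ℕ) (Bool.rec (motive := fun _ => List ℕ) (rw108) (rw109) (Nat.ble 109 i)) (Bool.rec (motive := fun _ => List ℕ) (rw110) (rw111) (Nat.ble 111 i)) (Nat.ble 110 i)) (Nat.ble 108 i)) (Nat.ble 104 i)) (Bool.rec (motive := fun _ => List ℕ) (Bool.rec (motive := fun _ => List ℕ) (Bool.rec (motive := fun _ => List ℕ) (Bool.rec (motive := fun _ => List ℕ) (rw112) (rw113) (Nat.ble 113 i)) (Bool.rec (motive := fun _ => List ℕ) (rw114) (rw115) (Nat.ble 115 i)) (Nat.ble 114 i)) (Bool.rec (motive := fun _ => List ℕ) (Bool.rec (motive := fun _ => List ℕ) (rw116) (rw117) (Nat.ble 117 i)) (Bool.rec (motive := fun _ => List ℕ) (rw118) (rw119) (Nat.ble 119 i)) (Nat.ble 118 i)) (Nat.ble 116 i)) (Bool.rec (motive := fun _ =>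 List ℕ) (Bool.rec (motive := fun _ => List ℕ) (Bool.rec (motive := fun _ => List ℕ) (rw120) (rw121) (Nat.ble 121 i)) (Bool.rec (motive := fun _ => List ℕ) (rw122) (rw123) (Nat.ble 123 i)) (Nat.ble 122 i)) (Bool.rec (motive := fun _ => List ℕ) (Bool.rec (motive := fun _ => List ℕ) (rw124) (rw125) (Nat.ble 125 i)) (Bool.rec (motive := fun _ => List ℕ) (rw126) (rw127) (Nat.ble 127 i)) (Nat.ble 126 i)) (Nat.ble 124 i)) (Nat.ble 120 i)) (Nat.ble 112 i)) (Nat.ble 96 i)) (Nat.ble 64 i)) (Bool.rec (motive := fun _ => List ℕ) (Bool.rec (motive := fun _ => List ℕ) (Bool.rec (motive := fun _ => List ℕ) (Bool.rec (motive := fun _ => List ℕ) (Bool.rec (motive := fun _ => List ℕ) (Bool.rec (motive := fun _ => List ℕ) (Bool.rec (motive := fun _ => List ℕ) (rw128) (rw129) (Nat.ble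 129 i)) (Bool.rec (motive := fun _ => List ℕ) (rw130) (rw131) (Nat.ble 131 i)) (Nat.ble 130 i)) (Bool.rec (motive := fun _ => List ℕ) (Bool.rec (motive := fun _ => List ℕ) (rw132) (rw133) (Nat.ble 133 i)) (Bool.rec (motive := fun _ => List ℕ) (rw134) (rw135) (Nat.ble 135 i)) (Nat.ble 134 i)) (Nat.ble 132 i)) (Bool.rec (motive := fun _ => List ℕ) (Bool.rec (motive := fun _ => List ℕ) (Bool.rec (motive := fun _ => List ℕ) (rw136) (rw137) (Nat.ble 137 i)) (Bool.rec (motive := fun _ => List ℕ) (rw138) (rw139) (Nat.ble 139 i)) (Nat.ble 138 i)) (Bool.rec (motive := fun _ => List ℕ) (Bool.rec (motive := fun _ => List ℕ) (rw140) (rw141) (Nat.ble 141 i)) (Bool.rec (motive := fun _ => List ℕ) (rw142) (rw143) (Nat.ble 143 i)) (Nat.ble 142 i)) (Nat.ble 140 i)) (Nat.ble 136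 i)) (Bool.rec (motive := fun _ => List ℕ) (Bool.rec (motive := fun _ => List ℕ) (Bool.rec (motive := fun _ => List ℕ) (Bool.rec (motive := fun _ => List ℕ) (rw144) (rw145) (Nat.ble 145 i)) (Bool.rec (motive := fun _ => List ℕ) (rw146) (rw147) (Nat.ble 147 i)) (Nat.ble 146 i)) (Bool.rec (motive := fun _ => List ℕ) (Bool.rec (motive := fun _ => List ℕ) (rw148) (rw149) (Nat.ble 149 i)) (Bool.rec (motive := fun _ => List ℕ) (rw150) (rw151) (Nat.ble 151 i)) (Nat.ble 150 i)) (Nat.ble 148 i)) (Bool.rec (motive := fun _ => List ℕ) (Bool.rec (motive := fun _ => List ℕ) (Bool.rec (motive := fun _ => List ℕ) (rw152) (rw153) (Nat.ble 153 i)) (Bool.rec (motive := fun _ => List ℕ) (rw154) (rw155) (Nat.ble 155 i)) (Nat.ble 154 i)) (Bool.rec (motive := fun _ => List ℕ) (Bool.rec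 (motive := fun _ => List ℕ) (rw156) (rw157) (Nat.ble 157 i)) (Bool.rec (motive := fun _ => List ℕ) (rw158) (rw159) (Nat.ble 159 i)) (Nat.ble 158 i)) (Nat.ble 156 i)) (Nat.ble 152 i)) (Nat.ble 144 i)) (Bool.rec (motive := fun _ => List ℕ) (Bool.rec (motive := fun _ => List ℕ) (Bool.rec (motive := fun _ => List ℕ) (Bool.rec (motive := fun _ => List ℕ) (Bool.rec (motive := fun _ => List ℕ) (rw160) (rw161) (Nat.ble 161 i)) (Bool.rec (motive := fun _ => List ℕ) (rw162) (rw163) (Nat.ble 163 i)) (Nat.ble 162 i)) (Bool.rec (motive := fun _ => List ℕ) (Bool.rec (motive := fun _ => List ℕ) (rw164) (rw165) (Nat.ble 165 i)) (Bool.rec (motive := fun _ => List ℕ) (rw166) (rw167) (Nat.ble 167 i)) (Nat.ble 166 i)) (Nat.ble 164 i)) (Bool.rec (motive := fun _ => List ℕ) (Bool.rec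 (motive := fun _ => List ℕ) (Bool.rec (motive := fun _ => List ℕ) (rw168) (rw169) (Nat.ble 169 i)) (Bool.rec (motive := fun _ => List ℕ) (rw170) (rw171) (Nat.ble 171 i)) (Nat.ble 170 i)) (Bool.rec (motive := fun _ => List ℕ) (Bool.rec (motive := fun _ => List ℕ) (rw172) (rw173) (Nat.ble 173 i)) (Bool.rec (motive := fun _ => List ℕ) (rw174) (rw175) (Nat.ble 175 i)) (Nat.ble 174 i)) (Nat.ble 172 i)) (Nat.ble 168 i)) (Bool.rec (motive := fun _ => List ℕ) (Bool.rec (motive := fun _ => List ℕ) (Bool.rec (motive := fun _ => List ℕ) (Bool.rec (motive := fun _ => List ℕ) (rw176) (rw177) (Nat.ble 177 i)) (Bool.rec (motive := fun _ => List ℕ) (rw178) (rw179) (Nat.ble 179 i)) (Nat.ble 178 i)) (Bool.rec (motive := fun _ => List ℕ) (Bool.rec (motive := fun _ => List ℕ) (rw180)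 (rw181) (Nat.ble 181 i)) (Bool.rec (motive := fun _ => List ℕ) (rw182) (rw183) (Nat.ble 183 i)) (Nat.ble 182 i)) (Nat.ble 180 i)) (Bool.rec (motive := fun _ => List ℕ) (Bool.rec (motive := fun _ => List ℕ) (Bool.rec (motive := fun _ => List ℕ) (rw184) (rw185) (Nat.ble 185 i)) (Bool.rec (motive := fun _ => List ℕ) (rw186) (rw187) (Nat.ble 187 i)) (Nat.ble 186 i)) (Bool.rec (motive := fun _ => List ℕ) (Bool.rec (motive := fun _ => List ℕ) (rw188) (rw189) (Nat.ble 189 i)) (Bool.rec (motive := fun _ => List ℕ) (rw190) (rw191) (Nat.ble 191 i)) (Nat.ble 190 i)) (Nat.ble 188 i)) (Nat.ble 184 i)) (Nat.ble 176 i)) (Nat.ble 160 i)) (Bool.rec (motive := fun _ => List ℕ) (Bool.rec (motive := fun _ => List ℕ) (Bool.rec (motive := fun _ => List ℕ) (Bool.rec (motive := fun _ =>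 List ℕ) (Bool.rec (motive := fun _ => List ℕ) (Bool.rec (motive := fun _ => List ℕ) (rw192) (rw193) (Nat.ble 193 i)) (Bool.rec (motive := fun _ => List ℕ) (rw194) (rw195) (Nat.ble 195 i)) (Nat.ble 194 i)) (Bool.rec (motive := fun _ => List ℕ) (Bool.rec (motive := fun _ => List ℕ) (rw196) (rw197) (Nat.ble 197 i)) (Bool.rec (motive := fun _ => List ℕ) (rw198) (rw199) (Nat.ble 199 i)) (Nat.ble 198 i)) (Nat.ble 196 i)) (Bool.rec (motive := fun _ => List ℕ) (Bool.rec (motive := fun _ => List ℕ) (Bool.rec (motive := fun _ => List ℕ) (rw200) (rw201) (Nat.ble 201 i)) (Bool.rec (motive := fun _ => List ℕ) (rw202) (rw203) (Nat.ble 203 i)) (Nat.ble 202 i)) (Bool.rec (motive := fun _ => List ℕ) (Bool.rec (motive := fun _ => List ℕ) (rw204) (rw205) (Nat.ble 205 i)) (Bool.rec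 (motive := fun _ => List ℕ) (rw206) (rw207) (Nat.ble 207 i)) (Nat.ble 206 i)) (Nat.ble 204 i)) (Nat.ble 200 i)) (Bool.rec (motive := fun _ => List ℕ) (Bool.rec (motive := fun _ => List ℕ) (Bool.rec (motive := fun _ => List ℕ) (Bool.rec (motive := fun _ => List ℕ) (rw208) (rw209) (Nat.ble 209 i)) (Bool.rec (motive := fun _ => List ℕ) (rw210) (rw211) (Nat.ble 211 i)) (Nat.ble 210 i)) (Bool.rec (motive := fun _ => List ℕ) (Bool.rec (motive := fun _ => List ℕ) (rw212) (rw213) (Nat.ble 213 i)) (Bool.rec (motive := fun _ => List ℕ) (rw214) (rw215) (Nat.ble 215 i)) (Nat.ble 214 i)) (Nat.ble 212 i)) (Bool.rec (motive := fun _ => List ℕ) (Bool.rec (motive := fun _ => List ℕ) (Bool.rec (motive := fun _ => List ℕ) (rw216) (rw217) (Nat.ble 217 i)) (Bool.rec (motive := fun _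 => List ℕ) (rw218) (rw219) (Nat.ble 219 i)) (Nat.ble 218 i)) (Bool.rec (motive := fun _ => List ℕ) (Bool.rec (motive := fun _ => List ℕ) (rw220) (rw221) (Nat.ble 221 i)) (Bool.rec (motive := fun _ => List ℕ) (rw222) (rw223) (Nat.ble 223 i)) (Nat.ble 222 i)) (Nat.ble 220 i)) (Nat.ble 216 i)) (Nat.ble 208 i)) (Bool.rec (motive := fun _ => List ℕ) (Bool.rec (motive := fun _ => List ℕ) (Bool.rec (motive := fun _ => List ℕ) (Bool.rec (motive := fun _ => List ℕ) (Bool.rec (motive := fun _ => List ℕ) (rw224) (rw225) (Nat.ble 225 i)) (Bool.rec (motive := fun _ => List ℕ) (rw226) (rw227) (Nat.ble 227 i)) (Nat.ble 226 i)) (Bool.rec (motive := fun _ => List ℕ) (Bool.rec (motive := fun _ => List ℕ) (rw228) (rw229) (Nat.ble 229 i)) (Bool.rec (motive := fun _ => List ℕ) (rw230)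 (rw231) (Nat.ble 231 i)) (Nat.ble 230 i)) (Nat.ble 228 i)) (Bool.rec (motive := fun _ => List ℕ) (Bool.rec (motive := fun _ => List ℕ) (Bool.rec (motive := fun _ => List ℕ) (rw232) (rw233) (Nat.ble 233 i)) (Bool.rec (motive := fun _ => List ℕ) (rw234) (rw235) (Nat.ble 235 i)) (Nat.ble 234 i)) (Bool.rec (motive := fun _ => List ℕ) (Bool.rec (motive := fun _ => List ℕ) (rw236) (rw237) (Nat.ble 237 i)) (Bool.rec (motive := fun _ => List ℕ) (rw238) (rw239) (Nat.ble 239 i)) (Nat.ble 238 i)) (Nat.ble 236 i)) (Nat.ble 232 i)) (Bool.rec (motive := fun _ => List ℕ) (Bool.rec (motive := fun _ => List ℕ) (Bool.rec (motive := fun _ => List ℕ) (Bool.rec (motive := fun _ => List ℕ) (rw240) (rw241) (Nat.ble 241 i)) (Bool.rec (motive := fun _ => List ℕ) (rw242) (rw243) (Nat.ble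 243 i)) (Nat.ble 242 i)) (Bool.rec (motive := fun _ => List ℕ) (Bool.rec (motive := fun _ => List ℕ) (rw244) (rw245) (Nat.ble 245 i)) (Bool.rec (motive := fun _ => List ℕ) (rw246) (rw247) (Nat.ble 247 i)) (Nat.ble 246 i)) (Nat.ble 244 i)) (Bool.rec (motive := fun _ => List ℕ) (Bool.rec (motive := fun _ => List ℕ) (Bool.rec (motive := fun _ => List ℕ) (rw248) (rw249) (Nat.ble 249 i)) (Bool.rec (motive := fun _ => List ℕ) (rw250) (rw251) (Nat.ble 251 i)) (Nat.ble 250 i)) (Bool.rec (motive := fun _ => List ℕ) (Bool.rec (motive := fun _ => List ℕ) (rw252) (rw253) (Nat.ble 253 i)) (Bool.rec (motive := fun _ => List ℕ) (rw254) (rw255) (Nat.ble 255 i)) (Nat.ble 254 i)) (Nat.ble 252 i)) (Nat.ble 248 i)) (Nat.ble 240 i)) (Nat.ble 224 i)) (Nat.ble 192 i)) (Nat.ble 128 i))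 (Bool.rec (motive := fun _ => List ℕ) (Bool.rec (motive := fun _ => List ℕ) (Bool.rec (motive := fun _ => List ℕ) (Bool.rec (motive := fun _ => List ℕ) (Bool.rec (motive := fun _ => List ℕ) (Bool.rec (motive := fun _ => List ℕ) (Bool.rec (motive := fun _ => List ℕ) (Bool.rec (motive := fun _ => List ℕ) (rw256) (rw257) (Nat.ble 257 i)) (Bool.rec (motive := fun _ => List ℕ) (rw258) (rw259) (Nat.ble 259 i)) (Nat.ble 258 i)) (Bool.rec (motive := fun _ => List ℕ) (Bool.rec (motive := fun _ => List ℕ) (rw260) (rw261) (Nat.ble 261 i)) (Bool.rec (motive := fun _ => List ℕ) (rw262) (rw263) (Nat.ble 263 i)) (Nat.ble 262 i)) (Nat.ble 260 i)) (Bool.rec (motive := fun _ => List ℕ) (Bool.rec (motive := fun _ => List ℕ) (Bool.rec (motive := fun _ => List ℕ) (rw264) (rw265) (Nat.ble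 265 i)) (Bool.rec (motive := fun _ => List ℕ) (rw266) (rw267) (Nat.ble 267 i)) (Nat.ble 266 i)) (Bool.rec (motive := fun _ => List ℕ) (Bool.rec (motive := fun _ => List ℕ) (rw268) (rw269) (Nat.ble 269 i)) (Bool.rec (motive := fun _ => List ℕ) (rw270) (rw271) (Nat.ble 271 i)) (Nat.ble 270 i)) (Nat.ble 268 i)) (Nat.ble 264 i)) (Bool.rec (motive := fun _ => List ℕ) (Bool.rec (motive := fun _ => List ℕ) (Bool.rec (motive := fun _ => List ℕ) (Bool.rec (motive := fun _ => List ℕ) (rw272) (rw273) (Nat.ble 273 i)) (Bool.rec (motive := fun _ => List ℕ) (rw274) (rw275) (Nat.ble 275 i)) (Nat.ble 274 i)) (Bool.rec (motive := fun _ => List ℕ) (Bool.rec (motive := fun _ => List ℕ) (rw276) (rw277) (Nat.ble 277 i)) (Bool.rec (motive := fun _ => List ℕ) (rw278) (rw279) (Nat.ble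 279 i)) (Nat.ble 278 i)) (Nat.ble 276 i)) (Bool.rec (motive := fun _ => List ℕ) (Bool.rec (motive := fun _ => List ℕ) (Bool.rec (motive := fun _ => List ℕ) (rw280) (rw281) (Nat.ble 281 i)) (Bool.rec (motive := fun _ => List ℕ) (rw282) (rw283) (Nat.ble 283 i)) (Nat.ble 282 i)) (Bool.rec (motive := fun _ => List ℕ) (Bool.rec (motive := fun _ => List ℕ) (rw284) (rw285) (Nat.ble 285 i)) (Bool.rec (motive := fun _ => List ℕ) (rw286) (rw287) (Nat.ble 287 i)) (Nat.ble 286 i)) (Nat.ble 284 i)) (Nat.ble 280 i)) (Nat.ble 272 i)) (Bool.rec (motive := fun _ => List ℕ) (Bool.rec (motive := fun _ => List ℕ) (Bool.rec (motive := fun _ => List ℕ) (Bool.rec (motive := fun _ => List ℕ) (Bool.rec (motive := fun _ => List ℕ) (rw288) (rw289) (Nat.ble 289 i)) (Bool.rec (motive := fun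 _ => List ℕ) (rw290) (rw291) (Nat.ble 291 i)) (Nat.ble 290 i)) (Bool.rec (motive := fun _ => List ℕ) (Bool.rec (motive := fun _ => List ℕ) (rw292) (rw293) (Nat.ble 293 i)) (Bool.rec (motive := fun _ => List ℕ) (rw294) (rw295) (Nat.ble 295 i)) (Nat.ble 294 i)) (Nat.ble 292 i)) (Bool.rec (motive := fun _ => List ℕ) (Bool.rec (motive := fun _ => List ℕ) (Bool.rec (motive := fun _ => List ℕ) (rw296) (rw297) (Nat.ble 297 i)) (Bool.rec (motive := fun _ => List ℕ) (rw298) (rw299) (Nat.ble 299 i)) (Nat.ble 298 i)) (Bool.rec (motive := fun _ => List ℕ) (Bool.rec (motive := fun _ => List ℕ) (rw300) (rw301) (Nat.ble 301 i)) (Bool.rec (motive := fun _ => List ℕ) (rw302) (rw303) (Nat.ble 303 i)) (Nat.ble 302 i)) (Nat.ble 300 i)) (Nat.ble 296 i)) (Bool.rec (motive := fun _ =>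 List ℕ) (Bool.rec (motive := fun _ => List ℕ) (Bool.rec (motive := fun _ => List ℕ) (Bool.rec (motive := fun _ => List ℕ) (rw304) (rw305) (Nat.ble 305 i)) (Bool.rec (motive := fun _ => List ℕ) (rw306) (rw307) (Nat.ble 307 i)) (Nat.ble 306 i)) (Bool.rec (motive := fun _ => List ℕ) (Bool.rec (motive := fun _ => List ℕ) (rw308) (rw309) (Nat.ble 309 i)) (Bool.rec (motive := fun _ => List ℕ) (rw310) (rw311) (Nat.ble 311 i)) (Nat.ble 310 i)) (Nat.ble 308 i)) (Bool.rec (motive := fun _ => List ℕ) (Bool.rec (motive := fun _ => List ℕ) (Bool.rec (motive := fun _ => List ℕ) (rw312) (rw313) (Nat.ble 313 i)) (Bool.rec (motive := fun _ => List ℕ) (rw314) (rw315) (Nat.ble 315 i)) (Nat.ble 314 i)) (Bool.rec (motive := fun _ => List ℕ) (Bool.rec (motive := fun _ => List ℕ) (rw316)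 (rw317) (Nat.ble 317 i)) (Bool.rec (motive := fun _ => List ℕ) (rw318) (rw319) (Nat.ble 319 i)) (Nat.ble 318 i)) (Nat.ble 316 i)) (Nat.ble 312 i)) (Nat.ble 304 i)) (Nat.ble 288 i)) (Bool.rec (motive := fun _ => List ℕ) (Bool.rec (motive := fun _ => List ℕ) (Bool.rec (motive := fun _ => List ℕ) (Bool.rec (motive := fun _ => List ℕ) (Bool.rec (motive := fun _ => List ℕ) (Bool.rec (motive := fun _ => List ℕ) (rw320) (rw321) (Nat.ble 321 i)) (Bool.rec (motive := fun _ => List ℕ) (rw322) (rw323) (Nat.ble 323 i)) (Nat.ble 322 i)) (Bool.rec (motive := fun _ => List ℕ) (Bool.rec (motive := fun _ => List ℕ) (rw324) (rw325) (Nat.ble 325 i)) (Bool.rec (motive := fun _ => List ℕ) (rw326) (rw327) (Nat.ble 327 i)) (Nat.ble 326 i)) (Nat.ble 324 i)) (Bool.rec (motive := fun _ =>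 List ℕ) (Bool.rec (motive := fun _ => List ℕ) (Bool.rec (motive := fun _ => List ℕ) (rw328) (rw329) (Nat.ble 329 i)) (Bool.rec (motive := fun _ => List ℕ) (rw330) (rw331) (Nat.ble 331 i)) (Nat.ble 330 i)) (Bool.rec (motive := fun _ => List ℕ) (Bool.rec (motive := fun _ => List ℕ) (rw332) (rw333) (Nat.ble 333 i)) (Bool.rec (motive := fun _ => List ℕ) (rw334) (rw335) (Nat.ble 335 i)) (Nat.ble 334 i)) (Nat.ble 332 i)) (Nat.ble 328 i)) (Bool.rec (motive := fun _ => List ℕ) (Bool.rec (motive := fun _ => List ℕ) (Bool.rec (motive := fun _ => List ℕ) (Bool.rec (motive := fun _ => List ℕ) (rw336) (rw337) (Nat.ble 337 i)) (Bool.rec (motive := fun _ => List ℕ) (rw338) (rw339) (Nat.ble 339 i)) (Nat.ble 338 i)) (Bool.rec (motive := fun _ => List ℕ) (Bool.rec (motive := fun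 _ => List ℕ) (rw340) (rw341) (Nat.ble 341 i)) (Bool.rec (motive := fun _ => List ℕ) (rw342) (rw343) (Nat.ble 343 i)) (Nat.ble 342 i)) (Nat.ble 340 i)) (Bool.rec (motive := fun _ => List ℕ) (Bool.rec (motive := fun _ => List ℕ) (Bool.rec (motive := fun _ => List ℕ) (rw344) (rw345) (Nat.ble 345 i)) (Bool.rec (motive := fun _ => List ℕ) (rw346) (rw347) (Nat.ble 347 i)) (Nat.ble 346 i)) (Bool.rec (motive := fun _ => List ℕ) (Bool.rec (motive := fun _ => List ℕ) (rw348) (rw349) (Nat.ble 349 i)) (Bool.rec (motive := fun _ => List ℕ) (rw350) (rw351) (Nat.ble 351 i)) (Nat.ble 350 i)) (Nat.ble 348 i)) (Nat.ble 344 i)) (Nat.ble 336 i)) (Bool.rec (motive := fun _ => List ℕ) (Bool.rec (motive := fun _ => List ℕ) (Bool.rec (motive := fun _ => List ℕ) (Bool.rec (motive := fun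 _ => List ℕ) (Bool.rec (motive := fun _ => List ℕ) (rw352) (rw353) (Nat.ble 353 i)) (Bool.rec (motive := fun _ => List ℕ) (rw354) (rw355) (Nat.ble 355 i)) (Nat.ble 354 i)) (Bool.rec (motive := fun _ => List ℕ) (Bool.rec (motive := fun _ => List ℕ) (rw356) (rw357) (Nat.ble 357 i)) (Bool.rec (motive := fun _ => List ℕ) (rw358) (rw359) (Nat.ble 359 i)) (Nat.ble 358 i)) (Nat.ble 356 i)) (Bool.rec (motive := fun _ => List ℕ) (Bool.rec (motive := fun _ => List ℕ) (Bool.rec (motive := fun _ => List ℕ) (rw360) (rw361) (Nat.ble 361 i)) (Bool.rec (motive := fun _ => List ℕ) (rw362) (rw363) (Nat.ble 363 i)) (Nat.ble 362 i)) (Bool.rec (motive := fun _ => List ℕ) (Bool.rec (motive := fun _ => List ℕ) (rw364) (rw365) (Nat.ble 365 i)) (Bool.rec (motive := fun _ => List ℕ) (rw366)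 (rw367) (Nat.ble 367 i)) (Nat.ble 366 i)) (Nat.ble 364 i)) (Nat.ble 360 i)) (Bool.rec (motive := fun _ => List ℕ) (Bool.rec (motive := fun _ => List ℕ) (Bool.rec (motive := fun _ => List ℕ) (Bool.rec (motive := fun _ => List ℕ) (rw368) (rw369) (Nat.ble 369 i)) (Bool.rec (motive := fun _ => List ℕ) (rw370) (rw371) (Nat.ble 371 i)) (Nat.ble 370 i)) (Bool.rec (motive := fun _ => List ℕ) (Bool.rec (motive := fun _ => List ℕ) (rw372) (rw373) (Nat.ble 373 i)) (Bool.rec (motive := fun _ => List ℕ) (rw374) (rw375) (Nat.ble 375 i)) (Nat.ble 374 i)) (Nat.ble 372 i)) (Bool.rec (motive := fun _ => List ℕ) (Bool.rec (motive := fun _ => List ℕ) (Bool.rec (motive := fun _ => List ℕ) (rw376) (rw377) (Nat.ble 377 i)) (Bool.rec (motive := fun _ => List ℕ) (rw378) (rw379) (Nat.ble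 379 i)) (Nat.ble 378 i)) (Bool.rec (motive := fun _ => List ℕ) (Bool.rec (motive := fun _ => List ℕ) (rw380) (rw381) (Nat.ble 381 i)) (Bool.rec (motive := fun _ => List ℕ) (rw382) (rw383) (Nat.ble 383 i)) (Nat.ble 382 i)) (Nat.ble 380 i)) (Nat.ble 376 i)) (Nat.ble 368 i)) (Nat.ble 352 i)) (Nat.ble 320 i)) (Bool.rec (motive := fun _ => List ℕ) (Bool.rec (motive := fun _ => List ℕ) (Bool.rec (motive := fun _ => List ℕ) (Bool.rec (motive := fun _ => List ℕ) (Bool.rec (motive := fun _ => List ℕ) (Bool.rec (motive := fun _ => List ℕ) (Bool.rec (motive := fun _ => List ℕ) (rw384) (rw385) (Nat.ble 385 i)) (Bool.rec (motive := fun _ => List ℕ) (rw386) (rw387) (Nat.ble 387 i)) (Nat.ble 386 i)) (Bool.rec (motive := fun _ => List ℕ) (Bool.rec (motive := fun _ => List ℕ) (rw388)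 (rw389) (Nat.ble 389 i)) (Bool.rec (motive := fun _ => List ℕ) (rw390) (rw391) (Nat.ble 391 i)) (Nat.ble 390 i)) (Nat.ble 388 i)) (Bool.rec (motive := fun _ => List ℕ) (Bool.rec (motive := fun _ => List ℕ) (Bool.rec (motive := fun _ => List ℕ) (rw392) (rw393) (Nat.ble 393 i)) (Bool.rec (motive := fun _ => List ℕ) (rw394) (rw395) (Nat.ble 395 i)) (Nat.ble 394 i)) (Bool.rec (motive := fun _ => List ℕ) (Bool.rec (motive := fun _ => List ℕ) (rw396) (rw397) (Nat.ble 397 i)) (Bool.rec (motive := fun _ => List ℕ) (rw398) (rw399) (Nat.ble 399 i)) (Nat.ble 398 i)) (Nat.ble 396 i)) (Nat.ble 392 i)) (Bool.rec (motive := fun _ => List ℕ) (Bool.rec (motive := fun _ => List ℕ) (Bool.rec (motive := fun _ => List ℕ) (Bool.rec (motive := fun _ => List ℕ) (rw400) (rw401) (Nat.ble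 401 i)) (Bool.rec (motive := fun _ => List ℕ) (rw402) (rw403) (Nat.ble 403 i)) (Nat.ble 402 i)) (Bool.rec (motive := fun _ => List ℕ) (Bool.rec (motive := fun _ => List ℕ) (rw404) (rw405) (Nat.ble 405 i)) (Bool.rec (motive := fun _ => List ℕ) (rw406) (rw407) (Nat.ble 407 i)) (Nat.ble 406 i)) (Nat.ble 404 i)) (Bool.rec (motive := fun _ => List ℕ) (Bool.rec (motive := fun _ => List ℕ) (Bool.rec (motive := fun _ => List ℕ) (rw408) (rw409) (Nat.ble 409 i)) (Bool.rec (motive := fun _ => List ℕ) (rw410) (rw411) (Nat.ble 411 i)) (Nat.ble 410 i)) (Bool.rec (motive := fun _ => List ℕ) (Bool.rec (motive := fun _ => List ℕ) (rw412) (rw413) (Nat.ble 413 i)) (Bool.rec (motive := fun _ => List ℕ) (rw414) (rw415) (Nat.ble 415 i)) (Nat.ble 414 i)) (Nat.ble 412 i)) (Nat.ble 408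 i)) (Nat.ble 400 i)) (Bool.rec (motive := fun _ => List ℕ) (Bool.rec (motive := fun _ => List ℕ) (Bool.rec (motive := fun _ => List ℕ) (Bool.rec (motive := fun _ => List ℕ) (Bool.rec (motive := fun _ => List ℕ) (rw416) (rw417) (Nat.ble 417 i)) (Bool.rec (motive := fun _ => List ℕ) (rw418) (rw419) (Nat.ble 419 i)) (Nat.ble 418 i)) (Bool.rec (motive := fun _ => List ℕ) (Bool.rec (motive := fun _ => List ℕ) (rw420) (rw421) (Nat.ble 421 i)) (Bool.rec (motive := fun _ => List ℕ) (rw422) (rw423) (Nat.ble 423 i)) (Nat.ble 422 i)) (Nat.ble 420 i)) (Bool.rec (motive := fun _ => List ℕ) (Bool.rec (motive := fun _ => List ℕ) (Bool.rec (motive := fun _ => List ℕ) (rw424) (rw425) (Nat.ble 425 i)) (Bool.rec (motive := fun _ => List ℕ) (rw426) (rw427) (Nat.ble 427 i)) (Nat.ble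 426 i)) (Bool.rec (motive := fun _ => List ℕ) (Bool.rec (motive := fun _ => List ℕ) (rw428) (rw429) (Nat.ble 429 i)) (Bool.rec (motive := fun _ => List ℕ) (rw430) (rw431) (Nat.ble 431 i)) (Nat.ble 430 i)) (Nat.ble 428 i)) (Nat.ble 424 i)) (Bool.rec (motive := fun _ => List ℕ) (Bool.rec (motive := fun _ => List ℕ) (Bool.rec (motive := fun _ => List ℕ) (Bool.rec (motive := fun _ => List ℕ) (rw432) (rw433) (Nat.ble 433 i)) (Bool.rec (motive := fun _ => List ℕ) (rw434) (rw435) (Nat.ble 435 i)) (Nat.ble 434 i)) (Bool.rec (motive := fun _ => List ℕ) (Bool.rec (motive := fun _ => List ℕ) (rw436) (rw437) (Nat.ble 437 i)) (Bool.rec (motive := fun _ => List ℕ) (rw438) (rw439) (Nat.ble 439 i)) (Nat.ble 438 i)) (Nat.ble 436 i)) (Bool.rec (motive := fun _ => List ℕ) (Bool.rec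 (motive := fun _ => List ℕ) (Bool.rec (motive := fun _ => List ℕ) (rw440) (rw441) (Nat.ble 441 i)) (Bool.rec (motive := fun _ => List ℕ) (rw442) (rw443) (Nat.ble 443 i)) (Nat.ble 442 i)) (Bool.rec (motive := fun _ => List ℕ) (Bool.rec (motive := fun _ => List ℕ) (rw444) (rw445) (Nat.ble 445 i)) (Bool.rec (motive := fun _ => List ℕ) (rw446) (rw447) (Nat.ble 447 i)) (Nat.ble 446 i)) (Nat.ble 444 i)) (Nat.ble 440 i)) (Nat.ble 432 i)) (Nat.ble 416 i)) (Bool.rec (motive := fun _ => List ℕ) (Bool.rec (motive := fun _ => List ℕ) (Bool.rec (motive := fun _ => List ℕ) (Bool.rec (motive := fun _ => List ℕ) (Bool.rec (motive := fun _ => List ℕ) (Bool.rec (motive := fun _ => List ℕ) (rw448) (rw449) (Nat.ble 449 i)) (Bool.rec (motive := fun _ => List ℕ) (rw450) (rw451) (Nat.ble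 451 i)) (Nat.ble 450 i)) (Bool.rec (motive := fun _ => List ℕ) (Bool.rec (motive := fun _ => List ℕ) (rw452) (rw453) (Nat.ble 453 i)) (Bool.rec (motive := fun _ => List ℕ) (rw454) (rw455) (Nat.ble 455 i)) (Nat.ble 454 i)) (Nat.ble 452 i)) (Bool.rec (motive := fun _ => List ℕ) (Bool.rec (motive := fun _ => List ℕ) (Bool.rec (motive := fun _ => List ℕ) (rw456) (rw457) (Nat.ble 457 i)) (Bool.rec (motive := fun _ => List ℕ) (rw458) (rw459) (Nat.ble 459 i)) (Nat.ble 458 i)) (Bool.rec (motive := fun _ => List ℕ) (Bool.rec (motive := fun _ => List ℕ) (rw460) (rw461) (Nat.ble 461 i)) (Bool.rec (motive := fun _ => List ℕ) (rw462) (rw463) (Nat.ble 463 i)) (Nat.ble 462 i)) (Nat.ble 460 i)) (Nat.ble 456 i)) (Bool.rec (motive := fun _ => List ℕ) (Bool.rec (motive := fun _ =>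 List ℕ) (Bool.rec (motive := fun _ => List ℕ) (Bool.rec (motive := fun _ => List ℕ) (rw464) (rw465) (Nat.ble 465 i)) (Bool.rec (motive := fun _ => List ℕ) (rw466) (rw467) (Nat.ble 467 i)) (Nat.ble 466 i)) (Bool.rec (motive := fun _ => List ℕ) (Bool.rec (motive := fun _ => List ℕ) (rw468) (rw469) (Nat.ble 469 i)) (Bool.rec (motive := fun _ => List ℕ) (rw470) (rw471) (Nat.ble 471 i)) (Nat.ble 470 i)) (Nat.ble 468 i)) (Bool.rec (motive := fun _ => List ℕ) (Bool.rec (motive := fun _ => List ℕ) (Bool.rec (motive := fun _ => List ℕ) (rw472) (rw473) (Nat.ble 473 i)) (Bool.rec (motive := fun _ => List ℕ) (rw474) (rw475) (Nat.ble 475 i)) (Nat.ble 474 i)) (Bool.rec (motive := fun _ => List ℕ) (Bool.rec (motive := fun _ => List ℕ) (rw476) (rw477) (Nat.ble 477 i)) (Bool.rec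 (motive := fun _ => List ℕ) (rw478) (rw479) (Nat.ble 479 i)) (Nat.ble 478 i)) (Nat.ble 476 i)) (Nat.ble 472 i)) (Nat.ble 464 i)) (Bool.rec (motive := fun _ => List ℕ) (Bool.rec (motive := fun _ => List ℕ) (Bool.rec (motive := fun _ => List ℕ) (Bool.rec (motive := fun _ => List ℕ) (Bool.rec (motive := fun _ => List ℕ) (rw480) (rw481) (Nat.ble 481 i)) (Bool.rec (motive := fun _ => List ℕ) (rw482) (rw483) (Nat.ble 483 i)) (Nat.ble 482 i)) (Bool.rec (motive := fun _ => List ℕ) (Bool.rec (motive := fun _ => List ℕ) (rw484) (rw485) (Nat.ble 485 i)) (Bool.rec (motive := fun _ => List ℕ) (rw486) (rw487) (Nat.ble 487 i)) (Nat.ble 486 i)) (Nat.ble 484 i)) (Bool.rec (motive := fun _ => List ℕ) (Bool.rec (motive := fun _ => List ℕ) (Bool.rec (motive := fun _ => List ℕ) (rw488)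 (rw489) (Nat.ble 489 i)) (Bool.rec (motive := fun _ => List ℕ) (rw490) (rw491) (Nat.ble 491 i)) (Nat.ble 490 i)) (Bool.rec (motive := fun _ => List ℕ) (Bool.rec (motive := fun _ => List ℕ) (rw492) (rw493) (Nat.ble 493 i)) (Bool.rec (motive := fun _ => List ℕ) (rw494) (rw495) (Nat.ble 495 i)) (Nat.ble 494 i)) (Nat.ble 492 i)) (Nat.ble 488 i)) (Bool.rec (motive := fun _ => List ℕ) (Bool.rec (motive := fun _ => List ℕ) (Bool.rec (motive := fun _ => List ℕ) (Bool.rec (motive := fun _ => List ℕ) (rw496) (rw497) (Nat.ble 497 i)) (Bool.rec (motive := fun _ => List ℕ) (rw498) (rw499) (Nat.ble 499 i)) (Nat.ble 498 i)) (Bool.rec (motive := fun _ => List ℕ) (Bool.rec (motive := fun _ => List ℕ) (rw500) (rw501) (Nat.ble 501 i)) (Bool.rec (motive := fun _ => List ℕ) (rw502)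 (rw503) (Nat.ble 503 i)) (Nat.ble 502 i)) (Nat.ble 500 i)) (Bool.rec (motive := fun _ => List ℕ) (Bool.rec (motive := fun _ => List ℕ) (Bool.rec (motive := fun _ => List ℕ) (rw504) (rw505) (Nat.ble 505 i)) (Bool.rec (motive := fun _ => List ℕ) (rw506) (rw507) (Nat.ble 507 i)) (Nat.ble 506 i)) (Bool.rec (motive := fun _ => List ℕ) (Bool.rec (motive := fun _ => List ℕ) (rw508) (rw509) (Nat.ble 509 i)) (Bool.rec (motive := fun _ => List ℕ) (rw510) (rw511) (Nat.ble 511 i)) (Nat.ble 510 i)) (Nat.ble 508 i)) (Nat.ble 504 i)) (Nat.ble 496 i)) (Nat.ble 480 i)) (Nat.ble 448 i)) (Nat.ble 384 i)) (Nat.ble 256 i)) (Bool.rec (motive := fun _ => List ℕ) (Bool.rec (motive := fun _ => List ℕ) (Bool.rec (motive := fun _ => List ℕ) (Bool.rec (motive := fun _ => List ℕ) (Bool.rec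 (motive := fun _ => List ℕ) (Bool.rec (motive := fun _ => List ℕ) (Bool.rec (motive := fun _ => List ℕ) (Bool.rec (motive := fun _ => List ℕ) (Bool.rec (motive := fun _ => List ℕ) (rw512) (rw513) (Nat.ble 513 i)) (Bool.rec (motive := fun _ => List ℕ) (rw514) (rw515) (Nat.ble 515 i)) (Nat.ble 514 i)) (Bool.rec (motive := fun _ => List ℕ) (Bool.rec (motive := fun _ => List ℕ) (rw516) (rw517) (Nat.ble 517 i)) (Bool.rec (motive := fun _ => List ℕ) (rw518) (rw519) (Nat.ble 519 i)) (Nat.ble 518 i)) (Nat.ble 516 i)) (Bool.rec (motive := fun _ => List ℕ) (Bool.rec (motive := fun _ => List ℕ) (Bool.rec (motive := fun _ => List ℕ) (rw520) (rw521) (Nat.ble 521 i)) (Bool.rec (motive := fun _ => List ℕ) (rw522) (rw523) (Nat.ble 523 i)) (Nat.ble 522 i)) (Bool.rec (motive := fun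 _ => List ℕ) (Bool.rec (motive := fun _ => List ℕ) (rw524) (rw525) (Nat.ble 525 i)) (Bool.rec (motive := fun _ => List ℕ) (rw526) (rw527) (Nat.ble 527 i)) (Nat.ble 526 i)) (Nat.ble 524 i)) (Nat.ble 520 i)) (Bool.rec (motive := fun _ => List ℕ) (Bool.rec (motive := fun _ => List ℕ) (Bool.rec (motive := fun _ => List ℕ) (Bool.rec (motive := fun _ => List ℕ) (rw528) (rw529) (Nat.ble 529 i)) (Bool.rec (motive := fun _ => List ℕ) (rw530) (rw531) (Nat.ble 531 i)) (Nat.ble 530 i)) (Bool.rec (motive := fun _ => List ℕ) (Bool.rec (motive := fun _ => List ℕ) (rw532) (rw533) (Nat.ble 533 i)) (Bool.rec (motive := fun _ => List ℕ) (rw534) (rw535) (Nat.ble 535 i)) (Nat.ble 534 i)) (Nat.ble 532 i)) (Bool.rec (motive := fun _ => List ℕ) (Bool.rec (motive := fun _ => List ℕ) (Bool.rec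 (motive := fun _ => List ℕ) (rw536) (rw537) (Nat.ble 537 i)) (Bool.rec (motive := fun _ => List ℕ) (rw538) (rw539) (Nat.ble 539 i)) (Nat.ble 538 i)) (Bool.rec (motive := fun _ => List ℕ) (Bool.rec (motive := fun _ => List ℕ) (rw540) (rw541) (Nat.ble 541 i)) (Bool.rec (motive := fun _ => List ℕ) (rw542) (rw543) (Nat.ble 543 i)) (Nat.ble 542 i)) (Nat.ble 540 i)) (Nat.ble 536 i)) (Nat.ble 528 i)) (Bool.rec (motive := fun _ => List ℕ) (Bool.rec (motive := fun _ => List ℕ) (Bool.rec (motive := fun _ => List ℕ) (Bool.rec (motive := fun _ => List ℕ) (Bool.rec (motive := fun _ => List ℕ) (rw544) (rw545) (Nat.ble 545 i)) (Bool.rec (motive := fun _ => List ℕ) (rw546) (rw547) (Nat.ble 547 i)) (Nat.ble 546 i)) (Bool.rec (motive := fun _ => List ℕ) (Bool.rec (motive := fun _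 => List ℕ) (rw548) (rw549) (Nat.ble 549 i)) (Bool.rec (motive := fun _ => List ℕ) (rw550) (rw551) (Nat.ble 551 i)) (Nat.ble 550 i)) (Nat.ble 548 i)) (Bool.rec (motive := fun _ => List ℕ) (Bool.rec (motive := fun _ => List ℕ) (Bool.rec (motive := fun _ => List ℕ) (rw552) (rw553) (Nat.ble 553 i)) (Bool.rec (motive := fun _ => List ℕ) (rw554) (rw555) (Nat.ble 555 i)) (Nat.ble 554 i)) (Bool.rec (motive := fun _ => List ℕ) (Bool.rec (motive := fun _ => List ℕ) (rw556) (rw557) (Nat.ble 557 i)) (Bool.rec (motive := fun _ => List ℕ) (rw558) (rw559) (Nat.ble 559 i)) (Nat.ble 558 i)) (Nat.ble 556 i)) (Nat.ble 552 i)) (Bool.rec (motive := fun _ => List ℕ) (Bool.rec (motive := fun _ => List ℕ) (Bool.rec (motive := fun _ => List ℕ) (Bool.rec (motive := fun _ => List ℕ) (rw560)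 (rw561) (Nat.ble 561 i)) (Bool.rec (motive := fun _ => List ℕ) (rw562) (rw563) (Nat.ble 563 i)) (Nat.ble 562 i)) (Bool.rec (motive := fun _ => List ℕ) (Bool.rec (motive := fun _ => List ℕ) (rw564) (rw565) (Nat.ble 565 i)) (Bool.rec (motive := fun _ => List ℕ) (rw566) (rw567) (Nat.ble 567 i)) (Nat.ble 566 i)) (Nat.ble 564 i)) (Bool.rec (motive := fun _ => List ℕ) (Bool.rec (motive := fun _ => List ℕ) (Bool.rec (motive := fun _ => List ℕ) (rw568) (rw569) (Nat.ble 569 i)) (Bool.rec (motive := fun _ => List ℕ) (rw570) (rw571) (Nat.ble 571 i)) (Nat.ble 570 i)) (Bool.rec (motive := fun _ => List ℕ) (Bool.rec (motive := fun _ => List ℕ) (rw572) (rw573) (Nat.ble 573 i)) (Bool.rec (motive := fun _ => List ℕ) (rw574) (rw575) (Nat.ble 575 i)) (Nat.ble 574 i)) (Nat.ble 572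 i)) (Nat.ble 568 i)) (Nat.ble 560 i)) (Nat.ble 544 i)) (Bool.rec (motive := fun _ => List ℕ) (Bool.rec (motive := fun _ => List ℕ) (Bool.rec (motive := fun _ => List ℕ) (Bool.rec (motive := fun _ => List ℕ) (Bool.rec (motive := fun _ => List ℕ) (Bool.rec (motive := fun _ => List ℕ) (rw576) (rw577) (Nat.ble 577 i)) (Bool.rec (motive := fun _ => List ℕ) (rw578) (rw579) (Nat.ble 579 i)) (Nat.ble 578 i)) (Bool.rec (motive := fun _ => List ℕ) (Bool.rec (motive := fun _ => List ℕ) (rw580) (rw581) (Nat.ble 581 i)) (Bool.rec (motive := fun _ => List ℕ) (rw582) (rw583) (Nat.ble 583 i)) (Nat.ble 582 i)) (Nat.ble 580 i)) (Bool.rec (motive := fun _ => List ℕ) (Bool.rec (motive := fun _ => List ℕ) (Bool.rec (motive := fun _ => List ℕ) (rw584) (rw585) (Nat.ble 585 i)) (Bool.rec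 (motive := fun _ => List ℕ) (rw586) (rw587) (Nat.ble 587 i)) (Nat.ble 586 i)) (Bool.rec (motive := fun _ => List ℕ) (Bool.rec (motive := fun _ => List ℕ) (rw588) (rw589) (Nat.ble 589 i)) (Bool.rec (motive := fun _ => List ℕ) (rw590) (rw591) (Nat.ble 591 i)) (Nat.ble 590 i)) (Nat.ble 588 i)) (Nat.ble 584 i)) (Bool.rec (motive := fun _ => List ℕ) (Bool.rec (motive := fun _ => List ℕ) (Bool.rec (motive := fun _ => List ℕ) (Bool.rec (motive := fun _ => List ℕ) (rw592) (rw593) (Nat.ble 593 i)) (Bool.rec (motive := fun _ => List ℕ) (rw594) (rw595) (Nat.ble 595 i)) (Nat.ble 594 i)) (Bool.rec (motive := fun _ => List ℕ) (Bool.rec (motive := fun _ => List ℕ) (rw596) (rw597) (Nat.ble 597 i)) (Bool.rec (motive := fun _ => List ℕ) (rw598) (rw599) (Nat.ble 599 i)) (Nat.ble 598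 i)) (Nat.ble 596 i)) (Bool.rec (motive := fun _ => List ℕ) (Bool.rec (motive := fun _ => List ℕ) (Bool.rec (motive := fun _ => List ℕ) (rw600) (rw601) (Nat.ble 601 i)) (Bool.rec (motive := fun _ => List ℕ) (rw602) (rw603) (Nat.ble 603 i)) (Nat.ble 602 i)) (Bool.rec (motive := fun _ => List ℕ) (Bool.rec (motive := fun _ => List ℕ) (rw604) (rw605) (Nat.ble 605 i)) (Bool.rec (motive := fun _ => List ℕ) (rw606) (rw607) (Nat.ble 607 i)) (Nat.ble 606 i)) (Nat.ble 604 i)) (Nat.ble 600 i)) (Nat.ble 592 i)) (Bool.rec (motive := fun _ => List ℕ) (Bool.rec (motive := fun _ => List ℕ) (Bool.rec (motive := fun _ => List ℕ) (Bool.rec (motive := fun _ => List ℕ) (Bool.rec (motive := fun _ => List ℕ) (rw608) (rw609) (Nat.ble 609 i)) (Bool.rec (motive := fun _ => List ℕ) (rw610)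 (rw611) (Nat.ble 611 i)) (Nat.ble 610 i)) (Bool.rec (motive := fun _ => List ℕ) (Bool.rec (motive := fun _ => List ℕ) (rw612) (rw613) (Nat.ble 613 i)) (Bool.rec (motive := fun _ => List ℕ) (rw614) (rw615) (Nat.ble 615 i)) (Nat.ble 614 i)) (Nat.ble 612 i)) (Bool.rec (motive := fun _ => List ℕ) (Bool.rec (motive := fun _ => List ℕ) (Bool.rec (motive := fun _ => List ℕ) (rw616) (rw617) (Nat.ble 617 i)) (Bool.rec (motive := fun _ => List ℕ) (rw618) (rw619) (Nat.ble 619 i)) (Nat.ble 618 i)) (Bool.rec (motive := fun _ => List ℕ) (Bool.rec (motive := fun _ => List ℕ) (rw620) (rw621) (Nat.ble 621 i)) (Bool.rec (motive := fun _ => List ℕ) (rw622) (rw623) (Nat.ble 623 i)) (Nat.ble 622 i)) (Nat.ble 620 i)) (Nat.ble 616 i)) (Bool.rec (motive := fun _ => List ℕ) (Bool.rec (motive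 := fun _ => List ℕ) (Bool.rec (motive := fun _ => List ℕ) (Bool.rec (motive := fun _ => List ℕ) (rw624) (rw625) (Nat.ble 625 i)) (Bool.rec (motive := fun _ => List ℕ) (rw626) (rw627) (Nat.ble 627 i)) (Nat.ble 626 i)) (Bool.rec (motive := fun _ => List ℕ) (Bool.rec (motive := fun _ => List ℕ) (rw628) (rw629) (Nat.ble 629 i)) (Bool.rec (motive := fun _ => List ℕ) (rw630) (rw631) (Nat.ble 631 i)) (Nat.ble 630 i)) (Nat.ble 628 i)) (Bool.rec (motive := fun _ => List ℕ) (Bool.rec (motive := fun _ => List ℕ) (Bool.rec (motive := fun _ => List ℕ) (rw632) (rw633) (Nat.ble 633 i)) (Bool.rec (motive := fun _ => List ℕ) (rw634) (rw635) (Nat.ble 635 i)) (Nat.ble 634 i)) (Bool.rec (motive := fun _ => List ℕ) (Bool.rec (motive := fun _ => List ℕ) (rw636) (rw637) (Nat.ble 637 i))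 (Bool.rec (motive := fun _ => List ℕ) (rw638) (rw639) (Nat.ble 639 i)) (Nat.ble 638 i)) (Nat.ble 636 i)) (Nat.ble 632 i)) (Nat.ble 624 i)) (Nat.ble 608 i)) (Nat.ble 576 i)) (Bool.rec (motive := fun _ => List ℕ) (Bool.rec (motive := fun _ => List ℕ) (Bool.rec (motive := fun _ => List ℕ) (Bool.rec (motive := fun _ => List ℕ) (Bool.rec (motive := fun _ => List ℕ) (Bool.rec (motive := fun _ => List ℕ) (Bool.rec (motive := fun _ => List ℕ) (rw640) (rw641) (Nat.ble 641 i)) (Bool.rec (motive := fun _ => List ℕ) (rw642) (rw643) (Nat.ble 643 i)) (Nat.ble 642 i)) (Bool.rec (motive := fun _ => List ℕ) (Bool.rec (motive := fun _ => List ℕ) (rw644) (rw645) (Nat.ble 645 i)) (Bool.rec (motive := fun _ => List ℕ) (rw646) (rw647) (Nat.ble 647 i)) (Nat.ble 646 i)) (Nat.ble 644 i))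 (Bool.rec (motive := fun _ => List ℕ) (Bool.rec (motive := fun _ => List ℕ) (Bool.rec (motive := fun _ => List ℕ) (rw648) (rw649) (Nat.ble 649 i)) (Bool.rec (motive := fun _ => List ℕ) (rw650) (rw651) (Nat.ble 651 i)) (Nat.ble 650 i)) (Bool.rec (motive := fun _ => List ℕ) (Bool.rec (motive := fun _ => List ℕ) (rw652) (rw653) (Nat.ble 653 i)) (Bool.rec (motive := fun _ => List ℕ) (rw654) (rw655) (Nat.ble 655 i)) (Nat.ble 654 i)) (Nat.ble 652 i)) (Nat.ble 648 i)) (Bool.rec (motive := fun _ => List ℕ) (Bool.rec (motive := fun _ => List ℕ) (Bool.rec (motive := fun _ => List ℕ) (Bool.rec (motive := fun _ => List ℕ) (rw656) (rw657) (Nat.ble 657 i)) (Bool.rec (motive := fun _ => List ℕ) (rw658) (rw659) (Nat.ble 659 i)) (Nat.ble 658 i)) (Bool.rec (motive := fun _ => List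 ℕ) (Bool.rec (motive := fun _ => List ℕ) (rw660) (rw661) (Nat.ble 661 i)) (Bool.rec (motive := fun _ => List ℕ) (rw662) (rw663) (Nat.ble 663 i)) (Nat.ble 662 i)) (Nat.ble 660 i)) (Bool.rec (motive := fun _ => List ℕ) (Bool.rec (motive := fun _ => List ℕ) (Bool.rec (motive := fun _ => List ℕ) (rw664) (rw665) (Nat.ble 665 i)) (Bool.rec (motive := fun _ => List ℕ) (rw666) (rw667) (Nat.ble 667 i)) (Nat.ble 666 i)) (Bool.rec (motive := fun _ => List ℕ) (Bool.rec (motive := fun _ => List ℕ) (rw668) (rw669) (Nat.ble 669 i)) (Bool.rec (motive := fun _ => List ℕ) (rw670) (rw671) (Nat.ble 671 i)) (Nat.ble 670 i)) (Nat.ble 668 i)) (Nat.ble 664 i)) (Nat.ble 656 i)) (Bool.rec (motive := fun _ => List ℕ) (Bool.rec (motive := fun _ => List ℕ) (Bool.rec (motive := fun _ => List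 ℕ) (Bool.rec (motive := fun _ => List ℕ) (Bool.rec (motive := fun _ => List ℕ) (rw672) (rw673) (Nat.ble 673 i)) (Bool.rec (motive := fun _ => List ℕ) (rw674) (rw675) (Nat.ble 675 i)) (Nat.ble 674 i)) (Bool.rec (motive := fun _ => List ℕ) (Bool.rec (motive := fun _ => List ℕ) (rw676) (rw677) (Nat.ble 677 i)) (Bool.rec (motive := fun _ => List ℕ) (rw678) (rw679) (Nat.ble 679 i)) (Nat.ble 678 i)) (Nat.ble 676 i)) (Bool.rec (motive := fun _ => List ℕ) (Bool.rec (motive := fun _ => List ℕ) (Bool.rec (motive := fun _ => List ℕ) (rw680) (rw681) (Nat.ble 681 i)) (Bool.rec (motive := fun _ => List ℕ) (rw682) (rw683) (Nat.ble 683 i)) (Nat.ble 682 i)) (Bool.rec (motive := fun _ => List ℕ) (Bool.rec (motive := fun _ => List ℕ) (rw684) (rw685) (Nat.ble 685 i)) (Bool.rec (motive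 := fun _ => List ℕ) (rw686) (rw687) (Nat.ble 687 i)) (Nat.ble 686 i)) (Nat.ble 684 i)) (Nat.ble 680 i)) (Bool.rec (motive := fun _ => List ℕ) (Bool.rec (motive := fun _ => List ℕ) (Bool.rec (motive := fun _ => List ℕ) (Bool.rec (motive := fun _ => List ℕ) (rw688) (rw689) (Nat.ble 689 i)) (Bool.rec (motive := fun _ => List ℕ) (rw690) (rw691) (Nat.ble 691 i)) (Nat.ble 690 i)) (Bool.rec (motive := fun _ => List ℕ) (Bool.rec (motive := fun _ => List ℕ) (rw692) (rw693) (Nat.ble 693 i)) (Bool.rec (motive := fun _ => List ℕ) (rw694) (rw695) (Nat.ble 695 i)) (Nat.ble 694 i)) (Nat.ble 692 i)) (Bool.rec (motive := fun _ => List ℕ) (Bool.rec (motive := fun _ => List ℕ) (Bool.rec (motive := fun _ => List ℕ) (rw696) (rw697) (Nat.ble 697 i)) (Bool.rec (motive := fun _ => List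 ℕ) (rw698) (rw699) (Nat.ble 699 i)) (Nat.ble 698 i)) (Bool.rec (motive := fun _ => List ℕ) (Bool.rec (motive := fun _ => List ℕ) (rw700) (rw701) (Nat.ble 701 i)) (Bool.rec (motive := fun _ => List ℕ) (rw702) (rw703) (Nat.ble 703 i)) (Nat.ble 702 i)) (Nat.ble 700 i)) (Nat.ble 696 i)) (Nat.ble 688 i)) (Nat.ble 672 i)) (Bool.rec (motive := fun _ => List ℕ) (Bool.rec (motive := fun _ => List ℕ) (Bool.rec (motive := fun _ => List ℕ) (Bool.rec (motive := fun _ => List ℕ) (Bool.rec (motive := fun _ => List ℕ) (Bool.rec (motive := fun _ => List ℕ) (rw704) (rw705) (Nat.ble 705 i)) (Bool.rec (motive := fun _ => List ℕ) (rw706) (rw707) (Nat.ble 707 i)) (Nat.ble 706 i)) (Bool.rec (motive := fun _ => List ℕ) (Bool.rec (motive := fun _ => List ℕ) (rw708) (rw709) (Nat.ble 709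 i)) (Bool.rec (motive := fun _ => List ℕ) (rw710) (rw711) (Nat.ble 711 i)) (Nat.ble 710 i)) (Nat.ble 708 i)) (Bool.rec (motive := fun _ => List ℕ) (Bool.rec (motive := fun _ => List ℕ) (Bool.rec (motive := fun _ => List ℕ) (rw712) (rw713) (Nat.ble 713 i)) (Bool.rec (motive := fun _ => List ℕ) (rw714) (rw715) (Nat.ble 715 i)) (Nat.ble 714 i)) (Bool.rec (motive := fun _ => List ℕ) (Bool.rec (motive := fun _ => List ℕ) (rw716) (rw717) (Nat.ble 717 i)) (Bool.rec (motive := fun _ => List ℕ) (rw718) (rw719) (Nat.ble 719 i)) (Nat.ble 718 i)) (Nat.ble 716 i)) (Nat.ble 712 i)) (Bool.rec (motive := fun _ => List ℕ) (Bool.rec (motive := fun _ => List ℕ) (Bool.rec (motive := fun _ => List ℕ) (Bool.rec (motive := fun _ => List ℕ) (rw720) (rw721) (Nat.ble 721 i)) (Bool.rec (motive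 := fun _ => List ℕ) (rw722) (rw723) (Nat.ble 723 i)) (Nat.ble 722 i)) (Bool.rec (motive := fun _ => List ℕ) (Bool.rec (motive := fun _ => List ℕ) (rw724) (rw725) (Nat.ble 725 i)) (Bool.rec (motive := fun _ => List ℕ) (rw726) (rw727) (Nat.ble 727 i)) (Nat.ble 726 i)) (Nat.ble 724 i)) (Bool.rec (motive := fun _ => List ℕ) (Bool.rec (motive := fun _ => List ℕ) (Bool.rec (motive := fun _ => List ℕ) (rw728) (rw729) (Nat.ble 729 i)) (Bool.rec (motive := fun _ => List ℕ) (rw730) (rw731) (Nat.ble 731 i)) (Nat.ble 730 i)) (Bool.rec (motive := fun _ => List ℕ) (Bool.rec (motive := fun _ => List ℕ) (rw732) (rw733) (Nat.ble 733 i)) (Bool.rec (motive := fun _ => List ℕ) (rw734) (rw735) (Nat.ble 735 i)) (Nat.ble 734 i)) (Nat.ble 732 i)) (Nat.ble 728 i)) (Nat.ble 720 i)) (Bool.rec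 (motive := fun _ => List ℕ) (Bool.rec (motive := fun _ => List ℕ) (Bool.rec (motive := fun _ => List ℕ) (Bool.rec (motive := fun _ => List ℕ) (Bool.rec (motive := fun _ => List ℕ) (rw736) (rw737) (Nat.ble 737 i)) (Bool.rec (motive := fun _ => List ℕ) (rw738) (rw739) (Nat.ble 739 i)) (Nat.ble 738 i)) (Bool.rec (motive := fun _ => List ℕ) (Bool.rec (motive := fun _ => List ℕ) (rw740) (rw741) (Nat.ble 741 i)) (Bool.rec (motive := fun _ => List ℕ) (rw742) (rw743) (Nat.ble 743 i)) (Nat.ble 742 i)) (Nat.ble 740 i)) (Bool.rec (motive := fun _ => List ℕ) (Bool.rec (motive := fun _ => List ℕ) (Bool.rec (motive := fun _ => List ℕ) (rw744) (rw745) (Nat.ble 745 i)) (Bool.rec (motive := fun _ => List ℕ) (rw746) (rw747) (Nat.ble 747 i)) (Nat.ble 746 i)) (Bool.rec (motive := fun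 _ => List ℕ) (Bool.rec (motive := fun _ => List ℕ) (rw748) (rw749) (Nat.ble 749 i)) (Bool.rec (motive := fun _ => List ℕ) (rw750) (rw751) (Nat.ble 751 i)) (Nat.ble 750 i)) (Nat.ble 748 i)) (Nat.ble 744 i)) (Bool.rec (motive := fun _ => List ℕ) (Bool.rec (motive := fun _ => List ℕ) (Bool.rec (motive := fun _ => List ℕ) (Bool.rec (motive := fun _ => List ℕ) (rw752) (rw753) (Nat.ble 753 i)) (Bool.rec (motive := fun _ => List ℕ) (rw754) (rw755) (Nat.ble 755 i)) (Nat.ble 754 i)) (Bool.rec (motive := fun _ => List ℕ) (Bool.rec (motive := fun _ => List ℕ) (rw756) (rw757) (Nat.ble 757 i)) (Bool.rec (motive := fun _ => List ℕ) (rw758) (rw759) (Nat.ble 759 i)) (Nat.ble 758 i)) (Nat.ble 756 i)) (Bool.rec (motive := fun _ => List ℕ) (Bool.rec (motive := fun _ => List ℕ) (Bool.rec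 (motive := fun _ => List ℕ) (rw760) (rw761) (Nat.ble 761 i)) (Bool.rec (motive := fun _ => List ℕ) (rw762) (rw763) (Nat.ble 763 i)) (Nat.ble 762 i)) (Bool.rec (motive := fun _ => List ℕ) (Bool.rec (motive := fun _ => List ℕ) (rw764) (rw765) (Nat.ble 765 i)) (Bool.rec (motive := fun _ => List ℕ) (rw766) (rw767) (Nat.ble 767 i)) (Nat.ble 766 i)) (Nat.ble 764 i)) (Nat.ble 760 i)) (Nat.ble 752 i)) (Nat.ble 736 i)) (Nat.ble 704 i)) (Nat.ble 640 i)) (Bool.rec (motive := fun _ => List ℕ) (Bool.rec (motive := fun _ => List ℕ) (Bool.rec (motive := fun _ => List ℕ) (Bool.rec (motive := fun _ => List ℕ) (Bool.rec (motive := fun _ => List ℕ) (Bool.rec (motive := fun _ => List ℕ) (Bool.rec (motive := fun _ => List ℕ) (Bool.rec (motive := fun _ => List ℕ) (rw768) (rw769) (Nat.ble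 769 i)) (Bool.rec (motive := fun _ => List ℕ) (rw770) (rw771) (Nat.ble 771 i)) (Nat.ble 770 i)) (Bool.rec (motive := fun _ => List ℕ) (Bool.rec (motive := fun _ => List ℕ) (rw772) (rw773) (Nat.ble 773 i)) (Bool.rec (motive := fun _ => List ℕ) (rw774) (rw775) (Nat.ble 775 i)) (Nat.ble 774 i)) (Nat.ble 772 i)) (Bool.rec (motive := fun _ => List ℕ) (Bool.rec (motive := fun _ => List ℕ) (Bool.rec (motive := fun _ => List ℕ) (rw776) (rw777) (Nat.ble 777 i)) (Bool.rec (motive := fun _ => List ℕ) (rw778) (rw779) (Nat.ble 779 i)) (Nat.ble 778 i)) (Bool.rec (motive := fun _ => List ℕ) (Bool.rec (motive := fun _ => List ℕ) (rw780) (rw781) (Nat.ble 781 i)) (Bool.rec (motive := fun _ => List ℕ) (rw782) (rw783) (Nat.ble 783 i)) (Nat.ble 782 i)) (Nat.ble 780 i)) (Nat.ble 776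 i)) (Bool.rec (motive := fun _ => List ℕ) (Bool.rec (motive := fun _ => List ℕ) (Bool.rec (motive := fun _ => List ℕ) (Bool.rec (motive := fun _ => List ℕ) (rw784) (rw785) (Nat.ble 785 i)) (Bool.rec (motive := fun _ => List ℕ) (rw786) (rw787) (Nat.ble 787 i)) (Nat.ble 786 i)) (Bool.rec (motive := fun _ => List ℕ) (Bool.rec (motive := fun _ => List ℕ) (rw788) (rw789) (Nat.ble 789 i)) (Bool.rec (motive := fun _ => List ℕ) (rw790) (rw791) (Nat.ble 791 i)) (Nat.ble 790 i)) (Nat.ble 788 i)) (Bool.rec (motive := fun _ => List ℕ) (Bool.rec (motive := fun _ => List ℕ) (Bool.rec (motive := fun _ => List ℕ) (rw792) (rw793) (Nat.ble 793 i)) (Bool.rec (motive := fun _ => List ℕ) (rw794) (rw795) (Nat.ble 795 i)) (Nat.ble 794 i)) (Bool.rec (motive := fun _ => List ℕ) (Bool.rec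 (motive := fun _ => List ℕ) (rw796) (rw797) (Nat.ble 797 i)) (Bool.rec (motive := fun _ => List ℕ) (rw798) (rw799) (Nat.ble 799 i)) (Nat.ble 798 i)) (Nat.ble 796 i)) (Nat.ble 792 i)) (Nat.ble 784 i)) (Bool.rec (motive := fun _ => List ℕ) (Bool.rec (motive := fun _ => List ℕ) (Bool.rec (motive := fun _ => List ℕ) (Bool.rec (motive := fun _ => List ℕ) (Bool.rec (motive := fun _ => List ℕ) (rw800) (rw801) (Nat.ble 801 i)) (Bool.rec (motive := fun _ => List ℕ) (rw802) (rw803) (Nat.ble 803 i)) (Nat.ble 802 i)) (Bool.rec (motive := fun _ => List ℕ) (Bool.rec (motive := fun _ => List ℕ) (rw804) (rw805) (Nat.ble 805 i)) (Bool.rec (motive := fun _ => List ℕ) (rw806) (rw807) (Nat.ble 807 i)) (Nat.ble 806 i)) (Nat.ble 804 i)) (Bool.rec (motive := fun _ => List ℕ) (Bool.rec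 (motive := fun _ => List ℕ) (Bool.rec (motive := fun _ => List ℕ) (rw808) (rw809) (Nat.ble 809 i)) (Bool.rec (motive := fun _ => List ℕ) (rw810) (rw811) (Nat.ble 811 i)) (Nat.ble 810 i)) (Bool.rec (motive := fun _ => List ℕ) (Bool.rec (motive := fun _ => List ℕ) (rw812) (rw813) (Nat.ble 813 i)) (Bool.rec (motive := fun _ => List ℕ) (rw814) (rw815) (Nat.ble 815 i)) (Nat.ble 814 i)) (Nat.ble 812 i)) (Nat.ble 808 i)) (Bool.rec (motive := fun _ => List ℕ) (Bool.rec (motive := fun _ => List ℕ) (Bool.rec (motive := fun _ => List ℕ) (Bool.rec (motive := fun _ => List ℕ) (rw816) (rw817) (Nat.ble 817 i)) (Bool.rec (motive := fun _ => List ℕ) (rw818) (rw819) (Nat.ble 819 i)) (Nat.ble 818 i)) (Bool.rec (motive := fun _ => List ℕ) (Bool.rec (motive := fun _ => List ℕ) (rw820)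 (rw821) (Nat.ble 821 i)) (Bool.rec (motive := fun _ => List ℕ) (rw822) (rw823) (Nat.ble 823 i)) (Nat.ble 822 i)) (Nat.ble 820 i)) (Bool.rec (motive := fun _ => List ℕ) (Bool.rec (motive := fun _ => List ℕ) (Bool.rec (motive := fun _ => List ℕ) (rw824) (rw825) (Nat.ble 825 i)) (Bool.rec (motive := fun _ => List ℕ) (rw826) (rw827) (Nat.ble 827 i)) (Nat.ble 826 i)) (Bool.rec (motive := fun _ => List ℕ) (Bool.rec (motive := fun _ => List ℕ) (rw828) (rw829) (Nat.ble 829 i)) (Bool.rec (motive := fun _ => List ℕ) (rw830) (rw831) (Nat.ble 831 i)) (Nat.ble 830 i)) (Nat.ble 828 i)) (Nat.ble 824 i)) (Nat.ble 816 i)) (Nat.ble 800 i)) (Bool.rec (motive := fun _ => List ℕ) (Bool.rec (motive := fun _ => List ℕ) (Bool.rec (motive := fun _ => List ℕ) (Bool.rec (motive := fun _ =>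 List ℕ) (Bool.rec (motive := fun _ => List ℕ) (Bool.rec (motive := fun _ => List ℕ) (rw832) (rw833) (Nat.ble 833 i)) (Bool.rec (motive := fun _ => List ℕ) (rw834) (rw835) (Nat.ble 835 i)) (Nat.ble 834 i)) (Bool.rec (motive := fun _ => List ℕ) (Bool.rec (motive := fun _ => List ℕ) (rw836) (rw837) (Nat.ble 837 i)) (Bool.rec (motive := fun _ => List ℕ) (rw838) (rw839) (Nat.ble 839 i)) (Nat.ble 838 i)) (Nat.ble 836 i)) (Bool.rec (motive := fun _ => List ℕ) (Bool.rec (motive := fun _ => List ℕ) (Bool.rec (motive := fun _ => List ℕ) (rw840) (rw841) (Nat.ble 841 i)) (Bool.rec (motive := fun _ => List ℕ) (rw842) (rw843) (Nat.ble 843 i)) (Nat.ble 842 i)) (Bool.rec (motive := fun _ => List ℕ) (Bool.rec (motive := fun _ => List ℕ) (rw844) (rw845) (Nat.ble 845 i)) (Bool.rec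 (motive := fun _ => List ℕ) (rw846) (rw847) (Nat.ble 847 i)) (Nat.ble 846 i)) (Nat.ble 844 i)) (Nat.ble 840 i)) (Bool.rec (motive := fun _ => List ℕ) (Bool.rec (motive := fun _ => List ℕ) (Bool.rec (motive := fun _ => List ℕ) (Bool.rec (motive := fun _ => List ℕ) (rw848) (rw849) (Nat.ble 849 i)) (Bool.rec (motive := fun _ => List ℕ) (rw850) (rw851) (Nat.ble 851 i)) (Nat.ble 850 i)) (Bool.rec (motive := fun _ => List ℕ) (Bool.rec (motive := fun _ => List ℕ) (rw852) (rw853) (Nat.ble 853 i)) (Bool.rec (motive := fun _ => List ℕ) (rw854) (rw855) (Nat.ble 855 i)) (Nat.ble 854 i)) (Nat.ble 852 i)) (Bool.rec (motive := fun _ => List ℕ) (Bool.rec (motive := fun _ => List ℕ) (Bool.rec (motive := fun _ => List ℕ) (rw856) (rw857) (Nat.ble 857 i)) (Bool.rec (motive := fun _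 => List ℕ) (rw858) (rw859) (Nat.ble 859 i)) (Nat.ble 858 i)) (Bool.rec (motive := fun _ => List ℕ) (Bool.rec (motive := fun _ => List ℕ) (rw860) (rw861) (Nat.ble 861 i)) (Bool.rec (motive := fun _ => List ℕ) (rw862) (rw863) (Nat.ble 863 i)) (Nat.ble 862 i)) (Nat.ble 860 i)) (Nat.ble 856 i)) (Nat.ble 848 i)) (Bool.rec (motive := fun _ => List ℕ) (Bool.rec (motive := fun _ => List ℕ) (Bool.rec (motive := fun _ => List ℕ) (Bool.rec (motive := fun _ => List ℕ) (Bool.rec (motive := fun _ => List ℕ) (rw864) (rw865) (Nat.ble 865 i)) (Bool.rec (motive := fun _ => List ℕ) (rw866) (rw867) (Nat.ble 867 i)) (Nat.ble 866 i)) (Bool.rec (motive := fun _ => List ℕ) (Bool.rec (motive := fun _ => List ℕ) (rw868) (rw869) (Nat.ble 869 i)) (Bool.rec (motive := fun _ => List ℕ) (rw870)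 (rw871) (Nat.ble 871 i)) (Nat.ble 870 i)) (Nat.ble 868 i)) (Bool.rec (motive := fun _ => List ℕ) (Bool.rec (motive := fun _ => List ℕ) (Bool.rec (motive := fun _ => List ℕ) (rw872) (rw873) (Nat.ble 873 i)) (Bool.rec (motive := fun _ => List ℕ) (rw874) (rw875) (Nat.ble 875 i)) (Nat.ble 874 i)) (Bool.rec (motive := fun _ => List ℕ) (Bool.rec (motive := fun _ => List ℕ) (rw876) (rw877) (Nat.ble 877 i)) (Bool.rec (motive := fun _ => List ℕ) (rw878) (rw879) (Nat.ble 879 i)) (Nat.ble 878 i)) (Nat.ble 876 i)) (Nat.ble 872 i)) (Bool.rec (motive := fun _ => List ℕ) (Bool.rec (motive := fun _ => List ℕ) (Bool.rec (motive := fun _ => List ℕ) (Bool.rec (motive := fun _ => List ℕ) (rw880) (rw881) (Nat.ble 881 i)) (Bool.rec (motive := fun _ => List ℕ) (rw882) (rw883) (Nat.ble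 883 i)) (Nat.ble 882 i)) (Bool.rec (motive := fun _ => List ℕ) (Bool.rec (motive := fun _ => List ℕ) (rw884) (rw885) (Nat.ble 885 i)) (Bool.rec (motive := fun _ => List ℕ) (rw886) (rw887) (Nat.ble 887 i)) (Nat.ble 886 i)) (Nat.ble 884 i)) (Bool.rec (motive := fun _ => List ℕ) (Bool.rec (motive := fun _ => List ℕ) (Bool.rec (motive := fun _ => List ℕ) (rw888) (rw889) (Nat.ble 889 i)) (Bool.rec (motive := fun _ => List ℕ) (rw890) (rw891) (Nat.ble 891 i)) (Nat.ble 890 i)) (Bool.rec (motive := fun _ => List ℕ) (Bool.rec (motive := fun _ => List ℕ) (rw892) (rw893) (Nat.ble 893 i)) (Bool.rec (motive := fun _ => List ℕ) (rw894) (rw895) (Nat.ble 895 i)) (Nat.ble 894 i)) (Nat.ble 892 i)) (Nat.ble 888 i)) (Nat.ble 880 i)) (Nat.ble 864 i)) (Nat.ble 832 i)) (Bool.rec (motive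 := fun _ => List ℕ) (Bool.rec (motive := fun _ => List ℕ) (Bool.rec (motive := fun _ => List ℕ) (Bool.rec (motive := fun _ => List ℕ) (Bool.rec (motive := fun _ => List ℕ) (Bool.rec (motive := fun _ => List ℕ) (Bool.rec (motive := fun _ => List ℕ) (rw896) (rw897) (Nat.ble 897 i)) (Bool.rec (motive := fun _ => List ℕ) (rw898) (rw899) (Nat.ble 899 i)) (Nat.ble 898 i)) (Bool.rec (motive := fun _ => List ℕ) (Bool.rec (motive := fun _ => List ℕ) (rw900) (rw901) (Nat.ble 901 i)) (Bool.rec (motive := fun _ => List ℕ) (rw902) (rw903) (Nat.ble 903 i)) (Nat.ble 902 i)) (Nat.ble 900 i)) (Bool.rec (motive := fun _ => List ℕ) (Bool.rec (motive := fun _ => List ℕ) (Bool.rec (motive := fun _ => List ℕ) (rw904) (rw905) (Nat.ble 905 i)) (Bool.rec (motive := fun _ => List ℕ) (rw906)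 (rw907) (Nat.ble 907 i)) (Nat.ble 906 i)) (Bool.rec (motive := fun _ => List ℕ) (Bool.rec (motive := fun _ => List ℕ) (rw908) (rw909) (Nat.ble 909 i)) (Bool.rec (motive := fun _ => List ℕ) (rw910) (rw911) (Nat.ble 911 i)) (Nat.ble 910 i)) (Nat.ble 908 i)) (Nat.ble 904 i)) (Bool.rec (motive := fun _ => List ℕ) (Bool.rec (motive := fun _ => List ℕ) (Bool.rec (motive := fun _ => List ℕ) (Bool.rec (motive := fun _ => List ℕ) (rw912) (rw913) (Nat.ble 913 i)) (Bool.rec (motive := fun _ => List ℕ) (rw914) (rw915) (Nat.ble 915 i)) (Nat.ble 914 i)) (Bool.rec (motive := fun _ => List ℕ) (Bool.rec (motive := fun _ => List ℕ) (rw916) (rw917) (Nat.ble 917 i)) (Bool.rec (motive := fun _ => List ℕ) (rw918) (rw919) (Nat.ble 919 i)) (Nat.ble 918 i)) (Nat.ble 916 i)) (Bool.rec (motive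 := fun _ => List ℕ) (Bool.rec (motive := fun _ => List ℕ) (Bool.rec (motive := fun _ => List ℕ) (rw920) (rw921) (Nat.ble 921 i)) (Bool.rec (motive := fun _ => List ℕ) (rw922) (rw923) (Nat.ble 923 i)) (Nat.ble 922 i)) (Bool.rec (motive := fun _ => List ℕ) (Bool.rec (motive := fun _ => List ℕ) (rw924) (rw925) (Nat.ble 925 i)) (Bool.rec (motive := fun _ => List ℕ) (rw926) (rw927) (Nat.ble 927 i)) (Nat.ble 926 i)) (Nat.ble 924 i)) (Nat.ble 920 i)) (Nat.ble 912 i)) (Bool.rec (motive := fun _ => List ℕ) (Bool.rec (motive := fun _ => List ℕ) (Bool.rec (motive := fun _ => List ℕ) (Bool.rec (motive := fun _ => List ℕ) (Bool.rec (motive := fun _ => List ℕ) (rw928) (rw929) (Nat.ble 929 i)) (Bool.rec (motive := fun _ => List ℕ) (rw930) (rw931) (Nat.ble 931 i)) (Nat.ble 930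 i)) (Bool.rec (motive := fun _ => List ℕ) (Bool.rec (motive := fun _ => List ℕ) (rw932) (rw933) (Nat.ble 933 i)) (Bool.rec (motive := fun _ => List ℕ) (rw934) (rw935) (Nat.ble 935 i)) (Nat.ble 934 i)) (Nat.ble 932 i)) (Bool.rec (motive := fun _ => List ℕ) (Bool.rec (motive := fun _ => List ℕ) (Bool.rec (motive := fun _ => List ℕ) (rw936) (rw937) (Nat.ble 937 i)) (Bool.rec (motive := fun _ => List ℕ) (rw938) (rw939) (Nat.ble 939 i)) (Nat.ble 938 i)) (Bool.rec (motive := fun _ => List ℕ) (Bool.rec (motive := fun _ => List ℕ) (rw940) (rw941) (Nat.ble 941 i)) (Bool.rec (motive := fun _ => List ℕ) (rw942) (rw943) (Nat.ble 943 i)) (Nat.ble 942 i)) (Nat.ble 940 i)) (Nat.ble 936 i)) (Bool.rec (motive := fun _ => List ℕ) (Bool.rec (motive := fun _ => List ℕ) (Bool.rec (motive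 := fun _ => List ℕ) (Bool.rec (motive := fun _ => List ℕ) (rw944) (rw945) (Nat.ble 945 i)) (Bool.rec (motive := fun _ => List ℕ) (rw946) (rw947) (Nat.ble 947 i)) (Nat.ble 946 i)) (Bool.rec (motive := fun _ => List ℕ) (Bool.rec (motive := fun _ => List ℕ) (rw948) (rw949) (Nat.ble 949 i)) (Bool.rec (motive := fun _ => List ℕ) (rw950) (rw951) (Nat.ble 951 i)) (Nat.ble 950 i)) (Nat.ble 948 i)) (Bool.rec (motive := fun _ => List ℕ) (Bool.rec (motive := fun _ => List ℕ) (Bool.rec (motive := fun _ => List ℕ) (rw952) (rw953) (Nat.ble 953 i)) (Bool.rec (motive := fun _ => List ℕ) (rw954) (rw955) (Nat.ble 955 i)) (Nat.ble 954 i)) (Bool.rec (motive := fun _ => List ℕ) (Bool.rec (motive := fun _ => List ℕ) (rw956) (rw957) (Nat.ble 957 i)) (Bool.rec (motive := fun _ => List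 ℕ) (rw958) (rw959) (Nat.ble 959 i)) (Nat.ble 958 i)) (Nat.ble 956 i)) (Nat.ble 952 i)) (Nat.ble 944 i)) (Nat.ble 928 i)) (Bool.rec (motive := fun _ => List ℕ) (Bool.rec (motive := fun _ => List ℕ) (Bool.rec (motive := fun _ => List ℕ) (Bool.rec (motive := fun _ => List ℕ) (Bool.rec (motive := fun _ => List ℕ) (Bool.rec (motive := fun _ => List ℕ) (rw960) (rw961) (Nat.ble 961 i)) (Bool.rec (motive := fun _ => List ℕ) (rw962) (rw963) (Nat.ble 963 i)) (Nat.ble 962 i)) (Bool.rec (motive := fun _ => List ℕ) (Bool.rec (motive := fun _ => List ℕ) (rw964) (rw965) (Nat.ble 965 i)) (Bool.rec (motive := fun _ => List ℕ) (rw966) (rw967) (Nat.ble 967 i)) (Nat.ble 966 i)) (Nat.ble 964 i)) (Bool.rec (motive := fun _ => List ℕ) (Bool.rec (motive := fun _ => List ℕ) (Bool.rec (motive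 := fun _ => List ℕ) (rw968) (rw969) (Nat.ble 969 i)) (Bool.rec (motive := fun _ => List ℕ) (rw970) (rw971) (Nat.ble 971 i)) (Nat.ble 970 i)) (Bool.rec (motive := fun _ => List ℕ) (Bool.rec (motive := fun _ => List ℕ) (rw972) (rw973) (Nat.ble 973 i)) (Bool.rec (motive := fun _ => List ℕ) (rw974) (rw975) (Nat.ble 975 i)) (Nat.ble 974 i)) (Nat.ble 972 i)) (Nat.ble 968 i)) (Bool.rec (motive := fun _ => List ℕ) (Bool.rec (motive := fun _ => List ℕ) (Bool.rec (motive := fun _ => List ℕ) (Bool.rec (motive := fun _ => List ℕ) (rw976) (rw977) (Nat.ble 977 i)) (Bool.rec (motive := fun _ => List ℕ) (rw978) (rw979) (Nat.ble 979 i)) (Nat.ble 978 i)) (Bool.rec (motive := fun _ => List ℕ) (Bool.rec (motive := fun _ => List ℕ) (rw980) (rw981) (Nat.ble 981 i)) (Bool.rec (motive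 := fun _ => List ℕ) (rw982) (rw983) (Nat.ble 983 i)) (Nat.ble 982 i)) (Nat.ble 980 i)) (Bool.rec (motive := fun _ => List ℕ) (Bool.rec (motive := fun _ => List ℕ) (Bool.rec (motive := fun _ => List ℕ) (rw984) (rw985) (Nat.ble 985 i)) (Bool.rec (motive := fun _ => List ℕ) (rw986) (rw987) (Nat.ble 987 i)) (Nat.ble 986 i)) (Bool.rec (motive := fun _ => List ℕ) (Bool.rec (motive := fun _ => List ℕ) (rw988) (rw989) (Nat.ble 989 i)) (Bool.rec (motive := fun _ => List ℕ) (rw990) (rw991) (Nat.ble 991 i)) (Nat.ble 990 i)) (Nat.ble 988 i)) (Nat.ble 984 i)) (Nat.ble 976 i)) (Bool.rec (motive := fun _ => List ℕ) (Bool.rec (motive := fun _ => List ℕ) (Bool.rec (motive := fun _ => List ℕ) (Bool.rec (motive := fun _ => List ℕ) (Bool.rec (motive := fun _ => List ℕ) (rw992) (rw993)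 (Nat.ble 993 i)) (Bool.rec (motive := fun _ => List ℕ) (rw994) (rw995) (Nat.ble 995 i)) (Nat.ble 994 i)) (Bool.rec (motive := fun _ => List ℕ) (Bool.rec (motive := fun _ => List ℕ) (rw996) (rw997) (Nat.ble 997 i)) (Bool.rec (motive := fun _ => List ℕ) (rw998) (rw999) (Nat.ble 999 i)) (Nat.ble 998 i)) (Nat.ble 996 i)) (Bool.rec (motive := fun _ => List ℕ) (Bool.rec (motive := fun _ => List ℕ) (Bool.rec (motive := fun _ => List ℕ) (rw1000) (rw1001) (Nat.ble 1001 i)) (Bool.rec (motive := fun _ => List ℕ) (rw1002) (rw1003) (Nat.ble 1003 i)) (Nat.ble 1002 i)) (Bool.rec (motive := fun _ => List ℕ) (Bool.rec (motive := fun _ => List ℕ) (rw1004) (rw1005) (Nat.ble 1005 i)) (Bool.rec (motive := fun _ => List ℕ) (rw1006) (rw1007) (Nat.ble 1007 i)) (Nat.ble 1006 i)) (Nat.ble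 1004 i)) (Nat.ble 1000 i)) (Bool.rec (motive := fun _ => List ℕ) (Bool.rec (motive := fun _ => List ℕ) (Bool.rec (motive := fun _ => List ℕ) (Bool.rec (motive := fun _ => List ℕ) (rw1008) (rw1009) (Nat.ble 1009 i)) (Bool.rec (motive := fun _ => List ℕ) (rw1010) (rw1011) (Nat.ble 1011 i)) (Nat.ble 1010 i)) (Bool.rec (motive := fun _ => List ℕ) (Bool.rec (motive := fun _ => List ℕ) (rw1012) (rw1013) (Nat.ble 1013 i)) (Bool.rec (motive := fun _ => List ℕ) (rw1014) (rw1015) (Nat.ble 1015 i)) (Nat.ble 1014 i)) (Nat.ble 1012 i)) (Bool.rec (motive := fun _ => List ℕ) (Bool.rec (motive := fun _ => List ℕ) (Bool.rec (motive := fun _ => List ℕ) (rw1016) (rw1017) (Nat.ble 1017 i)) (Bool.rec (motive := fun _ => List ℕ) (rw1018) (rw1019) (Nat.ble 1019 i)) (Nat.ble 1018 i)) (Bool.rec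 (motive := fun _ => List ℕ) (Bool.rec (motive := fun _ => List ℕ) (rw1020) (rw1021) (Nat.ble 1021 i)) (Bool.rec (motive := fun _ => List ℕ) (rw1022) (rw1023) (Nat.ble 1023 i)) (Nat.ble 1022 i)) (Nat.ble 1020 i)) (Nat.ble 1016 i)) (Nat.ble 1008 i)) (Nat.ble 992 i)) (Nat.ble 960 i)) (Nat.ble 896 i)) (Nat.ble 768 i)) (Nat.ble 512 i)) (Bool.rec (motive := fun _ => List ℕ) (Bool.rec (motive := fun _ => List ℕ) (Bool.rec (motive := fun _ => List ℕ) (Bool.rec (motive := fun _ => List ℕ) (Bool.rec (motive := fun _ => List ℕ) (Bool.rec (motive := fun _ => List ℕ) (Bool.rec (motive := fun _ => List ℕ) (Bool.rec (motive := fun _ => List ℕ) (Bool.rec (motive := fun _ => List ℕ) (Bool.rec (motive := fun _ => List ℕ) (rw1024) (rw1025) (Nat.ble 1025 i)) (Bool.rec (motive := fun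 _ => List ℕ) (rw1026) (rw1027) (Nat.ble 1027 i)) (Nat.ble 1026 i)) (Bool.rec (motive := fun _ => List ℕ) (Bool.rec (motive := fun _ => List ℕ) (rw1028) (rw1029) (Nat.ble 1029 i)) (Bool.rec (motive := fun _ => List ℕ) (rw1030) (rw1031) (Nat.ble 1031 i)) (Nat.ble 1030 i)) (Nat.ble 1028 i)) (Bool.rec (motive := fun _ => List ℕ) (Bool.rec (motive := fun _ => List ℕ) (Bool.rec (motive := fun _ => List ℕ) (rw1032) (rw1033) (Nat.ble 1033 i)) (Bool.rec (motive := fun _ => List ℕ) (rw1034) (rw1035) (Nat.ble 1035 i)) (Nat.ble 1034 i)) (Bool.rec (motive := fun _ => List ℕ) (Bool.rec (motive := fun _ => List ℕ) (rw1036) (rw1037) (Nat.ble 1037 i)) (Bool.rec (motive := fun _ => List ℕ) (rw1038) (rw1039) (Nat.ble 1039 i)) (Nat.ble 1038 i)) (Nat.ble 1036 i)) (Nat.ble 1032 i)) (Bool.rec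 (motive := fun _ => List ℕ) (Bool.rec (motive := fun _ => List ℕ) (Bool.rec (motive := fun _ => List ℕ) (Bool.rec (motive := fun _ => List ℕ) (rw1040) (rw1041) (Nat.ble 1041 i)) (Bool.rec (motive := fun _ => List ℕ) (rw1042) (rw1043) (Nat.ble 1043 i)) (Nat.ble 1042 i)) (Bool.rec (motive := fun _ => List ℕ) (Bool.rec (motive := fun _ => List ℕ) (rw1044) (rw1045) (Nat.ble 1045 i)) (Bool.rec (motive := fun _ => List ℕ) (rw1046) (rw1047) (Nat.ble 1047 i)) (Nat.ble 1046 i)) (Nat.ble 1044 i)) (Bool.rec (motive := fun _ => List ℕ) (Bool.rec (motive := fun _ => List ℕ) (Bool.rec (motive := fun _ => List ℕ) (rw1048) (rw1049) (Nat.ble 1049 i)) (Bool.rec (motive := fun _ => List ℕ) (rw1050) (rw1051) (Nat.ble 1051 i)) (Nat.ble 1050 i)) (Bool.rec (motive := fun _ => List ℕ)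 (Bool.rec (motive := fun _ => List ℕ) (rw1052) (rw1053) (Nat.ble 1053 i)) (Bool.rec (motive := fun _ => List ℕ) (rw1054) (rw1055) (Nat.ble 1055 i)) (Nat.ble 1054 i)) (Nat.ble 1052 i)) (Nat.ble 1048 i)) (Nat.ble 1040 i)) (Bool.rec (motive := fun _ => List ℕ) (Bool.rec (motive := fun _ => List ℕ) (Bool.rec (motive := fun _ => List ℕ) (Bool.rec (motive := fun _ => List ℕ) (Bool.rec (motive := fun _ => List ℕ) (rw1056) (rw1057) (Nat.ble 1057 i)) (Bool.rec (motive := fun _ => List ℕ) (rw1058) (rw1059) (Nat.ble 1059 i)) (Nat.ble 1058 i)) (Bool.rec (motive := fun _ => List ℕ) (Bool.rec (motive := fun _ => List ℕ) (rw1060) (rw1061) (Nat.ble 1061 i)) (Bool.rec (motive := fun _ => List ℕ) (rw1062) (rw1063) (Nat.ble 1063 i)) (Nat.ble 1062 i)) (Nat.ble 1060 i)) (Bool.rec (motive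 := fun _ => List ℕ) (Bool.rec (motive := fun _ => List ℕ) (Bool.rec (motive := fun _ => List ℕ) (rw1064) (rw1065) (Nat.ble 1065 i)) (Bool.rec (motive := fun _ => List ℕ) (rw1066) (rw1067) (Nat.ble 1067 i)) (Nat.ble 1066 i)) (Bool.rec (motive := fun _ => List ℕ) (Bool.rec (motive := fun _ => List ℕ) (rw1068) (rw1069) (Nat.ble 1069 i)) (Bool.rec (motive := fun _ => List ℕ) (rw1070) (rw1071) (Nat.ble 1071 i)) (Nat.ble 1070 i)) (Nat.ble 1068 i)) (Nat.ble 1064 i)) (Bool.rec (motive := fun _ => List ℕ) (Bool.rec (motive := fun _ => List ℕ) (Bool.rec (motive := fun _ => List ℕ) (Bool.rec (motive := fun _ => List ℕ) (rw1072) (rw1073) (Nat.ble 1073 i)) (Bool.rec (motive := fun _ => List ℕ) (rw1074) (rw1075) (Nat.ble 1075 i)) (Nat.ble 1074 i)) (Bool.rec (motive := fun _ =>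 List ℕ) (Bool.rec (motive := fun _ => List ℕ) (rw1076) (rw1077) (Nat.ble 1077 i)) (Bool.rec (motive := fun _ => List ℕ) (rw1078) (rw1079) (Nat.ble 1079 i)) (Nat.ble 1078 i)) (Nat.ble 1076 i)) (Bool.rec (motive := fun _ => List ℕ) (Bool.rec (motive := fun _ => List ℕ) (Bool.rec (motive := fun _ => List ℕ) (rw1080) (rw1081) (Nat.ble 1081 i)) (Bool.rec (motive := fun _ => List ℕ) (rw1082) (rw1083) (Nat.ble 1083 i)) (Nat.ble 1082 i)) (Bool.rec (motive := fun _ => List ℕ) (Bool.rec (motive := fun _ => List ℕ) (rw1084) (rw1085) (Nat.ble 1085 i)) (Bool.rec (motive := fun _ => List ℕ) (rw1086) (rw1087) (Nat.ble 1087 i)) (Nat.ble 1086 i)) (Nat.ble 1084 i)) (Nat.ble 1080 i)) (Nat.ble 1072 i)) (Nat.ble 1056 i)) (Bool.rec (motive := fun _ => List ℕ) (Bool.rec (motive := fun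 _ => List ℕ) (Bool.rec (motive := fun _ => List ℕ) (Bool.rec (motive := fun _ => List ℕ) (Bool.rec (motive := fun _ => List ℕ) (Bool.rec (motive := fun _ => List ℕ) (rw1088) (rw1089) (Nat.ble 1089 i)) (Bool.rec (motive := fun _ => List ℕ) (rw1090) (rw1091) (Nat.ble 1091 i)) (Nat.ble 1090 i)) (Bool.rec (motive := fun _ => List ℕ) (Bool.rec (motive := fun _ => List ℕ) (rw1092) (rw1093) (Nat.ble 1093 i)) (Bool.rec (motive := fun _ => List ℕ) (rw1094) (rw1095) (Nat.ble 1095 i)) (Nat.ble 1094 i)) (Nat.ble 1092 i)) (Bool.rec (motive := fun _ => List ℕ) (Bool.rec (motive := fun _ => List ℕ) (Bool.rec (motive := fun _ => List ℕ) (rw1096) (rw1097) (Nat.ble 1097 i)) (Bool.rec (motive := fun _ => List ℕ) (rw1098) (rw1099) (Nat.ble 1099 i)) (Nat.ble 1098 i)) (Bool.rec (motive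 := fun _ => List ℕ) (Bool.rec (motive := fun _ => List ℕ) (rw1100) (rw1101) (Nat.ble 1101 i)) (Bool.rec (motive := fun _ => List ℕ) (rw1102) (rw1103) (Nat.ble 1103 i)) (Nat.ble 1102 i)) (Nat.ble 1100 i)) (Nat.ble 1096 i)) (Bool.rec (motive := fun _ => List ℕ) (Bool.rec (motive := fun _ => List ℕ) (Bool.rec (motive := fun _ => List ℕ) (Bool.rec (motive := fun _ => List ℕ) (rw1104) (rw1105) (Nat.ble 1105 i)) (Bool.rec (motive := fun _ => List ℕ) (rw1106) (rw1107) (Nat.ble 1107 i)) (Nat.ble 1106 i)) (Bool.rec (motive := fun _ => List ℕ) (Bool.rec (motive := fun _ => List ℕ) (rw1108) (rw1109) (Nat.ble 1109 i)) (Bool.rec (motive := fun _ => List ℕ) (rw1110) (rw1111) (Nat.ble 1111 i)) (Nat.ble 1110 i)) (Nat.ble 1108 i)) (Bool.rec (motive := fun _ => List ℕ) (Bool.rec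 (motive := fun _ => List ℕ) (Bool.rec (motive := fun _ => List ℕ) (rw1112) (rw1113) (Nat.ble 1113 i)) (Bool.rec (motive := fun _ => List ℕ) (rw1114) (rw1115) (Nat.ble 1115 i)) (Nat.ble 1114 i)) (Bool.rec (motive := fun _ => List ℕ) (Bool.rec (motive := fun _ => List ℕ) (rw1116) (rw1117) (Nat.ble 1117 i)) (Bool.rec (motive := fun _ => List ℕ) (rw1118) (rw1119) (Nat.ble 1119 i)) (Nat.ble 1118 i)) (Nat.ble 1116 i)) (Nat.ble 1112 i)) (Nat.ble 1104 i)) (Bool.rec (motive := fun _ => List ℕ) (Bool.rec (motive := fun _ => List ℕ) (Bool.rec (motive := fun _ => List ℕ) (Bool.rec (motive := fun _ => List ℕ) (Bool.rec (motive := fun _ => List ℕ) (rw1120) (rw1121) (Nat.ble 1121 i)) (Bool.rec (motive := fun _ => List ℕ) (rw1122) (rw1123) (Nat.ble 1123 i)) (Nat.ble 1122 i)) (Bool.rec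 (motive := fun _ => List ℕ) (Bool.rec (motive := fun _ => List ℕ) (rw1124) (rw1125) (Nat.ble 1125 i)) (Bool.rec (motive := fun _ => List ℕ) (rw1126) (rw1127) (Nat.ble 1127 i)) (Nat.ble 1126 i)) (Nat.ble 1124 i)) (Bool.rec (motive := fun _ => List ℕ) (Bool.rec (motive := fun _ => List ℕ) (Bool.rec (motive := fun _ => List ℕ) (rw1128) (rw1129) (Nat.ble 1129 i)) (Bool.rec (motive := fun _ => List ℕ) (rw1130) (rw1131) (Nat.ble 1131 i)) (Nat.ble 1130 i)) (Bool.rec (motive := fun _ => List ℕ) (Bool.rec (motive := fun _ => List ℕ) (rw1132) (rw1133) (Nat.ble 1133 i)) (Bool.rec (motive := fun _ => List ℕ) (rw1134) (rw1135) (Nat.ble 1135 i)) (Nat.ble 1134 i)) (Nat.ble 1132 i)) (Nat.ble 1128 i)) (Bool.rec (motive := fun _ => List ℕ) (Bool.rec (motive := fun _ => List ℕ) (Bool.rec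 (motive := fun _ => List ℕ) (Bool.rec (motive := fun _ => List ℕ) (rw1136) (rw1137) (Nat.ble 1137 i)) (Bool.rec (motive := fun _ => List ℕ) (rw1138) (rw1139) (Nat.ble 1139 i)) (Nat.ble 1138 i)) (Bool.rec (motive := fun _ => List ℕ) (Bool.rec (motive := fun _ => List ℕ) (rw1140) (rw1141) (Nat.ble 1141 i)) (Bool.rec (motive := fun _ => List ℕ) (rw1142) (rw1143) (Nat.ble 1143 i)) (Nat.ble 1142 i)) (Nat.ble 1140 i)) (Bool.rec (motive := fun _ => List ℕ) (Bool.rec (motive := fun _ => List ℕ) (Bool.rec (motive := fun _ => List ℕ) (rw1144) (rw1145) (Nat.ble 1145 i)) (Bool.rec (motive := fun _ => List ℕ) (rw1146) (rw1147) (Nat.ble 1147 i)) (Nat.ble 1146 i)) (Bool.rec (motive := fun _ => List ℕ) (Bool.rec (motive := fun _ => List ℕ) (rw1148) (rw1149) (Nat.ble 1149 i)) (Bool.rec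 (motive := fun _ => List ℕ) (rw1150) (rw1151) (Nat.ble 1151 i)) (Nat.ble 1150 i)) (Nat.ble 1148 i)) (Nat.ble 1144 i)) (Nat.ble 1136 i)) (Nat.ble 1120 i)) (Nat.ble 1088 i)) (Bool.rec (motive := fun _ => List ℕ) (Bool.rec (motive := fun _ => List ℕ) (Bool.rec (motive := fun _ => List ℕ) (Bool.rec (motive := fun _ => List ℕ) (Bool.rec (motive := fun _ => List ℕ) (Bool.rec (motive := fun _ => List ℕ) (Bool.rec (motive := fun _ => List ℕ) (rw1152) (rw1153) (Nat.ble 1153 i)) (Bool.rec (motive := fun _ => List ℕ) (rw1154) (rw1155) (Nat.ble 1155 i)) (Nat.ble 1154 i)) (Bool.rec (motive := fun _ => List ℕ) (Bool.rec (motive := fun _ => List ℕ) (rw1156) (rw1157) (Nat.ble 1157 i)) (Bool.rec (motive := fun _ => List ℕ) (rw1158) (rw1159) (Nat.ble 1159 i)) (Nat.ble 1158 i)) (Nat.ble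 1156 i)) (Bool.rec (motive := fun _ => List ℕ) (Bool.rec (motive := fun _ => List ℕ) (Bool.rec (motive := fun _ => List ℕ) (rw1160) (rw1161) (Nat.ble 1161 i)) (Bool.rec (motive := fun _ => List ℕ) (rw1162) (rw1163) (Nat.ble 1163 i)) (Nat.ble 1162 i)) (Bool.rec (motive := fun _ => List ℕ) (Bool.rec (motive := fun _ => List ℕ) (rw1164) (rw1165) (Nat.ble 1165 i)) (Bool.rec (motive := fun _ => List ℕ) (rw1166) (rw1167) (Nat.ble 1167 i)) (Nat.ble 1166 i)) (Nat.ble 1164 i)) (Nat.ble 1160 i)) (Bool.rec (motive := fun _ => List ℕ) (Bool.rec (motive := fun _ => List ℕ) (Bool.rec (motive := fun _ => List ℕ) (Bool.rec (motive := fun _ => List ℕ) (rw1168) (rw1169) (Nat.ble 1169 i)) (Bool.rec (motive := fun _ => List ℕ) (rw1170) (rw1171) (Nat.ble 1171 i)) (Nat.ble 1170 i)) (Bool.rec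 (motive := fun _ => List ℕ) (Bool.rec (motive := fun _ => List ℕ) (rw1172) (rw1173) (Nat.ble 1173 i)) (Bool.rec (motive := fun _ => List ℕ) (rw1174) (rw1175) (Nat.ble 1175 i)) (Nat.ble 1174 i)) (Nat.ble 1172 i)) (Bool.rec (motive := fun _ => List ℕ) (Bool.rec (motive := fun _ => List ℕ) (Bool.rec (motive := fun _ => List ℕ) (rw1176) (rw1177) (Nat.ble 1177 i)) (Bool.rec (motive := fun _ => List ℕ) (rw1178) (rw1179) (Nat.ble 1179 i)) (Nat.ble 1178 i)) (Bool.rec (motive := fun _ => List ℕ) (Bool.rec (motive := fun _ => List ℕ) (rw1180) (rw1181) (Nat.ble 1181 i)) (Bool.rec (motive := fun _ => List ℕ) (rw1182) (rw1183) (Nat.ble 1183 i)) (Nat.ble 1182 i)) (Nat.ble 1180 i)) (Nat.ble 1176 i)) (Nat.ble 1168 i)) (Bool.rec (motive := fun _ => List ℕ) (Bool.rec (motive := fun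 _ => List ℕ) (Bool.rec (motive := fun _ => List ℕ) (Bool.rec (motive := fun _ => List ℕ) (Bool.rec (motive := fun _ => List ℕ) (rw1184) (rw1185) (Nat.ble 1185 i)) (Bool.rec (motive := fun _ => List ℕ) (rw1186) (rw1187) (Nat.ble 1187 i)) (Nat.ble 1186 i)) (Bool.rec (motive := fun _ => List ℕ) (Bool.rec (motive := fun _ => List ℕ) (rw1188) (rw1189) (Nat.ble 1189 i)) (Bool.rec (motive := fun _ => List ℕ) (rw1190) (rw1191) (Nat.ble 1191 i)) (Nat.ble 1190 i)) (Nat.ble 1188 i)) (Bool.rec (motive := fun _ => List ℕ) (Bool.rec (motive := fun _ => List ℕ) (Bool.rec (motive := fun _ => List ℕ) (rw1192) (rw1193) (Nat.ble 1193 i)) (Bool.rec (motive := fun _ => List ℕ) (rw1194) (rw1195) (Nat.ble 1195 i)) (Nat.ble 1194 i)) (Bool.rec (motive := fun _ => List ℕ) (Bool.rec (motive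 := fun _ => List ℕ) (rw1196) (rw1197) (Nat.ble 1197 i)) (Bool.rec (motive := fun _ => List ℕ) (rw1198) (rw1199) (Nat.ble 1199 i)) (Nat.ble 1198 i)) (Nat.ble 1196 i)) (Nat.ble 1192 i)) (Bool.rec (motive := fun _ => List ℕ) (Bool.rec (motive := fun _ => List ℕ) (Bool.rec (motive := fun _ => List ℕ) (Bool.rec (motive := fun _ => List ℕ) (rw1200) (rw1201) (Nat.ble 1201 i)) (Bool.rec (motive := fun _ => List ℕ) (rw1202) (rw1203) (Nat.ble 1203 i)) (Nat.ble 1202 i)) (Bool.rec (motive := fun _ => List ℕ) (Bool.rec (motive := fun _ => List ℕ) (rw1204) (rw1205) (Nat.ble 1205 i)) (Bool.rec (motive := fun _ => List ℕ) (rw1206) (rw1207) (Nat.ble 1207 i)) (Nat.ble 1206 i)) (Nat.ble 1204 i)) (Bool.rec (motive := fun _ => List ℕ) (Bool.rec (motive := fun _ => List ℕ) (Bool.rec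 (motive := fun _ => List ℕ) (rw1208) (rw1209) (Nat.ble 1209 i)) (Bool.rec (motive := fun _ => List ℕ) (rw1210) (rw1211) (Nat.ble 1211 i)) (Nat.ble 1210 i)) (Bool.rec (motive := fun _ => List ℕ) (Bool.rec (motive := fun _ => List ℕ) (rw1212) (rw1213) (Nat.ble 1213 i)) (Bool.rec (motive := fun _ => List ℕ) (rw1214) (rw1215) (Nat.ble 1215 i)) (Nat.ble 1214 i)) (Nat.ble 1212 i)) (Nat.ble 1208 i)) (Nat.ble 1200 i)) (Nat.ble 1184 i)) (Bool.rec (motive := fun _ => List ℕ) (Bool.rec (motive := fun _ => List ℕ) (Bool.rec (motive := fun _ => List ℕ) (Bool.rec (motive := fun _ => List ℕ) (Bool.rec (motive := fun _ => List ℕ) (Bool.rec (motive := fun _ => List ℕ) (rw1216) (rw1217) (Nat.ble 1217 i)) (Bool.rec (motive := fun _ => List ℕ) (rw1218) (rw1219) (Nat.ble 1219 i)) (Nat.ble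 1218 i)) (Bool.rec (motive := fun _ => List ℕ) (Bool.rec (motive := fun _ => List ℕ) (rw1220) (rw1221) (Nat.ble 1221 i)) (Bool.rec (motive := fun _ => List ℕ) (rw1222) (rw1223) (Nat.ble 1223 i)) (Nat.ble 1222 i)) (Nat.ble 1220 i)) (Bool.rec (motive := fun _ => List ℕ) (Bool.rec (motive := fun _ => List ℕ) (Bool.rec (motive := fun _ => List ℕ) (rw1224) (rw1225) (Nat.ble 1225 i)) (Bool.rec (motive := fun _ => List ℕ) (rw1226) (rw1227) (Nat.ble 1227 i)) (Nat.ble 1226 i)) (Bool.rec (motive := fun _ => List ℕ) (Bool.rec (motive := fun _ => List ℕ) (rw1228) (rw1229) (Nat.ble 1229 i)) (Bool.rec (motive := fun _ => List ℕ) (rw1230) (rw1231) (Nat.ble 1231 i)) (Nat.ble 1230 i)) (Nat.ble 1228 i)) (Nat.ble 1224 i)) (Bool.rec (motive := fun _ => List ℕ) (Bool.rec (motive :=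 fun _ => List ℕ) (Bool.rec (motive := fun _ => List ℕ) (Bool.rec (motive := fun _ => List ℕ) (rw1232) (rw1233) (Nat.ble 1233 i)) (Bool.rec (motive := fun _ => List ℕ) (rw1234) (rw1235) (Nat.ble 1235 i)) (Nat.ble 1234 i)) (Bool.rec (motive := fun _ => List ℕ) (Bool.rec (motive := fun _ => List ℕ) (rw1236) (rw1237) (Nat.ble 1237 i)) (Bool.rec (motive := fun _ => List ℕ) (rw1238) (rw1239) (Nat.ble 1239 i)) (Nat.ble 1238 i)) (Nat.ble 1236 i)) (Bool.rec (motive := fun _ => List ℕ) (Bool.rec (motive := fun _ => List ℕ) (Bool.rec (motive := fun _ => List ℕ) (rw1240) (rw1241) (Nat.ble 1241 i)) (Bool.rec (motive := fun _ => List ℕ) (rw1242) (rw1243) (Nat.ble 1243 i)) (Nat.ble 1242 i)) (Bool.rec (motive := fun _ => List ℕ) (Bool.rec (motive := fun _ => List ℕ) (rw1244) (rw1245)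 (Nat.ble 1245 i)) (Bool.rec (motive := fun _ => List ℕ) (rw1246) (rw1247) (Nat.ble 1247 i)) (Nat.ble 1246 i)) (Nat.ble 1244 i)) (Nat.ble 1240 i)) (Nat.ble 1232 i)) (Bool.rec (motive := fun _ => List ℕ) (Bool.rec (motive := fun _ => List ℕ) (Bool.rec (motive := fun _ => List ℕ) (Bool.rec (motive := fun _ => List ℕ) (Bool.rec (motive := fun _ => List ℕ) (rw1248) (rw1249) (Nat.ble 1249 i)) (Bool.rec (motive := fun _ => List ℕ) (rw1250) (rw1251) (Nat.ble 1251 i)) (Nat.ble 1250 i)) (Bool.rec (motive := fun _ => List ℕ) (Bool.rec (motive := fun _ => List ℕ) (rw1252) (rw1253) (Nat.ble 1253 i)) (Bool.rec (motive := fun _ => List ℕ) (rw1254) (rw1255) (Nat.ble 1255 i)) (Nat.ble 1254 i)) (Nat.ble 1252 i)) (Bool.rec (motive := fun _ => List ℕ) (Bool.rec (motive := fun _ =>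 List ℕ) (Bool.rec (motive := fun _ => List ℕ) (rw1256) (rw1257) (Nat.ble 1257 i)) (Bool.rec (motive := fun _ => List ℕ) (rw1258) (rw1259) (Nat.ble 1259 i)) (Nat.ble 1258 i)) (Bool.rec (motive := fun _ => List ℕ) (Bool.rec (motive := fun _ => List ℕ) (rw1260) (rw1261) (Nat.ble 1261 i)) (Bool.rec (motive := fun _ => List ℕ) (rw1262) (rw1263) (Nat.ble 1263 i)) (Nat.ble 1262 i)) (Nat.ble 1260 i)) (Nat.ble 1256 i)) (Bool.rec (motive := fun _ => List ℕ) (Bool.rec (motive := fun _ => List ℕ) (Bool.rec (motive := fun _ => List ℕ) (Bool.rec (motive := fun _ => List ℕ) (rw1264) (rw1265) (Nat.ble 1265 i)) (Bool.rec (motive := fun _ => List ℕ) (rw1266) (rw1267) (Nat.ble 1267 i)) (Nat.ble 1266 i)) (Bool.rec (motive := fun _ => List ℕ) (Bool.rec (motive := fun _ => List ℕ) (rw1268)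 (rw1269) (Nat.ble 1269 i)) (Bool.rec (motive := fun _ => List ℕ) (rw1270) (rw1271) (Nat.ble 1271 i)) (Nat.ble 1270 i)) (Nat.ble 1268 i)) (Bool.rec (motive := fun _ => List ℕ) (Bool.rec (motive := fun _ => List ℕ) (Bool.rec (motive := fun _ => List ℕ) (rw1272) (rw1273) (Nat.ble 1273 i)) (Bool.rec (motive := fun _ => List ℕ) (rw1274) (rw1275) (Nat.ble 1275 i)) (Nat.ble 1274 i)) (Bool.rec (motive := fun _ => List ℕ) (Bool.rec (motive := fun _ => List ℕ) (rw1276) (rw1277) (Nat.ble 1277 i)) (Bool.rec (motive := fun _ => List ℕ) (rw1278) (rw1279) (Nat.ble 1279 i)) (Nat.ble 1278 i)) (Nat.ble 1276 i)) (Nat.ble 1272 i)) (Nat.ble 1264 i)) (Nat.ble 1248 i)) (Nat.ble 1216 i)) (Nat.ble 1152 i)) (Bool.rec (motive := fun _ => List ℕ) (Bool.rec (motive := fun _ => List ℕ) (Bool.rec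 (motive := fun _ => List ℕ) (Bool.rec (motive := fun _ => List ℕ) (Bool.rec (motive := fun _ => List ℕ) (Bool.rec (motive := fun _ => List ℕ) (Bool.rec (motive := fun _ => List ℕ) (Bool.rec (motive := fun _ => List ℕ) (rw1280) (rw1281) (Nat.ble 1281 i)) (Bool.rec (motive := fun _ => List ℕ) (rw1282) (rw1283) (Nat.ble 1283 i)) (Nat.ble 1282 i)) (Bool.rec (motive := fun _ => List ℕ) (Bool.rec (motive := fun _ => List ℕ) (rw1284) (rw1285) (Nat.ble 1285 i)) (Bool.rec (motive := fun _ => List ℕ) (rw1286) (rw1287) (Nat.ble 1287 i)) (Nat.ble 1286 i)) (Nat.ble 1284 i)) (Bool.rec (motive := fun _ => List ℕ) (Bool.rec (motive := fun _ => List ℕ) (Bool.rec (motive := fun _ => List ℕ) (rw1288) (rw1289) (Nat.ble 1289 i)) (Bool.rec (motive := fun _ => List ℕ) (rw1290) (rw1291)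 (Nat.ble 1291 i)) (Nat.ble 1290 i)) (Bool.rec (motive := fun _ => List ℕ) (Bool.rec (motive := fun _ => List ℕ) (rw1292) (rw1293) (Nat.ble 1293 i)) (Bool.rec (motive := fun _ => List ℕ) (rw1294) (rw1295) (Nat.ble 1295 i)) (Nat.ble 1294 i)) (Nat.ble 1292 i)) (Nat.ble 1288 i)) (Bool.rec (motive := fun _ => List ℕ) (Bool.rec (motive := fun _ => List ℕ) (Bool.rec (motive := fun _ => List ℕ) (Bool.rec (motive := fun _ => List ℕ) (rw1296) (rw1297) (Nat.ble 1297 i)) (Bool.rec (motive := fun _ => List ℕ) (rw1298) (rw1299) (Nat.ble 1299 i)) (Nat.ble 1298 i)) (Bool.rec (motive := fun _ => List ℕ) (Bool.rec (motive := fun _ => List ℕ) (rw1300) (rw1301) (Nat.ble 1301 i)) (Bool.rec (motive := fun _ => List ℕ) (rw1302) (rw1303) (Nat.ble 1303 i)) (Nat.ble 1302 i)) (Nat.ble 1300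 i)) (Bool.rec (motive := fun _ => List ℕ) (Bool.rec (motive := fun _ => List ℕ) (Bool.rec (motive := fun _ => List ℕ) (rw1304) (rw1305) (Nat.ble 1305 i)) (Bool.rec (motive := fun _ => List ℕ) (rw1306) (rw1307) (Nat.ble 1307 i)) (Nat.ble 1306 i)) (Bool.rec (motive := fun _ => List ℕ) (Bool.rec (motive := fun _ => List ℕ) (rw1308) (rw1309) (Nat.ble 1309 i)) (Bool.rec (motive := fun _ => List ℕ) (rw1310) (rw1311) (Nat.ble 1311 i)) (Nat.ble 1310 i)) (Nat.ble 1308 i)) (Nat.ble 1304 i)) (Nat.ble 1296 i)) (Bool.rec (motive := fun _ => List ℕ) (Bool.rec (motive := fun _ => List ℕ) (Bool.rec (motive := fun _ => List ℕ) (Bool.rec (motive := fun _ => List ℕ) (Bool.rec (motive := fun _ => List ℕ) (rw1312) (rw1313) (Nat.ble 1313 i)) (Bool.rec (motive := fun _ => List ℕ) (rw1314)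 (rw1315) (Nat.ble 1315 i)) (Nat.ble 1314 i)) (Bool.rec (motive := fun _ => List ℕ) (Bool.rec (motive := fun _ => List ℕ) (rw1316) (rw1317) (Nat.ble 1317 i)) (Bool.rec (motive := fun _ => List ℕ) (rw1318) (rw1319) (Nat.ble 1319 i)) (Nat.ble 1318 i)) (Nat.ble 1316 i)) (Bool.rec (motive := fun _ => List ℕ) (Bool.rec (motive := fun _ => List ℕ) (Bool.rec (motive := fun _ => List ℕ) (rw1320) (rw1321) (Nat.ble 1321 i)) (Bool.rec (motive := fun _ => List ℕ) (rw1322) (rw1323) (Nat.ble 1323 i)) (Nat.ble 1322 i)) (Bool.rec (motive := fun _ => List ℕ) (Bool.rec (motive := fun _ => List ℕ) (rw1324) (rw1325) (Nat.ble 1325 i)) (Bool.rec (motive := fun _ => List ℕ) (rw1326) (rw1327) (Nat.ble 1327 i)) (Nat.ble 1326 i)) (Nat.ble 1324 i)) (Nat.ble 1320 i)) (Bool.rec (motive := fun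 _ => List ℕ) (Bool.rec (motive := fun _ => List ℕ) (Bool.rec (motive := fun _ => List ℕ) (Bool.rec (motive := fun _ => List ℕ) (rw1328) (rw1329) (Nat.ble 1329 i)) (Bool.rec (motive := fun _ => List ℕ) (rw1330) (rw1331) (Nat.ble 1331 i)) (Nat.ble 1330 i)) (Bool.rec (motive := fun _ => List ℕ) (Bool.rec (motive := fun _ => List ℕ) (rw1332) (rw1333) (Nat.ble 1333 i)) (Bool.rec (motive := fun _ => List ℕ) (rw1334) (rw1335) (Nat.ble 1335 i)) (Nat.ble 1334 i)) (Nat.ble 1332 i)) (Bool.rec (motive := fun _ => List ℕ) (Bool.rec (motive := fun _ => List ℕ) (Bool.rec (motive := fun _ => List ℕ) (rw1336) (rw1337) (Nat.ble 1337 i)) (Bool.rec (motive := fun _ => List ℕ) (rw1338) (rw1339) (Nat.ble 1339 i)) (Nat.ble 1338 i)) (Bool.rec (motive := fun _ => List ℕ) (Bool.rec (motive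 := fun _ => List ℕ) (rw1340) (rw1341) (Nat.ble 1341 i)) (Bool.rec (motive := fun _ => List ℕ) (rw1342) (rw1343) (Nat.ble 1343 i)) (Nat.ble 1342 i)) (Nat.ble 1340 i)) (Nat.ble 1336 i)) (Nat.ble 1328 i)) (Nat.ble 1312 i)) (Bool.rec (motive := fun _ => List ℕ) (Bool.rec (motive := fun _ => List ℕ) (Bool.rec (motive := fun _ => List ℕ) (Bool.rec (motive := fun _ => List ℕ) (Bool.rec (motive := fun _ => List ℕ) (Bool.rec (motive := fun _ => List ℕ) (rw1344) (rw1345) (Nat.ble 1345 i)) (Bool.rec (motive := fun _ => List ℕ) (rw1346) (rw1347) (Nat.ble 1347 i)) (Nat.ble 1346 i)) (Bool.rec (motive := fun _ => List ℕ) (Bool.rec (motive := fun _ => List ℕ) (rw1348) (rw1349) (Nat.ble 1349 i)) (Bool.rec (motive := fun _ => List ℕ) (rw1350) (rw1351) (Nat.ble 1351 i)) (Nat.ble 1350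 i)) (Nat.ble 1348 i)) (Bool.rec (motive := fun _ => List ℕ) (Bool.rec (motive := fun _ => List ℕ) (Bool.rec (motive := fun _ => List ℕ) (rw1352) (rw1353) (Nat.ble 1353 i)) (Bool.rec (motive := fun _ => List ℕ) (rw1354) (rw1355) (Nat.ble 1355 i)) (Nat.ble 1354 i)) (Bool.rec (motive := fun _ => List ℕ) (Bool.rec (motive := fun _ => List ℕ) (rw1356) (rw1357) (Nat.ble 1357 i)) (Bool.rec (motive := fun _ => List ℕ) (rw1358) (rw1359) (Nat.ble 1359 i)) (Nat.ble 1358 i)) (Nat.ble 1356 i)) (Nat.ble 1352 i)) (Bool.rec (motive := fun _ => List ℕ) (Bool.rec (motive := fun _ => List ℕ) (Bool.rec (motive := fun _ => List ℕ) (Bool.rec (motive := fun _ => List ℕ) (rw1360) (rw1361) (Nat.ble 1361 i)) (Bool.rec (motive := fun _ => List ℕ) (rw1362) (rw1363) (Nat.ble 1363 i)) (Nat.ble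 1362 i)) (Bool.rec (motive := fun _ => List ℕ) (Bool.rec (motive := fun _ => List ℕ) (rw1364) (rw1365) (Nat.ble 1365 i)) (Bool.rec (motive := fun _ => List ℕ) (rw1366) (rw1367) (Nat.ble 1367 i)) (Nat.ble 1366 i)) (Nat.ble 1364 i)) (Bool.rec (motive := fun _ => List ℕ) (Bool.rec (motive := fun _ => List ℕ) (Bool.rec (motive := fun _ => List ℕ) (rw1368) (rw1369) (Nat.ble 1369 i)) (Bool.rec (motive := fun _ => List ℕ) (rw1370) (rw1371) (Nat.ble 1371 i)) (Nat.ble 1370 i)) (Bool.rec (motive := fun _ => List ℕ) (Bool.rec (motive := fun _ => List ℕ) (rw1372) (rw1373) (Nat.ble 1373 i)) (Bool.rec (motive := fun _ => List ℕ) (rw1374) (rw1375) (Nat.ble 1375 i)) (Nat.ble 1374 i)) (Nat.ble 1372 i)) (Nat.ble 1368 i)) (Nat.ble 1360 i)) (Bool.rec (motive := fun _ => List ℕ) (Bool.rec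 (motive := fun _ => List ℕ) (Bool.rec (motive := fun _ => List ℕ) (Bool.rec (motive := fun _ => List ℕ) (Bool.rec (motive := fun _ => List ℕ) (rw1376) (rw1377) (Nat.ble 1377 i)) (Bool.rec (motive := fun _ => List ℕ) (rw1378) (rw1379) (Nat.ble 1379 i)) (Nat.ble 1378 i)) (Bool.rec (motive := fun _ => List ℕ) (Bool.rec (motive := fun _ => List ℕ) (rw1380) (rw1381) (Nat.ble 1381 i)) (Bool.rec (motive := fun _ => List ℕ) (rw1382) (rw1383) (Nat.ble 1383 i)) (Nat.ble 1382 i)) (Nat.ble 1380 i)) (Bool.rec (motive := fun _ => List ℕ) (Bool.rec (motive := fun _ => List ℕ) (Bool.rec (motive := fun _ => List ℕ) (rw1384) (rw1385) (Nat.ble 1385 i)) (Bool.rec (motive := fun _ => List ℕ) (rw1386) (rw1387) (Nat.ble 1387 i)) (Nat.ble 1386 i)) (Bool.rec (motive := fun _ => List ℕ)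 (Bool.rec (motive := fun _ => List ℕ) (rw1388) (rw1389) (Nat.ble 1389 i)) (Bool.rec (motive := fun _ => List ℕ) (rw1390) (rw1391) (Nat.ble 1391 i)) (Nat.ble 1390 i)) (Nat.ble 1388 i)) (Nat.ble 1384 i)) (Bool.rec (motive := fun _ => List ℕ) (Bool.rec (motive := fun _ => List ℕ) (Bool.rec (motive := fun _ => List ℕ) (Bool.rec (motive := fun _ => List ℕ) (rw1392) (rw1393) (Nat.ble 1393 i)) (Bool.rec (motive := fun _ => List ℕ) (rw1394) (rw1395) (Nat.ble 1395 i)) (Nat.ble 1394 i)) (Bool.rec (motive := fun _ => List ℕ) (Bool.rec (motive := fun _ => List ℕ) (rw1396) (rw1397) (Nat.ble 1397 i)) (Bool.rec (motive := fun _ => List ℕ) (rw1398) (rw1399) (Nat.ble 1399 i)) (Nat.ble 1398 i)) (Nat.ble 1396 i)) (Bool.rec (motive := fun _ => List ℕ) (Bool.rec (motive := fun _ =>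 List ℕ) (Bool.rec (motive := fun _ => List ℕ) (rw1400) (rw1401) (Nat.ble 1401 i)) (Bool.rec (motive := fun _ => List ℕ) (rw1402) (rw1403) (Nat.ble 1403 i)) (Nat.ble 1402 i)) (Bool.rec (motive := fun _ => List ℕ) (Bool.rec (motive := fun _ => List ℕ) (rw1404) (rw1405) (Nat.ble 1405 i)) (Bool.rec (motive := fun _ => List ℕ) (rw1406) (rw1407) (Nat.ble 1407 i)) (Nat.ble 1406 i)) (Nat.ble 1404 i)) (Nat.ble 1400 i)) (Nat.ble 1392 i)) (Nat.ble 1376 i)) (Nat.ble 1344 i)) (Bool.rec (motive := fun _ => List ℕ) (Bool.rec (motive := fun _ => List ℕ) (Bool.rec (motive := fun _ => List ℕ) (Bool.rec (motive := fun _ => List ℕ) (Bool.rec (motive := fun _ => List ℕ) (Bool.rec (motive := fun _ => List ℕ) (Bool.rec (motive := fun _ => List ℕ) (rw1408) (rw1409) (Nat.ble 1409 i)) (Bool.rec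 (motive := fun _ => List ℕ) (rw1410) (rw1411) (Nat.ble 1411 i)) (Nat.ble 1410 i)) (Bool.rec (motive := fun _ => List ℕ) (Bool.rec (motive := fun _ => List ℕ) (rw1412) (rw1413) (Nat.ble 1413 i)) (Bool.rec (motive := fun _ => List ℕ) (rw1414) (rw1415) (Nat.ble 1415 i)) (Nat.ble 1414 i)) (Nat.ble 1412 i)) (Bool.rec (motive := fun _ => List ℕ) (Bool.rec (motive := fun _ => List ℕ) (Bool.rec (motive := fun _ => List ℕ) (rw1416) (rw1417) (Nat.ble 1417 i)) (Bool.rec (motive := fun _ => List ℕ) (rw1418) (rw1419) (Nat.ble 1419 i)) (Nat.ble 1418 i)) (Bool.rec (motive := fun _ => List ℕ) (Bool.rec (motive := fun _ => List ℕ) (rw1420) (rw1421) (Nat.ble 1421 i)) (Bool.rec (motive := fun _ => List ℕ) (rw1422) (rw1423) (Nat.ble 1423 i)) (Nat.ble 1422 i)) (Nat.ble 1420 i)) (Nat.ble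 1416 i)) (Bool.rec (motive := fun _ => List ℕ) (Bool.rec (motive := fun _ => List ℕ) (Bool.rec (motive := fun _ => List ℕ) (Bool.rec (motive := fun _ => List ℕ) (rw1424) (rw1425) (Nat.ble 1425 i)) (Bool.rec (motive := fun _ => List ℕ) (rw1426) (rw1427) (Nat.ble 1427 i)) (Nat.ble 1426 i)) (Bool.rec (motive := fun _ => List ℕ) (Bool.rec (motive := fun _ => List ℕ) (rw1428) (rw1429) (Nat.ble 1429 i)) (Bool.rec (motive := fun _ => List ℕ) (rw1430) (rw1431) (Nat.ble 1431 i)) (Nat.ble 1430 i)) (Nat.ble 1428 i)) (Bool.rec (motive := fun _ => List ℕ) (Bool.rec (motive := fun _ => List ℕ) (Bool.rec (motive := fun _ => List ℕ) (rw1432) (rw1433) (Nat.ble 1433 i)) (Bool.rec (motive := fun _ => List ℕ) (rw1434) (rw1435) (Nat.ble 1435 i)) (Nat.ble 1434 i)) (Bool.rec (motive :=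 fun _ => List ℕ) (Bool.rec (motive := fun _ => List ℕ) (rw1436) (rw1437) (Nat.ble 1437 i)) (Bool.rec (motive := fun _ => List ℕ) (rw1438) (rw1439) (Nat.ble 1439 i)) (Nat.ble 1438 i)) (Nat.ble 1436 i)) (Nat.ble 1432 i)) (Nat.ble 1424 i)) (Bool.rec (motive := fun _ => List ℕ) (Bool.rec (motive := fun _ => List ℕ) (Bool.rec (motive := fun _ => List ℕ) (Bool.rec (motive := fun _ => List ℕ) (Bool.rec (motive := fun _ => List ℕ) (rw1440) (rw1441) (Nat.ble 1441 i)) (Bool.rec (motive := fun _ => List ℕ) (rw1442) (rw1443) (Nat.ble 1443 i)) (Nat.ble 1442 i)) (Bool.rec (motive := fun _ => List ℕ) (Bool.rec (motive := fun _ => List ℕ) (rw1444) (rw1445) (Nat.ble 1445 i)) (Bool.rec (motive := fun _ => List ℕ) (rw1446) (rw1447) (Nat.ble 1447 i)) (Nat.ble 1446 i)) (Nat.ble 1444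 i)) (Bool.rec (motive := fun _ => List ℕ) (Bool.rec (motive := fun _ => List ℕ) (Bool.rec (motive := fun _ => List ℕ) (rw1448) (rw1449) (Nat.ble 1449 i)) (Bool.rec (motive := fun _ => List ℕ) (rw1450) (rw1451) (Nat.ble 1451 i)) (Nat.ble 1450 i)) (Bool.rec (motive := fun _ => List ℕ) (Bool.rec (motive := fun _ => List ℕ) (rw1452) (rw1453) (Nat.ble 1453 i)) (Bool.rec (motive := fun _ => List ℕ) (rw1454) (rw1455) (Nat.ble 1455 i)) (Nat.ble 1454 i)) (Nat.ble 1452 i)) (Nat.ble 1448 i)) (Bool.rec (motive := fun _ => List ℕ) (Bool.rec (motive := fun _ => List ℕ) (Bool.rec (motive := fun _ => List ℕ) (Bool.rec (motive := fun _ => List ℕ) (rw1456) (rw1457) (Nat.ble 1457 i)) (Bool.rec (motive := fun _ => List ℕ) (rw1458) (rw1459) (Nat.ble 1459 i)) (Nat.ble 1458 i)) (Bool.rec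 (motive := fun _ => List ℕ) (Bool.rec (motive := fun _ => List ℕ) (rw1460) (rw1461) (Nat.ble 1461 i)) (Bool.rec (motive := fun _ => List ℕ) (rw1462) (rw1463) (Nat.ble 1463 i)) (Nat.ble 1462 i)) (Nat.ble 1460 i)) (Bool.rec (motive := fun _ => List ℕ) (Bool.rec (motive := fun _ => List ℕ) (Bool.rec (motive := fun _ => List ℕ) (rw1464) (rw1465) (Nat.ble 1465 i)) (Bool.rec (motive := fun _ => List ℕ) (rw1466) (rw1467) (Nat.ble 1467 i)) (Nat.ble 1466 i)) (Bool.rec (motive := fun _ => List ℕ) (Bool.rec (motive := fun _ => List ℕ) (rw1468) (rw1469) (Nat.ble 1469 i)) (Bool.rec (motive := fun _ => List ℕ) (rw1470) (rw1471) (Nat.ble 1471 i)) (Nat.ble 1470 i)) (Nat.ble 1468 i)) (Nat.ble 1464 i)) (Nat.ble 1456 i)) (Nat.ble 1440 i)) (Bool.rec (motive := fun _ => List ℕ) (Bool.rec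 (motive := fun _ => List ℕ) (Bool.rec (motive := fun _ => List ℕ) (Bool.rec (motive := fun _ => List ℕ) (Bool.rec (motive := fun _ => List ℕ) (Bool.rec (motive := fun _ => List ℕ) (rw1472) (rw1473) (Nat.ble 1473 i)) (Bool.rec (motive := fun _ => List ℕ) (rw1474) (rw1475) (Nat.ble 1475 i)) (Nat.ble 1474 i)) (Bool.rec (motive := fun _ => List ℕ) (Bool.rec (motive := fun _ => List ℕ) (rw1476) (rw1477) (Nat.ble 1477 i)) ([]) (Nat.ble 1478 i)) (Nat.ble 1476 i)) ([]) (Nat.ble 1480 i)) ([]) (Nat.ble 1488 i)) ([]) (Nat.ble 1504 i)) (Nat.ble 1472 i)) (Nat.ble 1408 i)) (Nat.ble 1280 i)) ([]) (Nat.ble 1536 i)) (Nat.ble 1024 i))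
def sw0 : List ℕ := [0]
def sw1 : List ℕ := [2]
def sw2 : List ℕ := [4]
def sw3 : List ℕ := [6]
def sw4 : List ℕ := [8]
def sw5 : List ℕ := [10]
def sw6 : List ℕ := [12]
noncomputable def subW (i : ℕ) : List ℕ := (Bool.rec (motive := fun _ => List ℕ) (Bool.rec (motive := fun _ => List ℕ) (Bool.rec (motive := fun _ => List ℕ) (sw0) (sw1) (Nat.ble 1 i)) (Bool.rec (motive := fun _ => List ℕ) (sw2) (sw3) (Nat.ble 3 i)) (Nat.ble 2 i)) (Bool.rec (motive := fun _ => List ℕ) (Bool.rec (motive := fun _ => List ℕ) (sw4) (sw5) (Nat.ble 5 i)) (Bool.rec (motive := fun _ => List ℕ) (sw6) ([]) (Nat.ble 7 i)) (Nat.ble 6 i)) (Nat.ble 4 i))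

noncomputable def data : Data where
  w := 17
  mask := 131071
  tw := 21
  tmask := 2097151
  hsh := 38
  lsh := 55
  ew := 59
  emask := 576460752303423487
  mw := 60
  mmask := 1152921504606846975
  jw := 22
  jmask := 4194303
  bsh := 11
  bmask := 2047
  nc := 16
  fuel := 3
  E := eT
  J := jT
  Mg := mgT
  JM := jmT
  relW := relW
  nrot := 1478
  subW := subW
  nsub := 7

def M : ℕ := 76491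
def n : ℕ := 76032

def bases : List (List ℕ) := [
  [0, 0],
  [1, 1],
  [2, 0, 2, 0, 2, 0],
  [1, 3, 1, 3, 1, 3],
  [4, 0, 4, 0],
  [1, 5, 1, 5],
  [6, 0, 6, 0],
  [1, 7, 1, 7],
  [10, 0, 10, 0],
  [1, 11, 1, 11],
  [12, 0, 12, 0],
  [1, 13, 1, 13],
  [8, 0, 8, 0],
  [1, 9, 1, 9],
  [14, 0, 14, 0],
  [1, 15, 1, 15],
  [2, 2],
  [3, 3],
  [4, 2, 4, 2, 4, 2],
  [3, 5, 3, 5, 3, 5],
  [6, 2, 6, 2],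
  [3, 7, 3, 7],
  [10, 2, 10, 2, 10, 2],
  [3, 11, 3, 11, 3, 11],
  [12, 2, 12, 2],
  [3, 13, 3, 13],
  [8, 2, 8, 2],
  [3, 9, 3, 9],
  [14, 2, 14, 2],
  [3, 15, 3, 15],
  [4, 4],
  [5, 5],
  [6, 4, 6, 4, 6, 4],
  [5, 7, 5, 7, 5, 7],
  [10, 4, 10, 4],
  [5, 11, 5, 11],
  [12, 4, 12, 4],
  [5, 13, 5, 13],
  [8, 4, 8, 4],
  [5, 9, 5, 9],
  [14, 4, 14, 4],
  [5, 15, 5, 15],
  [6, 6],
  [7, 7],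
  [10, 6, 10, 6],
  [7, 11, 7, 11],
  [12, 6, 12, 6],
  [7, 13, 7, 13],
  [8, 6, 8, 6, 8, 6],
  [7, 9, 7, 9, 7, 9],
  [14, 6, 14, 6, 14, 6],
  [7, 15, 7, 15, 7, 15],
  [10, 10],
  [11, 11],
  [12, 10, 12, 10, 12, 10],
  [11, 13, 11, 13, 11, 13],
  [8, 10, 8, 10],
  [11, 9, 11, 9],
  [14, 10, 14, 10],
  [11, 15, 11, 15],
  [12, 12],
  [13, 13],
  [8, 12, 8, 12],
  [13, 9, 13, 9],
  [14, 12, 14, 12, 14, 12],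
  [13, 15, 13, 15, 13, 15],
  [8, 8],
  [9, 9],
  [14, 8, 14, 8],
  [9, 15, 9, 15],
  [14, 14],
  [15, 15],
  [1, 3, 5, 7, 15, 13, 11, 13, 15, 7, 5, 3, 5, 7, 15, 13, 11, 13, 15, 7, 5, 3, 5, 7, 15, 13, 11, 13, 15, 7, 5, 0, 4, 6, 14, 12, 10, 12, 14, 6, 4, 2, 4, 6, 14, 12, 10, 12, 14, 6, 4, 2, 4, 6, 14, 12, 10, 12, 14, 6, 4, 2],
  [3, 5, 7, 15, 13, 11, 13, 15, 7, 5, 3, 5, 7, 15, 13, 11, 13, 15, 7, 5, 3, 5, 7, 15, 13, 11, 13, 15, 7, 5, 1, 4, 6, 14, 12, 10, 12, 14, 6, 4, 2, 4, 6, 14, 12, 10, 12, 14, 6, 4, 2, 4, 6, 14, 12, 10, 12, 14, 6, 4, 2, 0],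
  [3, 3, 5, 7, 15, 13, 11, 13, 15, 7, 5, 3, 5, 7, 15, 13, 11, 13, 15, 7, 5, 3, 5, 7, 15, 13, 11, 13, 15, 7, 5, 2, 4, 6, 14, 12, 10, 12, 14, 6, 4, 2, 4, 6, 14, 12, 10, 12, 14, 6, 4, 2, 4, 6, 14, 12, 10, 12, 14, 6, 4, 2],
  [3, 5, 7, 15, 13, 11, 13, 15, 7, 5, 3, 5, 7, 15, 13, 11, 13, 15, 7, 5, 3, 5, 7, 15, 13, 11, 13, 15, 7, 5, 3, 4, 6, 14, 12, 10, 12, 14, 6, 4, 2, 4, 6, 14, 12, 10, 12, 14, 6, 4, 2, 4, 6, 14, 12, 10, 12, 14, 6, 4, 2, 2],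
  [5, 3, 5, 7, 15, 13, 11, 13, 15, 7, 5, 3, 5, 7, 15, 13, 11, 13, 15, 7, 5, 3, 5, 7, 15, 13, 11, 13, 15, 7, 5, 4, 4, 6, 14, 12, 10, 12, 14, 6, 4, 2, 4, 6, 14, 12, 10, 12, 14, 6, 4, 2, 4, 6, 14, 12, 10, 12, 14, 6, 4, 2],
  [3, 5, 7, 15, 13, 11, 13, 15, 7, 5, 3, 5, 7, 15, 13, 11, 13, 15, 7, 5, 3, 5, 7, 15, 13, 11, 13, 15, 7, 5, 5, 4, 6, 14, 12, 10, 12, 14, 6, 4, 2, 4, 6, 14, 12, 10, 12, 14, 6, 4, 2, 4, 6, 14, 12, 10, 12, 14, 6, 4, 2, 4],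
  [7, 3, 5, 7, 15, 13, 11, 13, 15, 7, 5, 3, 5, 7, 15, 13, 11, 13, 15, 7, 5, 3, 5, 7, 15, 13, 11, 13, 15, 7, 5, 6, 4, 6, 14, 12, 10, 12, 14, 6, 4, 2, 4, 6, 14, 12, 10, 12, 14, 6, 4, 2, 4, 6, 14, 12, 10, 12, 14, 6, 4, 2],
  [3, 5, 7, 15, 13, 11, 13, 15, 7, 5, 3, 5, 7, 15, 13, 11, 13, 15, 7, 5, 3, 5, 7, 15, 13, 11, 13, 15, 7, 5, 7, 4, 6, 14, 12, 10, 12, 14, 6, 4, 2, 4, 6, 14, 12, 10, 12, 14, 6, 4, 2, 4, 6, 14, 12, 10, 12, 14, 6, 4, 2, 6],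
  [9, 3, 5, 7, 15, 13, 11, 13, 15, 7, 5, 3, 5, 7, 15, 13, 11, 13, 15, 7, 5, 3, 5, 7, 15, 13, 11, 13, 15, 7, 5, 8, 4, 6, 14, 12, 10, 12, 14, 6, 4, 2, 4, 6, 14, 12, 10, 12, 14, 6, 4, 2, 4, 6, 14, 12, 10, 12, 14, 6, 4, 2],
  [3, 5, 7, 15, 13, 11, 13, 15, 7, 5, 3, 5, 7, 15, 13, 11, 13, 15, 7, 5, 3, 5, 7, 15, 13, 11, 13, 15, 7, 5, 9, 4, 6, 14, 12, 10, 12, 14, 6, 4, 2, 4, 6, 14, 12, 10, 12, 14, 6, 4, 2, 4, 6, 14, 12, 10, 12, 14, 6, 4, 2, 8],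
  [11, 3, 5, 7, 15, 13, 11, 13, 15, 7, 5, 3, 5, 7, 15, 13, 11, 13, 15, 7, 5, 3, 5, 7, 15, 13, 11, 13, 15, 7, 5, 10, 4, 6, 14, 12, 10, 12, 14, 6, 4, 2, 4, 6, 14, 12, 10, 12, 14, 6, 4, 2, 4, 6, 14, 12, 10, 12, 14, 6, 4, 2],
  [3, 5, 7, 15, 13, 11, 13, 15, 7, 5, 3, 5, 7, 15, 13, 11, 13, 15, 7, 5, 3, 5, 7, 15, 13, 11, 13, 15, 7, 5, 11, 4, 6, 14, 12, 10, 12, 14, 6, 4, 2, 4, 6, 14, 12, 10, 12, 14, 6, 4, 2, 4, 6, 14, 12, 10, 12, 14, 6, 4, 2, 10],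
  [13, 3, 5, 7, 15, 13, 11, 13, 15, 7, 5, 3, 5, 7, 15, 13, 11, 13, 15, 7, 5, 3, 5, 7, 15, 13, 11, 13, 15, 7, 5, 12, 4, 6, 14, 12, 10, 12, 14, 6, 4, 2, 4, 6, 14, 12, 10, 12, 14, 6, 4, 2, 4, 6, 14, 12, 10, 12, 14, 6, 4, 2],
  [3, 5, 7, 15, 13, 11, 13, 15, 7, 5, 3, 5, 7, 15, 13, 11, 13, 15, 7, 5, 3, 5, 7, 15, 13, 11, 13, 15, 7, 5, 13, 4, 6, 14, 12, 10, 12, 14, 6, 4, 2, 4, 6, 14, 12, 10, 12, 14, 6, 4, 2, 4, 6, 14, 12, 10, 12, 14, 6, 4, 2, 12],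
  [15, 3, 5, 7, 15, 13, 11, 13, 15, 7, 5, 3, 5, 7, 15, 13, 11, 13, 15, 7, 5, 3, 5, 7, 15, 13, 11, 13, 15, 7, 5, 14, 4, 6, 14, 12, 10, 12, 14, 6, 4, 2, 4, 6, 14, 12, 10, 12, 14, 6, 4, 2, 4, 6, 14, 12, 10, 12, 14, 6, 4, 2],
  [3, 5, 7, 15, 13, 11, 13, 15, 7, 5, 3, 5, 7, 15, 13, 11, 13, 15, 7, 5, 3, 5, 7, 15, 13, 11, 13, 15, 7, 5, 15, 4, 6, 14, 12, 10, 12, 14, 6, 4, 2, 4, 6, 14, 12, 10, 12, 14, 6, 4, 2, 4, 6, 14, 12, 10, 12, 14, 6, 4, 2, 14],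
  [1, 3, 5, 7, 15, 13, 11, 3, 5, 7, 15, 13, 11, 3, 5, 7, 15, 13, 11, 3, 5, 7, 15, 13, 11, 3, 5, 7, 15, 13, 11, 0, 10, 12, 14, 6, 4, 2, 10, 12, 14, 6, 4, 2, 10, 12, 14, 6, 4, 2, 10, 12, 14, 6, 4, 2, 10, 12, 14, 6, 4, 2],
  [3, 5, 7, 15, 13, 11, 3, 5, 7, 15, 13, 11, 3, 5, 7, 15, 13, 11, 3, 5, 7, 15, 13, 11, 3, 5, 7, 15, 13, 11, 1, 10, 12, 14, 6, 4, 2, 10, 12, 14, 6, 4, 2, 10, 12, 14, 6, 4, 2, 10, 12, 14, 6, 4, 2, 10, 12, 14, 6, 4, 2, 0],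
  [3, 3, 5, 7, 15, 13, 11, 3, 5, 7, 15, 13, 11, 3, 5, 7, 15, 13, 11, 3, 5, 7, 15, 13, 11, 3, 5, 7, 15, 13, 11, 2, 10, 12, 14, 6, 4, 2, 10, 12, 14, 6, 4, 2, 10, 12, 14, 6, 4, 2, 10, 12, 14, 6, 4, 2, 10, 12, 14, 6, 4, 2],
  [3, 5, 7, 15, 13, 11, 3, 5, 7, 15, 13, 11, 3, 5, 7, 15, 13, 11, 3, 5, 7, 15, 13, 11, 3, 5, 7, 15, 13, 11, 3, 10, 12, 14, 6, 4, 2, 10, 12, 14, 6, 4, 2, 10, 12, 14, 6, 4, 2, 10, 12, 14, 6, 4, 2, 10, 12, 14, 6, 4, 2, 2],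
  [5, 3, 5, 7, 15, 13, 11, 3, 5, 7, 15, 13, 11, 3, 5, 7, 15, 13, 11, 3, 5, 7, 15, 13, 11, 3, 5, 7, 15, 13, 11, 4, 10, 12, 14, 6, 4, 2, 10, 12, 14, 6, 4, 2, 10, 12, 14, 6, 4, 2, 10, 12, 14, 6, 4, 2, 10, 12, 14, 6, 4, 2],
  [3, 5, 7, 15, 13, 11, 3, 5, 7, 15, 13, 11, 3, 5, 7, 15, 13, 11, 3, 5, 7, 15, 13, 11, 3, 5, 7, 15, 13, 11, 5, 10, 12, 14, 6, 4, 2, 10, 12, 14, 6, 4, 2, 10, 12, 14, 6, 4, 2, 10, 12, 14, 6, 4, 2, 10, 12, 14, 6, 4, 2, 4],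
  [7, 3, 5, 7, 15, 13, 11, 3, 5, 7, 15, 13, 11, 3, 5, 7, 15, 13, 11, 3, 5, 7, 15, 13, 11, 3, 5, 7, 15, 13, 11, 6, 10, 12, 14, 6, 4, 2, 10, 12, 14, 6, 4, 2, 10, 12, 14, 6, 4, 2, 10, 12, 14, 6, 4, 2, 10, 12, 14, 6, 4, 2],
  [3, 5, 7, 15, 13, 11, 3, 5, 7, 15, 13, 11, 3, 5, 7, 15, 13, 11, 3, 5, 7, 15, 13, 11, 3, 5, 7, 15, 13, 11, 7, 10, 12, 14, 6, 4, 2, 10, 12, 14, 6, 4, 2, 10, 12, 14, 6, 4, 2, 10, 12, 14, 6, 4, 2, 10, 12, 14, 6, 4, 2, 6],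
  [9, 3, 5, 7, 15, 13, 11, 3, 5, 7, 15, 13, 11, 3, 5, 7, 15, 13, 11, 3, 5, 7, 15, 13, 11, 3, 5, 7, 15, 13, 11, 8, 10, 12, 14, 6, 4, 2, 10, 12, 14, 6, 4, 2, 10, 12, 14, 6, 4, 2, 10, 12, 14, 6, 4, 2, 10, 12, 14, 6, 4, 2],
  [3, 5, 7, 15, 13, 11, 3, 5, 7, 15, 13, 11, 3, 5, 7, 15, 13, 11, 3, 5, 7, 15, 13, 11, 3, 5, 7, 15, 13, 11, 9, 10, 12, 14, 6, 4, 2, 10, 12, 14, 6, 4, 2, 10, 12, 14, 6, 4, 2, 10, 12, 14, 6, 4, 2, 10, 12, 14, 6, 4, 2, 8],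
  [11, 3, 5, 7, 15, 13, 11, 3, 5, 7, 15, 13, 11, 3, 5, 7, 15, 13, 11, 3, 5, 7, 15, 13, 11, 3, 5, 7, 15, 13, 11, 10, 10, 12, 14, 6, 4, 2, 10, 12, 14, 6, 4, 2, 10, 12, 14, 6, 4, 2, 10, 12, 14, 6, 4, 2, 10, 12, 14, 6, 4, 2],
  [3, 5, 7, 15, 13, 11, 3, 5, 7, 15, 13, 11, 3, 5, 7, 15, 13, 11, 3, 5, 7, 15, 13, 11, 3, 5, 7, 15, 13, 11, 11, 10, 12, 14, 6, 4, 2, 10, 12, 14, 6, 4, 2, 10, 12, 14, 6, 4, 2, 10, 12, 14, 6, 4, 2, 10, 12, 14, 6, 4, 2, 10],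
  [13, 3, 5, 7, 15, 13, 11, 3, 5, 7, 15, 13, 11, 3, 5, 7, 15, 13, 11, 3, 5, 7, 15, 13, 11, 3, 5, 7, 15, 13, 11, 12, 10, 12, 14, 6, 4, 2, 10, 12, 14, 6, 4, 2, 10, 12, 14, 6, 4, 2, 10, 12, 14, 6, 4, 2, 10, 12, 14, 6, 4, 2],
  [3, 5, 7, 15, 13, 11, 3, 5, 7, 15, 13, 11, 3, 5, 7, 15, 13, 11, 3, 5, 7, 15, 13, 11, 3, 5, 7, 15, 13, 11, 13, 10, 12, 14, 6, 4, 2, 10, 12, 14, 6, 4, 2, 10, 12, 14, 6, 4, 2, 10, 12, 14, 6, 4, 2, 10, 12, 14, 6, 4, 2, 12],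
  [15, 3, 5, 7, 15, 13, 11, 3, 5, 7, 15, 13, 11, 3, 5, 7, 15, 13, 11, 3, 5, 7, 15, 13, 11, 3, 5, 7, 15, 13, 11, 14, 10, 12, 14, 6, 4, 2, 10, 12, 14, 6, 4, 2, 10, 12, 14, 6, 4, 2, 10, 12, 14, 6, 4, 2, 10, 12, 14, 6, 4, 2],
  [3, 5, 7, 15, 13, 11, 3, 5, 7, 15, 13, 11, 3, 5, 7, 15, 13, 11, 3, 5, 7, 15, 13, 11, 3, 5, 7, 15, 13, 11, 15, 10, 12, 14, 6, 4, 2, 10, 12, 14, 6, 4, 2, 10, 12, 14, 6, 4, 2, 10, 12, 14, 6, 4, 2, 10, 12, 14, 6, 4, 2, 14],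
  [1, 5, 7, 9, 15, 13, 11, 5, 7, 9, 15, 13, 11, 5, 7, 9, 15, 13, 11, 5, 7, 9, 15, 13, 11, 5, 7, 9, 15, 13, 11, 0, 10, 12, 14, 8, 6, 4, 10, 12, 14, 8, 6, 4, 10, 12, 14, 8, 6, 4, 10, 12, 14, 8, 6, 4, 10, 12, 14, 8, 6, 4],
  [5, 7, 9, 15, 13, 11, 5, 7, 9, 15, 13, 11, 5, 7, 9, 15, 13, 11, 5, 7, 9, 15, 13, 11, 5, 7, 9, 15, 13, 11, 1, 10, 12, 14, 8, 6, 4, 10, 12, 14, 8, 6, 4, 10, 12, 14, 8, 6, 4, 10, 12, 14, 8, 6, 4, 10, 12, 14, 8, 6, 4, 0],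
  [3, 5, 7, 9, 15, 13, 11, 5, 7, 9, 15, 13, 11, 5, 7, 9, 15, 13, 11, 5, 7, 9, 15, 13, 11, 5, 7, 9, 15, 13, 11, 2, 10, 12, 14, 8, 6, 4, 10, 12, 14, 8, 6, 4, 10, 12, 14, 8, 6, 4, 10, 12, 14, 8, 6, 4, 10, 12, 14, 8, 6, 4],
  [5, 7, 9, 15, 13, 11, 5, 7, 9, 15, 13, 11, 5, 7, 9, 15, 13, 11, 5, 7, 9, 15, 13, 11, 5, 7, 9, 15, 13, 11, 3, 10, 12, 14, 8, 6, 4, 10, 12, 14, 8, 6, 4, 10, 12, 14, 8, 6, 4, 10, 12, 14, 8, 6, 4, 10, 12, 14, 8, 6, 4, 2],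
  [5, 5, 7, 9, 15, 13, 11, 5, 7, 9, 15, 13, 11, 5, 7, 9, 15, 13, 11, 5, 7, 9, 15, 13, 11, 5, 7, 9, 15, 13, 11, 4, 10, 12, 14, 8, 6, 4, 10, 12, 14, 8, 6, 4, 10, 12, 14, 8, 6, 4, 10, 12, 14, 8, 6, 4, 10, 12, 14, 8, 6, 4],
  [5, 7, 9, 15, 13, 11, 5, 7, 9, 15, 13, 11, 5, 7, 9, 15, 13, 11, 5, 7, 9, 15, 13, 11, 5, 7, 9, 15, 13, 11, 5, 10, 12, 14, 8, 6, 4, 10, 12, 14, 8, 6, 4, 10, 12, 14, 8, 6, 4, 10, 12, 14, 8, 6, 4, 10, 12, 14, 8, 6, 4, 4],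
  [7, 5, 7, 9, 15, 13, 11, 5, 7, 9, 15, 13, 11, 5, 7, 9, 15, 13, 11, 5, 7, 9, 15, 13, 11, 5, 7, 9, 15, 13, 11, 6, 10, 12, 14, 8, 6, 4, 10, 12, 14, 8, 6, 4, 10, 12, 14, 8, 6, 4, 10, 12, 14, 8, 6, 4, 10, 12, 14, 8, 6, 4],
  [5, 7, 9, 15, 13, 11, 5, 7, 9, 15, 13, 11, 5, 7, 9, 15, 13, 11, 5, 7, 9, 15, 13, 11, 5, 7, 9, 15, 13, 11, 7, 10, 12, 14, 8, 6, 4, 10, 12, 14, 8, 6, 4, 10, 12, 14, 8, 6, 4, 10, 12, 14, 8, 6, 4, 10, 12, 14, 8, 6, 4, 6],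
  [9, 5, 7, 9, 15, 13, 11, 5, 7, 9, 15, 13, 11, 5, 7, 9, 15, 13, 11, 5, 7, 9, 15, 13, 11, 5, 7, 9, 15, 13, 11, 8, 10, 12, 14, 8, 6, 4, 10, 12, 14, 8, 6, 4, 10, 12, 14, 8, 6, 4, 10, 12, 14, 8, 6, 4, 10, 12, 14, 8, 6, 4],
  [5, 7, 9, 15, 13, 11, 5, 7, 9, 15, 13, 11, 5, 7, 9, 15, 13, 11, 5, 7, 9, 15, 13, 11, 5, 7, 9, 15, 13, 11, 9, 10, 12, 14, 8, 6, 4, 10, 12, 14, 8, 6, 4, 10, 12, 14, 8, 6, 4, 10, 12, 14, 8, 6, 4, 10, 12, 14, 8, 6, 4, 8],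
  [11, 5, 7, 9, 15, 13, 11, 5, 7, 9, 15, 13, 11, 5, 7, 9, 15, 13, 11, 5, 7, 9, 15, 13, 11, 5, 7, 9, 15, 13, 11, 10, 10, 12, 14, 8, 6, 4, 10, 12, 14, 8, 6, 4, 10, 12, 14, 8, 6, 4, 10, 12, 14, 8, 6, 4, 10, 12, 14, 8, 6, 4],
  [5, 7, 9, 15, 13, 11, 5, 7, 9, 15, 13, 11, 5, 7, 9, 15, 13, 11, 5, 7, 9, 15, 13, 11, 5, 7, 9, 15, 13, 11, 11, 10, 12, 14, 8, 6, 4, 10, 12, 14, 8, 6, 4, 10, 12, 14, 8, 6, 4, 10, 12, 14, 8, 6, 4, 10, 12, 14, 8, 6, 4, 10],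
  [13, 5, 7, 9, 15, 13, 11, 5, 7, 9, 15, 13, 11, 5, 7, 9, 15, 13, 11, 5, 7, 9, 15, 13, 11, 5, 7, 9, 15, 13, 11, 12, 10, 12, 14, 8, 6, 4, 10, 12, 14, 8, 6, 4, 10, 12, 14, 8, 6, 4, 10, 12, 14, 8, 6, 4, 10, 12, 14, 8, 6, 4],
  [5, 7, 9, 15, 13, 11, 5, 7, 9, 15, 13, 11, 5, 7, 9, 15, 13, 11, 5, 7, 9, 15, 13, 11, 5, 7, 9, 15, 13, 11, 13, 10, 12, 14, 8, 6, 4, 10, 12, 14, 8, 6, 4, 10, 12, 14, 8, 6, 4, 10, 12, 14, 8, 6, 4, 10, 12, 14, 8, 6, 4, 12],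
  [15, 5, 7, 9, 15, 13, 11, 5, 7, 9, 15, 13, 11, 5, 7, 9, 15, 13, 11, 5, 7, 9, 15, 13, 11, 5, 7, 9, 15, 13, 11, 14, 10, 12, 14, 8, 6, 4, 10, 12, 14, 8, 6, 4, 10, 12, 14, 8, 6, 4, 10, 12, 14, 8, 6, 4, 10, 12, 14, 8, 6, 4],
  [5, 7, 9, 15, 13, 11, 5, 7, 9, 15, 13, 11, 5, 7, 9, 15, 13, 11, 5, 7, 9, 15, 13, 11, 5, 7, 9, 15, 13, 11, 15, 10, 12, 14, 8, 6, 4, 10, 12, 14, 8, 6, 4, 10, 12, 14, 8, 6, 4, 10, 12, 14, 8, 6, 4, 10, 12, 14, 8, 6, 4, 14],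
  [1, 1, 3, 5, 7, 9, 11, 13, 1, 3, 5, 7, 9, 11, 13, 1, 3, 5, 7, 9, 11, 13, 1, 3, 5, 7, 9, 11, 13, 1, 3, 5, 7, 9, 11, 13, 1, 3, 5, 7, 9, 11, 13, 1, 3, 5, 7, 9, 11, 13, 1, 3, 5, 7, 9, 11, 13, 1, 3, 5, 7, 9, 11, 13, 0, 12, 10, 8, 6, 4, 2, 0, 12, 10, 8, 6, 4, 2, 0, 12, 10, 8, 6, 4, 2, 0, 12, 10, 8, 6, 4, 2, 0, 12, 10, 8, 6, 4, 2, 0, 12, 10, 8, 6, 4, 2, 0, 12, 10, 8, 6, 4, 2, 0, 12, 10, 8, 6, 4, 2, 0, 12, 10, 8, 6, 4, 2, 0],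
  [1, 3, 5, 7, 9, 11, 13, 1, 3, 5, 7, 9, 11, 13, 1, 3, 5, 7, 9, 11, 13, 1, 3, 5, 7, 9, 11, 13, 1, 3, 5, 7, 9, 11, 13, 1, 3, 5, 7, 9, 11, 13, 1, 3, 5, 7, 9, 11, 13, 1, 3, 5, 7, 9, 11, 13, 1, 3, 5, 7, 9, 11, 13, 1, 12, 10, 8, 6, 4, 2, 0, 12, 10, 8, 6, 4, 2, 0, 12, 10, 8, 6, 4, 2, 0, 12, 10, 8, 6, 4, 2, 0, 12, 10, 8, 6, 4, 2, 0, 12, 10, 8, 6, 4, 2, 0, 12, 10, 8, 6, 4, 2, 0, 12, 10, 8, 6, 4, 2, 0, 12, 10, 8, 6, 4, 2, 0, 0],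
  [3, 1, 3, 5, 7, 9, 11, 13, 1, 3, 5, 7, 9, 11, 13, 1, 3, 5, 7, 9, 11, 13, 1, 3, 5, 7, 9, 11, 13, 1, 3, 5, 7, 9, 11, 13, 1, 3, 5, 7, 9, 11, 13, 1, 3, 5, 7, 9, 11, 13, 1, 3, 5, 7, 9, 11, 13, 1, 3, 5, 7, 9, 11, 13, 2, 12, 10, 8, 6, 4, 2, 0, 12, 10, 8, 6, 4, 2, 0, 12, 10, 8, 6, 4, 2, 0, 12, 10, 8, 6, 4, 2, 0, 12, 10, 8, 6, 4, 2, 0, 12, 10, 8, 6, 4, 2, 0, 12, 10, 8, 6, 4, 2, 0, 12, 10, 8, 6, 4, 2, 0, 12, 10, 8, 6, 4, 2, 0],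
  [1, 3, 5, 7, 9, 11, 13, 1, 3, 5, 7, 9, 11, 13, 1, 3, 5, 7, 9, 11, 13, 1, 3, 5, 7, 9, 11, 13, 1, 3, 5, 7, 9, 11, 13, 1, 3, 5, 7, 9, 11, 13, 1, 3, 5, 7, 9, 11, 13, 1, 3, 5, 7, 9, 11, 13, 1, 3, 5, 7, 9, 11, 13, 3, 12, 10, 8, 6, 4, 2, 0, 12, 10, 8, 6, 4, 2, 0, 12, 10, 8, 6, 4, 2, 0, 12, 10, 8, 6, 4, 2, 0, 12, 10, 8, 6, 4, 2, 0, 12, 10, 8, 6, 4, 2, 0, 12, 10, 8, 6, 4, 2, 0, 12, 10, 8, 6, 4, 2, 0, 12, 10, 8, 6, 4, 2, 0, 2],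
  [5, 1, 3, 5, 7, 9, 11, 13, 1, 3, 5, 7, 9, 11, 13, 1, 3, 5, 7, 9, 11, 13, 1, 3, 5, 7, 9, 11, 13, 1, 3, 5, 7, 9, 11, 13, 1, 3, 5, 7, 9, 11, 13, 1, 3, 5, 7, 9, 11, 13, 1, 3, 5, 7, 9, 11, 13, 1, 3, 5, 7, 9, 11, 13, 4, 12, 10, 8, 6, 4, 2, 0, 12, 10, 8, 6, 4, 2, 0, 12, 10, 8, 6, 4, 2, 0, 12, 10, 8, 6, 4, 2, 0, 12, 10, 8, 6, 4, 2, 0, 12, 10, 8, 6, 4, 2, 0, 12, 10, 8, 6, 4, 2, 0, 12, 10, 8, 6, 4, 2, 0, 12, 10, 8, 6, 4, 2, 0],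
  [1, 3, 5, 7, 9, 11, 13, 1, 3, 5, 7, 9, 11, 13, 1, 3, 5, 7, 9, 11, 13, 1, 3, 5, 7, 9, 11, 13, 1, 3, 5, 7, 9, 11, 13, 1, 3, 5, 7, 9, 11, 13, 1, 3, 5, 7, 9, 11, 13, 1, 3, 5, 7, 9, 11, 13, 1, 3, 5, 7, 9, 11, 13, 5, 12, 10, 8, 6, 4, 2, 0, 12, 10, 8, 6, 4, 2, 0, 12, 10, 8, 6, 4, 2, 0, 12, 10, 8, 6, 4, 2, 0, 12, 10, 8, 6, 4, 2, 0, 12, 10, 8, 6, 4, 2, 0, 12, 10, 8, 6, 4, 2, 0, 12, 10, 8, 6, 4, 2, 0, 12, 10, 8, 6, 4, 2, 0, 4],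
  [7, 1, 3, 5, 7, 9, 11, 13, 1, 3, 5, 7, 9, 11, 13, 1, 3, 5, 7, 9, 11, 13, 1, 3, 5, 7, 9, 11, 13, 1, 3, 5, 7, 9, 11, 13, 1, 3, 5, 7, 9, 11, 13, 1, 3, 5, 7, 9, 11, 13, 1, 3, 5, 7, 9, 11, 13, 1, 3, 5, 7, 9, 11, 13, 6, 12, 10, 8, 6, 4, 2, 0, 12, 10, 8, 6, 4, 2, 0, 12, 10, 8, 6, 4, 2, 0, 12, 10, 8, 6, 4, 2, 0, 12, 10, 8, 6, 4, 2, 0, 12, 10, 8, 6, 4, 2, 0, 12, 10, 8, 6, 4, 2, 0, 12, 10, 8, 6, 4, 2, 0, 12, 10, 8, 6, 4, 2, 0],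
  [1, 3, 5, 7, 9, 11, 13, 1, 3, 5, 7, 9, 11, 13, 1, 3, 5, 7, 9, 11, 13, 1, 3, 5, 7, 9, 11, 13, 1, 3, 5, 7, 9, 11, 13, 1, 3, 5, 7, 9, 11, 13, 1, 3, 5, 7, 9, 11, 13, 1, 3, 5, 7, 9, 11, 13, 1, 3, 5, 7, 9, 11, 13, 7, 12, 10, 8, 6, 4, 2, 0, 12, 10, 8, 6, 4, 2, 0, 12, 10, 8, 6, 4, 2, 0, 12, 10, 8, 6, 4, 2, 0, 12, 10, 8, 6, 4, 2, 0, 12, 10, 8, 6, 4, 2, 0, 12, 10, 8, 6, 4, 2, 0, 12, 10, 8, 6, 4, 2, 0, 12, 10, 8, 6, 4, 2, 0, 6],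
  [9, 1, 3, 5, 7, 9, 11, 13, 1, 3, 5, 7, 9, 11, 13, 1, 3, 5, 7, 9, 11, 13, 1, 3, 5, 7, 9, 11, 13, 1, 3, 5, 7, 9, 11, 13, 1, 3, 5, 7, 9, 11, 13, 1, 3, 5, 7, 9, 11, 13, 1, 3, 5, 7, 9, 11, 13, 1, 3, 5, 7, 9, 11, 13, 8, 12, 10, 8, 6, 4, 2, 0, 12, 10, 8, 6, 4, 2, 0, 12, 10, 8, 6, 4, 2, 0, 12, 10, 8, 6, 4, 2, 0, 12, 10, 8, 6, 4, 2, 0, 12, 10, 8, 6, 4, 2, 0, 12, 10, 8, 6, 4, 2, 0, 12, 10, 8, 6, 4, 2, 0, 12, 10, 8, 6, 4, 2, 0],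
  [1, 3, 5, 7, 9, 11, 13, 1, 3, 5, 7, 9, 11, 13, 1, 3, 5, 7, 9, 11, 13, 1, 3, 5, 7, 9, 11, 13, 1, 3, 5, 7, 9, 11, 13, 1, 3, 5, 7, 9, 11, 13, 1, 3, 5, 7, 9, 11, 13, 1, 3, 5, 7, 9, 11, 13, 1, 3, 5, 7, 9, 11, 13, 9, 12, 10, 8, 6, 4, 2, 0, 12, 10, 8, 6, 4, 2, 0, 12, 10, 8, 6, 4, 2, 0, 12, 10, 8, 6, 4, 2, 0, 12, 10, 8, 6, 4, 2, 0, 12, 10, 8, 6, 4, 2, 0, 12, 10, 8, 6, 4, 2, 0, 12, 10, 8, 6, 4, 2, 0, 12, 10, 8, 6, 4, 2, 0, 8],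
  [11, 1, 3, 5, 7, 9, 11, 13, 1, 3, 5, 7, 9, 11, 13, 1, 3, 5, 7, 9, 11, 13, 1, 3, 5, 7, 9, 11, 13, 1, 3, 5, 7, 9, 11, 13, 1, 3, 5, 7, 9, 11, 13, 1, 3, 5, 7, 9, 11, 13, 1, 3, 5, 7, 9, 11, 13, 1, 3, 5, 7, 9, 11, 13, 10, 12, 10, 8, 6, 4, 2, 0, 12, 10, 8, 6, 4, 2, 0, 12, 10, 8, 6, 4, 2, 0, 12, 10, 8, 6, 4, 2, 0, 12, 10, 8, 6, 4, 2, 0, 12, 10, 8, 6, 4, 2, 0, 12, 10, 8, 6, 4, 2, 0, 12, 10, 8, 6, 4, 2, 0, 12, 10, 8, 6, 4, 2, 0],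
  [1, 3, 5, 7, 9, 11, 13, 1, 3, 5, 7, 9, 11, 13, 1, 3, 5, 7, 9, 11, 13, 1, 3, 5, 7, 9, 11, 13, 1, 3, 5, 7, 9, 11, 13, 1, 3, 5, 7, 9, 11, 13, 1, 3, 5, 7, 9, 11, 13, 1, 3, 5, 7, 9, 11, 13, 1, 3, 5, 7, 9, 11, 13, 11, 12, 10, 8, 6, 4, 2, 0, 12, 10, 8, 6, 4, 2, 0, 12, 10, 8, 6, 4, 2, 0, 12, 10, 8, 6, 4, 2, 0, 12, 10, 8, 6, 4, 2, 0, 12, 10, 8, 6, 4, 2, 0, 12, 10, 8, 6, 4, 2, 0, 12, 10, 8, 6, 4, 2, 0, 12, 10, 8, 6, 4, 2, 0, 10],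
  [13, 1, 3, 5, 7, 9, 11, 13, 1, 3, 5, 7, 9, 11, 13, 1, 3, 5, 7, 9, 11, 13, 1, 3, 5, 7, 9, 11, 13, 1, 3, 5, 7, 9, 11, 13, 1, 3, 5, 7, 9, 11, 13, 1, 3, 5, 7, 9, 11, 13, 1, 3, 5, 7, 9, 11, 13, 1, 3, 5, 7, 9, 11, 13, 12, 12, 10, 8, 6, 4, 2, 0, 12, 10, 8, 6, 4, 2, 0, 12, 10, 8, 6, 4, 2, 0, 12, 10, 8, 6, 4, 2, 0, 12, 10, 8, 6, 4, 2, 0, 12, 10, 8, 6, 4, 2, 0, 12, 10, 8, 6, 4, 2, 0, 12, 10, 8, 6, 4, 2, 0, 12, 10, 8, 6, 4, 2, 0],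
  [1, 3, 5, 7, 9, 11, 13, 1, 3, 5, 7, 9, 11, 13, 1, 3, 5, 7, 9, 11, 13, 1, 3, 5, 7, 9, 11, 13, 1, 3, 5, 7, 9, 11, 13, 1, 3, 5, 7, 9, 11, 13, 1, 3, 5, 7, 9, 11, 13, 1, 3, 5, 7, 9, 11, 13, 1, 3, 5, 7, 9, 11, 13, 13, 12, 10, 8, 6, 4, 2, 0, 12, 10, 8, 6, 4, 2, 0, 12, 10, 8, 6, 4, 2, 0, 12, 10, 8, 6, 4, 2, 0, 12, 10, 8, 6, 4, 2, 0, 12, 10, 8, 6, 4, 2, 0, 12, 10, 8, 6, 4, 2, 0, 12, 10, 8, 6, 4, 2, 0, 12, 10, 8, 6, 4, 2, 0, 12],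
  [15, 1, 3, 5, 7, 9, 11, 13, 1, 3, 5, 7, 9, 11, 13, 1, 3, 5, 7, 9, 11, 13, 1, 3, 5, 7, 9, 11, 13, 1, 3, 5, 7, 9, 11, 13, 1, 3, 5, 7, 9, 11, 13, 1, 3, 5, 7, 9, 11, 13, 1, 3, 5, 7, 9, 11, 13, 1, 3, 5, 7, 9, 11, 13, 14, 12, 10, 8, 6, 4, 2, 0, 12, 10, 8, 6, 4, 2, 0, 12, 10, 8, 6, 4, 2, 0, 12, 10, 8, 6, 4, 2, 0, 12, 10, 8, 6, 4, 2, 0, 12, 10, 8, 6, 4, 2, 0, 12, 10, 8, 6, 4, 2, 0, 12, 10, 8, 6, 4, 2, 0, 12, 10, 8, 6, 4, 2, 0],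
  [1, 3, 5, 7, 9, 11, 13, 1, 3, 5, 7, 9, 11, 13, 1, 3, 5, 7, 9, 11, 13, 1, 3, 5, 7, 9, 11, 13, 1, 3, 5, 7, 9, 11, 13, 1, 3, 5, 7, 9, 11, 13, 1, 3, 5, 7, 9, 11, 13, 1, 3, 5, 7, 9, 11, 13, 1, 3, 5, 7, 9, 11, 13, 15, 12, 10, 8, 6, 4, 2, 0, 12, 10, 8, 6, 4, 2, 0, 12, 10, 8, 6, 4, 2, 0, 12, 10, 8, 6, 4, 2, 0, 12, 10, 8, 6, 4, 2, 0, 12, 10, 8, 6, 4, 2, 0, 12, 10, 8, 6, 4, 2, 0, 12, 10, 8, 6, 4, 2, 0, 12, 10, 8, 6, 4, 2, 0, 14],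
  [1, 15, 13, 11, 3, 1, 5, 15, 13, 11, 3, 1, 5, 15, 13, 11, 3, 1, 5, 15, 13, 11, 3, 1, 5, 15, 13, 11, 3, 1, 5, 0, 4, 0, 2, 10, 12, 14, 4, 0, 2, 10, 12, 14, 4, 0, 2, 10, 12, 14, 4, 0, 2, 10, 12, 14, 4, 0, 2, 10, 12, 14],
  [15, 13, 11, 3, 1, 5, 15, 13, 11, 3, 1, 5, 15, 13, 11, 3, 1, 5, 15, 13, 11, 3, 1, 5, 15, 13, 11, 3, 1, 5, 1, 4, 0, 2, 10, 12, 14, 4, 0, 2, 10, 12, 14, 4, 0, 2, 10, 12, 14, 4, 0, 2, 10, 12, 14, 4, 0, 2, 10, 12, 14, 0],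
  [3, 15, 13, 11, 3, 1, 5, 15, 13, 11, 3, 1, 5, 15, 13, 11, 3, 1, 5, 15, 13, 11, 3, 1, 5, 15, 13, 11, 3, 1, 5, 2, 4, 0, 2, 10, 12, 14, 4, 0, 2, 10, 12, 14, 4, 0, 2, 10, 12, 14, 4, 0, 2, 10, 12, 14, 4, 0, 2, 10, 12, 14],
  [15, 13, 11, 3, 1, 5, 15, 13, 11, 3, 1, 5, 15, 13, 11, 3, 1, 5, 15, 13, 11, 3, 1, 5, 15, 13, 11, 3, 1, 5, 3, 4, 0, 2, 10, 12, 14, 4, 0, 2, 10, 12, 14, 4, 0, 2, 10, 12, 14, 4, 0, 2, 10, 12, 14, 4, 0, 2, 10, 12, 14, 2],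
  [5, 15, 13, 11, 3, 1, 5, 15, 13, 11, 3, 1, 5, 15, 13, 11, 3, 1, 5, 15, 13, 11, 3, 1, 5, 15, 13, 11, 3, 1, 5, 4, 4, 0, 2, 10, 12, 14, 4, 0, 2, 10, 12, 14, 4, 0, 2, 10, 12, 14, 4, 0, 2, 10, 12, 14, 4, 0, 2, 10, 12, 14],
  [15, 13, 11, 3, 1, 5, 15, 13, 11, 3, 1, 5, 15, 13, 11, 3, 1, 5, 15, 13, 11, 3, 1, 5, 15, 13, 11, 3, 1, 5, 5, 4, 0, 2, 10, 12, 14, 4, 0, 2, 10, 12, 14, 4, 0, 2, 10, 12, 14, 4, 0, 2, 10, 12, 14, 4, 0, 2, 10, 12, 14, 4],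
  [7, 15, 13, 11, 3, 1, 5, 15, 13, 11, 3, 1, 5, 15, 13, 11, 3, 1, 5, 15, 13, 11, 3, 1, 5, 15, 13, 11, 3, 1, 5, 6, 4, 0, 2, 10, 12, 14, 4, 0, 2, 10, 12, 14, 4, 0, 2, 10, 12, 14, 4, 0, 2, 10, 12, 14, 4, 0, 2, 10, 12, 14],
  [15, 13, 11, 3, 1, 5, 15, 13, 11, 3, 1, 5, 15, 13, 11, 3, 1, 5, 15, 13, 11, 3, 1, 5, 15, 13, 11, 3, 1, 5, 7, 4, 0, 2, 10, 12, 14, 4, 0, 2, 10, 12, 14, 4, 0, 2, 10, 12, 14, 4, 0, 2, 10, 12, 14, 4, 0, 2, 10, 12, 14, 6],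
  [9, 15, 13, 11, 3, 1, 5, 15, 13, 11, 3, 1, 5, 15, 13, 11, 3, 1, 5, 15, 13, 11, 3, 1, 5, 15, 13, 11, 3, 1, 5, 8, 4, 0, 2, 10, 12, 14, 4, 0, 2, 10, 12, 14, 4, 0, 2, 10, 12, 14, 4, 0, 2, 10, 12, 14, 4, 0, 2, 10, 12, 14],
  [15, 13, 11, 3, 1, 5, 15, 13, 11, 3, 1, 5, 15, 13, 11, 3, 1, 5, 15, 13, 11, 3, 1, 5, 15, 13, 11, 3, 1, 5, 9, 4, 0, 2, 10, 12, 14, 4, 0, 2, 10, 12, 14, 4, 0, 2, 10, 12, 14, 4, 0, 2, 10, 12, 14, 4, 0, 2, 10, 12, 14, 8],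
  [11, 15, 13, 11, 3, 1, 5, 15, 13, 11, 3, 1, 5, 15, 13, 11, 3, 1, 5, 15, 13, 11, 3, 1, 5, 15, 13, 11, 3, 1, 5, 10, 4, 0, 2, 10, 12, 14, 4, 0, 2, 10, 12, 14, 4, 0, 2, 10, 12, 14, 4, 0, 2, 10, 12, 14, 4, 0, 2, 10, 12, 14],
  [15, 13, 11, 3, 1, 5, 15, 13, 11, 3, 1, 5, 15, 13, 11, 3, 1, 5, 15, 13, 11, 3, 1, 5, 15, 13, 11, 3, 1, 5, 11, 4, 0, 2, 10, 12, 14, 4, 0, 2, 10, 12, 14, 4, 0, 2, 10, 12, 14, 4, 0, 2, 10, 12, 14, 4, 0, 2, 10, 12, 14, 10],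
  [13, 15, 13, 11, 3, 1, 5, 15, 13, 11, 3, 1, 5, 15, 13, 11, 3, 1, 5, 15, 13, 11, 3, 1, 5, 15, 13, 11, 3, 1, 5, 12, 4, 0, 2, 10, 12, 14, 4, 0, 2, 10, 12, 14, 4, 0, 2, 10, 12, 14, 4, 0, 2, 10, 12, 14, 4, 0, 2, 10, 12, 14],
  [15, 13, 11, 3, 1, 5, 15, 13, 11, 3, 1, 5, 15, 13, 11, 3, 1, 5, 15, 13, 11, 3, 1, 5, 15, 13, 11, 3, 1, 5, 13, 4, 0, 2, 10, 12, 14, 4, 0, 2, 10, 12, 14, 4, 0, 2, 10, 12, 14, 4, 0, 2, 10, 12, 14, 4, 0, 2, 10, 12, 14, 12],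
  [15, 15, 13, 11, 3, 1, 5, 15, 13, 11, 3, 1, 5, 15, 13, 11, 3, 1, 5, 15, 13, 11, 3, 1, 5, 15, 13, 11, 3, 1, 5, 14, 4, 0, 2, 10, 12, 14, 4, 0, 2, 10, 12, 14, 4, 0, 2, 10, 12, 14, 4, 0, 2, 10, 12, 14, 4, 0, 2, 10, 12, 14],
  [15, 13, 11, 3, 1, 5, 15, 13, 11, 3, 1, 5, 15, 13, 11, 3, 1, 5, 15, 13, 11, 3, 1, 5, 15, 13, 11, 3, 1, 5, 15, 4, 0, 2, 10, 12, 14, 4, 0, 2, 10, 12, 14, 4, 0, 2, 10, 12, 14, 4, 0, 2, 10, 12, 14, 4, 0, 2, 10, 12, 14, 14]]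

def rots : List (ℕ × ℕ) := [(0, 1), (12, 1), (8, 1), (10, 1), (4, 1), (6, 1), (14, 1), (138, 33), (2, 1), (2, 3), (150, 33), (145, 32), (136, 51), (138, 51), (89, 61), (8, 3), (6, 3), (136, 39), (105, 61), (136, 45), (14, 3), (4, 3), (12, 3), (10, 3), (2, 5), (142, 39), (104, 31), (138, 39), (130, 127), (138, 45), (126, 127), (128, 127), (120, 78), (142, 57), (140, 51), (124, 127), (138, 57), (140, 45), (120, 99), (140, 57), (148, 33), (120, 71), (144, 33), (139, 32), (140, 33), (136, 57), (120, 85), (136, 33), (146, 57), (150, 57), (134, 127), (124, 78), (120, 106), (122, 127), (142, 33), (137, 61), (140, 39), (146, 33), (120, 92), (137, 32), (15, 0), (7, 0), (11, 0), (5, 0), (13, 0), (9, 0), (137, 30), (3, 0), (136, 0), (3, 4), (88, 0), (104, 0), (146, 11), (150,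 5), (89, 30), (136, 29), (146, 29), (146, 5), (15, 2), (9, 2), (105, 30), (13, 2), (130, 57), (3, 2), (120, 1), (11, 2), (5, 2), (150, 29), (1, 1), (138, 17), (136, 5), (149, 10), (120, 22), (124, 22), (148, 11), (120, 57), (124, 8), (124, 29), (148, 29), (124, 36), (144, 23), (138, 5), (120, 50), (16, 1), (2, 2), (26, 1), (24, 1), (20, 1), (28, 1), (2, 4), (18, 1), (2, 0), (22, 1), (18, 3), (142, 58), (138, 58), (22, 3), (86, 41), (76, 51), (26, 3), (82, 61), (18, 5), (24, 3), (22, 5), (88, 43), (86, 61), (20, 3), (138, 52), (72, 51), (28, 3), (142, 46), (78, 61), (78, 41), (140, 58), (84, 41), (82, 41), (80, 41), (82, 51), (74, 41), (84, 51), (92, 61), (91, 60), (84, 61), (76, 41), (72, 41), (81, 60), (120, 77), (95, 60), (86, 51), (90, 55), (76, 61), (150, 34),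 (90, 37), (94, 61), (88, 61), (138, 40), (107, 61), (102, 37), (120, 98), (139, 61), (80, 61), (88, 49), (90, 49), (80, 51), (136, 52), (83, 60), (124, 91), (140, 52), (120, 119), (78, 51), (98, 37), (96, 37), (140, 40), (92, 49), (89, 60), (124, 98), (96, 55), (73, 60), (94, 55), (72, 61), (136, 46), (138, 46), (130, 126), (138, 31), (124, 126), (94, 37), (120, 91), (142, 52), (136, 40), (130, 119), (148, 34), (90, 43), (88, 55), (138, 34), (120, 84), (88, 37), (126, 126), (92, 55), (124, 119), (128, 126), (130, 70), (124, 84), (130, 91), (98, 61), (102, 61), (120, 126), (124, 112), (120, 105), (96, 61), (92, 43), (29, 0), (21, 0), (25, 0), (27, 0), (23, 0), (19, 0), (138, 0), (19, 4), (90, 25), (3, 5), (3, 3), (101, 0), (103, 0), (144, 4), (90, 1), (93, 0), (95,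 0), (106, 0), (102, 13), (23, 2), (23, 4), (21, 2), (136, 28), (27, 2), (136, 4), (74, 11), (99, 0), (97, 0), (74, 1), (76, 11), (89, 0), (25, 2), (76, 21), (100, 19), (76, 1), (19, 2), (29, 2), (17, 1), (92, 1), (94, 7), (140, 4), (120, 2), (92, 13), (146, 4), (102, 25), (139, 30), (107, 30), (149, 9), (72, 1), (120, 58), (150, 4), (138, 10), (146, 22), (77, 0), (79, 0), (130, 23), (138, 4), (91, 30), (124, 51), (124, 23), (96, 1), (124, 2), (136, 22), (30, 1), (4, 2), (18, 2), (38, 1), (36, 1), (34, 1), (40, 1), (18, 4), (18, 0), (4, 0), (32, 1), (86, 60), (110, 61), (84, 60), (136, 50), (146, 56), (142, 44), (92, 54), (78, 60), (32, 3), (115, 60), (34, 3), (72, 42), (40, 3), (90, 54), (38, 3), (100, 36), (102, 60), (108, 37), (84, 50), (88, 60), (136, 38), (32,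 5), (106, 37), (78, 52), (136, 44), (36, 3), (76, 50), (104, 37), (137, 49), (96, 42), (138, 32), (108, 55), (76, 52), (76, 42), (80, 60), (78, 42), (88, 42), (80, 50), (78, 50), (90, 36), (72, 50), (94, 48), (105, 60), (82, 60), (104, 55), (72, 52), (94, 60), (137, 37), (118, 55), (98, 60), (100, 60), (74, 32), (114, 37), (118, 37), (100, 48), (119, 60), (76, 40), (78, 32), (108, 31), (74, 60), (72, 60), (138, 44), (100, 54), (98, 36), (98, 54), (138, 38), (138, 50), (84, 40), (96, 60), (112, 55), (92, 60), (104, 49), (106, 43), (96, 48), (90, 48), (80, 52), (76, 60), (106, 55), (140, 50), (142, 56), (142, 38), (72, 32), (112, 37), (107, 60), (148, 32), (88, 48), (90, 42), (116, 49), (146, 32), (138, 56), (140, 56), (94, 42), (124, 76), (93, 61), (92, 42), (108,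 43), (124, 69), (86, 50), (136, 56), (120, 97), (104, 61), (124, 90), (88, 54), (84, 52), (86, 32), (92, 31), (144, 50), (134, 90), (144, 32), (80, 40), (92, 48), (88, 36), (106, 61), (140, 38), (120, 125), (110, 43), (72, 40), (139, 49), (118, 61), (112, 61), (106, 49), (120, 104), (142, 32), (150, 32), (109, 60), (130, 97), (134, 97), (73, 39), (124, 111), (92, 36), (78, 40), (104, 43), (137, 43), (102, 48), (112, 49), (80, 42), (120, 118), (82, 40), (94, 36), (142, 50), (82, 50), (102, 36), (112, 43), (140, 44), (144, 56), (107, 48), (86, 40), (96, 36), (120, 76), (150, 56), (120, 83), (144, 38), (73, 31), (114, 61), (84, 42), (124, 104), (74, 40), (102, 42), (124, 83), (120, 90), (130, 111), (95, 59), (146, 44), (90, 60), (96, 54), (144, 44), (89, 59), (120,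 111), (94, 54), (117, 60), (86, 42), (136, 32), (41, 0), (37, 0), (35, 0), (39, 0), (33, 0), (140, 0), (19, 3), (5, 3), (116, 25), (92, 0), (72, 10), (76, 20), (115, 0), (119, 0), (117, 0), (111, 0), (19, 5), (84, 30), (108, 1), (37, 2), (41, 2), (39, 2), (33, 4), (109, 30), (33, 2), (110, 7), (93, 30), (78, 22), (113, 0), (86, 20), (86, 30), (74, 10), (82, 30), (82, 10), (74, 2), (146, 30), (107, 0), (102, 8), (90, 2), (105, 0), (35, 2), (92, 26), (5, 1), (136, 30), (78, 30), (76, 10), (138, 30), (148, 30), (108, 25), (31, 1), (72, 30), (118, 25), (118, 19), (118, 7), (72, 20), (108, 19), (100, 14), (98, 14), (144, 30), (74, 30), (138, 18), (80, 10), (148, 6), (110, 1), (141, 29), (114, 19), (114, 7), (94, 2), (136, 24), (92, 8), (112, 1), (136, 18), (89, 1), (80,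 20), (95, 7), (106, 13), (124, 59), (140, 12), (130, 10), (108, 13), (122, 3), (150, 30), (98, 26), (138, 12), (120, 24), (120, 17), (134, 24), (98, 20), (42, 1), (6, 2), (32, 2), (46, 1), (20, 2), (44, 1), (20, 0), (6, 0), (32, 0), (48, 1), (32, 4), (50, 1), (116, 60), (50, 3), (72, 43), (94, 59), (86, 59), (48, 3), (106, 54), (76, 49), (72, 53), (88, 59), (92, 53), (84, 59), (76, 43), (90, 53), (48, 5), (44, 3), (88, 41), (88, 47), (114, 60), (50, 5), (86, 53), (108, 36), (72, 49), (74, 33), (96, 47), (94, 53), (90, 47), (92, 41), (76, 53), (82, 43), (46, 3), (78, 39), (80, 49), (108, 42), (94, 35), (78, 49), (74, 59), (80, 33), (82, 39), (74, 39), (92, 47), (95, 61), (86, 43), (102, 47), (94, 47), (118, 60), (78, 33), (90, 41), (76, 39), (90, 35), (106, 36),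 (112, 60), (78, 53), (72, 59), (106, 48), (100, 35), (102, 35), (108, 48), (82, 49), (120, 89), (104, 42), (80, 39), (116, 36), (110, 31), (104, 36), (100, 59), (111, 61), (84, 49), (112, 36), (76, 33), (88, 53), (92, 59), (102, 59), (84, 53), (104, 60), (96, 59), (106, 42), (82, 59), (98, 59), (120, 75), (72, 39), (94, 41), (80, 53), (113, 59), (76, 59), (96, 53), (92, 35), (84, 39), (114, 42), (104, 54), (80, 43), (106, 60), (90, 59), (96, 41), (84, 43), (78, 59), (114, 54), (110, 36), (104, 48), (98, 41), (110, 48), (80, 59), (78, 43), (93, 58), (114, 36), (110, 60), (108, 60), (124, 68), (72, 33), (98, 53), (108, 54), (88, 35), (120, 68), (120, 124), (120, 82), (120, 103), (142, 31), (124, 103), (118, 36), (120, 96), (49, 0), (47, 0), (51, 0), (45, 0), (142,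 0), (33, 3), (94, 0), (112, 20), (49, 4), (108, 2), (51, 4), (49, 2), (45, 2), (33, 5), (21, 1), (21, 3), (7, 3), (86, 23), (74, 9), (74, 3), (110, 0), (114, 14), (92, 21), (95, 30), (82, 19), (76, 23), (100, 9), (111, 30), (47, 2), (90, 9), (82, 13), (78, 19), (76, 9), (78, 23), (112, 26), (112, 2), (7, 1), (76, 19), (98, 15), (124, 53), (82, 9), (76, 13), (104, 2), (94, 27), (105, 1), (130, 18), (92, 3), (84, 29), (110, 8), (107, 1), (92, 27), (90, 15), (102, 3), (118, 20), (116, 26), (76, 29), (143, 30), (72, 9), (76, 3), (108, 20), (72, 19), (80, 9), (106, 8), (124, 60), (82, 23), (72, 29), (120, 18), (124, 4), (90, 3), (130, 11), (124, 46), (118, 2), (62, 2), (66, 1), (62, 0), (56, 2), (38, 0), (56, 0), (12, 2), (26, 2), (26, 0), (48, 2), (68, 1), (38, 2),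 (12, 0), (48, 0), (48, 4), (96, 31), (112, 35), (114, 53), (113, 61), (106, 41), (112, 31), (106, 47), (68, 3), (124, 81), (106, 59), (120, 95), (97, 61), (112, 53), (108, 53), (118, 59), (114, 35), (116, 59), (106, 35), (106, 53), (111, 58), (108, 59), (104, 35), (130, 123), (116, 53), (108, 41), (112, 41), (104, 59), (116, 35), (111, 40), (112, 59), (108, 47), (114, 59), (120, 74), (116, 41), (111, 34), (120, 81), (104, 41), (69, 0), (144, 0), (113, 30), (49, 3), (96, 0), (145, 30), (124, 47), (112, 0), (112, 27), (39, 1), (39, 3), (27, 1), (57, 3), (27, 3), (57, 1), (13, 3), (63, 3), (69, 2), (97, 30), (113, 26), (63, 1), (106, 15), (112, 3), (106, 3), (108, 3), (49, 5), (112, 9), (111, 20), (118, 21), (106, 9), (110, 9), (110, 3), (124, 54), (105, 2), (107,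 2), (108, 15), (120, 12), (134, 47), (130, 54), (44, 2), (34, 2), (52, 1), (8, 2), (22, 2), (34, 0), (58, 1), (22, 0), (44, 0), (8, 0), (22, 4), (56, 1), (115, 61), (54, 3), (138, 41), (136, 41), (76, 36), (102, 32), (76, 46), (56, 3), (99, 61), (72, 56), (54, 1), (72, 46), (116, 32), (86, 36), (90, 44), (114, 50), (84, 36), (58, 3), (100, 32), (74, 36), (80, 46), (72, 36), (86, 46), (80, 36), (54, 5), (136, 47), (78, 46), (82, 56), (86, 56), (137, 34), (76, 56), (84, 46), (78, 36), (82, 36), (142, 41), (78, 56), (82, 46), (90, 38), (88, 38), (120, 94), (130, 94), (100, 56), (88, 44), (136, 35), (144, 53), (140, 35), (149, 52), (116, 50), (96, 32), (120, 80), (112, 32), (120, 73), (138, 53), (118, 32), (118, 44), (88, 50), (92, 44), (105, 31), (80, 56), (88, 56),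 (148, 35), (92, 38), (90, 32), (142, 47), (106, 38), (142, 59), (120, 87), (142, 53), (144, 59), (90, 56), (138, 35), (136, 59), (94, 38), (120, 122), (120, 108), (124, 87), (130, 108), (124, 115), (134, 101), (90, 50), (98, 56), (96, 56), (120, 66), (136, 53), (120, 115), (149, 58), (94, 56), (84, 56), (147, 61), (120, 101), (93, 43), (106, 44), (59, 0), (57, 0), (55, 0), (55, 4), (146, 0), (23, 3), (92, 24), (136, 3), (138, 3), (82, 16), (76, 26), (114, 0), (72, 16), (108, 30), (23, 5), (116, 24), (9, 3), (35, 3), (53, 1), (45, 1), (55, 2), (45, 3), (35, 1), (138, 15), (96, 12), (78, 26), (90, 12), (74, 6), (84, 26), (136, 9), (98, 0), (94, 30), (118, 30), (92, 18), (90, 30), (110, 6), (104, 30), (110, 30), (80, 26), (92, 30), (82, 26), (124, 48), (57, 2), (59,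 2), (139, 2), (92, 6), (72, 26), (9, 1), (76, 6), (76, 16), (147, 30), (114, 6), (136, 27), (124, 62), (88, 30), (72, 6), (150, 3), (149, 8), (140, 9), (131, 61), (130, 55), (83, 25), (138, 9), (143, 26), (88, 6), (23, 1), (96, 30), (138, 21), (94, 6), (94, 12), (118, 18), (92, 12), (96, 24), (106, 30), (100, 24), (112, 30), (114, 12), (146, 27), (137, 26), (120, 34), (60, 1), (54, 2), (24, 2), (10, 2), (36, 2), (54, 0), (46, 2), (10, 0), (24, 0), (46, 0), (36, 0), (62, 1), (64, 1), (62, 3), (64, 3), (82, 47), (118, 51), (149, 61), (76, 37), (54, 4), (72, 47), (76, 57), (106, 51), (114, 33), (86, 55), (64, 5), (148, 31), (78, 37), (72, 37), (112, 33), (109, 56), (96, 45), (86, 47), (74, 37), (82, 57), (72, 45), (78, 45), (80, 47), (84, 47), (82, 35), (72, 35), (80,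 45), (78, 55), (106, 57), (80, 35), (140, 54), (92, 39), (138, 42), (76, 35), (80, 57), (76, 45), (76, 55), (76, 47), (72, 57), (114, 39), (86, 45), (72, 55), (106, 45), (90, 57), (110, 33), (95, 56), (142, 48), (80, 37), (90, 33), (104, 33), (90, 39), (88, 39), (96, 51), (86, 57), (136, 60), (90, 45), (78, 47), (120, 79), (102, 57), (108, 57), (78, 35), (136, 36), (92, 57), (94, 57), (92, 33), (140, 60), (82, 55), (114, 51), (84, 35), (112, 45), (88, 51), (138, 60), (114, 57), (136, 48), (102, 33), (84, 37), (144, 42), (100, 39), (106, 33), (146, 42), (80, 55), (149, 59), (140, 42), (106, 39), (88, 57), (84, 45), (88, 45), (136, 54), (142, 36), (104, 39), (136, 42), (140, 36), (82, 45), (86, 37), (118, 33), (142, 60), (138, 48), (98, 39), (90, 51), (98, 33), (101,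 61), (124, 72), (88, 33), (120, 86), (120, 100), (74, 35), (117, 61), (120, 93), (104, 51), (120, 72), (134, 65), (65, 0), (63, 0), (65, 4), (148, 0), (55, 3), (11, 3), (147, 1), (116, 0), (147, 13), (100, 0), (150, 2), (74, 7), (139, 1), (117, 28), (25, 3), (37, 3), (25, 1), (47, 3), (138, 20), (65, 2), (145, 1), (114, 17), (74, 5), (117, 30), (84, 27), (55, 5), (101, 30), (113, 16), (116, 23), (84, 25), (148, 8), (136, 14), (86, 25), (78, 17), (106, 5), (94, 29), (102, 29), (118, 17), (11, 1), (37, 1), (100, 5), (118, 23), (90, 17), (55, 1), (146, 14), (47, 1), (126, 63), (104, 5), (149, 30), (130, 63), (92, 17), (116, 5), (138, 14), (86, 27), (114, 11), (91, 16), (63, 2), (130, 56), (144, 26), (61, 1), (108, 29), (120, 63), (106, 11), (138, 8), (147, 7), (141,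 1), (114, 5), (146, 2), (98, 17), (106, 23), (92, 11), (122, 63), (124, 63), (112, 29), (108, 5), (118, 29), (76, 7), (72, 17), (116, 17), (92, 5), (76, 17), (134, 63), (137, 1), (120, 14), (72, 27), (92, 23), (128, 63), (72, 7), (90, 29), (120, 56), (124, 49), (130, 21), (70, 1), (50, 2), (64, 2), (40, 2), (68, 2), (58, 2), (28, 2), (14, 2), (64, 0), (50, 0), (28, 0), (58, 0), (40, 0), (68, 0), (14, 0), (64, 4), (104, 46), (104, 40), (84, 44), (110, 52), (50, 4), (72, 54), (106, 46), (74, 38), (84, 34), (76, 38), (104, 34), (108, 46), (114, 34), (102, 52), (82, 58), (119, 61), (76, 58), (76, 54), (80, 48), (136, 37), (84, 48), (80, 38), (74, 34), (78, 34), (92, 52), (82, 48), (108, 34), (108, 40), (94, 52), (102, 46), (80, 44), (76, 34), (82, 38), (76, 44), (76,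 48), (78, 48), (86, 38), (138, 49), (138, 43), (150, 37), (138, 55), (104, 52), (86, 58), (72, 58), (100, 46), (110, 46), (78, 54), (90, 34), (84, 54), (142, 49), (72, 44), (92, 40), (80, 34), (80, 54), (142, 43), (112, 40), (136, 55), (86, 48), (88, 52), (72, 38), (148, 49), (72, 48), (90, 52), (78, 44), (136, 43), (94, 34), (78, 38), (106, 52), (140, 37), (138, 37), (90, 58), (72, 34), (112, 34), (136, 49), (92, 46), (94, 58), (144, 43), (102, 58), (142, 37), (139, 60), (92, 58), (88, 58), (98, 34), (114, 58), (106, 58), (88, 40), (88, 46), (140, 55), (148, 61), (108, 58), (144, 49), (146, 49), (90, 40), (88, 34), (94, 40), (138, 61), (96, 34), (100, 34), (140, 43), (114, 46), (102, 34), (104, 58), (86, 54), (82, 44), (112, 46), (142, 55), (106, 34), (151, 60),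 (96, 46), (82, 34), (110, 58), (106, 40), (112, 58), (100, 58), (144, 61), (144, 37), (98, 58), (146, 61), (136, 61), (150, 55), (51, 3), (65, 3), (108, 22), (118, 0), (138, 19), (15, 3), (149, 0), (110, 10), (147, 0), (139, 0), (102, 0), (143, 0), (138, 13), (86, 24), (145, 0), (108, 4), (41, 1), (41, 3), (150, 1), (82, 24), (74, 4), (29, 3), (59, 3), (138, 7), (74, 8), (141, 0), (29, 1), (51, 5), (110, 4), (112, 22), (137, 0), (82, 18), (76, 18), (102, 22), (116, 28), (90, 16), (59, 1), (78, 24), (92, 28), (112, 28), (118, 28), (78, 28), (92, 16), (15, 1), (84, 24), (69, 3), (94, 28), (98, 16), (144, 25), (77, 27), (103, 30), (72, 8), (76, 8), (69, 1), (96, 28), (146, 13), (65, 5), (114, 10), (100, 16), (119, 30), (150, 7), (151, 30), (76, 24), (136, 7), (118,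 10), (82, 28), (92, 10), (148, 7), (71, 1), (78, 18), (92, 22), (72, 18), (138, 1), (100, 28), (76, 28), (82, 8), (146, 7), (146, 1), (118, 4), (86, 28), (94, 4), (78, 14), (104, 4), (100, 4), (82, 7), (146, 10), (146, 3), (144, 60), (140, 11), (100, 26), (77, 43), (108, 61), (102, 55), (108, 6), (142, 40), (120, 30), (88, 2), (146, 35), (110, 5), (116, 37), (114, 4)]

def subsL : List (List ℕ) := [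
  [0],
  [2],
  [4],
  [6],
  [8],
  [10],
  [12]]

end Cfsg.Agent.Lib.Helper7.U62M.TC.PW
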